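import Mathlib
import Groth.Agent.Lib.Helper5.GV.Main
import Groth.Agent.Lib.Helper5.Snap.Cycle4
import Groth.Agent.Lib.Helper5.Snap.EffCartier
import Groth.Prelude.Def_FGA

/-!
# The intersection symbol `FGA.intNum`: recursion, relation with Snapper polynomials, vanishing.
-/

set_option autoImplicit false
universe u
open CategoryTheory CategoryTheory.Limits AlgebraicGeometry TopologicalSpace Opposite

namespace Groth.Agent.H5.IntN

open Groth.Agent.LD Groth.Agent.LD.QC Groth.Agent.H5.Curve4 Groth.Agent.H5.DegC Groth.Agent.H5.Snap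

section combinatorics

/-- the successor embedding. -/
def sE (r : ℕ) : Fin r ↪ Fin (r + 1) := ⟨Fin.succ, Fin.succ_injective _⟩

lemma sum_powerset_map_sE {r : ℕ} (h : Finset (Fin (r + 1)) → ℤ) :
    ∑ t ∈ ((Finset.univ : Finset (Fin r)).map (sE r)).powerset, h t =
      ∑ J : Finset (Fin r), h (J.map (sE r)) := by
  classical
  symm
  apply Finset.sum_bij (fun J _ => J.map (sE r))
  · intro J _
    rw [Finset.mem_powerset]
    exact Finset.map_subset_map.mpr (Finset.subset_univ J)
  · intro J _ J' _ hJ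
    exact Finset.map_injective (sE r) hJ
  · intro t ht
    rw [Finset.mem_powerset] at ht
    refine ⟨t.preimage (sE r) (sE r).injective.injOn, Finset.mem_univ _, ?_⟩
    ext x
    simp only [Finset.mem_map, Finset.mem_preimage]
    constructor
    · rintro ⟨y, hy, rfl⟩
      exact hy
    · intro hx
      obtain ⟨y, _, rfl⟩ := Finset.mem_map.mp (ht hx)
      exact ⟨y, hx, rfl⟩
  · intro J _
    rfl

lemma zero_notMem_map_sE {r : ℕ} (J : Finset (Fin r)) : (0 : Fin (r + 1)) ∉ J.map (sE r) := by
  intro h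
  obtain ⟨y, _, hy⟩ := Finset.mem_map.mp h
  exact Fin.succ_ne_zero y hy

lemma sum_finset_fin_succ {r : ℕ} (g : Finset (Fin (r + 1)) → ℤ) :
    ∑ I : Finset (Fin (r + 1)), g I =
      ∑ J : Finset (Fin r), g (J.map (sE r)) +
        ∑ J : Finset (Fin r), g (insert 0 (J.map (sE r))) := by
  classical
  have h0 : (0 : Fin (r + 1)) ∉ (Finset.univ : Finset (Fin r)).map (sE r) :=
    zero_notMem_map_sE _
  have h1 : (Finset.univ : Finset (Fin (r + 1))) =
      insert 0 ((Finset.univ : Finset (Fin r)).map (sE r)) := by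
    rw [Fin.univ_succ, Finset.cons_eq_insert]
    rfl
  rw [← Finset.powerset_univ, h1, Finset.sum_powerset_insert h0,
    sum_powerset_map_sE g, sum_powerset_map_sE (fun t => g (insert 0 t))]

lemma sort_map_sE {r : ℕ} (J : Finset (Fin r)) :
    (J.map (sE r)).sort (· ≤ ·) = (J.sort (· ≤ ·)).map Fin.succ := by
  symm
  exact Finset.map_sort (sE r) J (· ≤ ·) (· ≤ ·) (fun a _ b _ => Fin.succ_le_succ_iff.symm)

lemma sort_insert_zero {r : ℕ} (J : Finset (Fin r)) :
    (insert 0 (J.map (sE r))).sort (· ≤ ·) = 0 :: (J.sort (· ≤ ·)).map Fin.succ := by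
  classical
  rw [Finset.sort_insert (· ≤ ·) (fun b _ => Fin.zero_le b) (zero_notMem_map_sE J), sort_map_sE]

end combinatorics

variable (k : Type u) [Field k] {X : Scheme.{u}} [X.Over (Spec (CommRingCat.of k))]

lemma eulerCharLE_iso {F G : X.Modules} (e : F ≅ G) (d : ℕ) :
    FGA.eulerCharLE k X F d = FGA.eulerCharLE k X G d := by
  unfold FGA.eulerCharLE
  refine Finset.sum_congr rfl (fun j _ => ?_)
  rw [(CL.HHisoEquiv k e j).finrank_eq]

lemma tensorList_cons (N : X.Modules) (l : List X.Modules) :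
    FGA.tensorList (N :: l) = CohB1.tensorMod N (FGA.tensorList l) := rfl

lemma tensorList_nil : FGA.tensorList ([] : List X.Modules) = Coh.structureModule X := rfl

lemma isCoh_tensorList [IsLocallyNoetherian X] : ∀ (l : List X.Modules),
    (∀ N ∈ l, Coh.IsCoh N) → Coh.IsCoh (FGA.tensorList l)
  | [], _ => Groth.Agent.LD.PF.isCoh_unitMod X
  | N :: l, h => isCoh_tensorMod' (h N List.mem_cons_self)
      (isCoh_tensorList l (fun N' hN' => h N' (List.mem_cons_of_mem _ hN')))

/-- `(A ⊗ T) ⊗ F ≅ T ⊗ (A ⊗ F)`. -/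
noncomputable def swapIso (A T F : X.Modules) [A.IsQuasicoherent] [T.IsQuasicoherent]
    [F.IsQuasicoherent] :
    CohB1.tensorMod (CohB1.tensorMod A T) F ≅ CohB1.tensorMod T (CohB1.tensorMod A F) :=
  tensorIso' (tensorCommAll A T) (Iso.refl F) ≪≫ tensorAssoc T A F

lemma intNum_iso (d : ℕ) {r : ℕ} (M : Fin r → X.Modules) {F G : X.Modules} (e : F ≅ G) :
    FGA.intNum k X d M F = FGA.intNum k X d M G := by
  unfold FGA.intNum
  refine Finset.sum_congr rfl (fun I _ => ?_)
  rw [eulerCharLE_iso k (tensorIso' (Iso.refl _) e) d]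

lemma intNum_zero (d : ℕ) (M : Fin 0 → X.Modules) (F : X.Modules) :
    FGA.intNum k X d M F = FGA.eulerCharLE k X F d := by
  unfold FGA.intNum
  rw [Fintype.sum_unique]
  have h : (default : Finset (Fin 0)) = ∅ := Subsingleton.elim _ _
  rw [h, Finset.card_empty, pow_zero, one_mul, Finset.sort_empty, List.map_nil, tensorList_nil]
  exact eulerCharLE_iso k (unitorL' F) d

theorem intNum_succ [IsLocallyNoetherian X] (d r : ℕ) (M : Fin (r + 1) → X.Modules)
    (hM : ∀ i, Coh.IsCoh (M i)) (F : X.Modules) (hF : Coh.IsCoh F) :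
    FGA.intNum k X d M F = FGA.intNum k X d (Fin.tail M) F -
      FGA.intNum k X d (Fin.tail M) (CohB1.tensorMod (M 0) F) := by
  classical
  unfold FGA.intNum
  rw [sum_finset_fin_succ, sub_eq_add_neg, ← Finset.sum_neg_distrib]
  congr 1
  · apply Finset.sum_congr rfl
    intro J _
    rw [Finset.card_map, sort_map_sE, List.map_map]
    rfl
  · apply Finset.sum_congr rfl
    intro J _
    rw [Finset.card_insert_of_notMem (zero_notMem_map_sE J), Finset.card_map, sort_insert_zero,
      List.map_cons, List.map_map, tensorList_cons, pow_succ]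
    have hT : Coh.IsCoh (FGA.tensorList (List.map (M ∘ Fin.succ) (J.sort (· ≤ ·)))) := by
      apply isCoh_tensorList
      intro N hN
      obtain ⟨i, _, rfl⟩ := List.mem_map.mp hN
      exact hM _
    haveI := hT.1
    haveI := (hM 0).1
    haveI := hF.1
    rw [eulerCharLE_iso k (swapIso (M 0) _ F) d]
    change _ = -((-1 : ℤ) ^ J.card * FGA.eulerCharLE k X
      (CohB1.tensorMod (FGA.tensorList (List.map (M ∘ Fin.succ) (J.sort (· ≤ ·))))
        (CohB1.tensorMod (M 0) F)) d)
    ring

variable [IsProper (X ↘ Spec (CommRingCat.of k))]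

/-- the truncated Euler characteristic is the Euler characteristic. -/
theorem eulerCharLE_eq_euler (d : ℕ) (hd : topologicalKrullDim X ≤ d) (F : X.Modules)
    (hF : Coh.IsCoh F) : FGA.eulerCharLE k X F d = Curv2.euler k X F := by
  haveI := Curve.isLocallyNoetherian k X
  haveI := Curve.compactSpace k X
  rw [Curve.euler_eq_sum k X F d
    (fun p hp => Groth.Agent.H5.GV.subsingleton_HH_of_isCoh d hd F hF p hp)]
  rfl

/-- **the intersection symbol is a mixed difference of the Snapper function.** -/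
theorem intNum_eq_mixDiff (d : ℕ) (hd : topologicalKrullDim X ≤ d) :
    ∀ (r : ℕ) (M : Fin r → X.Modules), (∀ i, PicF.IsInvertible (M i)) →
      ∀ (F : X.Modules), Coh.IsCoh F →
        (FGA.intNum k X d M F : ℚ) = (-1 : ℚ) ^ r * mixDiffL r (chiFn k X r M F)
  | 0, M, _, F, hF => by
    rw [intNum_zero k d M F, eulerCharLE_eq_euler k d hd F hF, pow_zero, one_mul]
    rfl
  | r + 1, M, hM, F, hF => by
    haveI := Curve.isLocallyNoetherian k X
    have hMc : ∀ i, Coh.IsCoh (M i) := fun i => isCoh_of_isInvertible (hM i)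
    have hfun : (fun n' : Fin r → ℕ => chiFn k X (r + 1) M F (Fin.cons 1 n') -
        chiFn k X (r + 1) M F (Fin.cons 0 n')) =
        chiFn k X r (Fin.tail M) (CohB1.tensorMod (M 0) F) - chiFn k X r (Fin.tail M) F := by
      funext n'
      rw [chiFn_cons, chiFn_cons, Pi.sub_apply]
      have e1 : CohB1.tensorMod F (CohB1.tensorPow (M 0) 1) ≅ CohB1.tensorMod (M 0) F :=
        tensorIso' (Iso.refl F) (unitorL' (M 0)) ≪≫ tensorCommAll F (M 0)
      have e0 : CohB1.tensorMod F (CohB1.tensorPow (M 0) 0) ≅ F := SecTwist.unitorR F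
      rw [chiFn_iso k r _ e1, chiFn_iso k r _ e0]
      rfl
    rw [intNum_succ k d r M hMc F hF, mixDiffL_succ, hfun, map_sub, Int.cast_sub,
      intNum_eq_mixDiff d hd r (Fin.tail M) (fun i => hM _) F hF,
      intNum_eq_mixDiff d hd r (Fin.tail M) (fun i => hM _) _ (isCoh_tensorMod' (hMc 0) hF),
      pow_succ]
    ring

/-- **S3231**: the intersection symbol vanishes when the support is too small. -/
theorem intNum_eq_zero (d : ℕ) (hd : topologicalKrullDim X ≤ d) {r : ℕ} (M : Fin r → X.Modules)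
    (hM : ∀ i, PicF.IsInvertible (M i)) (F : X.Modules) (hF : Coh.IsCoh F)
    (hr : topologicalKrullDim (CohB1.support F) < r) : FGA.intNum k X d M F = 0 := by
  have h := intNum_eq_mixDiff k d hd r M hM F hF
  rw [mixDiffL_eq_zero _ (snapper_aux k r X F hF hr r M hM), mul_zero] at h
  exact_mod_cast h

end Groth.Agent.H5.IntN
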