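import Mathlib
import Groth.Agent.Lib.Helper5.IntN.Basic

/-!
# Additivity of the intersection symbol and Snapper's polynomial in the `FGA` form.
-/

set_option autoImplicit false
universe u
open CategoryTheory CategoryTheory.Limits AlgebraicGeometry TopologicalSpace Opposite

namespace Groth.Agent.H5.IntN

open Groth.Agent.LD Groth.Agent.LD.QC Groth.Agent.H5.Curve4 Groth.Agent.H5.DegC Groth.Agent.H5.Snap

variable (k : Type u) [Field k] {X : Scheme.{u}} [X.Over (Spec (CommRingCat.of k))]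
  [IsProper (X ↘ Spec (CommRingCat.of k))]

lemma isCoh_cons {r : ℕ} {A : X.Modules} (hA : Coh.IsCoh A) {M : Fin r → X.Modules}
    (hM : ∀ i, Coh.IsCoh (M i)) : ∀ i, Coh.IsCoh ((Fin.cons A M : Fin (r + 1) → X.Modules) i) := by
  intro i
  refine Fin.cases ?_ (fun j => ?_) i
  · simpa using hA
  · simpa using hM j

lemma isInvertible_cons {r : ℕ} {A : X.Modules} (hA : PicF.IsInvertible A) {M : Fin r → X.Modules}
    (hM : ∀ i, PicF.IsInvertible (M i)) :
    ∀ i, PicF.IsInvertible ((Fin.cons A M : Fin (r + 1) → X.Modules) i) := by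
  intro i
  refine Fin.cases ?_ (fun j => ?_) i
  · simpa using hA
  · simpa using hM j

/-- the recursion for a family given by `Fin.cons`. -/
lemma intNum_cons (d r : ℕ) (A : X.Modules) (hA : Coh.IsCoh A) (M : Fin r → X.Modules)
    (hM : ∀ i, Coh.IsCoh (M i)) (F : X.Modules) (hF : Coh.IsCoh F) :
    FGA.intNum k X d (Fin.cons A M : Fin (r + 1) → X.Modules) F =
      FGA.intNum k X d M F - FGA.intNum k X d M (CohB1.tensorMod A F) := by
  haveI := Curve.isLocallyNoetherian k X
  rw [intNum_succ k d r _ (isCoh_cons hA hM) F hF, Fin.tail_cons, Fin.cons_zero]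

/-- **S3232**: additivity of the intersection symbol. -/
theorem intNum_cons_tensor (d : ℕ) (hd : topologicalKrullDim X ≤ d) {r : ℕ} (M : Fin r → X.Modules)
    (hM : ∀ i, PicF.IsInvertible (M i)) (A B : X.Modules) (hA : PicF.IsInvertible A)
    (hB : PicF.IsInvertible B) (F : X.Modules) (hF : Coh.IsCoh F)
    (hr : topologicalKrullDim (CohB1.support F) ≤ (r + 1 : ℕ)) :
    FGA.intNum k X d (Fin.cons (CohB1.tensorMod A B) M : Fin (r + 1) → X.Modules) F =
      FGA.intNum k X d (Fin.cons A M : Fin (r + 1) → X.Modules) F +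
        FGA.intNum k X d (Fin.cons B M : Fin (r + 1) → X.Modules) F := by
  have hAc := isCoh_of_isInvertible hA
  have hBc := isCoh_of_isInvertible hB
  have hMc : ∀ i, Coh.IsCoh (M i) := fun i => isCoh_of_isInvertible (hM i)
  have hABc : Coh.IsCoh (CohB1.tensorMod A B) := isCoh_tensorMod' hAc hBc
  have hAF : Coh.IsCoh (CohB1.tensorMod A F) := isCoh_tensorMod' hAc hF
  have h0 : FGA.intNum k X d
      (Fin.cons A (Fin.cons B M : Fin (r + 1) → X.Modules) : Fin (r + 2) → X.Modules) F = 0 :=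
    intNum_eq_zero k d hd _ (isInvertible_cons hA (isInvertible_cons hB hM)) F hF
      (lt_succ_coe_of_le hr)
  rw [intNum_cons k d (r + 1) A hAc _ (isCoh_cons hBc hMc) F hF,
    intNum_cons k d r B hBc M hMc F hF, intNum_cons k d r B hBc M hMc _ hAF] at h0
  haveI := hAc.1
  haveI := hBc.1
  haveI := hF.1
  rw [intNum_cons k d r _ hABc M hMc F hF, intNum_cons k d r A hAc M hMc F hF,
    intNum_cons k d r B hBc M hMc F hF, intNum_iso k d M (swapIso A B F)]
  linarith

/-- `(⊗ L_i^{m_i}) ⊗ F ≅ F ⊗ L_0^{m_0} ⊗ ⋯`. -/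
theorem nonempty_multiTwist_iso [IsLocallyNoetherian X] : ∀ (n : ℕ) (L : Fin n → X.Modules),
    (∀ i, PicF.IsInvertible (L i)) → ∀ (m : Fin n → ℕ) (F : X.Modules), Coh.IsCoh F →
      Nonempty (CohB1.tensorMod (FGA.multiTwist L m) F ≅ (tpFun n L m).obj F)
  | 0, L, _, m, F, _ => ⟨unitorL' F⟩
  | n + 1, L, hL, m, F, hF => by
    have hP : Coh.IsCoh (CohB1.tensorPow (L 0) (m 0)) :=
      isCoh_of_isInvertible (isInvertible_tensorPow (hL 0) (m 0))
    have hFP : Coh.IsCoh (CohB1.tensorMod F (CohB1.tensorPow (L 0) (m 0))) :=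
      isCoh_tensorMod' hF hP
    obtain ⟨e1⟩ := nonempty_multiTwist_iso n (fun i => L i.succ) (fun i => hL _)
      (fun i => m i.succ) _ hFP
    obtain ⟨e2⟩ := nonempty_tp_first_iso n L m (fun i => L i.succ) (fun i => m i.succ)
      (fun _ => rfl) (fun _ => rfl) F
    have hlist : FGA.multiTwist L m = CohB1.tensorMod (CohB1.tensorPow (L 0) (m 0))
        (FGA.multiTwist (fun i => L i.succ) (fun i => m i.succ)) := by
      unfold FGA.multiTwist
      rw [List.finRange_succ, List.map_cons, List.map_map, tensorList_cons]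
      rfl
    have hT : Coh.IsCoh (FGA.multiTwist (fun i => L i.succ) (fun i => m i.succ)) := by
      unfold FGA.multiTwist
      apply isCoh_tensorList
      intro N hN
      obtain ⟨i, _, rfl⟩ := List.mem_map.mp hN
      exact isCoh_of_isInvertible (isInvertible_tensorPow (hL _) _)
    haveI := hT.1
    haveI := hP.1
    haveI := hF.1
    rw [hlist]
    exact ⟨swapIso _ _ F ≪≫ tensorIso' (Iso.refl _) (tensorCommAll _ F) ≪≫ e1 ≪≫ e2.symm⟩

/-- **S3230**: Snapper's theorem for the truncated Euler characteristic. -/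
theorem snapper_FGA (d : ℕ) (hd : topologicalKrullDim X ≤ d) {n : ℕ} (L : Fin n → X.Modules)
    (hL : ∀ i, PicF.IsInvertible (L i)) (F : X.Modules) (hF : Coh.IsCoh F) (r : ℕ)
    (hr : topologicalKrullDim (CohB1.support F) ≤ r) :
    ∃ P : MvPolynomial (Fin n) ℚ, P.totalDegree ≤ r ∧
      ∀ m : Fin n → ℕ, (FGA.eulerCharLE k X (CohB1.tensorMod (FGA.multiTwist L m) F) d : ℚ) =
        MvPolynomial.eval (fun i => (m i : ℚ)) P := by
  haveI := Curve.isLocallyNoetherian k X
  obtain ⟨P, hP1, hP2⟩ := snapper k F hF r hr n L hL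
  refine ⟨P, hP1, fun m => ?_⟩
  obtain ⟨e⟩ := nonempty_multiTwist_iso n L hL m F hF
  have hc : Coh.IsCoh ((tpFun n L m).obj F) := isCoh_tpFun n L hL m F hF
  rw [eulerCharLE_iso k e d, eulerCharLE_eq_euler k d hd _ hc, tpFun_obj]
  exact hP2 m

end Groth.Agent.H5.IntN
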