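import Mathlib
import Groth.Agent.Lib.Helper5.IntN.Add
import Groth.Agent.Lib.Helper5.DegC.Cartier
import Groth.Agent.Lib.Lead.QC.IdealMod
import Groth.Agent.Lib.Lead.QC.Stalk
import Groth.Agent.Lib.Lead.QC.ProjFormulaLF
import Groth.Agent.Lib.Lead.QC.AmpleCrit

/-!
# `(L_1 ⋯ L_r · O(D); F) = (L_1 ⋯ L_r; F ⊗ O_D)` (S14522).
-/

set_option autoImplicit false
universe u
open CategoryTheory CategoryTheory.Limits AlgebraicGeometry TopologicalSpace Opposite

namespace Groth.Agent.H5.IntN

open Groth.Agent.LD Groth.Agent.LD.QC Groth.Agent.H5.Curve4 Groth.Agent.H5.DegC Groth.Agent.H5.Snap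

section regular

variable {X : Scheme.{u}}

lemma primeIdealOf_fromSpec {U : X.Opens} (hU : IsAffineOpen U) (p : PrimeSpectrum Γ(X, U))
    (hx : hU.fromSpec p ∈ U) : hU.primeIdealOf ⟨hU.fromSpec p, hx⟩ = p :=
  hU.fromSpec.isOpenEmbedding.injective (hU.fromSpec_primeIdealOf ⟨hU.fromSpec p, hx⟩)

/-- a local equation of a Cartier divisor avoiding the associated points of `F` is `F`-regular. -/
theorem smul_eq_zero_imp [IsLocallyNoetherian X] (F : X.Modules) [F.IsQuasicoherent]
    (D : X.IdealSheafData) (hass : ∀ x ∈ D.support, ¬ Curv2.IsAssPoint F x) (U : X.affineOpens)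
    (f : Γ(X, U.1)) (hI : D.ideal U = Ideal.span {f}) (m : Γ(F, U.1)) (hm : f • m = 0) :
    m = 0 := by
  by_contra hne
  haveI : IsNoetherianRing Γ(X, U.1) := IsLocallyNoetherian.component_noetherian U
  have hmem : f ∈ {r : Γ(X, U.1) | ∃ x : Γ(F, U.1), x ≠ 0 ∧ r • x = 0} := ⟨m, hne, hm⟩
  rw [← biUnion_associatedPrimes_eq_zero_divisors Γ(X, U.1) Γ(F, U.1)] at hmem
  obtain ⟨p, hp, hfp⟩ := Set.mem_iUnion₂.mp hmem
  haveI : p.IsPrime := hp.isPrime
  set y : PrimeSpectrum Γ(X, U.1) := ⟨p, inferInstance⟩ with hydef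
  have hxU : U.2.fromSpec y ∈ U.1 := by
    have : U.2.fromSpec y ∈ Set.range U.2.fromSpec := Set.mem_range_self y
    rwa [U.2.range_fromSpec] at this
  set x : X := U.2.fromSpec y with hxdef
  have hy : U.2.primeIdealOf ⟨x, hxU⟩ = y := primeIdealOf_fromSpec U.2 y hxU
  have hxD : x ∈ D.support := by
    rw [Scheme.IdealSheafData.mem_support_iff_of_mem (U := U) hxU, Scheme.mem_zeroLocus_iff]
    intro g hg hxg
    have h1 := mem_primeCompl_of_mem_basicOpen U.2 x hxU g hxg
    rw [hy] at h1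
    apply h1
    have hg' : g ∈ D.ideal U := hg
    rw [hI] at hg'
    obtain ⟨a, rfl⟩ := Ideal.mem_span_singleton'.mp hg'
    exact Ideal.mul_mem_left _ _ hfp
  apply hass x hxD
  letI := stalkΓModule F x U.1 hxU
  letI : Algebra Γ(X, U.1) (X.presheaf.stalk x) :=
    TopCat.Presheaf.algebra_section_stalk X.presheaf ⟨x, hxU⟩
  haveI hloc : IsLocalization.AtPrime (X.presheaf.stalk x)
      (U.2.primeIdealOf ⟨x, hxU⟩).asIdeal := U.2.isLocalization_stalk ⟨x, hxU⟩
  haveI : IsScalarTower Γ(X, U.1) (X.presheaf.stalk x) (F.presheaf.stalk x) :=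
    IsScalarTower.of_algebraMap_smul (fun r m => rfl)
  haveI := isLocalizedModule_germ F U.2 x hxU
  have key := Module.associatedPrimes.mem_associatedPrimes_of_comap_mem_associatedPrimes_of_isLocalizedModule
    (U.2.primeIdealOf ⟨x, hxU⟩).asIdeal.primeCompl (germLinear F x U.1 hxU)
    (IsLocalRing.maximalIdeal (X.presheaf.stalk x)) (by
      have h0 := IsLocalization.AtPrime.under_maximalIdeal (X.presheaf.stalk x)
        (U.2.primeIdealOf ⟨x, hxU⟩).asIdeal
      rw [Ideal.under_def] at h0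
      rw [h0, hy]
      exact hp)
  exact key

/-- the same over smaller opens. -/
theorem smul_eq_zero_imp_of_le [IsLocallyNoetherian X] (F : X.Modules) [F.IsQuasicoherent]
    (D : X.IdealSheafData) (hass : ∀ x ∈ D.support, ¬ Curv2.IsAssPoint F x) (U : X.affineOpens)
    (f : Γ(X, U.1)) (hI : D.ideal U = Ideal.span {f}) (V : X.Opens) (hV : V ≤ U.1)
    (m : Γ(F, V)) (hm : X.presheaf.map (homOfLE hV).op f • m = 0) : m = 0 := by
  apply section_eq_zero_of_germ
  intro x hx
  have hxU : x ∈ U.1 := hV hx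
  have hunit : ∀ c : Γ(X, U.1), c ∈ (U.2.primeIdealOf ⟨x, hxU⟩).asIdeal.primeCompl →
      ∀ z : F.presheaf.stalk x, X.presheaf.germ U.1 x hxU c • z = 0 → z = 0 := by
    intro c hc z hz
    obtain ⟨u, hu⟩ := isUnit_germ_of_notMem U.2 x hxU c hc
    rw [← hu] at hz
    have := congrArg (fun w => (↑u⁻¹ : X.presheaf.stalk x) • w) hz
    simpa [smul_smul] using this
  letI := stalkΓModule F x U.1 hxU
  haveI := isLocalizedModule_germ F U.2 x hxU
  obtain ⟨⟨n, s⟩, hns⟩ := IsLocalizedModule.surj (U.2.primeIdealOf ⟨x, hxU⟩).asIdeal.primeCompl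
    (germLinear F x U.1 hxU) (F.presheaf.germ V x hx m)
  have hns' : X.presheaf.germ U.1 x hxU s.1 • F.presheaf.germ V x hx m =
      F.presheaf.germ U.1 x hxU n := hns
  have h1 : X.presheaf.germ U.1 x hxU f • F.presheaf.germ V x hx m = 0 := by
    have h0 := germ_smul F x V hx (X.presheaf.map (homOfLE hV).op f) m
    rw [hm, map_zero] at h0
    rw [← sgerm_res x hV hx f]
    exact h0.symm
  have h2 : germLinear F x U.1 hxU (f • n) = 0 := by
    have h1' : f • F.presheaf.germ V x hx m = 0 := h1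
    have hns'' : s.1 • F.presheaf.germ V x hx m = germLinear F x U.1 hxU n := hns
    rw [map_smul, ← hns'', smul_comm, h1', smul_zero]
  obtain ⟨c, hc⟩ := (IsLocalizedModule.eq_zero_iff (U.2.primeIdealOf ⟨x, hxU⟩).asIdeal.primeCompl
    (germLinear F x U.1 hxU)).mp h2
  have hc' : f • (c.1 • n) = 0 := by
    rw [smul_smul, mul_comm, ← smul_smul]
    exact hc
  have h3 : c.1 • n = 0 := smul_eq_zero_imp F D hass U f hI _ hc'
  have h4 : F.presheaf.germ U.1 x hxU n = 0 := by
    apply hunit c.1 c.2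
    have h0 := germ_smul F x U.1 hxU c.1 n
    rw [h3, map_zero] at h0
    exact h0.symm
  rw [h4] at hns'
  exact hunit s.1 s.2 _ hns'

lemma ideal_eq_span_of_isBasisOver (D : X.IdealSheafData) (U : X.affineOpens)
    (e : Γ(ClSub.idealMod D, U.1)) (he : IsBasisOver (ClSub.idealMod D) U.1 e) :
    D.ideal U = Ideal.span {(show Γ(X, U.1) from (ClSub.idealModι D).app U.1 e)} := by
  ext s
  rw [← exists_idealModι_app_eq_iff, Ideal.mem_span_singleton']
  constructor
  · rintro ⟨t, rfl⟩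
    obtain ⟨a, ha⟩ := (he U.1 le_rfl).2 t
    refine ⟨a, ?_⟩
    have ha' : a • e = t := by
      have := ha
      simp only [QC.res_self] at this
      exact this
    rw [← ha']
    exact (Scheme.Modules.Hom.app_smul (ClSub.idealModι D) a e).symm
  · rintro ⟨a, rfl⟩
    exact ⟨a • e, Scheme.Modules.Hom.app_smul (ClSub.idealModι D) a e⟩

/-- the map `F ⊗ I_D ⟶ F`. -/
noncomputable def twistInclR (F : X.Modules) (D : X.IdealSheafData) :
    CohB1.tensorMod F (ClSub.idealMod D) ⟶ F :=
  KoszTw.tensorMap (𝟙 F) (ClSub.idealModι D) ≫ (SecTwist.unitorR F).hom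

lemma twistInclR_app_tmul (F : X.Modules) (D : X.IdealSheafData) (V : X.Opens) (m : Γ(F, V))
    (c : Γ(ClSub.idealMod D, V)) :
    (twistInclR F D).app V (SecTwist.tmul F (ClSub.idealMod D) V m c) =
      (show Γ(X, V) from (ClSub.idealModι D).app V c) • m := by
  change (SecTwist.unitorR F).hom.app V ((KoszTw.tensorMap (𝟙 F) (ClSub.idealModι D)).app V
    (SecTwist.tmul F (ClSub.idealMod D) V m c)) = _
  rw [KoszTw.tensorMap_tmul]
  exact SecTwist.unitorR_tmul F V _ _

theorem mono_twistInclR [IsLocallyNoetherian X] (F : X.Modules) [F.IsQuasicoherent]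
    (D : X.IdealSheafData) (hD : BlowUp.IsEffCartierIdeal D)
    (hass : ∀ x ∈ D.support, ¬ Curv2.IsAssPoint F x) : Mono (twistInclR F D) := by
  have hinv : PicF.IsInvertible (ClSub.idealMod D) := (isInvertible_idealMod_iff D).mpr hD
  have hloc : ∀ x : X, ∃ (U : X.affineOpens) (e : Γ(ClSub.idealMod D, U.1)), x ∈ U.1 ∧
      IsBasisOver (ClSub.idealMod D) U.1 e := by
    intro x
    obtain ⟨U, e, hxU, he⟩ := (isInvertible_iff_exists_isBasisOver _).mp hinv x
    obtain ⟨U', hU', hxU', hU'U⟩ := exists_isAffineOpen_mem_and_subset (x := x) (U := U) hxU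
    exact ⟨⟨U', hU'⟩, _, hxU', he.mono hU'U⟩
  choose Uf ef hxf hef using hloc
  apply mono_of_injective_app
  intro W
  rw [injective_iff_map_eq_zero]
  intro t ht
  apply section_ext_of_cover (CohB1.tensorMod F (ClSub.idealMod D))
    (fun x : W => W ⊓ (Uf x.1).1) (fun _ => inf_le_left)
  · intro y hy
    exact Opens.mem_iSup.mpr ⟨⟨y, hy⟩, ⟨hy, hxf y⟩⟩
  · rintro ⟨y, hy⟩
    rw [map_zero]
    have he := hef y
    have hV : W ⊓ (Uf y).1 ≤ (Uf y).1 := inf_le_right
    obtain ⟨m, hm⟩ := (bijective_tmul_of_isBasisOver F (ClSub.idealMod D) he (W ⊓ (Uf y).1) hV).2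
      ((CohB1.tensorMod F (ClSub.idealMod D)).presheaf.map
        (homOfLE (inf_le_left : W ⊓ (Uf y).1 ≤ W)).op t)
    have hm' : SecTwist.tmul F (ClSub.idealMod D) (W ⊓ (Uf y).1) m
        ((ClSub.idealMod D).presheaf.map (homOfLE hV).op (ef y)) =
        (CohB1.tensorMod F (ClSub.idealMod D)).presheaf.map
          (homOfLE (inf_le_left : W ⊓ (Uf y).1 ≤ W)).op t := hm
    have h1 : (twistInclR F D).app (W ⊓ (Uf y).1)
        ((CohB1.tensorMod F (ClSub.idealMod D)).presheaf.map
          (homOfLE (inf_le_left : W ⊓ (Uf y).1 ≤ W)).op t) = 0 := by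
      rw [app_res, ht, map_zero]
    rw [← hm', twistInclR_app_tmul, app_res] at h1
    have h2 : m = 0 :=
      smul_eq_zero_imp_of_le F D hass (Uf y) _ (ideal_eq_span_of_isBasisOver D (Uf y) (ef y) he)
        (W ⊓ (Uf y).1) hV m h1
    rw [← hm', h2]
    exact tmul_zero_left F (ClSub.idealMod D) _ _

/-- tensoring the ideal sequence of a Cartier divisor avoiding the associated points of `F`. -/
theorem shortExact_map_LT_idealMod [IsLocallyNoetherian X] (F : X.Modules) [F.IsQuasicoherent]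
    (D : X.IdealSheafData) (hD : BlowUp.IsEffCartierIdeal D)
    (hass : ∀ x ∈ D.support, ¬ Curv2.IsAssPoint F x) :
    ((ShortComplex.mk (ClSub.idealModι D) (ClSub.toSubscheme D)
      (kernel.condition (ClSub.toSubscheme D))).map (LT F)).ShortExact := by
  have hS := shortExact_idealMod D
  haveI : Mono (KoszTw.tensorMap (𝟙 F) (ClSub.idealModι D) ≫ (SecTwist.unitorR F).hom) :=
    mono_twistInclR F D hD hass
  have hmono : Mono (KoszTw.tensorMap (𝟙 F) (ClSub.idealModι D)) :=
    mono_of_mono _ (SecTwist.unitorR F).hom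
  exact
    { exact := hS.exact.map_of_epi_of_preservesCokernel (LT F) hS.epi_g inferInstance
      mono_f := by
        change Mono ((LT F).map (ClSub.idealModι D))
        rw [KoszTw.tensorBi_obj_map]
        exact hmono
      epi_g := by
        haveI := hS.epi_g
        exact (LT F).map_epi _ }

end regular

variable (k : Type u) [Field k] {X : Scheme.{u}} [X.Over (Spec (CommRingCat.of k))]
  [IsProper (X ↘ Spec (CommRingCat.of k))]

/-- additivity of the intersection symbol in the coherent module. -/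
theorem intNum_add (d : ℕ) (hd : topologicalKrullDim X ≤ d) {r : ℕ} (M : Fin r → X.Modules)
    (hM : ∀ i, PicF.IsInvertible (M i)) (S : ShortComplex X.Modules) (hS : S.ShortExact)
    (h₁ : Coh.IsCoh S.X₁) (h₂ : Coh.IsCoh S.X₂) (h₃ : Coh.IsCoh S.X₃) :
    FGA.intNum k X d M S.X₂ = FGA.intNum k X d M S.X₁ + FGA.intNum k X d M S.X₃ := by
  have e1 := intNum_eq_mixDiff k d hd r M hM _ h₁
  have e2 := intNum_eq_mixDiff k d hd r M hM _ h₂
  have e3 := intNum_eq_mixDiff k d hd r M hM _ h₃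
  have hadd := chiFn_add k r M hM S hS h₁ h₂ h₃
  have : (FGA.intNum k X d M S.X₂ : ℚ) =
      (FGA.intNum k X d M S.X₁ : ℚ) + (FGA.intNum k X d M S.X₃ : ℚ) := by
    rw [e1, e2, e3, hadd, map_add]
    ring
  exact_mod_cast this

lemma isCoh_snoc {r : ℕ} {M : Fin r → X.Modules} (hM : ∀ i, Coh.IsCoh (M i)) {N : X.Modules}
    (hN : Coh.IsCoh N) : ∀ i, Coh.IsCoh ((Fin.snoc M N : Fin (r + 1) → X.Modules) i) := by
  intro i
  refine Fin.lastCases ?_ (fun j => ?_) i
  · simpa using hN
  · simpa using hM j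

/-- the recursion for a family given by `Fin.snoc`. -/
theorem intNum_snoc (d : ℕ) : ∀ (r : ℕ) (M : Fin r → X.Modules), (∀ i, Coh.IsCoh (M i)) →
    ∀ (N : X.Modules), Coh.IsCoh N → ∀ (F : X.Modules), Coh.IsCoh F →
      FGA.intNum k X d (Fin.snoc M N : Fin (r + 1) → X.Modules) F =
        FGA.intNum k X d M F - FGA.intNum k X d M (CohB1.tensorMod N F)
  | 0, M, hM, N, hN, F, hF => by
    have h : (Fin.snoc M N : Fin 1 → X.Modules) = Fin.cons N M := by
      funext i
      have hi : i = Fin.last 0 := by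
        apply Fin.ext
        have := i.2
        simp only [Fin.val_last]
        omega
      rw [hi, Fin.snoc_last]
      rfl
    rw [h, intNum_cons k d 0 N hN M hM F hF]
  | r + 1, M, hM, N, hN, F, hF => by
    obtain ⟨A, M', rfl⟩ : ∃ (A : X.Modules) (M' : Fin r → X.Modules), M = Fin.cons A M' :=
      ⟨M 0, Fin.tail M, (Fin.cons_self_tail M).symm⟩
    have hA : Coh.IsCoh A := by simpa using hM 0
    have hM' : ∀ i, Coh.IsCoh (M' i) := fun i => by simpa using hM i.succ
    have hNF : Coh.IsCoh (CohB1.tensorMod N F) := isCoh_tensorMod' hN hF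
    have hAF : Coh.IsCoh (CohB1.tensorMod A F) := isCoh_tensorMod' hA hF
    haveI := hA.1
    haveI := hN.1
    haveI := hF.1
    have e : CohB1.tensorMod N (CohB1.tensorMod A F) ≅ CohB1.tensorMod A (CohB1.tensorMod N F) :=
      (tensorAssoc N A F).symm ≪≫ tensorIso' (tensorCommAll N A) (Iso.refl F) ≪≫ tensorAssoc A N F
    rw [← Fin.cons_snoc_eq_snoc_cons, intNum_cons k d (r + 1) A hA _ (isCoh_snoc hM' hN) F hF,
      intNum_snoc d r M' hM' N hN F hF, intNum_snoc d r M' hM' N hN _ hAF,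
      intNum_cons k d r A hA M' hM' F hF, intNum_cons k d r A hA M' hM' _ hNF,
      intNum_iso k d M' e]
    ring

/-- **S14522**. -/
theorem intNum_snoc_idealMod (d : ℕ) (hd : topologicalKrullDim X ≤ d) {r : ℕ}
    (M : Fin r → X.Modules) (hM : ∀ i, PicF.IsInvertible (M i)) (F : X.Modules)
    (hF : Coh.IsCoh F) (D : X.IdealSheafData) (hD : BlowUp.IsEffCartierIdeal D)
    (hass : ∀ x ∈ D.support, ¬ Curv2.IsAssPoint F x) :
    FGA.intNum k X d (Fin.snoc M (ClSub.idealMod D) : Fin (r + 1) → X.Modules) F =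
      FGA.intNum k X d M (CohB1.tensorMod F (ClSub.quotMod D)) := by
  haveI : IsNoetherian X := Curve2.isNoetherian_of_proper k X
  haveI := hF.1
  have hOc := Groth.Agent.LD.PF.isCoh_unitMod X
  have hQc : Coh.IsCoh (ClSub.quotMod D) := isCoh_quotMod D
  have hIc : Coh.IsCoh (ClSub.idealMod D) := isCoh_of_mono (ClSub.idealModι D) inferInstance hOc
  have hMc : ∀ i, Coh.IsCoh (M i) := fun i => isCoh_of_isInvertible (hM i)
  have hS := shortExact_map_LT_idealMod F D hD hass
  have hadd := intNum_add k d hd M hM _ hS (isCoh_tensorMod' hF hIc) (isCoh_tensorMod' hF hOc)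
    (isCoh_tensorMod' hF hQc)
  change FGA.intNum k X d M (CohB1.tensorMod F (unitMod X)) =
    FGA.intNum k X d M (CohB1.tensorMod F (ClSub.idealMod D)) +
      FGA.intNum k X d M (CohB1.tensorMod F (ClSub.quotMod D)) at hadd
  rw [intNum_snoc k d r M hMc _ hIc F hF, intNum_iso k d M (tensorCommAll (ClSub.idealMod D) F),
    ← intNum_iso k d M (SecTwist.unitorR F), hadd]
  ring

end Groth.Agent.H5.IntN
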