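import Mathlib

/-!
# Newton's backward difference formula (arithmetic part of S11753).
-/

set_option autoImplicit false

namespace Groth.Agent.H5.IntN

theorem newton_backward_aux (r : ℕ) (b : ℕ → ℕ → ℤ) (hvan : ∀ i j, r < i → b i j = 0)
    (hrec : ∀ i j, b i (j + 1) = b i j + b (i + 1) (j + 1)) :
    ∀ (N i : ℕ), r + 1 ≤ i + N → ∀ j,
      b i j = ∑ t ∈ Finset.range (r + 1), ((j + t - 1).choose t : ℤ) * b (i + t) 0 := by
  intro N
  induction N with
  | zero =>
    intro i hi j
    rw [hvan i j (by omega)]
    symm
    apply Finset.sum_eq_zero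
    intro t _
    rw [hvan (i + t) 0 (by omega), mul_zero]
  | succ N ih =>
    intro i hi j
    have IH' := ih (i + 1) (by omega)
    induction j with
    | zero =>
      rw [Finset.sum_range_succ']
      have h1 : ∑ t ∈ Finset.range r, ((0 + (t + 1) - 1).choose (t + 1) : ℤ) * b (i + (t + 1)) 0 = 0 := by
        apply Finset.sum_eq_zero
        intro t _
        have : 0 + (t + 1) - 1 = t := by omega
        rw [this, Nat.choose_succ_self]
        simp
      rw [h1]
      simp
    | succ j ihj =>
      rw [hrec i j, ihj, IH' (j + 1), Finset.sum_range_succ' _ r, Finset.sum_range_succ _ r,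
        Finset.sum_range_succ' (fun t => ((j + 1 + t - 1).choose t : ℤ) * b (i + t) 0) r,
        hvan (i + 1 + r) 0 (by omega), mul_zero, add_zero]
      have hterm : ∀ t ∈ Finset.range r,
          ((j + 1 + (t + 1) - 1).choose (t + 1) : ℤ) * b (i + (t + 1)) 0 =
          ((j + (t + 1) - 1).choose (t + 1) : ℤ) * b (i + (t + 1)) 0 +
            ((j + 1 + t - 1).choose t : ℤ) * b (i + 1 + t) 0 := by
        intro t _
        have e1 : j + 1 + (t + 1) - 1 = (j + t) + 1 := by omega
        have e2 : j + (t + 1) - 1 = j + t := by omega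
        have e3 : j + 1 + t - 1 = j + t := by omega
        have e4 : i + 1 + t = i + (t + 1) := by omega
        rw [e1, e2, e3, e4, Nat.choose_succ_succ]
        push_cast
        ring
      rw [Finset.sum_congr rfl hterm, Finset.sum_add_distrib]
      simp only [Nat.choose_zero_right, Nat.cast_one, one_mul, add_zero]
      ring

theorem newton_backward (r : ℕ) (b : ℕ → ℕ → ℤ) (hvan : ∀ i j, r < i → b i j = 0)
    (hrec : ∀ i j, b i (j + 1) = b i j + b (i + 1) (j + 1)) (j : ℕ) :
    b 0 j = ∑ t ∈ Finset.range (r + 1), ((j + t - 1).choose t : ℤ) * b t 0 := by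
  have h := newton_backward_aux r b hvan hrec (r + 1) 0 (by omega) j
  simpa using h

end Groth.Agent.H5.IntN
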