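import Mathlib
import Groth.Agent.Lib.Helper5.IntN.Basic
import Groth.Agent.Lib.Helper5.IntN.Newton
import Groth.Agent.Lib.Helper5.GG.SuppTens
import Groth.Agent.Lib.Lead.QC.InvInverse

/-!
# `χ(L^m ⊗ F) = Σ_i C(m+i-1, i) ∫ c_1(L)^i F` (S11753).
-/

set_option autoImplicit false
universe u
open CategoryTheory CategoryTheory.Limits AlgebraicGeometry TopologicalSpace Opposite

namespace Groth.Agent.H5.IntN

open Groth.Agent.LD Groth.Agent.LD.QC Groth.Agent.H5.Curve4 Groth.Agent.H5.DegC Groth.Agent.H5.Snap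

variable (k : Type u) [Field k] {X : Scheme.{u}} [X.Over (Spec (CommRingCat.of k))]
  [IsProper (X ↘ Spec (CommRingCat.of k))]

/-- `M ⊗ (L ⊗ H) ≅ H` when `L ⊗ M ≅ O`. -/
noncomputable def cancelIso (L M H : X.Modules) [L.IsQuasicoherent] [M.IsQuasicoherent]
    [H.IsQuasicoherent] (e : CohB1.tensorMod L M ≅ unitMod X) :
    CohB1.tensorMod M (CohB1.tensorMod L H) ≅ H :=
  (tensorAssoc M L H).symm ≪≫ tensorIso' (tensorCommAll M L ≪≫ e) (Iso.refl H) ≪≫ unitorL' H

theorem eulerChar_tensorPow (d : ℕ) (hd : topologicalKrullDim X ≤ d)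
    (L M : X.Modules) (hL : PicF.IsInvertible L)
    (hLM : Nonempty (CohB1.tensorMod L M ≅ Coh.structureModule X))
    (F : X.Modules) (hF : Coh.IsCoh F) (r : ℕ)
    (hr : topologicalKrullDim (CohB1.support F) ≤ r) (m : ℕ) :
    FGA.eulerCharLE k X (CohB1.tensorMod (CohB1.tensorPow L m) F) d =
      (Finset.range (r + 1)).sum (fun i => ((m + i - 1).choose i : ℤ) *
        FGA.intNum k X d (fun _ : Fin i => M) F) := by
  haveI := Curve.isLocallyNoetherian k X
  obtain ⟨e⟩ := hLM
  have hM : PicF.IsInvertible M := QC.isInvertible_of_tensor_iso hL e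
  have hLc := isCoh_of_isInvertible hL
  have hMc := isCoh_of_isInvertible hM
  have hPc : ∀ j, Coh.IsCoh (CohB1.tensorPow L j) := fun j =>
    isCoh_of_isInvertible (isInvertible_tensorPow hL j)
  have hGc : ∀ j, Coh.IsCoh (CohB1.tensorMod (CohB1.tensorPow L j) F) := fun j =>
    isCoh_tensorMod' (hPc j) hF
  haveI := hLc.1
  haveI := hMc.1
  haveI := hF.1
  let b : ℕ → ℕ → ℤ := fun i j =>
    FGA.intNum k X d (fun _ : Fin i => M) (CohB1.tensorMod (CohB1.tensorPow L j) F)
  have hvan : ∀ i j, r < i → b i j = 0 := by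
    intro i j hi
    apply intNum_eq_zero k d hd (fun _ : Fin i => M) (fun _ => hM) _ (hGc j)
    haveI := (hPc j).1
    have hsub : CohB1.support (CohB1.tensorMod (CohB1.tensorPow L j) F) ⊆ CohB1.support F :=
      fun x hx => Groth.Agent.H5.GG.support_tensorMod_subset_right _ _ x hx
    refine lt_of_le_of_lt ((dim_mono hsub).trans hr) ?_
    exact_mod_cast hi
  have hrec : ∀ i j, b i (j + 1) = b i j + b (i + 1) (j + 1) := by
    intro i j
    haveI := (hPc j).1
    haveI := (hGc j).1
    have e1 : CohB1.tensorMod (CohB1.tensorPow L (j + 1)) F ≅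
        CohB1.tensorMod L (CohB1.tensorMod (CohB1.tensorPow L j) F) :=
      tensorIso' (tensorCommAll (CohB1.tensorPow L j) L) (Iso.refl F) ≪≫
        tensorAssoc L (CohB1.tensorPow L j) F
    have e2 : CohB1.tensorMod M (CohB1.tensorMod (CohB1.tensorPow L (j + 1)) F) ≅
        CohB1.tensorMod (CohB1.tensorPow L j) F :=
      tensorIso' (Iso.refl M) e1 ≪≫ cancelIso L M _ e
    have h1 := intNum_succ k d i (fun _ : Fin (i + 1) => M) (fun _ => hMc)
      (CohB1.tensorMod (CohB1.tensorPow L (j + 1)) F) (hGc (j + 1))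
    change b (i + 1) (j + 1) = b i (j + 1) - FGA.intNum k X d (fun _ : Fin i => M)
      (CohB1.tensorMod M (CohB1.tensorMod (CohB1.tensorPow L (j + 1)) F)) at h1
    rw [intNum_iso k d _ e2] at h1
    change b (i + 1) (j + 1) = b i (j + 1) - b i j at h1
    linarith
  have key := newton_backward r b hvan hrec m
  have h0 : b 0 m = FGA.eulerCharLE k X (CohB1.tensorMod (CohB1.tensorPow L m) F) d :=
    intNum_zero k d _ _
  rw [← h0, key]
  apply Finset.sum_congr rfl
  intro t _
  congr 1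
  exact intNum_iso k d _ (unitorL' F)

end Groth.Agent.H5.IntN
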