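import Mathlib
import Groth.Agent.Lib.Helper5.IntN.Pow
import Groth.Agent.Lib.Helper5.IntN.Cartier
import Groth.Agent.Lib.Helper1.TwCov
import Groth.Agent.Lib.Lead.PN.Main
import Groth.Agent.Lib.Lead.QC.PullInv
import Groth.Agent.Lib.Helper5.AG.ProjProper
import Groth.Prelude.Def_Pic13

/-!
# Top Hilbert coefficients as intersection numbers (S5644).
-/

set_option autoImplicit false
universe u
open CategoryTheory CategoryTheory.Limits AlgebraicGeometry TopologicalSpace Opposite

namespace Groth.Agent.H5.IntN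

open Groth.Agent.LD Groth.Agent.LD.QC Groth.Agent.H5.Curve4 Groth.Agent.H5.DegC Groth.Agent.H5.Snap

section arith

/-- the `j`-th finite difference of `m ↦ ∑ a_i C(m+i, i)`, shifted. -/
def cfn (r : ℕ) (a : Fin (r + 1) → ℤ) (j m : ℕ) : ℤ :=
  ∑ i : Fin (r + 1), if j ≤ (i : ℕ) then a i * ((m + i).choose (i - j) : ℤ) else 0

lemma cfn_zero (r : ℕ) (a : Fin (r + 1) → ℤ) (m : ℕ) :
    cfn r a 0 m = ∑ i : Fin (r + 1), a i * ((m + i).choose i : ℤ) := by
  unfold cfn
  apply Finset.sum_congr rfl
  intro i _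
  rw [if_pos (Nat.zero_le _), Nat.sub_zero]

lemma cfn_succ (r : ℕ) (a : Fin (r + 1) → ℤ) (j m : ℕ) :
    cfn r a j (m + 1) - cfn r a j m = cfn r a (j + 1) m := by
  unfold cfn
  rw [← Finset.sum_sub_distrib]
  apply Finset.sum_congr rfl
  intro i _
  by_cases h1 : j + 1 ≤ (i : ℕ)
  · have h0 : j ≤ (i : ℕ) := by omega
    rw [if_pos h0, if_pos h0, if_pos h1]
    have e1 : m + 1 + (i : ℕ) = (m + i) + 1 := by omega
    have e2 : (i : ℕ) - j = ((i : ℕ) - (j + 1)) + 1 := by omega
    rw [e1, e2, Nat.choose_succ_succ]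
    push_cast
    ring
  · rw [if_neg h1]
    by_cases h0 : j ≤ (i : ℕ)
    · rw [if_pos h0, if_pos h0]
      have e2 : (i : ℕ) - j = 0 := by omega
      rw [e2, Nat.choose_zero_right, Nat.choose_zero_right]
      ring
    · rw [if_neg h0, if_neg h0]
      ring

lemma cfn_last (s : ℕ) (a : Fin (s + 2) → ℤ) : cfn (s + 1) a (s + 1) 0 = a (Fin.last (s + 1)) := by
  unfold cfn
  rw [Fin.sum_univ_castSucc]
  have h1 : ∑ i : Fin (s + 1), (if s + 1 ≤ ((Fin.castSucc i : Fin (s + 2)) : ℕ) then
      a (Fin.castSucc i) * (((0 + ((Fin.castSucc i : Fin (s + 2)) : ℕ)).choose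
        (((Fin.castSucc i : Fin (s + 2)) : ℕ) - (s + 1)) : ℕ) : ℤ) else 0) = 0 := by
    apply Finset.sum_eq_zero
    intro i _
    rw [if_neg]
    have := i.2
    simp only [Fin.val_castSucc]
    omega
  rw [h1, zero_add, if_pos (by simp)]
  simp

lemma cfn_pred (s : ℕ) (a : Fin (s + 2) → ℤ) :
    cfn (s + 1) a s 0 = a (Fin.castSucc (Fin.last s)) + (s + 1 : ℤ) * a (Fin.last (s + 1)) := by
  unfold cfn
  rw [Fin.sum_univ_castSucc, Fin.sum_univ_castSucc]
  have h1 : ∑ i : Fin s, (if s ≤ ((Fin.castSucc (Fin.castSucc i) : Fin (s + 2)) : ℕ) then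
      a (Fin.castSucc (Fin.castSucc i)) *
        (((0 + ((Fin.castSucc (Fin.castSucc i) : Fin (s + 2)) : ℕ)).choose
        (((Fin.castSucc (Fin.castSucc i) : Fin (s + 2)) : ℕ) - s) : ℕ) : ℤ) else 0) = 0 := by
    apply Finset.sum_eq_zero
    intro i _
    rw [if_neg]
    have := i.2
    simp only [Fin.val_castSucc]
    omega
  rw [h1, zero_add, if_pos (by simp), if_pos (by simp)]
  simp only [Fin.val_castSucc, Fin.val_last, zero_add, Nat.sub_self, Nat.choose_zero_right,
    Nat.cast_one, mul_one]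
  have : s + 1 - s = 1 := by omega
  rw [this, Nat.choose_one_right]
  push_cast
  ring

end arith

variable (k : Type u) [Field k] {X : Scheme.{u}} [X.Over (Spec (CommRingCat.of k))]
  [IsProper (X ↘ Spec (CommRingCat.of k))]

lemma const_succ_eq_cons (j : ℕ) (A : X.Modules) :
    (fun _ : Fin (j + 1) => A) = (Fin.cons A (fun _ : Fin j => A) : Fin (j + 1) → X.Modules) := by
  funext i
  refine Fin.cases ?_ (fun l => ?_) i
  · simp
  · simp

/-- the intersection numbers of a constant family against a "geometric progression" of modules are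
the finite differences of the Hilbert function. -/
theorem intNum_const_eq (d : ℕ) (A : X.Modules) (hA : PicF.IsInvertible A) (G : ℕ → X.Modules)
    (hG : ∀ m, Coh.IsCoh (G m)) (e : ∀ m, Nonempty (CohB1.tensorMod A (G (m + 1)) ≅ G m))
    (r : ℕ) (a : Fin (r + 1) → ℤ)
    (ha : ∀ m : ℕ, FGA.eulerCharLE k X (G m) d = ∑ j : Fin (r + 1), a j * ((m + j).choose j : ℤ)) :
    ∀ j m : ℕ, FGA.intNum k X d (fun _ : Fin j => A) (G (m + j)) = cfn r a j m := by
  have hAc : Coh.IsCoh A := isCoh_of_isInvertible hA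
  intro j
  induction j with
  | zero =>
    intro m
    rw [intNum_zero, cfn_zero, Nat.add_zero, ha]
  | succ j ih =>
    intro m
    rw [const_succ_eq_cons, intNum_cons k d j A hAc _ (fun _ => hAc) _ (hG _)]
    have e1 : m + (j + 1) = (m + 1) + j := by omega
    have e2 : m + (j + 1) = (m + j) + 1 := by omega
    have e3 : CohB1.tensorMod A (G (m + (j + 1))) ≅ G (m + j) := (e (m + j)).some
    rw [intNum_iso k d _ e3, e1, ih (m + 1), ih m, cfn_succ]

/-- the top intersection number does not change when the module is twisted. -/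
theorem intNum_tensor_of_dim_le (d : ℕ) (hd : topologicalKrullDim X ≤ d) {r : ℕ} (hr : d ≤ r)
    (M : Fin r → X.Modules) (hM : ∀ i, PicF.IsInvertible (M i)) (N : X.Modules)
    (hN : PicF.IsInvertible N) (F : X.Modules) (hF : Coh.IsCoh F) :
    FGA.intNum k X d M (CohB1.tensorMod N F) = FGA.intNum k X d M F := by
  have hMc : ∀ i, Coh.IsCoh (M i) := fun i => isCoh_of_isInvertible (hM i)
  have h1 := intNum_cons k d r N (isCoh_of_isInvertible hN) M hMc F hF
  have hsupp : topologicalKrullDim (CohB1.support F) < ((r + 1 : ℕ) : WithBot ℕ∞) := by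
    have h2 : topologicalKrullDim (CohB1.support F) ≤ topologicalKrullDim X :=
      Topology.IsEmbedding.subtypeVal.isInducing.topologicalKrullDim_le
    refine lt_of_le_of_lt (h2.trans hd) ?_
    exact_mod_cast Nat.lt_succ_of_le hr
  have h3 := intNum_eq_zero k d hd (Fin.cons N M : Fin (r + 1) → X.Modules)
    (isInvertible_cons hN hM) F hF hsupp
  rw [h3] at h1
  linarith

end Groth.Agent.H5.IntN

namespace Groth.Agent.H5.IntN

open Groth.Agent.LD Groth.Agent.LD.QC Groth.Agent.H5.Curve4 Groth.Agent.H5.DegC Groth.Agent.H5.Snap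
open Groth.Agent.LD.PN Groth.Agent.LD.TW Twist

section proj

variable (n : ℕ) (R : Type u) [CommRing R]

lemma cov1_poly : Groth.Agent.H1.TwCov.Cov1 (CohB1.polyGrading n R) := by
  intro x
  obtain ⟨f, ⟨i, rfl⟩, hx⟩ := exists_mem_basicOpen_of_span (irrelevant_eq_span n R) x
  exact ⟨MvPolynomial.X i, X_mem i, hx⟩

variable {n R} {X : Scheme.{u}} (i : X ⟶ CohB1.ProjSpace n R)

/-- `i^* O(a) ⊗ i^* O(b) ≅ i^* O(a + b)`. -/
noncomputable def pbTwistTensorIso (a b c : ℤ) (h : a + b = c) :
    CohB1.tensorMod ((Scheme.Modules.pullback i).obj (Twist.twistProjSpace n R a))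
      ((Scheme.Modules.pullback i).obj (Twist.twistProjSpace n R b)) ≅
      (Scheme.Modules.pullback i).obj (Twist.twistProjSpace n R c) :=
  (pbTensorIso i _ _ (isInvertible_twist n R a) (isInvertible_twist n R b)).symm ≪≫
    (Scheme.Modules.pullback i).mapIso
      (Groth.Agent.H1.TwCov.mulTensorIso' (cov1_poly n R) a b ≪≫ twistCongr h)

lemma isInvertible_pbTwist (a : ℤ) :
    PicF.IsInvertible ((Scheme.Modules.pullback i).obj (Twist.twistProjSpace n R a)) :=
  isInvertible_pullback i (isInvertible_twist n R a)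

end proj

/-- **S5644**. -/
theorem hilbertCoeff_top (k : Type u) [Field k] (n : ℕ) (X : Scheme.{u})
    [X.Over (Spec (CommRingCat.of k))]
    (i : X ⟶ CohB1.ProjSpace n k) [IsClosedImmersion i]
    (hi : i ≫ CohB1.ProjSpace.toSpec n k = X ↘ Spec (CommRingCat.of k))
    (s : ℕ) (hdim : topologicalKrullDim X = (s + 1 : ℕ))
    (L L' : X.Modules) (hL : PicF.IsInvertible L)
    (hLL' : Nonempty (CohB1.tensorMod L L' ≅ Coh.structureModule X))
    (a e : Fin (s + 2) → ℤ)
    (ha : ∀ m : ℕ, FGA.eulerCharLE k X (Pic13.twistOn k i L m) (s + 1) =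
      ∑ j : Fin (s + 2), a j * ((m + j).choose j : ℤ))
    (he : ∀ m : ℕ, FGA.eulerCharLE k X (Pic13.twistOn k i (Coh.structureModule X) m) (s + 1) =
      ∑ j : Fin (s + 2), e j * ((m + j).choose j : ℤ)) :
    a (Fin.last (s + 1)) = e (Fin.last (s + 1)) ∧
      a (Fin.last (s + 1)) = FGA.intNum k X (s + 1)
        (fun _ : Fin (s + 1) => (Scheme.Modules.pullback i).obj (Twist.twistProjSpace n k (-1)))
        (Coh.structureModule X) ∧
      a (Fin.castSucc (Fin.last s)) - e (Fin.castSucc (Fin.last s)) = FGA.intNum k X (s + 1)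
        (Matrix.vecCons L' (fun _ : Fin s =>
          (Scheme.Modules.pullback i).obj (Twist.twistProjSpace n k (-1))))
        (Coh.structureModule X) := by
  haveI : IsProper (X ↘ Spec (CommRingCat.of k)) := by
    rw [← hi]
    haveI := Groth.Agent.H5.AG.isProper_toSpec n k
    infer_instance
  have hd : topologicalKrullDim X ≤ ((s + 1 : ℕ) : WithBot ℕ∞) := le_of_eq hdim
  set A : X.Modules := (Scheme.Modules.pullback i).obj (Twist.twistProjSpace n k (-1)) with hAdef
  have hA : PicF.IsInvertible A := isInvertible_pbTwist i (-1)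
  have hAc : Coh.IsCoh A := isCoh_of_isInvertible hA
  have hO : PicF.IsInvertible (Coh.structureModule X) := isInvertible_unit X
  have hOc : Coh.IsCoh (Coh.structureModule X) := isCoh_of_isInvertible hO
  have hL'' : PicF.IsInvertible L' :=
    QC.isInvertible_of_tensor_iso hL hLL'.some
  -- the two progressions
  have hGinv : ∀ (N : X.Modules), PicF.IsInvertible N → ∀ m : ℕ,
      PicF.IsInvertible (Pic13.twistOn k i N m) := fun N hN m =>
    isInvertible_tensorMod hN (isInvertible_pbTwist i _)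
  have hGiso : ∀ (N : X.Modules), PicF.IsInvertible N → ∀ m : ℕ,
      Nonempty (CohB1.tensorMod A (Pic13.twistOn k i N ((m + 1 : ℕ) : ℤ)) ≅
        Pic13.twistOn k i N (m : ℤ)) := by
    intro N hN m
    haveI := qc_of_isInvertible N hN
    haveI := qc_of_isInvertible A hA
    haveI := qc_of_isInvertible _ (isInvertible_pbTwist i ((m + 1 : ℕ) : ℤ))
    exact ⟨(tensorAssoc A N _).symm ≪≫ swapIso A N _ ≪≫
      tensorIso' (Iso.refl N) (pbTwistTensorIso i (-1) ((m + 1 : ℕ) : ℤ) (m : ℤ)
        (by push_cast; ring))⟩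
  have keyL := intNum_const_eq k (s + 1) A hA (fun m => Pic13.twistOn k i L (m : ℤ))
    (fun m => isCoh_of_isInvertible (hGinv L hL m)) (hGiso L hL) (s + 1) a ha
  have keyO := intNum_const_eq k (s + 1) A hA
    (fun m => Pic13.twistOn k i (Coh.structureModule X) (m : ℤ))
    (fun m => isCoh_of_isInvertible (hGinv _ hO m)) (hGiso _ hO) (s + 1) e he
  -- twisting does not change top intersection numbers
  have tw : ∀ (M : Fin (s + 1) → X.Modules), (∀ j, PicF.IsInvertible (M j)) →
      ∀ N : X.Modules, PicF.IsInvertible N →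
      FGA.intNum k X (s + 1) M N = FGA.intNum k X (s + 1) M (Coh.structureModule X) := by
    intro M hM N hN
    rw [← intNum_tensor_of_dim_le k (s + 1) hd le_rfl M hM N hN _ hOc]
    exact intNum_iso k (s + 1) M (SecTwist.unitorR N).symm
  have h1 : a (Fin.last (s + 1)) = FGA.intNum k X (s + 1) (fun _ : Fin (s + 1) => A)
      (Coh.structureModule X) := by
    have := keyL (s + 1) 0
    rw [cfn_last, Nat.zero_add] at this
    rw [← this]
    exact tw _ (fun _ => hA) _ (hGinv L hL (s + 1))
  have h2 : e (Fin.last (s + 1)) = FGA.intNum k X (s + 1) (fun _ : Fin (s + 1) => A)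
      (Coh.structureModule X) := by
    have := keyO (s + 1) 0
    rw [cfn_last, Nat.zero_add] at this
    rw [← this]
    exact tw _ (fun _ => hA) _ (hGinv _ hO (s + 1))
  refine ⟨h1.trans h2.symm, h1, ?_⟩
  have hcons : (Matrix.vecCons L' (fun _ : Fin s => A) : Fin (s + 1) → X.Modules) =
      Fin.cons L' (fun _ : Fin s => A) := rfl
  rw [hcons, ← tw _ (isInvertible_cons hL'' (fun _ => hA)) _ (hGinv L hL s),
    intNum_cons k (s + 1) s L' (isCoh_of_isInvertible hL'') _ (fun _ => hAc) _
      (isCoh_of_isInvertible (hGinv L hL s))]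
  have e3 : CohB1.tensorMod L' (Pic13.twistOn k i L (s : ℤ)) ≅
      Pic13.twistOn k i (Coh.structureModule X) (s : ℤ) := by
    haveI := qc_of_isInvertible L hL
    haveI := qc_of_isInvertible L' hL''
    haveI := qc_of_isInvertible _ (isInvertible_pbTwist i (s : ℤ))
    exact (tensorAssoc L' L _).symm ≪≫
      tensorIso' (tensorCommAll L' L ≪≫ hLL'.some) (Iso.refl _)
  rw [intNum_iso k (s + 1) _ e3]
  have k1 := keyL s 0
  have k2 := keyO s 0
  rw [cfn_pred, Nat.zero_add] at k1 k2
  rw [k1, k2, h1, h2]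
  ring

end Groth.Agent.H5.IntN
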