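import Mathlib

/-!
# The `n`-th finite difference of `m ↦ C(dm + n, n)` is `d ^ n`.
-/

set_option autoImplicit false
open Polynomial

namespace Groth.Agent.H5.IntN

open scoped fwdDiff

theorem fwdDiff_iter_choose_mul (n d : ℕ) (hd : 0 < d) :
    (fwdDiff (1 : ℕ))^[n] (fun m : ℕ => ((d * m + n).choose n : ℤ)) 0 = (d : ℤ) ^ n := by
  set P : ℤ[X] := (descPochhammer ℤ n).comp (C (d : ℤ) * X + C (n : ℤ)) with hP
  have hlin_deg : (C (d : ℤ) * X + C (n : ℤ)).natDegree = 1 := by
    apply Polynomial.natDegree_linear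
    exact_mod_cast hd.ne'
  have hlin_lead : (C (d : ℤ) * X + C (n : ℤ)).leadingCoeff = (d : ℤ) := by
    apply Polynomial.leadingCoeff_linear
    exact_mod_cast hd.ne'
  have hdeg : P.natDegree = n := by
    rw [hP, Polynomial.natDegree_comp, hlin_deg, mul_one, descPochhammer_natDegree]
  have hlead : P.leadingCoeff = (d : ℤ) ^ n := by
    rw [hP, Polynomial.leadingCoeff_comp (by rw [hlin_deg]; exact one_ne_zero), hlin_lead,
      (monic_descPochhammer ℤ n).leadingCoeff, one_mul, descPochhammer_natDegree]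
  have heval : ∀ m : ℕ, P.eval (m : ℤ) = (n.factorial : ℤ) * ((d * m + n).choose n : ℤ) := by
    intro m
    rw [hP, Polynomial.eval_comp]
    have : (C (d : ℤ) * X + C (n : ℤ)).eval (m : ℤ) = ((d * m + n : ℕ) : ℤ) := by
      simp
    rw [this, descPochhammer_eval_eq_descFactorial, Nat.descFactorial_eq_factorial_mul_choose]
    push_cast
    ring
  have h1 := congrFun (Polynomial.fwdDiff_iter_degree_eq_factorial P) 0
  rw [hdeg, hlead] at h1
  rw [fwdDiff_iter_eq_sum_shift] at h1 ⊢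
  have h2 : (n.factorial : ℤ) * ∑ k ∈ Finset.range (n + 1), ((-1 : ℤ) ^ (n - k) * (n.choose k : ℤ)) •
      ((d * (0 + k • 1) + n).choose n : ℤ) = (d : ℤ) ^ n * n.factorial := by
    rw [Finset.mul_sum]
    have h3 : ((d : ℤ) ^ n • (n.factorial : ℤ → ℤ)) 0 = (d : ℤ) ^ n * n.factorial := by
      simp
    rw [← h3, ← h1]
    apply Finset.sum_congr rfl
    intro j _
    have h4 : (0 : ℤ) + j • 1 = ((0 + j • 1 : ℕ) : ℤ) := by simp
    rw [h4, heval]
    simp only [smul_eq_mul]
    ring
  have hfac : (n.factorial : ℤ) ≠ 0 := by exact_mod_cast n.factorial_ne_zero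
  apply mul_left_cancel₀ hfac
  rw [h2]
  ring

end Groth.Agent.H5.IntN
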