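import Mathlib
import Groth.Agent.Lib.Helper5.IntN.Hilb
import Groth.Agent.Lib.Helper5.IntN.VerArith
import Groth.Agent.Lib.Helper2.ProjDimTop
import Groth.Agent.Lib.Helper2.ProjDimHt
import Groth.Agent.Lib.Lead.PN.Euler

/-!
# The degree of the Veronese variety (S12640).
-/

set_option autoImplicit false
universe u
open CategoryTheory CategoryTheory.Limits AlgebraicGeometry TopologicalSpace Opposite

namespace Groth.Agent.H5.IntN

open Groth.Agent.LD Groth.Agent.LD.QC Groth.Agent.H5.Curve4 Groth.Agent.H5.DegC Groth.Agent.H5.Snap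
open Groth.Agent.LD.PN Groth.Agent.LD.TW Twist
open scoped fwdDiff

section general

variable (k : Type u) [Field k] {X : Scheme.{u}} [X.Over (Spec (CommRingCat.of k))]
  [IsProper (X ↘ Spec (CommRingCat.of k))]

/-- the intersection numbers of a constant family against a "geometric progression" of modules are
the finite differences of the Hilbert function. -/
theorem intNum_const_eq_fwdDiff (d : ℕ) (A : X.Modules) (hA : PicF.IsInvertible A)
    (G : ℕ → X.Modules) (hG : ∀ m, Coh.IsCoh (G m))
    (e : ∀ m, Nonempty (CohB1.tensorMod A (G (m + 1)) ≅ G m)) :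
    ∀ j m : ℕ, FGA.intNum k X d (fun _ : Fin j => A) (G (m + j)) =
      (fwdDiff (1 : ℕ))^[j] (fun m => FGA.eulerCharLE k X (G m) d) m := by
  have hAc : Coh.IsCoh A := isCoh_of_isInvertible hA
  intro j
  induction j with
  | zero =>
    intro m
    rw [intNum_zero]
    rfl
  | succ j ih =>
    intro m
    rw [const_succ_eq_cons, intNum_cons k d j A hAc _ (fun _ => hAc) _ (hG _)]
    have e1 : m + (j + 1) = (m + 1) + j := by omega
    have e3 : CohB1.tensorMod A (G (m + (j + 1))) ≅ G (m + j) := (e (m + j)).some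
    rw [intNum_iso k d _ e3, e1, ih (m + 1), ih m, Function.iterate_succ_apply']
    rfl

/-- the top intersection number against an invertible module is that against `O_X`. -/
theorem intNum_invertible_eq (d : ℕ) (hd : topologicalKrullDim X ≤ d) {r : ℕ} (hr : d ≤ r)
    (M : Fin r → X.Modules) (hM : ∀ i, PicF.IsInvertible (M i)) (N : X.Modules)
    (hN : PicF.IsInvertible N) :
    FGA.intNum k X d M N = FGA.intNum k X d M (Coh.structureModule X) := by
  have hOc : Coh.IsCoh (Coh.structureModule X) := isCoh_of_isInvertible (isInvertible_unit X)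
  rw [← intNum_tensor_of_dim_le k d hd hr M hM N hN _ hOc]
  exact intNum_iso k d M (SecTwist.unitorR N).symm

end general

section dim

open Groth.Agent.H2.ProjDim

theorem dim_projSpace (k : Type u) [Field k] (n : ℕ) :
    topologicalKrullDim (CohB1.ProjSpace n k) = n := by
  have h1 := topologicalKrullDim_zeroLocus_add_one (k := k) (CohB1.polyGrading n k)
    (mvPolynomial_h0 k (Fin (n + 1))) ⊥ (Ideal.IsHomogeneous.bot _)
    ⟨botPoint k n, by rw [ProjectiveSpectrum.zeroLocus_bot]; trivial⟩
  rw [ringKrullDim_eq_of_ringEquiv (RingEquiv.quotientBot (MvPolynomial (Fin (n + 1)) k)),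
    Groth.Agent.H2.DimFG.ringKrullDim_mvPolynomial_fin] at h1
  have h2 : topologicalKrullDim ↥(ProjectiveSpectrum.zeroLocus (CohB1.polyGrading n k)
      ((⊥ : Ideal (MvPolynomial (Fin (n + 1)) k)) : Set (MvPolynomial (Fin (n + 1)) k))) =
      topologicalKrullDim (CohB1.ProjSpace n k) := by
    rw [ProjectiveSpectrum.zeroLocus_bot]
    exact IsHomeomorph.topologicalKrullDim_eq _ (Homeomorph.Set.univ _).isHomeomorph
  rw [h2] at h1
  exact eq_pred_of_add_one_eq (m := n + 1) (by exact_mod_cast h1) (by omega)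

end dim

/-- **S12640**. -/
theorem intNum_veronese (k : Type u) [Field k] (n d : ℕ) (hd : 0 < d) :
    FGA.intNum k (CohB1.ProjSpace n k) n (fun _ : Fin n => Twist.twistProjSpace n k (-(d : ℤ)))
      (Coh.structureModule (CohB1.ProjSpace n k)) = (d : ℤ) ^ n := by
  haveI : IsProper (CohB1.ProjSpace n k ↘ Spec (CommRingCat.of k)) :=
    Groth.Agent.H5.AG.isProper_toSpec n k
  have hdim : topologicalKrullDim (CohB1.ProjSpace n k) ≤ ((n : ℕ) : WithBot ℕ∞) :=
    le_of_eq (dim_projSpace k n)
  set A : (CohB1.ProjSpace n k).Modules := Twist.twistProjSpace n k (-(d : ℤ)) with hAdef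
  have hA : PicF.IsInvertible A := isInvertible_twist n k _
  let G : ℕ → (CohB1.ProjSpace n k).Modules := fun m => Twist.twistProjSpace n k ((d * m : ℕ) : ℤ)
  have hGinv : ∀ m, PicF.IsInvertible (G m) := fun m => isInvertible_twist n k _
  have hGiso : ∀ m, Nonempty (CohB1.tensorMod A (G (m + 1)) ≅ G m) := fun m =>
    ⟨Groth.Agent.H1.TwCov.mulTensorIso' (cov1_poly n k) _ _ ≪≫ twistCongr (by push_cast; ring)⟩
  have key := intNum_const_eq_fwdDiff k n A hA G (fun m => isCoh_of_isInvertible (hGinv m)) hGiso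
    n 0
  rw [← intNum_invertible_eq k n hdim le_rfl _ (fun _ => hA) (G (0 + n)) (hGinv _), key]
  rcases Nat.eq_zero_or_pos n with hn | hn
  · subst hn
    simp only [Function.iterate_zero, id_eq, pow_zero]
    change FGA.eulerCharLE k (CohB1.ProjSpace 0 k) (Twist.twistProjSpace 0 k ((d * 0 : ℕ) : ℤ)) 0 = 1
    unfold FGA.eulerCharLE
    rw [Finset.sum_range_one, pow_zero, one_mul,
      LinearEquiv.finrank_eq (H0LinearEquiv 0 k (d * 0)), finrank_homogeneousSubmodule]
    simp
  · have hf : (fun m => FGA.eulerCharLE k (CohB1.ProjSpace n k) (G m) n) =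
        fun m : ℕ => ((d * m + n).choose n : ℤ) := by
      funext m
      change (Finset.range (n + 1)).sum (fun j => (-1 : ℤ) ^ j *
        (Module.finrank k (Coh.HH (CohB1.ProjSpace n k)
          (Twist.twistProjSpace n k ((d * m : ℕ) : ℤ)) j) : ℤ)) = _
      rw [euler_twist k n hn, ← Nat.cast_add, Ring.choose_natCast]
    rw [hf]
    exact fwdDiff_iter_choose_mul n d hd

end Groth.Agent.H5.IntN
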