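import Mathlib
import Groth.Agent.Lib.Helper5.Snap.Arith2

/-!
# Arithmetic for asymptotic Riemann–Roch: Newton expansion and polynomial bounds.
-/

set_option autoImplicit false

namespace Groth.Agent.H5.IntN

open Finset Polynomial Groth.Agent.H5.Snap
open scoped fwdDiff

/-- a polynomial of degree `≤ e` is `O((n+1)^e)` on the naturals. -/
lemma exists_bound_eval (R : ℚ[X]) (e : ℕ) (hR : R.natDegree ≤ e) :
    ∃ C : ℚ, 0 ≤ C ∧ ∀ n : ℕ, |R.eval (n : ℚ)| ≤ C * ((n : ℚ) + 1) ^ e := by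
  refine ⟨∑ i ∈ range (e + 1), |R.coeff i|, Finset.sum_nonneg (fun i _ => abs_nonneg _), ?_⟩
  intro n
  rw [Polynomial.eval_eq_sum_range' (Nat.lt_succ_of_le hR), Finset.sum_mul]
  refine (Finset.abs_sum_le_sum_abs _ _).trans (Finset.sum_le_sum ?_)
  intro i hi
  rw [abs_mul]
  have hn0 : (0 : ℚ) ≤ (n : ℚ) := Nat.cast_nonneg n
  have h1 : |(n : ℚ) ^ i| ≤ ((n : ℚ) + 1) ^ e := by
    rw [abs_of_nonneg (pow_nonneg hn0 i)]
    calc (n : ℚ) ^ i ≤ ((n : ℚ) + 1) ^ i := pow_le_pow_left₀ hn0 (by linarith) i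
      _ ≤ ((n : ℚ) + 1) ^ e :=
        pow_le_pow_right₀ (by linarith) (Nat.lt_succ_iff.mp (Finset.mem_range.mp hi))
  exact mul_le_mul_of_nonneg_left h1 (abs_nonneg _)

/-- **Gregory–Newton** with finitely many nonzero differences at `0`. -/
lemma eq_sum_choose_mul (f : ℕ → ℤ) (d : ℕ)
    (h0 : ∀ j, d < j → (fwdDiff (1 : ℕ))^[j] f 0 = 0) (n : ℕ) :
    f n = ∑ j ∈ range (d + 1), (n.choose j : ℤ) * (fwdDiff (1 : ℕ))^[j] f 0 := by
  have h1 := shift_eq_sum_fwdDiff_iter (1 : ℕ) f n 0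
  have e : (0 : ℕ) + n • (1 : ℕ) = n := by simp
  rw [e] at h1
  rw [h1]
  have hA : ∑ k ∈ range (n + 1), n.choose k • (fwdDiff (1 : ℕ))^[k] f 0 =
      ∑ k ∈ range (n + d + 1), (n.choose k : ℤ) * (fwdDiff (1 : ℕ))^[k] f 0 := by
    refine (Finset.sum_congr rfl (fun k _ => nsmul_eq_mul _ _)).trans ?_
    apply Finset.sum_subset (Finset.range_mono (by omega))
    intro k _ hk
    rw [Finset.mem_range, not_lt] at hk
    rw [Nat.choose_eq_zero_of_lt (by omega), Nat.cast_zero, zero_mul]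
  have hB : ∑ j ∈ range (d + 1), (n.choose j : ℤ) * (fwdDiff (1 : ℕ))^[j] f 0 =
      ∑ k ∈ range (n + d + 1), (n.choose k : ℤ) * (fwdDiff (1 : ℕ))^[k] f 0 := by
    apply Finset.sum_subset (Finset.range_mono (by omega))
    intro k _ hk
    rw [Finset.mem_range, not_lt] at hk
    rw [h0 k (by omega), mul_zero]
  rw [hA, hB]

/-- a function `f : ℕ → ℤ` whose iterated differences at `0` vanish above `d` agrees with
`(Δ^d f 0)/d! n^d` up to `O((n+1)^(d-1))`. -/
lemma exists_bound_of_fwdDiff_eq_zero (f : ℕ → ℤ) (d : ℕ)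
    (h0 : ∀ j, d < j → (fwdDiff (1 : ℕ))^[j] f 0 = 0) :
    ∃ C : ℚ, 0 ≤ C ∧ ∀ n : ℕ,
      |(f n : ℚ) - (((fwdDiff (1 : ℕ))^[d] f 0 : ℤ) : ℚ) / (d.factorial : ℚ) * (n : ℚ) ^ d| ≤
        C * ((n : ℚ) + 1) ^ (d - 1) := by
  set g : ℕ → ℤ := fun j => (fwdDiff (1 : ℕ))^[j] f 0 with hg
  set Q : ℚ[X] := ∑ j ∈ range (d + 1),
    Polynomial.C ((g j : ℚ) / (j.factorial : ℚ)) * descPochhammer ℚ j with hQ
  have hQeval : ∀ n : ℕ, Q.eval (n : ℚ) = (f n : ℚ) := by
    intro n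
    rw [eq_sum_choose_mul f d h0 n, hQ, Polynomial.eval_finsetSum]
    push_cast
    apply Finset.sum_congr rfl
    intro j _
    rw [Polynomial.eval_mul, Polynomial.eval_C, descPochhammer_eval_eq_descFactorial,
      Nat.descFactorial_eq_factorial_mul_choose, Nat.cast_mul]
    have hj : (j.factorial : ℚ) ≠ 0 := Nat.cast_ne_zero.mpr (Nat.factorial_ne_zero j)
    rw [div_mul_eq_mul_div, div_eq_iff hj]
    ring
  have hQdeg : Q.natDegree ≤ d := by
    rw [hQ]
    apply Polynomial.natDegree_sum_le_of_forall_le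
    intro j hj
    refine (Polynomial.natDegree_C_mul_le _ _).trans ?_
    rw [descPochhammer_natDegree]
    exact Nat.lt_succ_iff.mp (Finset.mem_range.mp hj)
  have hQcoeff : Q.coeff d = (g d : ℚ) / (d.factorial : ℚ) := by
    rw [hQ, Polynomial.finsetSum_coeff, Finset.sum_range_succ, Finset.sum_eq_zero, zero_add,
      Polynomial.coeff_C_mul]
    · have := (monic_descPochhammer ℚ d).coeff_natDegree
      rw [descPochhammer_natDegree] at this
      rw [this, mul_one]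
    · intro j hj
      rw [Polynomial.coeff_C_mul, Polynomial.coeff_eq_zero_of_natDegree_lt, mul_zero]
      rw [descPochhammer_natDegree]
      exact Finset.mem_range.mp hj
  set R : ℚ[X] := Q - Polynomial.C (Q.coeff d) * Polynomial.X ^ d with hR
  have hRdeg : R.natDegree ≤ d - 1 := by
    rw [Polynomial.natDegree_le_iff_coeff_eq_zero]
    intro N hN
    rw [hR, Polynomial.coeff_sub, Polynomial.coeff_C_mul, Polynomial.coeff_X_pow]
    by_cases hNd : N = d
    · rw [hNd]; simp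
    · have hdN : d < N := by omega
      rw [if_neg hNd, mul_zero, sub_zero]
      exact Polynomial.coeff_eq_zero_of_natDegree_lt (lt_of_le_of_lt hQdeg hdN)
  obtain ⟨C₁, hC0, hC⟩ := exists_bound_eval R (d - 1) hRdeg
  refine ⟨C₁, hC0, fun n => ?_⟩
  have hev : (f n : ℚ) - (g d : ℚ) / (d.factorial : ℚ) * (n : ℚ) ^ d = R.eval (n : ℚ) := by
    rw [hR, Polynomial.eval_sub, Polynomial.eval_mul, Polynomial.eval_C, Polynomial.eval_pow,
      Polynomial.eval_X, hQeval, hQcoeff]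
  rw [hev]
  exact hC n

/-- the mixed difference of a function of the sum of the variables is an iterated difference. -/
lemma mixDiffL_comp_sum : ∀ (d : ℕ) (f : ℕ → ℤ),
    mixDiffL d (fun n : Fin d → ℕ => ((f (∑ i, n i) : ℤ) : ℚ)) =
      (((fwdDiff (1 : ℕ))^[d] f 0 : ℤ) : ℚ)
  | 0, f => by
      change ((f (∑ i : Fin 0, (0 : Fin 0 → ℕ) i) : ℤ) : ℚ) = ((f 0 : ℤ) : ℚ)
      simp
  | d + 1, f => by
      have hfun : (fun n' : Fin d → ℕ =>
          ((f (∑ i, (Fin.cons 1 n' : Fin (d + 1) → ℕ) i) : ℤ) : ℚ) -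
            ((f (∑ i, (Fin.cons 0 n' : Fin (d + 1) → ℕ) i) : ℤ) : ℚ)) =
          fun n' => (((fwdDiff (1 : ℕ) f) (∑ i, n' i) : ℤ) : ℚ) := by
        funext n'
        have e1 : ∑ i, (Fin.cons 1 n' : Fin (d + 1) → ℕ) i = (∑ i, n' i) + 1 := by
          rw [Fin.sum_univ_succ]; simp [add_comm]
        have e0 : ∑ i, (Fin.cons 0 n' : Fin (d + 1) → ℕ) i = ∑ i, n' i := by
          rw [Fin.sum_univ_succ]; simp
        rw [e1, e0]
        exact (Int.cast_sub _ _).symm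
      rw [Function.iterate_succ_apply, ← mixDiffL_comp_sum d (fwdDiff (1 : ℕ) f), mixDiffL_succ]
      exact congrArg (fun F => mixDiffL d F) hfun

end Groth.Agent.H5.IntN
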