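import Mathlib
import Groth.Agent.Lib.Helper5.IntN.Basic

/-!
# The intersection symbol in terms of the top dimensional components of the support (S14521).
-/

set_option autoImplicit false
universe u
open CategoryTheory CategoryTheory.Limits AlgebraicGeometry TopologicalSpace Opposite

namespace Groth.Agent.H5.IntN

open Groth.Agent.LD Groth.Agent.LD.QC Groth.Agent.H5.Curve4 Groth.Agent.H5.DegC Groth.Agent.H5.Snap

variable (k : Type u) [Field k] {X : Scheme.{u}} [X.Over (Spec (CommRingCat.of k))]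
  [IsProper (X ↘ Spec (CommRingCat.of k))]

theorem intNum_eq_sum_components (d : ℕ) (hd : topologicalKrullDim X ≤ d)
    {r : ℕ} (M : Fin r → X.Modules) (hM : ∀ i, PicF.IsInvertible (M i))
    (F : X.Modules) (hF : Coh.IsCoh F) (hsupp : topologicalKrullDim ↥(CohB1.support F) ≤ r)
    (s : Finset X) (hs : ∀ ξ : X, ξ ∈ s ↔
      ξ ∈ CohB1.support F ∧ topologicalKrullDim ↥(closure ({ξ} : Set X)) = r) :
    FGA.intNum k X d M F =
      ∑ ξ ∈ s, ((Module.length (X.presheaf.stalk ξ) (F.presheaf.stalk ξ)).toNat : ℤ) *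
        FGA.intNum k X d M (ClSub.quotMod (Scheme.IdealSheafData.vanishingIdeal
          ⟨closure ({ξ} : Set X), isClosed_closure⟩)) := by
  classical
  obtain ⟨hfin, -, hmem⟩ := good_of_isCoh k r r M hM F hF hsupp
  have h0 := mixDiffL_eq_zero _ hmem
  rw [map_sub, sub_eq_zero] at h0
  have hset : hfin.toFinset = s := by
    ext ξ
    rw [Set.Finite.mem_toFinset, hs ξ]
    exact ⟨fun h => ⟨h.2, h.1⟩, fun h => ⟨h.2, h.1⟩⟩
  have hcyc : cycFn k r r M F =
      ∑ ξ ∈ s, (mult r F ξ : ℚ) • cOf k r M (vI ξ) := by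
    funext n
    unfold cycFn
    rw [finsum_eq_sum_of_support_subset (s := s), Finset.sum_apply]
    · rfl
    · intro ξ hξ
      rw [← hset, Set.Finite.coe_toFinset]
      by_contra hn
      apply hξ
      simp [mult_eq_zero_of_notMem hn]
  rw [hcyc, map_sum] at h0
  have hterm : ∀ ξ ∈ s, mixDiffL r ((mult r F ξ : ℚ) • cOf k r M (vI ξ)) =
      (-1 : ℚ) ^ r * (((Module.length (X.presheaf.stalk ξ) (F.presheaf.stalk ξ)).toNat : ℤ) *
        FGA.intNum k X d M (ClSub.quotMod (vI ξ)) : ℤ) := by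
    intro ξ hξ
    have hc : topologicalKrullDim (closure ({ξ} : Set X)) = (r : WithBot ℕ∞) :=
      ((hs ξ).mp hξ).2
    have hm : mult r F ξ = (Module.length (X.presheaf.stalk ξ) (F.presheaf.stalk ξ)).toNat := by
      unfold mult
      rw [if_pos hc]
    have h1 := intNum_eq_mixDiff k d hd r M hM (ClSub.quotMod (vI ξ)) (isCoh_quotMod _)
    rw [map_smul, cOf_eq_chiFn_quotMod k r M hM, smul_eq_mul, hm]
    push_cast
    rw [h1]
    have hsq : ((-1 : ℚ) ^ r) * ((-1 : ℚ) ^ r) = 1 := by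
      rw [← mul_pow]
      simp
    linear_combination
      (-(((Module.length (X.presheaf.stalk ξ) (F.presheaf.stalk ξ)).toNat : ℚ) *
        mixDiffL r (chiFn k X r M (ClSub.quotMod (vI ξ))))) * hsq
  rw [Finset.sum_congr rfl hterm, ← Finset.mul_sum] at h0
  have h2 := intNum_eq_mixDiff k d hd r M hM F hF
  rw [h0] at h2
  have hsq : ((-1 : ℚ) ^ r) * ((-1 : ℚ) ^ r) = 1 := by
    rw [← mul_pow]
    simp
  rw [← mul_assoc, hsq, one_mul] at h2
  have h3 : (FGA.intNum k X d M F : ℚ) = ((∑ ξ ∈ s,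
      ((Module.length (X.presheaf.stalk ξ) (F.presheaf.stalk ξ)).toNat : ℤ) *
        FGA.intNum k X d M (ClSub.quotMod (vI ξ)) : ℤ) : ℚ) := by
    rw [h2]
    push_cast
    rfl
  exact_mod_cast h3

end Groth.Agent.H5.IntN
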