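import Mathlib
import Groth.Agent.Lib.Helper5.IntN.Cyc
import Groth.Agent.Lib.Helper5.IntN.Cartier
import Groth.Agent.Lib.Helper5.IntN.Veronese
import Groth.Agent.Lib.Lead.CohLES.H0

/-!
# Positivity of intersection numbers of ample modules: preliminaries.
-/

set_option autoImplicit false
universe u
open CategoryTheory CategoryTheory.Limits AlgebraicGeometry TopologicalSpace Opposite

namespace Groth.Agent.H5.IntN

open Groth.Agent.LD Groth.Agent.LD.QC Groth.Agent.H5.Curve4 Groth.Agent.H5.DegC Groth.Agent.H5.Snap

variable (k : Type u) [Field k] {X : Scheme.{u}} [X.Over (Spec (CommRingCat.of k))]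
  [IsProper (X ↘ Spec (CommRingCat.of k))]

/-- the top intersection number does not change when the module is twisted (dimension form). -/
theorem intNum_tensor_of_dim_le' (d : ℕ) (hd : topologicalKrullDim X ≤ d) {r : ℕ}
    (hr : topologicalKrullDim X ≤ r)
    (M : Fin r → X.Modules) (hM : ∀ i, PicF.IsInvertible (M i)) (N : X.Modules)
    (hN : PicF.IsInvertible N) (F : X.Modules) (hF : Coh.IsCoh F) :
    FGA.intNum k X d M (CohB1.tensorMod N F) = FGA.intNum k X d M F := by
  have hMc : ∀ i, Coh.IsCoh (M i) := fun i => isCoh_of_isInvertible (hM i)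
  have h1 := intNum_cons k d r N (isCoh_of_isInvertible hN) M hMc F hF
  have hsupp : topologicalKrullDim (CohB1.support F) < ((r + 1 : ℕ) : WithBot ℕ∞) := by
    have h2 : topologicalKrullDim (CohB1.support F) ≤ topologicalKrullDim X :=
      Topology.IsEmbedding.subtypeVal.isInducing.topologicalKrullDim_le
    refine lt_of_le_of_lt (h2.trans hr) ?_
    exact_mod_cast Nat.lt_succ_self r
  have h3 := intNum_eq_zero k d hd (Fin.cons N M : Fin (r + 1) → X.Modules)
    (isInvertible_cons hN hM) F hF hsupp
  rw [h3] at h1
  linarith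

/-- multilinearity: powers in the first argument. -/
theorem intNum_cons_tensorPow (d : ℕ) (hd : topologicalKrullDim X ≤ d) {r : ℕ}
    (M : Fin r → X.Modules) (hM : ∀ i, PicF.IsInvertible (M i)) (A : X.Modules)
    (hA : PicF.IsInvertible A) (F : X.Modules) (hF : Coh.IsCoh F)
    (hr : topologicalKrullDim (CohB1.support F) ≤ (r + 1 : ℕ)) (m : ℕ) :
    FGA.intNum k X d (Fin.cons (CohB1.tensorPow A m) M : Fin (r + 1) → X.Modules) F =
      (m : ℤ) * FGA.intNum k X d (Fin.cons A M : Fin (r + 1) → X.Modules) F := by
  have hMc : ∀ i, Coh.IsCoh (M i) := fun i => isCoh_of_isInvertible (hM i)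
  induction m with
  | zero =>
    have hOc : Coh.IsCoh (unitMod X) := isCoh_of_isInvertible (isInvertible_unit X)
    have h1 := intNum_cons k d r (unitMod X) hOc M hMc F hF
    rw [intNum_iso k d M (unitorL' F)] at h1
    change FGA.intNum k X d (Fin.cons (unitMod X) M : Fin (r + 1) → X.Modules) F = _
    rw [h1]
    simp
  | succ m ih =>
    change FGA.intNum k X d (Fin.cons (CohB1.tensorMod (CohB1.tensorPow A m) A) M :
      Fin (r + 1) → X.Modules) F = _
    rw [intNum_cons_tensor k d hd M hM _ A (isInvertible_tensorPow hA m) hA F hF hr, ih]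
    push_cast
    ring

/-- restriction of the intersection symbol to a closed subscheme. -/
theorem intNum_quotMod_eq (d : ℕ) (hd : topologicalKrullDim X ≤ d) {r : ℕ}
    (M : Fin r → X.Modules) (hM : ∀ i, PicF.IsInvertible (M i)) (V : X.IdealSheafData) :
    FGA.intNum k X d M (ClSub.quotMod V) =
      @FGA.intNum k _ V.subscheme (overOf k V.subschemeι) d r
        (fun j => (Scheme.Modules.pullback V.subschemeι).obj (M j))
        (Coh.structureModule V.subscheme) := by
  letI : V.subscheme.Over (Spec (CommRingCat.of k)) := overOf k V.subschemeι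
  haveI : IsProper (V.subscheme ↘ Spec (CommRingCat.of k)) := by
    change IsProper (V.subschemeι ≫ (X ↘ Spec (CommRingCat.of k)))
    infer_instance
  have hdZ : topologicalKrullDim V.subscheme ≤ d :=
    (V.subschemeι.isClosedEmbedding.isEmbedding.isInducing.topologicalKrullDim_le).trans hd
  have e1 := intNum_eq_mixDiff k d hd r M hM (ClSub.quotMod V) (isCoh_quotMod V)
  have e2 := intNum_eq_mixDiff k d hdZ r
    (fun j => (Scheme.Modules.pullback V.subschemeι).obj (M j))
    (fun j => isInvertible_pullback V.subschemeι (hM j)) (Coh.structureModule V.subscheme)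
    (isCoh_of_isInvertible (isInvertible_unit V.subscheme))
  rw [← cOf_eq_chiFn_quotMod k r M hM V] at e1
  have : (FGA.intNum k X d M (ClSub.quotMod V) : ℚ) =
      (FGA.intNum k V.subscheme d
        (fun j => (Scheme.Modules.pullback V.subschemeι).obj (M j))
        (Coh.structureModule V.subscheme) : ℚ) := by
    rw [e1, e2]
    rfl
  exact_mod_cast this

/-- the zero dimensional case of positivity. -/
theorem intNum_pos_zero [IsIntegral X] (d : ℕ) (hd : topologicalKrullDim X ≤ d)
    (hdim : topologicalKrullDim X = 0) (M : Fin 0 → X.Modules) :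
    0 < FGA.intNum k X d M (Coh.structureModule X) := by
  have hOc : Coh.IsCoh (Coh.structureModule X) := isCoh_of_isInvertible (isInvertible_unit X)
  have hd0 : topologicalKrullDim X ≤ ((0 : ℕ) : WithBot ℕ∞) := by
    rw [hdim]
    rfl
  rw [intNum_zero, eulerCharLE_eq_euler k d hd _ hOc, ← eulerCharLE_eq_euler k 0 hd0 _ hOc]
  unfold FGA.eulerCharLE
  rw [Finset.sum_range_one, pow_zero, one_mul]
  haveI := Curve.finite_HH k X _ hOc 0
  haveI : Nontrivial (Coh.HH X (Coh.structureModule X) 0) := by
    haveI : Nontrivial Γ(Coh.structureModule X, ⊤) :=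
      inferInstanceAs (Nontrivial Γ(X, ⊤))
    exact (CL.HH0Equiv (Coh.structureModule X)).toEquiv.nontrivial
  exact_mod_cast Module.finrank_pos

end Groth.Agent.H5.IntN
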