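import Mathlib
import Groth.Agent.Lib.Helper5.IntN.Pos1
import Groth.Agent.Lib.Helper5.Deg.Deg6
import Groth.Agent.Lib.Helper5.HP.HP4
import Groth.Agent.Lib.Lead.Curve.InvMono
import Groth.Agent.Lib.Lead.QC.AmpleBasis2

/-!
# Positivity of intersection numbers of ample modules: the induction step on integral schemes.
-/

set_option autoImplicit false
universe u
open CategoryTheory CategoryTheory.Limits AlgebraicGeometry TopologicalSpace Opposite

namespace Groth.Agent.H5.IntN

open Groth.Agent.LD Groth.Agent.LD.QC Groth.Agent.H5.Curve4 Groth.Agent.H5.DegC Groth.Agent.H5.Snap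
open Groth.Agent.H5.Deg Groth.Agent.H5.HP

variable (k : Type u) [Field k]

/-- positivity (and nonnegativity) of `r`-fold intersection numbers of ample modules against
coherent modules with support of dimension `≤ r`. -/
def PosProp (r : ℕ) : Prop :=
  ∀ (X : Scheme.{u}) [X.Over (Spec (CommRingCat.of k))]
    [IsProper (X ↘ Spec (CommRingCat.of k))] (d : ℕ), topologicalKrullDim X ≤ d →
    ∀ (L M : Fin r → X.Modules), (∀ i, CohB1.IsAmple (L i)) →
      (∀ i, Nonempty (CohB1.tensorMod (L i) (M i) ≅ Coh.structureModule X)) →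
      ∀ (F : X.Modules), Coh.IsCoh F → topologicalKrullDim (CohB1.support F) ≤ r →
        0 ≤ FGA.intNum k X d M F ∧
          (topologicalKrullDim (CohB1.support F) = r → 0 < FGA.intNum k X d M F)

/-- positivity of the top intersection number of ample modules on an integral scheme. -/
def IntProp (r : ℕ) : Prop :=
  ∀ (X : Scheme.{u}) [X.Over (Spec (CommRingCat.of k))]
    [IsProper (X ↘ Spec (CommRingCat.of k))] [IsIntegral X] (d : ℕ), topologicalKrullDim X ≤ d →
    topologicalKrullDim X = r →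
    ∀ (L M : Fin r → X.Modules), (∀ i, CohB1.IsAmple (L i)) →
      (∀ i, Nonempty (CohB1.tensorMod (L i) (M i) ≅ Coh.structureModule X)) →
      0 < FGA.intNum k X d M (Coh.structureModule X)

theorem intProp_zero : IntProp k 0 := by
  intro X _ _ _ d hd hdim L M _ _
  exact intNum_pos_zero k d hd (by rw [hdim]; rfl) M

lemma le_of_add_one_le_succ {a : WithBot ℕ∞} {r : ℕ}
    (h : a + 1 ≤ ((r + 1 : ℕ) : WithBot ℕ∞)) : a ≤ (r : WithBot ℕ∞) := by
  induction a with
  | bot => exact bot_le
  | coe a =>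
    have h' : a + 1 ≤ ((r + 1 : ℕ) : ℕ∞) := by exact_mod_cast h
    have h2 : a ≤ (r : ℕ∞) := by
      have : a + 1 ≤ (r : ℕ∞) + 1 := by exact_mod_cast h'
      exact (ENat.add_le_add_iff_right ENat.one_ne_top).mp this
    exact_mod_cast h2

theorem intProp_succ (r : ℕ) (IH : PosProp k r) : IntProp k (r + 1) := by
  intro X _ _ _ d hd hdim L M hL hLM
  haveI : IsNoetherian X := Curve2.isNoetherian_of_proper k X
  have hLinv : ∀ i, PicF.IsInvertible (L i) := fun i => (hL i).1
  have hMinv : ∀ i, PicF.IsInvertible (M i) := fun i =>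
    QC.isInvertible_of_tensor_iso (hLinv i) (hLM i).some
  -- dimension of the whole space
  have hX : dimX (Set.univ : Set X) = ((r + 1 : ℕ) : WithBot ℕ∞) := by
    rw [← topologicalKrullDim_eq_dimX isClosed_univ, ← hdim]
    exact IsHomeomorph.topologicalKrullDim_eq _ (Homeomorph.Set.univ X).isHomeomorph
  obtain ⟨Y', hY'i, hY'c, -, hY'ne, hY'dim⟩ := exists_irreducible_sub r (le_of_eq hX.symm)
  obtain ⟨η', hη'⟩ := QuasiSober.sober hY'i hY'c
  set η : X := genericPoint X with hηdef
  have hsp : η ⤳ η' := genericPoint_specializes η'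
  have hnsp : ¬ η' ⤳ η := by
    intro h
    apply hY'ne
    rw [Set.eq_univ_iff_forall]
    intro x
    have h1 : η ∈ Y' := by
      rw [← hη'.def]
      exact specializes_iff_mem_closure.mp h
    have h2 : closure ({η} : Set X) ⊆ Y' :=
      hY'c.closure_subset_iff.mpr (Set.singleton_subset_iff.mpr h1)
    apply h2
    rw [(genericPoint_spec X).def]
    trivial
  obtain ⟨m, σ, hm, hησ, hη'σ⟩ := exists_section_separating (L 0) (hL 0) η η' hsp hnsp
  -- notation
  have hN : PicF.IsInvertible (CohB1.tensorPow (L 0) m) := isInvertible_tensorPow (hLinv 0) m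
  have hN' : PicF.IsInvertible (CohB1.tensorPow (M 0) m) := isInvertible_tensorPow (hMinv 0) m
  have hO : PicF.IsInvertible (unitMod X) := isInvertible_unit X
  have hOc : Coh.IsCoh (unitMod X) := isCoh_of_isInvertible hO
  have hON : PicF.IsInvertible (CohB1.tensorMod (unitMod X) (CohB1.tensorPow (L 0) m)) :=
    isInvertible_tensorMod hO hN
  have hONc := isCoh_of_isInvertible hON
  haveI := qc_of_isInvertible _ hN
  haveI := qc_of_isInvertible _ hN'
  haveI := qc_of_isInvertible _ (hLinv 0)
  haveI := qc_of_isInvertible _ (hMinv 0)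
  -- the multiplication map is a monomorphism
  have hτ : twistBy (unitMod X) σ ≠ 0 := by
    intro h0
    have hW : CohB1.genLocus _ σ ≤ CohB1.genLocus _ σ := le_rfl
    have h1 := eq_zero_of_twistBy_eq_zero (unitMod X) σ (CohB1.genLocus _ σ) hW
      (show Γ(unitMod X, CohB1.genLocus _ σ) from (1 : Γ(X, CohB1.genLocus _ σ)))
      (by rw [h0]; rfl)
    haveI : Nonempty (CohB1.genLocus (CohB1.tensorPow (L 0) m) σ) := ⟨⟨η, hησ⟩⟩
    haveI : IsDomain Γ(X, CohB1.genLocus (CohB1.tensorPow (L 0) m) σ) :=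
      IsIntegral.component_integral _
    have h2 : (1 : Γ(X, CohB1.genLocus (CohB1.tensorPow (L 0) m) σ)) = 0 := h1
    exact one_ne_zero h2
  haveI : Mono (twistBy (unitMod X) σ) := Curve.mono_of_ne_zero hO hON _ hτ
  have hS := shortExact_coker (twistBy (unitMod X) σ)
  have hQc : Coh.IsCoh (cokernel (twistBy (unitMod X) σ)) := isCoh_cokernel _ hOc hONc
  -- the support of the cokernel
  have hsub := support_cokernel_twistBy_subset (unitMod X) hOc.2 hN σ
  have hQclosed : IsClosed (CohB1.support (cokernel (twistBy (unitMod X) σ))) :=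
    isClosed_support_of_isCoh hQc
  have hηQ : η ∉ CohB1.support (cokernel (twistBy (unitMod X) σ)) := fun h => (hsub h).2 hησ
  have hη'O : η' ∈ CohB1.support (unitMod X) := by
    intro hsub'
    have h0 : (unitMod X).presheaf.germ ⊤ η' trivial
        (show Γ(unitMod X, ⊤) from (1 : Γ(X, ⊤))) = 0 := Subsingleton.elim _ _
    obtain ⟨W, hW, hyW, h1⟩ := exists_res_eq_zero_of_germ_eq_zero (unitMod X) (V := ⊤) η'
      trivial _ h0
    haveI : Nonempty W := ⟨⟨η', hyW⟩⟩
    haveI : IsDomain Γ(X, W) := IsIntegral.component_integral W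
    have h2 : (X.presheaf.map (homOfLE hW).op) (1 : Γ(X, ⊤)) = 0 := h1
    rw [map_one] at h2
    exact one_ne_zero h2
  have hη'Q : η' ∈ CohB1.support (cokernel (twistBy (unitMod X) σ)) :=
    mem_support_cokernel_twistBy (unitMod X) hOc.2 hN σ η' hη'O hη'σ
  have hdimQ : topologicalKrullDim (CohB1.support (cokernel (twistBy (unitMod X) σ))) =
      (r : WithBot ℕ∞) := by
    rw [topologicalKrullDim_eq_dimX hQclosed]
    apply le_antisymm
    · apply le_of_add_one_le_succ
      rw [← hX]
      refine dimX_add_one_le (IrreducibleSpace.isIrreducible_univ X) isClosed_univ (Set.subset_univ _) ?_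
      intro heq
      apply hηQ
      rw [heq]
      trivial
    · refine hY'dim.trans (dimX_mono ?_)
      rw [← hη'.def]
      exact hQclosed.closure_subset_iff.mpr (Set.singleton_subset_iff.mpr hη'Q)
  -- the induction hypothesis
  have hpos := (IH X d hd (Fin.tail L) (Fin.tail M) (fun i => hL i.succ) (fun i => hLM i.succ)
    _ hQc (le_of_eq hdimQ)).2 hdimQ
  -- additivity
  have hMt : ∀ i, PicF.IsInvertible (Fin.tail M i) := fun i => hMinv i.succ
  have hMtc : ∀ i, Coh.IsCoh (Fin.tail M i) := fun i => isCoh_of_isInvertible (hMt i)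
  have hadd := intNum_add k d hd (Fin.tail M) hMt _ hS hOc hONc hQc
  change FGA.intNum k X d (Fin.tail M) (CohB1.tensorMod (unitMod X) (CohB1.tensorPow (L 0) m)) =
    FGA.intNum k X d (Fin.tail M) (unitMod X) +
      FGA.intNum k X d (Fin.tail M) (cokernel (twistBy (unitMod X) σ)) at hadd
  -- the recursion
  have h6 := intNum_cons k d r (CohB1.tensorPow (M 0) m) (isCoh_of_isInvertible hN') (Fin.tail M)
    hMtc _ hONc
  have εm : CohB1.tensorMod (CohB1.tensorPow (L 0) m) (CohB1.tensorPow (M 0) m) ≅ unitMod X :=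
    tensorPowTensor (L 0) (M 0) m ≪≫ tensorPowCongr (hLM 0).some m ≪≫ unitPowIso X m
  have e7 : CohB1.tensorMod (CohB1.tensorPow (M 0) m)
      (CohB1.tensorMod (unitMod X) (CohB1.tensorPow (L 0) m)) ≅ unitMod X :=
    tensorIso' (Iso.refl _) (unitorL' _) ≪≫ tensorCommAll _ _ ≪≫ εm
  rw [intNum_iso k d (Fin.tail M) e7] at h6
  -- twisting
  have hdimr : topologicalKrullDim X ≤ ((r + 1 : ℕ) : WithBot ℕ∞) := le_of_eq hdim
  have h7 := intNum_tensor_of_dim_le' k d hd hdimr
    (Fin.cons (CohB1.tensorPow (M 0) m) (Fin.tail M) : Fin (r + 1) → X.Modules)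
    (isInvertible_cons hN' hMt) _ hN (unitMod X) hOc
  rw [intNum_iso k d _ (tensorCommAll (CohB1.tensorPow (L 0) m) (unitMod X))] at h7
  -- multilinearity
  have hsuppO : topologicalKrullDim (CohB1.support (unitMod X)) ≤ ((r + 1 : ℕ) : WithBot ℕ∞) :=
    (Topology.IsEmbedding.subtypeVal.isInducing.topologicalKrullDim_le).trans hdimr
  have h8 := intNum_cons_tensorPow k d hd (Fin.tail M) hMt (M 0) (hMinv 0) (unitMod X) hOc hsuppO m
  rw [Fin.cons_self_tail] at h8
  have hfinal : (m : ℤ) * FGA.intNum k X d M (unitMod X) =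
      FGA.intNum k X d (Fin.tail M) (cokernel (twistBy (unitMod X) σ)) := by
    rw [← h8, ← h7, h6, hadd]
    ring
  have hm' : (0 : ℤ) < (m : ℤ) := by exact_mod_cast hm
  have : 0 < (m : ℤ) * FGA.intNum k X d M (unitMod X) := by rw [hfinal]; exact hpos
  exact (mul_pos_iff_of_pos_left hm').mp this

end Groth.Agent.H5.IntN
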