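import Mathlib
import Groth.Agent.Lib.Helper5.IntN.PosStep
import Groth.Agent.Lib.Helper5.AlgSp.RedInduced
import Groth.Agent.Lib.Helper1.ClosedDim
import Groth.Agent.Lib.Lead.PN.AmpleDev

/-!
# Positivity of intersection numbers of ample modules (S3233).
-/

set_option autoImplicit false
universe u
open CategoryTheory CategoryTheory.Limits AlgebraicGeometry TopologicalSpace Opposite

namespace Groth.Agent.H5.IntN

open Groth.Agent.LD Groth.Agent.LD.QC Groth.Agent.H5.Curve4 Groth.Agent.H5.DegC Groth.Agent.H5.Snap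
open Groth.Agent.H5.Deg Groth.Agent.H5.HP

variable (k : Type u) [Field k]

section sub

variable {X : Scheme.{u}}

lemma coe_support_vI (ξ : X) : ((vI ξ).support : Set X) = closure ({ξ} : Set X) := by
  unfold vI
  rw [Scheme.IdealSheafData.coe_support_vanishingIdeal]
  rfl

lemma irreducibleSpace_vI (ξ : X) : IrreducibleSpace (vI ξ).subscheme := by
  have h : IsIrreducible ((vI ξ).support : Set X) := by
    rw [coe_support_vI]
    exact isIrreducible_singleton.closure
  exact Subtype.irreducibleSpace h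

lemma isIntegral_vI (ξ : X) : IsIntegral (vI ξ).subscheme := by
  haveI := irreducibleSpace_vI ξ
  haveI : IsReduced (vI ξ).subscheme :=
    Groth.Agent.H5.AlgSp.isReduced_subscheme_vanishingIdeal _
  exact isIntegral_of_irreducibleSpace_of_isReduced _

lemma dim_vI (ξ : X) :
    topologicalKrullDim (vI ξ).subscheme = topologicalKrullDim (closure ({ξ} : Set X)) := by
  have h1 := IsHomeomorph.topologicalKrullDim_eq _
    ((vI ξ).subschemeι.isClosedEmbedding.isEmbedding.toHomeomorph).isHomeomorph
  rw [h1, Scheme.IdealSheafData.range_subschemeι, coe_support_vI]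

end sub

theorem posProp_of_intProp (r : ℕ) (h : IntProp k r) : PosProp k r := by
  intro X _ _ d hd L M hL hLM F hF hr
  classical
  haveI : IsNoetherian X := Curve2.isNoetherian_of_proper k X
  have hLinv : ∀ i, PicF.IsInvertible (L i) := fun i => (hL i).1
  have hMinv : ∀ i, PicF.IsInvertible (M i) := fun i =>
    QC.isInvertible_of_tensor_iso (hLinv i) (hLM i).some
  obtain ⟨hfin, hlen, -⟩ := good_of_isCoh k r r M hMinv F hF hr
  have hs : ∀ ξ : X, ξ ∈ hfin.toFinset ↔
      ξ ∈ CohB1.support F ∧ topologicalKrullDim ↥(closure ({ξ} : Set X)) = r := by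
    intro ξ
    rw [Set.Finite.mem_toFinset]
    exact ⟨fun h => ⟨h.2, h.1⟩, fun h => ⟨h.2, h.1⟩⟩
  have formula := intNum_eq_sum_components k d hd M hMinv F hF hr hfin.toFinset hs
  have hterm : ∀ ξ ∈ hfin.toFinset, 0 < FGA.intNum k X d M (ClSub.quotMod (vI ξ)) := by
    intro ξ hξ
    rw [intNum_quotMod_eq k d hd M hMinv]
    letI : (vI ξ).subscheme.Over (Spec (CommRingCat.of k)) := overOf k (vI ξ).subschemeι
    haveI : IsProper ((vI ξ).subscheme ↘ Spec (CommRingCat.of k)) := by
      change IsProper ((vI ξ).subschemeι ≫ (X ↘ Spec (CommRingCat.of k)))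
      infer_instance
    haveI := isIntegral_vI ξ
    have hdZ : topologicalKrullDim (vI ξ).subscheme ≤ d :=
      ((vI ξ).subschemeι.isClosedEmbedding.isEmbedding.isInducing.topologicalKrullDim_le).trans hd
    have hdimZ : topologicalKrullDim (vI ξ).subscheme = r := by
      rw [dim_vI]
      exact ((hs ξ).mp hξ).2
    refine h (vI ξ).subscheme d hdZ hdimZ
      (fun j => (Scheme.Modules.pullback (vI ξ).subschemeι).obj (L j))
      (fun j => (Scheme.Modules.pullback (vI ξ).subschemeι).obj (M j))
      (fun j => PN.AmD.isAmple_pullback_of_isAffineHom (vI ξ).subschemeι (L j) (hL j))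
      (fun j => ⟨(pbTensorIso (vI ξ).subschemeι _ _ (hLinv j) (hMinv j)).symm ≪≫
        (Scheme.Modules.pullback (vI ξ).subschemeι).mapIso (hLM j).some ≪≫
        pbUnitIso (vI ξ).subschemeι⟩)
  have hnn : ∀ ξ ∈ hfin.toFinset,
      0 ≤ ((Module.length (X.presheaf.stalk ξ) (F.presheaf.stalk ξ)).toNat : ℤ) *
        FGA.intNum k X d M (ClSub.quotMod (vI ξ)) := fun ξ hξ =>
    mul_nonneg (by positivity) (hterm ξ hξ).le
  refine ⟨?_, fun hdim => ?_⟩
  · rw [formula]
    exact Finset.sum_nonneg hnn
  · rw [formula]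
    -- a point of the support of dimension `r`
    have hex : ∃ ξ : X, ξ ∈ hfin.toFinset := by
      by_contra hcon
      push Not at hcon
      have hclosed : IsClosed (CohB1.support F) := isClosed_support_of_isCoh hF
      have h1 := Groth.Agent.H1.ClosedDim.dim_le_iSup_closure (CohB1.support F) hclosed
      have h2 : ∀ x : CohB1.support F,
          topologicalKrullDim ↥(closure ({x.1} : Set X)) < (r : WithBot ℕ∞) := by
        intro x
        have hle : topologicalKrullDim ↥(closure ({x.1} : Set X)) ≤ (r : WithBot ℕ∞) := by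
          rw [← hdim]
          exact dim_mono (hclosed.closure_subset_iff.mpr (Set.singleton_subset_iff.mpr x.2))
        refine lt_of_le_of_ne hle (fun heq => ?_)
        exact hcon x.1 ((hs x.1).mpr ⟨x.2, heq⟩)
      have h3 := Groth.Agent.H1.ClosedDim.iSup_lt_nat _ r h2
      rw [hdim] at h1
      exact absurd (lt_of_le_of_lt h1 h3) (lt_irrefl _)
    obtain ⟨ξ, hξ⟩ := hex
    apply Finset.sum_pos' hnn
    refine ⟨ξ, hξ, mul_pos ?_ (hterm ξ hξ)⟩
    have hξ' := (hs ξ).mp hξ
    have hne0 : Module.length (X.presheaf.stalk ξ) (F.presheaf.stalk ξ) ≠ 0 := by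
      intro h0
      rw [Module.length_eq_zero_iff] at h0
      exact hξ'.1 h0
    have hnt := hlen ξ hξ'.2
    have : (Module.length (X.presheaf.stalk ξ) (F.presheaf.stalk ξ)).toNat ≠ 0 := by
      intro h0
      rcases (ENat.toNat_eq_zero).mp h0 with h | h
      · exact hne0 h
      · exact hnt h
    exact_mod_cast Nat.pos_of_ne_zero this

theorem posProp : ∀ r : ℕ, PosProp k r
  | 0 => posProp_of_intProp k 0 (intProp_zero k)
  | r + 1 => posProp_of_intProp k (r + 1) (intProp_succ k r (posProp r))

/-- **S3233**: positivity of intersection numbers of ample invertible modules. -/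
theorem intNum_pos_of_isAmple (X : Scheme.{u}) [X.Over (Spec (CommRingCat.of k))]
    [IsProper (X ↘ Spec (CommRingCat.of k))] (d : ℕ) (hd : topologicalKrullDim X ≤ d) {r : ℕ}
    (L M : Fin r → X.Modules) (hL : ∀ i, CohB1.IsAmple (L i))
    (hLM : ∀ i, Nonempty (CohB1.tensorMod (L i) (M i) ≅ Coh.structureModule X))
    (F : X.Modules) (hF : Coh.IsCoh F) (hr : topologicalKrullDim (CohB1.support F) = r) :
    0 < FGA.intNum k X d M F :=
  (posProp k r X d hd L M hL hLM F hF (le_of_eq hr)).2 hr

/-- nonnegativity. -/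
theorem intNum_nonneg_of_isAmple (X : Scheme.{u}) [X.Over (Spec (CommRingCat.of k))]
    [IsProper (X ↘ Spec (CommRingCat.of k))] (d : ℕ) (hd : topologicalKrullDim X ≤ d) {r : ℕ}
    (L M : Fin r → X.Modules) (hL : ∀ i, CohB1.IsAmple (L i))
    (hLM : ∀ i, Nonempty (CohB1.tensorMod (L i) (M i) ≅ Coh.structureModule X))
    (F : X.Modules) (hF : Coh.IsCoh F) (hr : topologicalKrullDim (CohB1.support F) ≤ r) :
    0 ≤ FGA.intNum k X d M F :=
  (posProp k r X d hd L M hL hLM F hF hr).1

end Groth.Agent.H5.IntN
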