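import Mathlib
import Groth.Agent.Lib.Helper5.IntN.PosMain
import Groth.Agent.Lib.Helper5.Curve2.F

/-!
# Intersecting with the divisor of a section.
-/

set_option autoImplicit false
universe u
open CategoryTheory CategoryTheory.Limits AlgebraicGeometry TopologicalSpace Opposite

namespace Groth.Agent.H5.IntN

open Groth.Agent.LD Groth.Agent.LD.QC Groth.Agent.H5.Curve4 Groth.Agent.H5.DegC Groth.Agent.H5.Snap
open Groth.Agent.H5.Deg Groth.Agent.H5.HP

variable (k : Type u) [Field k] {X : Scheme.{u}} [X.Over (Spec (CommRingCat.of k))]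
  [IsProper (X ↘ Spec (CommRingCat.of k))]

omit [X.Over (Spec (CommRingCat.of k))] [IsProper (X ↘ Spec (CommRingCat.of k))] in
lemma mem_support_unitMod [IsIntegral X] (x : X) : x ∈ CohB1.support (unitMod X) := by
  intro hsub'
  have h0 : (unitMod X).presheaf.germ ⊤ x trivial
      (show Γ(unitMod X, ⊤) from (1 : Γ(X, ⊤))) = 0 := Subsingleton.elim _ _
  obtain ⟨W, hW, hyW, h1⟩ := exists_res_eq_zero_of_germ_eq_zero (unitMod X) (V := ⊤) x
    trivial _ h0
  haveI : Nonempty W := ⟨⟨x, hyW⟩⟩
  haveI : IsDomain Γ(X, W) := IsIntegral.component_integral W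
  have h2 : (X.presheaf.map (homOfLE hW).op) (1 : Γ(X, ⊤)) = 0 := h1
  rw [map_one] at h2
  exact one_ne_zero h2

/-- the divisor of a nonzero section `σ` of `A^m` on an integral scheme: the cokernel `Q` of
multiplication by `σ` is coherent with support the zero locus of `σ`, and
`m (A · M_1 ⋯ M_r; O) = (M_1 ⋯ M_r; Q)`. -/
theorem intNum_cons_eq_cokernel [IsIntegral X] (d : ℕ) (hd : topologicalKrullDim X ≤ d) {r : ℕ}
    (hdimr : topologicalKrullDim X ≤ ((r + 1 : ℕ) : WithBot ℕ∞))
    (M' : Fin r → X.Modules) (hM' : ∀ i, PicF.IsInvertible (M' i)) (A A' : X.Modules)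
    (hA : PicF.IsInvertible A) (e : Nonempty (CohB1.tensorMod A A' ≅ Coh.structureModule X))
    (m : ℕ) (σ : unitMod X ⟶ CohB1.tensorPow A m) (hσ : σ ≠ 0) :
    Coh.IsCoh (cokernel (twistBy (unitMod X) σ)) ∧
      CohB1.support (cokernel (twistBy (unitMod X) σ)) =
        ((CohB1.genLocus _ σ : Set X))ᶜ ∧
      (m : ℤ) * FGA.intNum k X d (Fin.cons A' M' : Fin (r + 1) → X.Modules) (unitMod X) =
        FGA.intNum k X d M' (cokernel (twistBy (unitMod X) σ)) := by
  haveI : IsNoetherian X := Curve2.isNoetherian_of_proper k X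
  have hA' : PicF.IsInvertible A' := QC.isInvertible_of_tensor_iso hA e.some
  have hN : PicF.IsInvertible (CohB1.tensorPow A m) := isInvertible_tensorPow hA m
  have hN' : PicF.IsInvertible (CohB1.tensorPow A' m) := isInvertible_tensorPow hA' m
  have hO : PicF.IsInvertible (unitMod X) := isInvertible_unit X
  have hOc : Coh.IsCoh (unitMod X) := isCoh_of_isInvertible hO
  have hON : PicF.IsInvertible (CohB1.tensorMod (unitMod X) (CohB1.tensorPow A m)) :=
    isInvertible_tensorMod hO hN
  have hONc := isCoh_of_isInvertible hON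
  haveI := qc_of_isInvertible _ hN
  haveI := qc_of_isInvertible _ hN'
  haveI := qc_of_isInvertible _ hA
  haveI := qc_of_isInvertible _ hA'
  have hησ : genericPoint X ∈ CohB1.genLocus _ σ := Curve2.genericPoint_mem_genLocus hN σ hσ
  -- the multiplication map is a monomorphism
  have hτ : twistBy (unitMod X) σ ≠ 0 := by
    intro h0
    have hW : CohB1.genLocus _ σ ≤ CohB1.genLocus _ σ := le_rfl
    have h1 := eq_zero_of_twistBy_eq_zero (unitMod X) σ (CohB1.genLocus _ σ) hW
      (show Γ(unitMod X, CohB1.genLocus _ σ) from (1 : Γ(X, CohB1.genLocus _ σ)))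
      (by rw [h0]; rfl)
    haveI : Nonempty (CohB1.genLocus (CohB1.tensorPow A m) σ) := ⟨⟨genericPoint X, hησ⟩⟩
    haveI : IsDomain Γ(X, CohB1.genLocus (CohB1.tensorPow A m) σ) :=
      IsIntegral.component_integral _
    have h2 : (1 : Γ(X, CohB1.genLocus (CohB1.tensorPow A m) σ)) = 0 := h1
    exact one_ne_zero h2
  haveI : Mono (twistBy (unitMod X) σ) := Curve.mono_of_ne_zero hO hON _ hτ
  have hS := shortExact_coker (twistBy (unitMod X) σ)
  have hQc : Coh.IsCoh (cokernel (twistBy (unitMod X) σ)) := isCoh_cokernel _ hOc hONc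
  refine ⟨hQc, ?_, ?_⟩
  · apply Set.Subset.antisymm
    · intro y hy
      exact (support_cokernel_twistBy_subset (unitMod X) hOc.2 hN σ hy).2
    · intro y hy
      exact mem_support_cokernel_twistBy (unitMod X) hOc.2 hN σ y (mem_support_unitMod y) hy
  · have hM'c : ∀ i, Coh.IsCoh (M' i) := fun i => isCoh_of_isInvertible (hM' i)
    have hadd := intNum_add k d hd M' hM' _ hS hOc hONc hQc
    change FGA.intNum k X d M' (CohB1.tensorMod (unitMod X) (CohB1.tensorPow A m)) =
      FGA.intNum k X d M' (unitMod X) +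
        FGA.intNum k X d M' (cokernel (twistBy (unitMod X) σ)) at hadd
    have h6 := intNum_cons k d r (CohB1.tensorPow A' m) (isCoh_of_isInvertible hN') M' hM'c _ hONc
    have εm : CohB1.tensorMod (CohB1.tensorPow A m) (CohB1.tensorPow A' m) ≅ unitMod X :=
      tensorPowTensor A A' m ≪≫ tensorPowCongr e.some m ≪≫ unitPowIso X m
    have e7 : CohB1.tensorMod (CohB1.tensorPow A' m)
        (CohB1.tensorMod (unitMod X) (CohB1.tensorPow A m)) ≅ unitMod X :=
      tensorIso' (Iso.refl _) (unitorL' _) ≪≫ tensorCommAll _ _ ≪≫ εm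
    rw [intNum_iso k d M' e7] at h6
    have h7 := intNum_tensor_of_dim_le' k d hd hdimr
      (Fin.cons (CohB1.tensorPow A' m) M' : Fin (r + 1) → X.Modules)
      (isInvertible_cons hN' hM') _ hN (unitMod X) hOc
    rw [intNum_iso k d _ (tensorCommAll (CohB1.tensorPow A m) (unitMod X))] at h7
    have hsuppO : topologicalKrullDim (CohB1.support (unitMod X)) ≤
        ((r + 1 : ℕ) : WithBot ℕ∞) :=
      (Topology.IsEmbedding.subtypeVal.isInducing.topologicalKrullDim_le).trans hdimr
    have h8 := intNum_cons_tensorPow k d hd M' hM' A' hA' (unitMod X) hOc hsuppO m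
    rw [← h8, ← h7, h6, hadd]
    ring

end Groth.Agent.H5.IntN
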