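import Mathlib
import Groth.Agent.Lib.Helper3.ZeroLocDim
import Groth.Agent.Lib.Helper5.IntN.Section
import Groth.Agent.Lib.Helper2.ProjDim

/-!
# Krull's principal ideal theorem for zero loci of sections of invertible modules.
-/

set_option autoImplicit false
universe u
open CategoryTheory CategoryTheory.Limits AlgebraicGeometry TopologicalSpace Opposite

namespace Groth.Agent.H5.IntN

open Groth.Agent.H1.DimIneq Groth.Agent.H1.DimFormula Groth.Agent.H3.FibDimIrr
open Groth.Agent.H3.ZeroLocDim
open Groth.Agent.LD Groth.Agent.LD.QC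

variable {k : Type u} [Field k]

/-- a local hypersurface in an irreducible scheme locally of finite type over a field has a
component of codimension one through every one of its points. -/
theorem exists_hypersurface_point_local {T : Scheme.{u}} (g : T ⟶ Spec (CommRingCat.of k))
    [LocallyOfFiniteType g] [IrreducibleSpace T] (U : T.Opens) (hU : IsAffineOpen U)
    (aU : Γ(T, U)) (y : T) (hyU : y ∈ U) (hy : y ∉ T.basicOpen aU)
    (hgen : genericPoint T ∈ T.basicOpen aU) :
    ∃ w : T, w ∈ U ∧ w ∉ T.basicOpen aU ∧ w ⤳ y ∧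
      topologicalKrullDim ↥(closure ({w} : Set T)) + 1 = topologicalKrullDim T := by
  haveI : IsLocallyNoetherian T := LocallyOfFiniteType.isLocallyNoetherian g
  haveI : IsNoetherianRing Γ(T, U) := IsLocallyNoetherian.component_noetherian ⟨U, hU⟩
  have haq : aU ∈ (hU.primeIdealOf ⟨y, hyU⟩).asIdeal := by
    rw [Groth.Agent.LD.QC.mem_primeIdealOf_iff hU y hyU]
    exact hy
  obtain ⟨p, hp, hpq⟩ := Ideal.exists_minimalPrimes_le
    (I := Ideal.span {aU}) (J := (hU.primeIdealOf ⟨y, hyU⟩).asIdeal)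
    ((Ideal.span_singleton_le_iff_mem _).mpr haq)
  haveI : p.IsPrime := hp.1.1
  set P : Spec Γ(T, U) := ⟨p, inferInstance⟩ with hP
  set w : T := hU.fromSpec P with hw
  have hwU : w ∈ U := by
    rw [← SetLike.mem_coe, ← hU.range_fromSpec]; exact ⟨P, rfl⟩
  have hprime : hU.primeIdealOf ⟨w, hwU⟩ = P := primeIdealOf_fromSpec hU P hwU
  have hwa : w ∉ T.basicOpen aU := by
    have h1 : aU ∈ (hU.primeIdealOf ⟨w, hwU⟩).asIdeal := by
      rw [hprime]
      exact hp.1.2 (Ideal.subset_span (Set.mem_singleton aU))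
    rw [Groth.Agent.LD.QC.mem_primeIdealOf_iff hU w hwU] at h1
    exact h1
  have hspec : w ⤳ y := by
    have h1 : P ⤳ hU.primeIdealOf ⟨y, hyU⟩ :=
      (PrimeSpectrum.le_iff_specializes (R := Γ(T, U)) P (hU.primeIdealOf ⟨y, hyU⟩)).1 hpq
    have := h1.map hU.fromSpec.continuous
    rwa [hU.fromSpec_primeIdealOf] at this
  refine ⟨w, hwU, hwa, hspec, ?_⟩
  have hht : p.height ≤ 1 := Ideal.height_le_one_of_isPrincipal_of_mem_minimalPrimes _ p hp
  have hdim : ringKrullDim (T.presheaf.stalk w) = 1 := by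
    have h1 : ringKrullDim (T.presheaf.stalk w) = ((p.height : ℕ∞) : WithBot ℕ∞) := by
      rw [ringKrullDim_stalk_eq_height hU w hwU, hprime]
    apply le_antisymm
    · rw [h1]
      exact_mod_cast hht
    · apply one_le_of_ne_zero ringKrullDim_nonneg_of_nontrivial
      intro h0
      have := eq_of_specializes_of_stalk_dim_eq_zero w (genericPoint T) h0
        (genericPoint_specializes w)
      rw [this] at hgen
      exact hwa hgen
  obtain ⟨t, ht, h1⟩ := exists_localDim_eq_stalk_add_trdeg g w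
  obtain ⟨t', ht', h2⟩ := Groth.Agent.H1.ClosureDim.exists_trdeg_eq_dim_closure g w
  have htt : t = t' := by
    have := ht.symm.trans ht'
    exact_mod_cast this
  rw [h2, ← Groth.Agent.H1.EquiDim.localDim_eq_dim g w, h1, hdim, htt, add_comm]

/-- the zero locus of a nonzero section of an invertible module on an integral scheme locally of
finite type over a field has dimension `≥ dim X - 1` if it is nonempty. -/
theorem le_dim_zeroLocus_section {X : Scheme.{u}} (g : X ⟶ Spec (CommRingCat.of k))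
    [LocallyOfFiniteType g] [IsIntegral X] {N : X.Modules} (hN : PicF.IsInvertible N)
    (σ : unitMod X ⟶ N) (hσ : σ ≠ 0) (y : X) (hy : y ∉ CohB1.genLocus N σ) {r : ℕ}
    (hdim : topologicalKrullDim X = ((r + 1 : ℕ) : WithBot ℕ∞)) :
    (r : WithBot ℕ∞) ≤ topologicalKrullDim ↥((CohB1.genLocus N σ : Set X)ᶜ) := by
  obtain ⟨U₀, e₀, hyU₀, he₀⟩ := (isInvertible_iff_exists_isBasisOver N).mp hN y
  obtain ⟨U, hU, hyU, hUU₀'⟩ := exists_isAffineOpen_mem_and_subset (x := y) (U := U₀) hyU₀
  have hUU₀ : U ≤ U₀ := hUU₀'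
  have he := he₀.mono hUU₀
  obtain ⟨f, hf⟩ := (he U le_rfl).2 (SecTwist.val σ U)
  have hf' : SecTwist.val σ U = f • N.presheaf.map (homOfLE hUU₀).op e₀ := by
    rw [← hf]
    change f • N.presheaf.map (homOfLE (le_refl U)).op _ = _
    rw [QC.res_self]
  have hbo := genLocus_inf_eq_basicOpen σ he f hf'
  have hηg : genericPoint X ∈ CohB1.genLocus N σ :=
    Groth.Agent.H5.Curve2.genericPoint_mem_genLocus hN σ hσ
  have hηU : genericPoint X ∈ U := by
    have : (U : Set X).Nonempty := ⟨y, hyU⟩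
    exact ((genericPoint_spec X).mem_open_set_iff U.isOpen).mpr
      (by rwa [Set.univ_inter])
  have hgen : genericPoint X ∈ X.basicOpen f := by
    rw [← hbo]
    exact ⟨hηg, hηU⟩
  have hyf : y ∉ X.basicOpen f := by
    rw [← hbo]
    exact fun h => hy h.1
  obtain ⟨w, hwU, hwf, -, hw⟩ := exists_hypersurface_point_local g U hU f y hyU hyf hgen
  have hwg : w ∉ CohB1.genLocus N σ := by
    intro h
    apply hwf
    rw [← hbo]
    exact ⟨h, hwU⟩
  have hclosed : IsClosed ((CohB1.genLocus N σ : Set X)ᶜ) :=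
    (CohB1.genLocus N σ).isOpen.isClosed_compl
  have hsub : closure ({w} : Set X) ⊆ (CohB1.genLocus N σ : Set X)ᶜ :=
    hclosed.closure_subset_iff.mpr (Set.singleton_subset_iff.mpr hwg)
  have h1 : topologicalKrullDim ↥(closure ({w} : Set X)) = (r : WithBot ℕ∞) := by
    rw [hdim] at hw
    apply Groth.Agent.H2.ProjDim.withBot_enat_add_one_cancel
    rw [hw]
    push_cast
    rfl
  rw [← h1]
  exact Groth.Agent.H5.Snap.dim_mono hsub

end Groth.Agent.H5.IntN
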