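import Mathlib
import Groth.Agent.Lib.Helper5.IntN.Section
import Groth.Agent.Lib.Lead.QC.FreeHom

/-!
# Surfaces: sections and positivity against ample modules (S11752).
-/

set_option autoImplicit false
universe u
open CategoryTheory CategoryTheory.Limits AlgebraicGeometry TopologicalSpace Opposite

namespace Groth.Agent.H5.IntN

open Groth.Agent.LD Groth.Agent.LD.QC Groth.Agent.H5.Curve4 Groth.Agent.H5.DegC Groth.Agent.H5.Snap
open Groth.Agent.H5.Deg Groth.Agent.H5.HP

variable (k : Type u) [Field k] {X : Scheme.{u}} [X.Over (Spec (CommRingCat.of k))]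
  [IsProper (X ↘ Spec (CommRingCat.of k))]

omit [X.Over (Spec (CommRingCat.of k))] [IsProper (X ↘ Spec (CommRingCat.of k))] in
/-- a nonzero morphism `O ⟶ M` from a nontrivial `H⁰`. -/
lemma exists_ne_zero_of_nontrivial_HH (M : X.Modules) (h : Nontrivial (Coh.HH X M 0)) :
    ∃ σ : unitMod X ⟶ M, σ ≠ 0 := by
  obtain ⟨t, ht⟩ := exists_ne (0 : Coh.HH X M 0)
  refine ⟨homOfSection M (CL.HH0Equiv M t), fun h0 => ht ?_⟩
  have h1 := sectionOfHom_homOfSection M (CL.HH0Equiv M t)
  rw [h0] at h1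
  have h2 : CL.HH0Equiv M t = 0 := by
    rw [← h1]
    rfl
  exact (CL.HH0Equiv M).injective (h2.trans (map_zero _).symm)

omit [X.Over (Spec (CommRingCat.of k))] [IsProper (X ↘ Spec (CommRingCat.of k))] in
/-- a proper closed subset of an irreducible space of dimension `r + 1` has dimension `≤ r`. -/
lemma dim_le_of_ne_univ [IrreducibleSpace X] {r : ℕ}
    (hdim : topologicalKrullDim X = ((r + 1 : ℕ) : WithBot ℕ∞)) (Z : Set X) (hZ : IsClosed Z)
    (hne : Z ≠ Set.univ) : topologicalKrullDim Z ≤ (r : WithBot ℕ∞) := by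
  have hX : dimX (Set.univ : Set X) = ((r + 1 : ℕ) : WithBot ℕ∞) := by
    rw [← topologicalKrullDim_eq_dimX isClosed_univ, ← hdim]
    exact IsHomeomorph.topologicalKrullDim_eq _ (Homeomorph.Set.univ X).isHomeomorph
  rw [topologicalKrullDim_eq_dimX hZ]
  apply le_of_add_one_le_succ
  rw [← hX]
  exact dimX_add_one_le (IrreducibleSpace.isIrreducible_univ X) isClosed_univ
    (Set.subset_univ _) hne

/-- **S11752**. -/
theorem intNum_ample_pos_of_sections [IsIntegral X] (hdim : topologicalKrullDim X = 2)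
    (N N' : X.Modules) (hN : PicF.IsInvertible N)
    (hNN' : Nonempty (CohB1.tensorMod N N' ≅ Coh.structureModule X))
    (hpos : 0 < FGA.intNum k X 2 ![N', N'] (Coh.structureModule X))
    (hsec : ∃ n : ℕ, 0 < n ∧ Nontrivial (Coh.HH X (CohB1.tensorPow N n) 0))
    (H H' : X.Modules) (hH : CohB1.IsAmple H)
    (hHH' : Nonempty (CohB1.tensorMod H H' ≅ Coh.structureModule X)) :
    0 < FGA.intNum k X 2 ![N', H'] (Coh.structureModule X) := by
  obtain ⟨n, hn, hnt⟩ := hsec
  obtain ⟨σ, hσ⟩ := exists_ne_zero_of_nontrivial_HH (CohB1.tensorPow N n) hnt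
  have hd : topologicalKrullDim X ≤ ((2 : ℕ) : WithBot ℕ∞) := le_of_eq hdim
  have hdimr : topologicalKrullDim X ≤ ((1 + 1 : ℕ) : WithBot ℕ∞) := le_of_eq hdim
  have hN' : PicF.IsInvertible N' := QC.isInvertible_of_tensor_iso hN hNN'.some
  have hH' : PicF.IsInvertible H' := QC.isInvertible_of_tensor_iso hH.1 hHH'.some
  obtain ⟨hQc, hsupp, h1⟩ := intNum_cons_eq_cokernel k 2 hd hdimr ![N']
    (fun i => by rw [Subsingleton.elim i 0]; exact hN') N N' hN hNN' n σ hσ
  obtain ⟨-, -, h2⟩ := intNum_cons_eq_cokernel k 2 hd hdimr ![H']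
    (fun i => by rw [Subsingleton.elim i 0]; exact hH') N N' hN hNN' n σ hσ
  have hn' : (0 : ℤ) < (n : ℤ) := by exact_mod_cast hn
  -- the dimension of the support of the cokernel
  have hησ : genericPoint X ∈ CohB1.genLocus _ σ :=
    Curve2.genericPoint_mem_genLocus (isInvertible_tensorPow hN n) σ hσ
  have hle : topologicalKrullDim (CohB1.support (cokernel (twistBy (unitMod X) σ))) ≤
      ((1 : ℕ) : WithBot ℕ∞) := by
    apply dim_le_of_ne_univ (r := 1) hdim _ (isClosed_support_of_isCoh hQc)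
    intro heq
    have : genericPoint X ∈ CohB1.support (cokernel (twistBy (unitMod X) σ)) := by
      rw [heq]; trivial
    rw [hsupp] at this
    exact this hησ
  rcases lt_or_eq_of_le hle with hlt | heq
  · exfalso
    have h0 := intNum_eq_zero k 2 hd ![N'] (fun i => by rw [Subsingleton.elim i 0]; exact hN')
      _ hQc hlt
    rw [h0] at h1
    have hpos' : 0 < (n : ℤ) * FGA.intNum k X 2 ![N', N'] (Coh.structureModule X) :=
      mul_pos hn' hpos
    change 0 < (n : ℤ) * FGA.intNum k X 2 (Fin.cons N' ![N'] : Fin (1 + 1) → X.Modules)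
      (unitMod X) at hpos'
    rw [h1] at hpos'
    exact lt_irrefl _ hpos'
  · have hp := intNum_pos_of_isAmple k X 2 hd ![H] ![H']
      (fun i => by rw [Subsingleton.elim i 0]; exact hH)
      (fun i => by rw [Subsingleton.elim i 0]; exact hHH') _ hQc heq
    rw [← h2] at hp
    exact (mul_pos_iff_of_pos_left hn').mp hp

end Groth.Agent.H5.IntN
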