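import Mathlib
import Groth.Agent.Lib.Helper5.IntN.Krull
import Groth.Agent.Lib.Helper5.IntN.Surf1
import Groth.Agent.Lib.Helper5.VAmple.J
import Groth.Agent.Lib.Helper5.Glue.F
import Groth.Agent.Lib.Helper5.Curve3.SmInt

/-!
# `(L · H) > 0` for `h⁰(L) > 1` on a projective surface (S19352).
-/

set_option autoImplicit false
universe u
open CategoryTheory CategoryTheory.Limits AlgebraicGeometry TopologicalSpace Opposite

namespace Groth.Agent.H5.IntN

open Groth.Agent.LD Groth.Agent.LD.QC Groth.Agent.H5.Curve4 Groth.Agent.H5.DegC Groth.Agent.H5.Snap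
open Groth.Agent.H5.Deg Groth.Agent.H5.HP Groth.Agent.LD.PN Groth.Agent.LD.TW Twist

section signs

variable (k : Type u) [Field k] {X : Scheme.{u}} [X.Over (Spec (CommRingCat.of k))]
  [IsProper (X ↘ Spec (CommRingCat.of k))]

/-- the intersection symbol only depends on the isomorphism class of the first entry. -/
lemma intNum_cons_congr (d : ℕ) {r : ℕ} (M : Fin r → X.Modules) (hM : ∀ i, Coh.IsCoh (M i))
    {A B : X.Modules} (hA : Coh.IsCoh A) (hB : Coh.IsCoh B) (e : A ≅ B) (F : X.Modules)
    (hF : Coh.IsCoh F) :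
    FGA.intNum k X d (Fin.cons A M : Fin (r + 1) → X.Modules) F =
      FGA.intNum k X d (Fin.cons B M : Fin (r + 1) → X.Modules) F := by
  rw [intNum_cons k d r A hA M hM F hF, intNum_cons k d r B hB M hM F hF,
    intNum_iso k d M (tensorIso' e (Iso.refl F))]

/-- replacing the first entry by its inverse changes the sign. -/
lemma intNum_cons_inv (d : ℕ) (hd : topologicalKrullDim X ≤ d) {r : ℕ} (M : Fin r → X.Modules)
    (hM : ∀ i, PicF.IsInvertible (M i)) (A A' : X.Modules) (hA : PicF.IsInvertible A)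
    (e : Nonempty (CohB1.tensorMod A A' ≅ Coh.structureModule X)) (F : X.Modules)
    (hF : Coh.IsCoh F) (hr : topologicalKrullDim (CohB1.support F) ≤ (r + 1 : ℕ)) :
    FGA.intNum k X d (Fin.cons A' M : Fin (r + 1) → X.Modules) F =
      -FGA.intNum k X d (Fin.cons A M : Fin (r + 1) → X.Modules) F := by
  have hA' : PicF.IsInvertible A' := QC.isInvertible_of_tensor_iso hA e.some
  have hMc : ∀ i, Coh.IsCoh (M i) := fun i => isCoh_of_isInvertible (hM i)
  have hOc : Coh.IsCoh (unitMod X) := isCoh_of_isInvertible (isInvertible_unit X)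
  have h1 := intNum_cons_tensor k d hd M hM A A' hA hA' F hF hr
  rw [intNum_cons_congr k d M hMc (isCoh_of_isInvertible (isInvertible_tensorMod hA hA')) hOc
    e.some F hF, intNum_cons k d r (unitMod X) hOc M hMc F hF,
    intNum_iso k d M (unitorL' F)] at h1
  linarith

/-- symmetry of the two-fold intersection symbol. -/
lemma intNum_pair_comm (d : ℕ) (A B : X.Modules) (hA : Coh.IsCoh A) (hB : Coh.IsCoh B)
    (F : X.Modules) (hF : Coh.IsCoh F) :
    FGA.intNum k X d ![A, B] F = FGA.intNum k X d ![B, A] F := by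
  have hAF := isCoh_tensorMod' hA hF
  have hBF := isCoh_tensorMod' hB hF
  haveI := hA.1
  haveI := hB.1
  haveI := hF.1
  have e1 : (![A, B] : Fin 2 → X.Modules) = Fin.cons A (Fin.cons B (fun i => Fin.elim0 i)) := by
    funext i
    fin_cases i <;> rfl
  have e2 : (![B, A] : Fin 2 → X.Modules) = Fin.cons B (Fin.cons A (fun i => Fin.elim0 i)) := by
    funext i
    fin_cases i <;> rfl
  have hE : ∀ i, Coh.IsCoh ((fun i => Fin.elim0 i : Fin 0 → X.Modules) i) := fun i => Fin.elim0 i
  rw [e1, e2, intNum_cons k d 1 A hA _ (isCoh_cons hB hE) F hF,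
    intNum_cons k d 1 B hB _ (isCoh_cons hA hE) F hF,
    intNum_cons k d 0 B hB _ hE F hF, intNum_cons k d 0 A hA _ hE F hF,
    intNum_cons k d 0 B hB _ hE _ hAF, intNum_cons k d 0 A hA _ hE _ hBF,
    intNum_iso k d _ ((tensorAssoc B A F).symm ≪≫ swapIso B A F)]
  ring

end signs

/-- **S19352**. -/
theorem intNum_hyperplane_pos (k : Type u) [Field k] [IsAlgClosed k]
    (X : Scheme.{u}) [X.Over (Spec (CommRingCat.of k))] [IsIntegral X]
    (hdim : topologicalKrullDim X = 2)
    (n : ℕ) (ι : X ⟶ CohB1.ProjSpace n k) [IsClosedImmersion ι]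
    (hι : ι ≫ CohB1.ProjSpace.toSpec n k = X ↘ Spec (CommRingCat.of k))
    (L : X.Modules) (hL : PicF.IsInvertible L)
    (hsec : 1 < Module.finrank k (Coh.HH X L 0)) :
    0 < FGA.intNum k X 2 ![L, (Scheme.Modules.pullback ι).obj (Twist.twistProjSpace n k 1)]
      (Coh.structureModule X) := by
  haveI : IsProper (X ↘ Spec (CommRingCat.of k)) := by
    rw [← hι]
    haveI := Groth.Agent.H5.AG.isProper_toSpec n k
    infer_instance
  have hd : topologicalKrullDim X ≤ ((2 : ℕ) : WithBot ℕ∞) := le_of_eq hdim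
  have hdimr : topologicalKrullDim X ≤ ((1 + 1 : ℕ) : WithBot ℕ∞) := le_of_eq hdim
  set H : X.Modules := (Scheme.Modules.pullback ι).obj (Twist.twistProjSpace n k 1) with hHdef
  set H' : X.Modules := (Scheme.Modules.pullback ι).obj (Twist.twistProjSpace n k (-1))
    with hH'def
  have hH : CohB1.IsAmple H :=
    PN.AmD.isAmple_pullback_of_isAffineHom ι _ (Groth.Agent.H5.VAmple.isAmple_O1 n k)
  have hHH' : Nonempty (CohB1.tensorMod H H' ≅ Coh.structureModule X) :=
    ⟨pbTwistTensorIso ι 1 (-1) 0 (by ring) ≪≫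
      (Scheme.Modules.pullback ι).mapIso (twistZeroIso (CohB1.polyGrading n k)) ≪≫ pbUnitIso ι⟩
  have hH' : PicF.IsInvertible H' := isInvertible_pbTwist ι (-1)
  obtain ⟨L', hL', hLL'⟩ := Groth.Agent.H5.Glue.exists_inverse L hL
  have hOc : Coh.IsCoh (unitMod X) := isCoh_of_isInvertible (isInvertible_unit X)
  have hLc := isCoh_of_isInvertible hL
  have hL'c := isCoh_of_isInvertible hL'
  have hHc := isCoh_of_isInvertible hH.1
  have hH'c := isCoh_of_isInvertible hH'
  have hsuppO : topologicalKrullDim (CohB1.support (unitMod X)) ≤ ((1 + 1 : ℕ) : WithBot ℕ∞) :=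
    (Topology.IsEmbedding.subtypeVal.isInducing.topologicalKrullDim_le).trans hdimr
  have h1inv : ∀ A : X.Modules, PicF.IsInvertible A → ∀ i, PicF.IsInvertible ((![A] : Fin 1 → X.Modules) i) :=
    fun A hA i => by rw [Subsingleton.elim i 0]; exact hA
  -- signs
  have hsign : FGA.intNum k X 2 ![L, H] (unitMod X) = FGA.intNum k X 2 ![L', H'] (unitMod X) := by
    have s1 := intNum_cons_inv k 2 hd ![H] (h1inv H hH.1) L L' hL hLL' (unitMod X) hOc hsuppO
    have s2 := intNum_cons_inv k 2 hd ![L'] (h1inv L' hL') H H' hH.1 hHH' (unitMod X) hOc hsuppO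
    change FGA.intNum k X 2 ![L', H] (unitMod X) = -FGA.intNum k X 2 ![L, H] (unitMod X) at s1
    change FGA.intNum k X 2 ![H', L'] (unitMod X) = -FGA.intNum k X 2 ![H, L'] (unitMod X) at s2
    rw [intNum_pair_comm k 2 H' L' hH'c hL'c _ hOc, intNum_pair_comm k 2 H L' hHc hL'c _ hOc] at s2
    linarith
  change 0 < FGA.intNum k X 2 ![L, H] (unitMod X)
  rw [hsign]
  -- a nonzero section
  have hnt : Nontrivial (Coh.HH X (CohB1.tensorPow L 1) 0) := by
    haveI : Nontrivial (Coh.HH X L 0) := by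
      haveI := Curve.finite_HH k X L hLc 0
      exact Module.nontrivial_of_finrank_pos (R := k) (by omega)
    exact (CL.HHisoEquiv k (unitorL' L).symm 0).toEquiv.symm.nontrivial
  obtain ⟨σ, hσ⟩ := exists_ne_zero_of_nontrivial_HH (CohB1.tensorPow L 1) hnt
  have hN1 : PicF.IsInvertible (CohB1.tensorPow L 1) := isInvertible_tensorPow hL 1
  have hex : ∃ y : X, y ∉ CohB1.genLocus _ σ := by
    by_contra hcon
    push Not at hcon
    have htop : (⊤ : X.Opens) ≤ CohB1.genLocus _ σ := fun y _ => hcon y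
    rw [le_genLocus_iff] at htop
    haveI : IsIso σ := by
      rw [Scheme.Modules.Hom.isIso_iff_isIso_app]
      intro W
      rw [ConcreteCategory.isIso_iff_bijective]
      exact htop W le_top
    have e : L ≅ unitMod X := (unitorL' L).symm ≪≫ (asIso σ).symm
    have h1 := (CL.HHisoEquiv k e 0).finrank_eq
    rw [Groth.Agent.H5.Curve3.finrank_HH0_eq_one_of_isAlgClosed k X] at h1
    omega
  obtain ⟨y, hy⟩ := hex
  obtain ⟨hQc, hsupp, h2⟩ := intNum_cons_eq_cokernel k 2 hd hdimr ![H'] (h1inv H' hH') L L' hL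
    hLL' 1 σ hσ
  have hησ : genericPoint X ∈ CohB1.genLocus _ σ :=
    Curve2.genericPoint_mem_genLocus hN1 σ hσ
  have hdimQ : topologicalKrullDim (CohB1.support (cokernel (twistBy (unitMod X) σ))) =
      ((1 : ℕ) : WithBot ℕ∞) := by
    apply le_antisymm
    · apply dim_le_of_ne_univ (r := 1) hdim _ (isClosed_support_of_isCoh hQc)
      intro heq
      have : genericPoint X ∈ CohB1.support (cokernel (twistBy (unitMod X) σ)) := by
        rw [heq]; trivial
      rw [hsupp] at this
      exact this hησ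
    · rw [hsupp]
      exact le_dim_zeroLocus_section (X ↘ Spec (CommRingCat.of k)) hN1 σ hσ y hy (r := 1) hdim
  have hp := intNum_pos_of_isAmple k X 2 hd ![H] ![H']
    (fun i => by rw [Subsingleton.elim i 0]; exact hH)
    (fun i => by rw [Subsingleton.elim i 0]; exact hHH') _ hQc hdimQ
  rw [← h2] at hp
  simpa using hp

end Groth.Agent.H5.IntN
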