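import Mathlib
import Groth.Agent.Lib.Helper5.IntN.ARRArith
import Groth.Agent.Lib.Helper5.IntN.Surf2
import Groth.Agent.Lib.Helper5.IntN.Veronese
import Groth.Agent.Lib.Helper5.IntN.PosMain
import Groth.Agent.Lib.Helper5.Snap.IntNumZ
import Groth.Agent.Lib.Lead.PN.AmpleSerreRel
import Groth.Agent.Lib.Lead.Curve.Euler
import Groth.Agent.Lib.Lead.FBC.EulerBC
import Groth.Agent.Lib.Lead.QC.TensorPow

/-!
# Asymptotic Riemann–Roch (S7649).
-/

set_option autoImplicit false
universe u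
open CategoryTheory CategoryTheory.Limits AlgebraicGeometry TopologicalSpace Opposite

namespace Groth.Agent.H5.IntN

open Groth.Agent.LD Groth.Agent.LD.QC Groth.Agent.H5.Curve4 Groth.Agent.H5.DegC Groth.Agent.H5.Snap
open Groth.Agent.LD.PN Groth.Agent.LD.TW Twist
open scoped fwdDiff

/-- every point lies in the support of the structure sheaf. -/
lemma mem_support_unitMod' {X : Scheme.{u}} (x : X) : x ∈ CohB1.support (unitMod X) := by
  intro hsub'
  have h0 : (unitMod X).presheaf.germ ⊤ x trivial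
      (show Γ(unitMod X, ⊤) from (1 : Γ(X, ⊤))) = 0 := Subsingleton.elim _ _
  obtain ⟨W, hW, hyW, h1⟩ := exists_res_eq_zero_of_germ_eq_zero (unitMod X) (V := ⊤) x
    trivial _ h0
  have h2 : (X.presheaf.map (homOfLE hW).op) (1 : Γ(X, ⊤)) = 0 := h1
  rw [map_one] at h2
  have h3 : (X.presheaf.germ W x hyW) (1 : Γ(X, W)) = (X.presheaf.germ W x hyW) 0 := by rw [h2]
  rw [map_one, map_zero] at h3
  exact one_ne_zero h3

/-- `O ⊗ L^{n_1} ⊗ ⋯ ⊗ L^{n_d} ≅ L^{n_1 + ⋯ + n_d}`. -/
lemma nonempty_tensorPows_const_iso {X : Scheme.{u}} (L : X.Modules) [L.IsQuasicoherent] :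
    ∀ (d : ℕ) (n : Fin d → ℕ),
      Nonempty (Curv2.tensorPows (Coh.structureModule X) d (fun _ => L) n ≅
        CohB1.tensorPow L (∑ i, n i))
  | 0, n => by
      rw [show (∑ i, n i) = 0 from by simp]
      exact ⟨Iso.refl _⟩
  | d + 1, n => by
      obtain ⟨e⟩ := nonempty_tensorPows_const_iso L d (fun i => n i.castSucc)
      rw [Fin.sum_univ_castSucc]
      change Nonempty (CohB1.tensorMod
        (Curv2.tensorPows (Coh.structureModule X) d (fun _ => L) (fun i => n i.castSucc))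
        (CohB1.tensorPow L (n (Fin.last d))) ≅ _)
      exact ⟨tensorIso' e (Iso.refl _) ≪≫ powAddIso L _ _⟩

/-- **S7649**: asymptotic Riemann–Roch. -/
theorem asymptotic_rr (k : Type u) [Field k] (X : Scheme.{u}) [X.Over (Spec (CommRingCat.of k))]
    [IsProper (X ↘ (Spec (CommRingCat.of k)))]
    (d : ℕ) (hX : topologicalKrullDim X = d) (L : X.Modules) (hL : CohB1.IsAmple L)
    (P : MvPolynomial (Fin d) ℚ)
    (hP : ∀ n : Fin d → ℕ,
      (Curv2.euler k X (Curv2.tensorPows (Coh.structureModule X) d (fun _ => L) n) : ℚ) =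
        MvPolynomial.eval (fun i => (n i : ℚ)) P) :
    0 < MvPolynomial.coeff (Finsupp.equivFunOnFinite.symm fun _ : Fin d => 1) P ∧
      ∃ C : ℚ, ∀ n : ℕ,
        |(Module.finrank k (Coh.HH X (CohB1.tensorPow L n) 0) : ℚ) -
            MvPolynomial.coeff (Finsupp.equivFunOnFinite.symm fun _ : Fin d => 1) P /
              (d.factorial : ℚ) * (n : ℚ) ^ d| ≤
          C * ((n : ℚ) + 1) ^ (d - 1) := by
  classical
  have hd : topologicalKrullDim X ≤ ((d : ℕ) : WithBot ℕ∞) := le_of_eq hX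
  have hLi : PicF.IsInvertible L := hL.1
  haveI : L.IsQuasicoherent := qc_of_isInvertible L hLi
  obtain ⟨L', hL', hLL'⟩ := Groth.Agent.H5.Glue.exists_inverse L hLi
  haveI : L'.IsQuasicoherent := qc_of_isInvertible L' hL'
  have hOc : Coh.IsCoh (unitMod X) := isCoh_of_isInvertible (isInvertible_unit X)
  have hpowi : ∀ m, PicF.IsInvertible (CohB1.tensorPow L m) :=
    fun m => isInvertible_tensorPow hLi m
  have hpowc : ∀ m, Coh.IsCoh (CohB1.tensorPow L m) := fun m => isCoh_of_isInvertible (hpowi m)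
  let f : ℕ → ℤ := fun m => FGA.eulerCharLE k X (CohB1.tensorPow L m) d
  have hfe : ∀ m, f m = Curv2.euler k X (CohB1.tensorPow L m) :=
    fun m => eulerCharLE_eq_euler k d hd _ (hpowc m)
  have hG : ∀ m, Nonempty (CohB1.tensorMod L' (CohB1.tensorPow L (m + 1)) ≅
      CohB1.tensorPow L m) := by
    intro m
    exact ⟨tensorCommAll L' (CohB1.tensorPow L (m + 1)) ≪≫
      tensorAssoc (CohB1.tensorPow L m) L L' ≪≫
      tensorIso' (Iso.refl _) hLL'.some ≪≫ SecTwist.unitorR _⟩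
  have key := intNum_const_eq_fwdDiff k d L' hL' (fun m => CohB1.tensorPow L m) hpowc hG
  have hg : ∀ j, (fwdDiff (1 : ℕ))^[j] f 0 =
      FGA.intNum k X d (fun _ : Fin j => L') (CohB1.tensorPow L (0 + j)) :=
    fun j => (key j 0).symm
  -- support of the structure sheaf
  have hsuppO : CohB1.support (unitMod X) = Set.univ :=
    Set.eq_univ_iff_forall.mpr (fun x => mem_support_unitMod' x)
  have hdimO : topologicalKrullDim (CohB1.support (unitMod X)) = ((d : ℕ) : WithBot ℕ∞) := by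
    rw [hsuppO, ← hX]
    exact IsHomeomorph.topologicalKrullDim_eq _ (Homeomorph.Set.univ X).isHomeomorph
  -- vanishing of the higher differences
  have hvan : ∀ j, d < j → (fwdDiff (1 : ℕ))^[j] f 0 = 0 := by
    intro j hj
    rw [hg j]
    apply intNum_eq_zero k d hd _ (fun _ => hL') _ (hpowc _)
    refine lt_of_le_of_lt
      ((Topology.IsEmbedding.subtypeVal.isInducing.topologicalKrullDim_le).trans hd) ?_
    exact_mod_cast hj
  -- positivity of the top difference
  have hpos : 0 < (fwdDiff (1 : ℕ))^[d] f 0 := by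
    rw [hg d, intNum_invertible_eq k d hd le_rfl _ (fun _ => hL') _ (hpowi _)]
    exact intNum_pos_of_isAmple k X d hd (fun _ => L) (fun _ => L') (fun _ => hL)
      (fun _ => hLL') _ hOc hdimO
  -- the top coefficient
  have hcoeff : MvPolynomial.coeff (Finsupp.equivFunOnFinite.symm fun _ : Fin d => 1) P =
      (((fwdDiff (1 : ℕ))^[d] f 0 : ℤ) : ℚ) := by
    have hdeg := support_deg_le k (unitMod X) hOc d (le_of_eq hdimO) d (fun _ => L)
      (fun _ => hLi) P hP
    rw [← mixDiffL_eval d P hdeg, ← mixDiffL_comp_sum d f]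
    congr 1
    funext n
    rw [← hP n, hfe]
    exact congrArg (Int.cast : ℤ → ℚ)
      (Groth.Agent.LD.FBC.euler_congr k (nonempty_tensorPows_const_iso L d n).some)
  obtain ⟨C₁, hC₁0, hC₁⟩ := exists_bound_of_fwdDiff_eq_zero f d hvan
  obtain ⟨n₀, hn₀⟩ := Groth.Agent.LD.PN.AmS.serre_vanishing_of_isAmple k
    (X ↘ Spec (CommRingCat.of k)) L hLi hL (unitMod X) hOc
  have hh0 : ∀ n, n₀ ≤ n →
      (Module.finrank k (Coh.HH X (CohB1.tensorPow L n) 0) : ℚ) = (f n : ℚ) := by
    intro n hn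
    have hsub : ∀ p, 0 < p → Subsingleton (Coh.HH X (CohB1.tensorPow L n) p) := fun p hp =>
      Groth.Agent.LD.PN.subsingleton_HH_of_iso (unitorL' (CohB1.tensorPow L n)) p (hn₀ n hn p hp)
    rw [hfe, Groth.Agent.LD.Curve.euler_eq_sum k X _ 0 hsub]
    simp
  refine ⟨by rw [hcoeff]; exact_mod_cast hpos, ?_⟩
  set B : ℚ := ∑ n ∈ Finset.range n₀,
    |(Module.finrank k (Coh.HH X (CohB1.tensorPow L n) 0) : ℚ) - (f n : ℚ)| with hB
  have hB0 : 0 ≤ B := Finset.sum_nonneg (fun _ _ => abs_nonneg _)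
  refine ⟨B + C₁, fun n => ?_⟩
  rw [hcoeff]
  have hpow1 : (1 : ℚ) ≤ ((n : ℚ) + 1) ^ (d - 1) :=
    one_le_pow₀ (by have : (0 : ℚ) ≤ n := Nat.cast_nonneg n; linarith)
  have hb := hC₁ n
  by_cases hn : n₀ ≤ n
  · rw [hh0 n hn]
    refine hb.trans ?_
    exact mul_le_mul_of_nonneg_right (by linarith) (by positivity)
  · have hmem : n ∈ Finset.range n₀ := Finset.mem_range.mpr (by omega)
    have h1 : |(Module.finrank k (Coh.HH X (CohB1.tensorPow L n) 0) : ℚ) - (f n : ℚ)| ≤ B :=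
      Finset.single_le_sum
        (f := fun n => |(Module.finrank k (Coh.HH X (CohB1.tensorPow L n) 0) : ℚ) - (f n : ℚ)|)
        (fun _ _ => abs_nonneg _) hmem
    have h2 := abs_sub_le (Module.finrank k (Coh.HH X (CohB1.tensorPow L n) 0) : ℚ) (f n : ℚ)
      ((((fwdDiff (1 : ℕ))^[d] f 0 : ℤ) : ℚ) / (d.factorial : ℚ) * (n : ℚ) ^ d)
    have h3 := mul_nonneg hB0 (sub_nonneg.mpr hpow1)
    nlinarith [h1, h2, hb, hpow1, hB0, hC₁0, h3]

end Groth.Agent.H5.IntN
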