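import Mathlib
import Groth.Agent.Lib.Helper5.VAmple.J
import Groth.Agent.Lib.Helper5.AG.ProjProper
import Groth.Agent.Lib.Lead.PN.AmpleDev
import Groth.Agent.Lib.Lead.QC.IntegralSub
import Groth.Agent.Lib.Lead.QC.AmpleIso
import Groth.Agent.Lib.Helper3.TopDim
import Groth.Agent.Lib.Helper5.Snap.SnapAux

set_option autoImplicit false
universe u
open CategoryTheory CategoryTheory.Limits AlgebraicGeometry TopologicalSpace

namespace Groth.Agent.H5.IntN

open Groth.Agent.LD Groth.Agent.H5.VAmple Groth.Agent.H5.Segre

/-- In a Noetherian `T₀` space, an infinite closed subset contains an irreducible closed subset of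
dimension one. -/
theorem exists_irreducible_dim_one {T : Type*} [TopologicalSpace T] [NoetherianSpace T] [T0Space T]
    (Z : Set T) (hZ : IsClosed Z) (hinf : Z.Infinite) :
    ∃ C : Set T, IsClosed C ∧ IsIrreducible C ∧ C ⊆ Z ∧ topologicalKrullDim C = 1 := by
  classical
  -- step 1: some irreducible closed subset of `Z` is not minimal
  have h1 : ∃ b : IrreducibleCloseds T, (b : Set T) ⊆ Z ∧ ∃ a : IrreducibleCloseds T, a < b := by
    by_contra hcon
    push Not at hcon
    haveI : Nonempty Z := hinf.nonempty.to_subtype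
    have hle : topologicalKrullDim Z ≤ 0 := by
      unfold topologicalKrullDim
      rw [Order.krullDim_nonpos_iff_forall_isMin]
      intro x y hyx
      by_contra hne
      have hlt : y < x := lt_of_le_of_ne hyx (fun h => hne (h ▸ le_refl _))
      have hlt' := IrreducibleCloseds.map_strictMono_of_isInducing
        (Topology.IsInducing.subtypeVal (t := Z)) hlt
      refine hcon _ ?_ _ hlt'
      rw [IrreducibleCloseds.coe_map]
      refine closure_minimal ?_ hZ
      rintro _ ⟨t, -, rfl⟩
      exact t.2
    have h0 : topologicalKrullDim Z = 0 :=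
      le_antisymm hle Groth.Agent.H3.TopDim.dim_nonneg
    have hfin := (Groth.Agent.H3.TopDim.dim_eq_zero_iff_finite_discrete.mp h0).1
    exact hinf (Set.finite_coe_iff.mp hfin)
  -- step 2: minimal such
  have wf : WellFounded (fun a b : IrreducibleCloseds T => a < b) := by
    have h := (wellFounded_lt (α := Closeds T))
    refine Subrelation.wf ?_ (InvImage.wf (fun c : IrreducibleCloseds T =>
      (⟨c.carrier, c.isClosed⟩ : Closeds T)) h)
    intro a b hab
    exact hab
  obtain ⟨b, ⟨hbZ, a, hab⟩, hmin⟩ := wf.has_min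
    {b : IrreducibleCloseds T | (b : Set T) ⊆ Z ∧ ∃ a : IrreducibleCloseds T, a < b} h1
  refine ⟨b, b.isClosed, b.isIrreducible, hbZ, le_antisymm ?_ ?_⟩
  · -- dim ≤ 1
    have hlt : topologicalKrullDim (b : Set T) < ((2 : ℕ) : WithBot ℕ∞) := by
      unfold topologicalKrullDim
      rw [Order.krullDim_lt_coe_iff]
      intro l
      by_contra hl
      push Not at hl
      -- l has length ≥ 2
      have h01 : l ⟨0, by omega⟩ < l ⟨1, by omega⟩ := l.strictMono (by simp [Fin.lt_def])
      have h12 : l ⟨1, by omega⟩ < l ⟨2, by omega⟩ := l.strictMono (by simp [Fin.lt_def])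
      have hmap := IrreducibleCloseds.map_strictMono_of_isInducing
        (Topology.IsInducing.subtypeVal (t := (b : Set T)))
      have hsub : ∀ c : IrreducibleCloseds (b : Set T),
          ((IrreducibleCloseds.map Subtype.val continuous_subtype_val c : IrreducibleCloseds T)
            : Set T) ⊆ b := by
        intro c
        rw [IrreducibleCloseds.coe_map]
        refine closure_minimal ?_ b.isClosed
        rintro _ ⟨t, -, rfl⟩
        exact t.2
      set c1 := IrreducibleCloseds.map Subtype.val continuous_subtype_val (l ⟨1, by omega⟩)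
      set c2 := IrreducibleCloseds.map Subtype.val continuous_subtype_val (l ⟨2, by omega⟩)
      have hc12 : c1 < c2 := hmap h12
      have hc1b : c1 < b := lt_of_lt_of_le hc12 (hsub _)
      refine hmin c1 ⟨(hsub _).trans hbZ, _, hmap h01⟩ hc1b
    have := Groth.Agent.H5.Snap.le_of_lt_succ_coe (d := 1) hlt
    exact_mod_cast this
  · -- dim ≥ 1
    have := Groth.Agent.H3.TopDim.length_le_dim_of_last_subset (b : Set T)
      ((RelSeries.singleton _ a).snoc b hab) (by simp)
    simpa using this

/-- a proper morphism to a quasi-compact scheme whose fibres over closed points are finite is finite. -/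
theorem isFinite_of_finite_fibres_closedPoints {X Y : Scheme.{u}} (f : X ⟶ Y) [IsProper f]
    [CompactSpace Y] (h : ∀ y : Y, IsClosed ({y} : Set Y) → (f ⁻¹' {y}).Finite) : IsFinite f := by
  have hV : ∀ y : Y, IsClosed ({y} : Set Y) → ∃ V : Y.Opens, y ∈ V ∧ IsFinite (f ∣_ V) :=
    fun y hy => exists_isFinite_morphismRestrict_of_finite_preimage_singleton f y (h y hy)
  let ι := {y : Y // IsClosed ({y} : Set Y)}
  choose V hyV hVfin using fun i : ι => hV i.1 i.2
  have hcov : (⨆ i, V i) = ⊤ := by
    by_contra hne
    -- the complement of the union is a nonempty closed set, so contains a closed point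
    have hcl : IsClosed ((⨆ i, V i : Y.Opens) : Set Y)ᶜ := (⨆ i, V i).isOpen.isClosed_compl
    have hnonempty : ((⨆ i, V i : Y.Opens) : Set Y)ᶜ.Nonempty := by
      rw [Set.nonempty_compl]
      intro h'
      apply hne
      ext x
      simp only [Opens.coe_top, Set.mem_univ, iff_true]
      have : x ∈ ((⨆ i, V i : Y.Opens) : Set Y) := by rw [h']; trivial
      exact this
    obtain ⟨y, hyS, hycl⟩ := hcl.exists_closed_singleton hnonempty
    apply hyS
    have : y ∈ V ⟨y, hycl⟩ := hyV ⟨y, hycl⟩
    exact (le_iSup V ⟨y, hycl⟩) this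
  exact IsZariskiLocalAtTarget.of_iSup_eq_top (P := @IsFinite) V hcov hVfin


/-- **generated by global sections + no curve inside a locus `X_{s_j}` ⟹ ample** (the morphism to
projective space is finite). -/
theorem isAmple_of_generatedBy_of_no_curve (k : Type u) [Field k] (X : Scheme.{u})
    [X.Over (Spec (CommRingCat.of k))] [IsProper (X ↘ Spec (CommRingCat.of k))]
    (L : X.Modules) (hL : PicF.IsInvertible L) {n : ℕ} (s : Fin (n + 1) → ProjUP.Γm L)
    (hs : ProjUP.GeneratedBy L s)
    (hC : ∀ C : X.IdealSheafData, IsIntegral C.subscheme →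
      topologicalKrullDim (C.support : Set X) = 1 →
      ∀ j, ¬ ((C.support : Set X) ⊆ CohB1.genLocus L (QC.homOfSection L (s j)))) :
    CohB1.IsAmple L := by
  set q := X ↘ Spec (CommRingCat.of k) with hq
  set φ := toPn q L hL s hs with hφ
  haveI : IsProper (CohB1.ProjSpaceOver.toBase n (Spec (CommRingCat.of k))) :=
    Groth.Agent.H5.AG.isProper_toBase n _
  haveI : IsProper (φ ≫ CohB1.ProjSpaceOver.toBase n (Spec (CommRingCat.of k))) := by
    rw [hφ, toPn_toBase]; infer_instance
  haveI : IsProper φ := IsProper.of_comp φ (CohB1.ProjSpaceOver.toBase n (Spec (CommRingCat.of k)))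
  haveI : CompactSpace (CohB1.ProjSpaceOver n (Spec (CommRingCat.of k))) :=
    QuasiCompact.compactSpace_of_compactSpace (CohB1.ProjSpaceOver.toBase n _)
  haveI : IsLocallyNoetherian X := LocallyOfFiniteType.isLocallyNoetherian q
  haveI : CompactSpace X := QuasiCompact.compactSpace_of_compactSpace q
  haveI : IsNoetherian X := {}
  haveI : IsFinite φ := by
    apply isFinite_of_finite_fibres_closedPoints φ
    intro y hy
    by_contra hinf
    obtain ⟨C, hCcl, hCirr, hCZ, hCdim⟩ :=
      exists_irreducible_dim_one (φ ⁻¹' {y}) (hy.preimage φ.continuous) hinf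
    obtain ⟨j, hj⟩ := exists_mem_Dp n (ULift.{u} ℤ)
      ((pullback.fst (CohB1.ProjSpace.toSpec n (ULift.{u} ℤ))
        (specULiftZIsTerminal.from (Spec (CommRingCat.of k)))) y)
    refine hC (Scheme.IdealSheafData.vanishingIdeal ⟨C, hCcl⟩)
      (QC.isIntegral_redSub _ hCirr)
      (by rw [Scheme.IdealSheafData.coe_support_vanishingIdeal]; exact hCdim) j ?_
    rw [Scheme.IdealSheafData.coe_support_vanishingIdeal]
    intro x hx
    have hxy : φ x = y := hCZ hx
    rw [← Xs_eq, ← toPnZ_preimage L hL s hs j, ← toPn_fst q L hL s hs]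
    show (φ ≫ pullback.fst (CohB1.ProjSpace.toSpec n (ULift.{u} ℤ))
        (specULiftZIsTerminal.from (Spec (CommRingCat.of k)))) x ∈ Dp n (ULift.{u} ℤ) j
    rw [Scheme.Hom.comp_apply, hxy]
    exact hj
  obtain ⟨e⟩ := nonempty_iso_toPn q L hL s hs
  exact QC.isAmple_of_iso e.symm
    (PN.AmD.isAmple_pullback_of_isAffineHom φ _ (isAmple_twistOver n (Spec (CommRingCat.of k))))

end Groth.Agent.H5.IntN
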