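import Mathlib
import Groth.Agent.Lib.Helper5.IntN.Nak1
import Groth.Agent.Lib.Helper5.IntN.PosMain
import Groth.Agent.Lib.Helper5.IntN.Pow
import Groth.Agent.Lib.Helper5.Deg.Deg3
import Groth.Agent.Lib.Helper5.GG.FinGen
import Groth.Agent.Lib.Helper5.VAmple.I
import Groth.Agent.Lib.Helper5.Glue.F
import Groth.Agent.Lib.Helper9.Misc.ORB3
import Groth.Agent.Lib.Lead.Curve.Euler
import Groth.Agent.Lib.Lead.QC.PullAmple

set_option autoImplicit false
universe u
open CategoryTheory CategoryTheory.Limits AlgebraicGeometry TopologicalSpace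

namespace Groth.Agent.H5.IntN

open Groth.Agent.LD Groth.Agent.LD.QC Groth.Agent.H5.VAmple Groth.Agent.H5.Curve4
  Groth.Agent.H5.DegC Groth.Agent.H5.Snap

/-- if a positive power of an invertible module is ample, so is the module. -/
theorem isAmple_of_isAmple_tensorPow {X : Scheme.{u}} {L : X.Modules} (hL : PicF.IsInvertible L)
    (a : ℕ) (ha : 0 < a) (h : CohB1.IsAmple (CohB1.tensorPow L a)) : CohB1.IsAmple L := by
  obtain ⟨-, hc, hA⟩ := h
  haveI := (isCoh_of_isInvertible hL).1
  refine ⟨hL, hc, fun x => ?_⟩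
  obtain ⟨n, s, hxs, haff⟩ := hA x
  obtain ⟨n', hn'⟩ : ∃ n', powIdx a (n + 1) = n' + 1 :=
    Nat.exists_eq_succ_of_ne_zero (powIdx_pos ha n).ne'
  refine ⟨n', castSec L hn' (s ≫ (powPowIso L a (n + 1)).hom), ?_, ?_⟩
  · rw [genLocus_castSec, genLocus_comp_iso]; exact hxs
  · rw [genLocus_castSec, genLocus_comp_iso]; exact haff

/-- finitely many generating sections of a globally generated invertible module. -/
theorem exists_generatedBy_of_isGloballyGenerated {X : Scheme.{u}} [CompactSpace X]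
    (M : X.Modules) (hM : PicF.IsInvertible M) (hgg : Curv2.IsGloballyGenerated M) :
    ∃ (n : ℕ) (s : Fin (n + 1) → ProjUP.Γm M), ProjUP.GeneratedBy M s := by
  haveI := (isCoh_of_isInvertible hM).1
  obtain ⟨K, p, hp⟩ := Groth.Agent.H5.GG.exists_epi_freeMod_of_isGloballyGenerated M
    (isCoh_of_isInvertible hM).2 hgg
  obtain ⟨t, ht⟩ := exists_generatedBy_of_epi M hM p hp
  exact ⟨K, _, generatedBy_cons_zero M t ht⟩

/-- multiplication by a section which generates on the support is an isomorphism. -/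
theorem isIso_twistBy_of_support_subset {X : Scheme.{u}} (Q : X.Modules) (hQ : Q.IsFiniteType)
    {L : X.Modules} (hL : PicF.IsInvertible L) (σ : unitMod X ⟶ L)
    (h : CohB1.support Q ⊆ (CohB1.genLocus L σ : Set X)) : IsIso (twistBy Q σ) := by
  have h1 : IsZero (kernel (twistBy Q σ)) := by
    apply isZero_of_support_eq_empty
    apply Set.eq_empty_of_subset_empty
    intro y hy
    have := Groth.Agent.H5.Deg.support_kernel_twistBy_subset Q σ hy
    exact this.2 (h this.1)
  have h2 : IsZero (cokernel (twistBy Q σ)) := by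
    apply isZero_of_support_eq_empty
    apply Set.eq_empty_of_subset_empty
    intro y hy
    have := Groth.Agent.H5.Deg.support_cokernel_twistBy_subset Q hQ hL σ hy
    exact this.2 (h this.1)
  haveI : Mono (twistBy Q σ) := Preadditive.mono_of_isZero_kernel _ h1
  haveI : Epi (twistBy Q σ) := Preadditive.epi_of_isZero_cokernel _ h2
  exact isIso_of_mono_of_epi _


variable (k : Type u) [Field k] {X : Scheme.{u}} [X.Over (Spec (CommRingCat.of k))]
  [IsProper (X ↘ Spec (CommRingCat.of k))]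

/-- for `F` with support of dimension `≤ 1`, `χ(F ⊗ L^m) = χ(F) + m (L · F)`. -/
theorem euler_tensorPow_eq (d : ℕ) (hd : topologicalKrullDim X ≤ d) (L M : X.Modules)
    (hL : PicF.IsInvertible L) (hLM : Nonempty (CohB1.tensorMod L M ≅ Coh.structureModule X))
    (F : X.Modules) (hF : Coh.IsCoh F) (h1 : topologicalKrullDim (CohB1.support F) ≤ 1) (m : ℕ) :
    Curv2.euler k X (CohB1.tensorMod F (CohB1.tensorPow L m)) =
      Curv2.euler k X F + m * FGA.intNum k X d (fun _ : Fin 1 => M) F := by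
  haveI := Curve.isLocallyNoetherian k X
  have hLc := isCoh_of_isInvertible hL
  haveI := hLc.1
  haveI := hF.1
  have hPc : ∀ j, Coh.IsCoh (CohB1.tensorPow L j) := fun j =>
    isCoh_of_isInvertible (isInvertible_tensorPow hL j)
  have key := fun m => eulerChar_tensorPow k d hd L M hL hLM F hF 1 (by exact_mod_cast h1) m
  obtain ⟨I0, hI0⟩ : ∃ I0, I0 = FGA.intNum k X d (fun _ : Fin 0 => M) F := ⟨_, rfl⟩
  obtain ⟨I1, hI1⟩ : ∃ I1, I1 = FGA.intNum k X d (fun _ : Fin 1 => M) F := ⟨_, rfl⟩
  have hf : ∀ m : ℕ, FGA.eulerCharLE k X (CohB1.tensorMod (CohB1.tensorPow L m) F) d =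
      I0 + m * I1 := by
    intro m
    rw [key m, Finset.sum_range_succ, Finset.sum_range_one, ← hI0, ← hI1]
    simp
  have e1 : ∀ m : ℕ, Curv2.euler k X (CohB1.tensorMod F (CohB1.tensorPow L m)) = I0 + m * I1 := by
    intro m
    rw [← hf m, eulerCharLE_eq_euler k d hd _ (isCoh_tensorMod' (hPc m) hF)]
    exact Curve.euler_iso k X (tensorCommAll _ _)
  have e0 : Curv2.euler k X F = I0 := by
    have := hf 0
    rw [eulerCharLE_eq_euler k d hd _ (isCoh_tensorMod' (hPc 0) hF)] at this
    have h2 : Curv2.euler k X (CohB1.tensorMod (CohB1.tensorPow L 0) F) = Curv2.euler k X F :=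
      Curve.euler_iso k X (unitorL' F)
    rw [h2] at this
    simpa using this
  rw [e1 m, e0, ← hI1]

/-- `χ(F ⊗ L) - χ(F) = (L · F)` for `F` with support of dimension `≤ 1`. -/
theorem euler_tensor_sub (d : ℕ) (hd : topologicalKrullDim X ≤ d) (L M : X.Modules)
    (hL : PicF.IsInvertible L) (hLM : Nonempty (CohB1.tensorMod L M ≅ Coh.structureModule X))
    (F : X.Modules) (hF : Coh.IsCoh F) (h1 : topologicalKrullDim (CohB1.support F) ≤ 1) :
    Curv2.euler k X (CohB1.tensorMod F L) - Curv2.euler k X F =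
      FGA.intNum k X d (fun _ : Fin 1 => M) F := by
  have h3 := euler_tensorPow_eq k d hd L M hL hLM F hF h1 1
  haveI := (isCoh_of_isInvertible hL).1
  haveI := hF.1
  have h2 : Curv2.euler k X (CohB1.tensorMod F (CohB1.tensorPow L 1)) =
      Curv2.euler k X (CohB1.tensorMod F L) :=
    Curve.euler_iso k X (tensorIso' (Iso.refl F) (unitorL' L))
  rw [h2] at h3
  rw [h3]
  simp

/-- **ample ⟹ strictly nef.** -/
theorem euler_tensor_sub_pos_of_isAmple (L : X.Modules) (hL : CohB1.IsAmple L) (F : X.Modules)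
    (hF : Coh.IsCoh F) (h1 : topologicalKrullDim (CohB1.support F) = 1) :
    0 < Curv2.euler k X (CohB1.tensorMod F L) - Curv2.euler k X F := by
  obtain ⟨d, hd⟩ := Groth.Agent.H9.ORB3.exists_nat_dim_le (X ↘ Spec (CommRingCat.of k))
  obtain ⟨M, hM, hLM⟩ := Groth.Agent.H5.Glue.exists_inverse L hL.1
  rw [euler_tensor_sub k d hd L M hL.1 hLM F hF h1.le]
  exact intNum_pos_of_isAmple k X d hd (fun _ : Fin 1 => L) (fun _ : Fin 1 => M) (fun _ => hL)
    (fun _ => hLM) F hF (by rw [h1]; rfl)

/-- **strictly nef + a globally generated power ⟹ ample.** -/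
theorem isAmple_of_strictlyNef_of_gg (L : X.Modules) (hL : PicF.IsInvertible L)
    (hnef : ∀ C : X.IdealSheafData, IsIntegral C.subscheme →
      topologicalKrullDim (C.support : Set X) = 1 →
        0 < Curv2.euler k X (CohB1.tensorMod (ClSub.quotMod C) L) -
          Curv2.euler k X (ClSub.quotMod C))
    (m : ℕ) (hgg : Curv2.IsGloballyGenerated (CohB1.tensorPow L (m + 1))) : CohB1.IsAmple L := by
  haveI : CompactSpace X := QuasiCompact.compactSpace_of_compactSpace (X ↘ Spec (CommRingCat.of k))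
  obtain ⟨d, hd⟩ := Groth.Agent.H9.ORB3.exists_nat_dim_le (X ↘ Spec (CommRingCat.of k))
  obtain ⟨M, hM, hLM⟩ := Groth.Agent.H5.Glue.exists_inverse L hL
  have hP := isInvertible_tensorPow hL (m + 1)
  obtain ⟨n, s, hs⟩ := exists_generatedBy_of_isGloballyGenerated _ hP hgg
  apply isAmple_of_isAmple_tensorPow hL (m + 1) (Nat.succ_pos m)
  apply isAmple_of_generatedBy_of_no_curve k X _ hP s hs
  intro C hCint hCdim j hsub
  have hQ : Coh.IsCoh (ClSub.quotMod C) := isCoh_quotMod C
  have hsupp : CohB1.support (ClSub.quotMod C) = (C.support : Set X) := support_quotMod C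
  haveI := isIso_twistBy_of_support_subset (ClSub.quotMod C) hQ.2 hP (homOfSection _ (s j))
    (by rw [hsupp]; exact hsub)
  have heq : Curv2.euler k X (ClSub.quotMod C) =
      Curv2.euler k X (CohB1.tensorMod (ClSub.quotMod C) (CohB1.tensorPow L (m + 1))) :=
    Curve.euler_iso k X (asIso (twistBy (ClSub.quotMod C) (homOfSection _ (s j))))
  have hdim1 : topologicalKrullDim (CohB1.support (ClSub.quotMod C)) ≤ 1 := by
    rw [hsupp, hCdim]
  have hlin := euler_tensorPow_eq k d hd L M hL hLM (ClSub.quotMod C) hQ hdim1 (m + 1)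
  have hpos := hnef C hCint hCdim
  rw [euler_tensor_sub k d hd L M hL hLM (ClSub.quotMod C) hQ hdim1] at hpos
  rw [← heq] at hlin
  have : ((m + 1 : ℕ) : ℤ) * FGA.intNum k X d (fun _ : Fin 1 => M) (ClSub.quotMod C) = 0 := by
    linarith
  have h0 : (0 : ℤ) < ((m + 1 : ℕ) : ℤ) * FGA.intNum k X d (fun _ : Fin 1 => M) (ClSub.quotMod C) := by
    positivity
  omega

include k in
/-- **ample ⟹ some positive power is globally generated.** -/
theorem exists_gg_tensorPow_of_isAmple (L : X.Modules) (hL : CohB1.IsAmple L) :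
    ∃ m : ℕ, Curv2.IsGloballyGenerated (CohB1.tensorPow L (m + 1)) := by
  haveI : CompactSpace X := QuasiCompact.compactSpace_of_compactSpace (X ↘ Spec (CommRingCat.of k))
  haveI := Curve.isLocallyNoetherian k X
  haveI : IsNoetherian X := {}
  obtain ⟨n₀, h⟩ := exists_epi_free_of_isAmple L hL (unitMod X)
    (Groth.Agent.LD.PF.isCoh_unitMod X).2
  obtain ⟨K, p, hp⟩ := h (n₀ + 1) (Nat.le_succ _)
  refine ⟨n₀, ?_⟩
  haveI := hp
  exact isGloballyGenerated_of_epi_freeMod (p ≫ (unitorL' _).hom) (epi_comp _ _)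

end Groth.Agent.H5.IntN
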