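import Mathlib
import Groth.Agent.Lib.Helper5.IntN.Nak2
import Groth.Agent.Lib.Helper5.IntN.Section

set_option autoImplicit false
universe u
open CategoryTheory CategoryTheory.Limits AlgebraicGeometry TopologicalSpace

namespace Groth.Agent.H5.IntN

open Groth.Agent.LD Groth.Agent.LD.QC Groth.Agent.H5.VAmple Groth.Agent.H5.Curve4
  Groth.Agent.H5.DegC Groth.Agent.H5.Snap

variable (k : Type u) [Field k]

/-- the structure sheaf of an integral proper scheme of dimension one is not ample. -/
theorem not_isAmple_unitMod_of_dim_one (Y : Scheme.{u}) [Y.Over (Spec (CommRingCat.of k))]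
    [IsProper (Y ↘ Spec (CommRingCat.of k))] [IsIntegral Y] (hdim : topologicalKrullDim Y = 1) :
    ¬ CohB1.IsAmple (unitMod Y) := by
  intro h
  have hsupp : CohB1.support (unitMod Y) = Set.univ := by
    ext y; simp only [Set.mem_univ, iff_true]; exact mem_support_unitMod y
  have h1 : topologicalKrullDim (CohB1.support (unitMod Y)) = 1 := by
    rw [hsupp, ← hdim]
    exact IsHomeomorph.topologicalKrullDim_eq _ (Homeomorph.Set.univ Y).isHomeomorph
  have hpos := euler_tensor_sub_pos_of_isAmple k (unitMod Y) h (unitMod Y)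
    (Groth.Agent.LD.PF.isCoh_unitMod Y) h1
  rw [Curve.euler_iso k Y (unitorL' (unitMod Y))] at hpos
  simp at hpos

variable {X : Scheme.{u}} [X.Over (Spec (CommRingCat.of k))]
  [IsProper (X ↘ Spec (CommRingCat.of k))]

include k in
/-- **globally generated + ample on every integral curve ⟹ ample.** -/
theorem isAmple_of_gg_of_restrict_curves (L : X.Modules) (hL : PicF.IsInvertible L)
    (hgen : Curv2.IsGloballyGenerated L)
    (hcurves : ∀ C : X.IdealSheafData, IsIntegral C.subscheme →
      topologicalKrullDim (C.support : Set X) = 1 →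
        CohB1.IsAmple ((Scheme.Modules.pullback C.subschemeι).obj L)) :
    CohB1.IsAmple L := by
  haveI : CompactSpace X := QuasiCompact.compactSpace_of_compactSpace (X ↘ Spec (CommRingCat.of k))
  obtain ⟨n, s, hs⟩ := exists_generatedBy_of_isGloballyGenerated L hL hgen
  apply isAmple_of_generatedBy_of_no_curve k X L hL s hs
  intro C hCint hCdim j hsub
  haveI := hCint
  have hgl : CohB1.genLocus _ (pbHom C.subschemeι (homOfSection L (s j))) = ⊤ := by
    rw [genLocus_pbHom C.subschemeι hL]
    ext y
    simp only [Opens.coe_top, Set.mem_univ, iff_true]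
    apply hsub
    rw [← Scheme.IdealSheafData.range_subschemeι]
    exact ⟨y, rfl⟩
  haveI := Groth.Agent.H5.Glue.isIso_of_genLocus_eq_top _ hgl
  have hO : CohB1.IsAmple (unitMod C.subscheme) :=
    isAmple_of_iso (asIso (pbHom C.subschemeι (homOfSection L (s j)))).symm
      (hcurves C hCint hCdim)
  letI : C.subscheme.Over (Spec (CommRingCat.of k)) :=
    ⟨C.subschemeι ≫ (X ↘ Spec (CommRingCat.of k))⟩
  haveI : IsProper (C.subscheme ↘ Spec (CommRingCat.of k)) := by
    show IsProper (C.subschemeι ≫ (X ↘ Spec (CommRingCat.of k)))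
    infer_instance
  have hdim : topologicalKrullDim C.subscheme = 1 := by
    rw [← hCdim, ← Scheme.IdealSheafData.range_subschemeι]
    exact IsHomeomorph.topologicalKrullDim_eq _
      (C.subschemeι.isClosedEmbedding.isEmbedding.toHomeomorph).isHomeomorph
  exact not_isAmple_unitMod_of_dim_one k C.subscheme hdim hO

end Groth.Agent.H5.IntN
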