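import Mathlib
import Groth.Agent.Lib.Helper5.IntN.ARR
import Groth.Agent.Lib.Helper5.Curve2.H
import Groth.Agent.Lib.Lead.QC.ProjFormulaLF
import Groth.Agent.Lib.Lead.QC.TensorExact

/-!
# Growth of `h⁰` of powers of an ample module; tensor powers of monomorphisms.
-/

set_option autoImplicit false
universe u
open CategoryTheory CategoryTheory.Limits AlgebraicGeometry TopologicalSpace Opposite

namespace Groth.Agent.H5.IntN

open Groth.Agent.LD Groth.Agent.LD.QC Groth.Agent.H5.Curve4 Groth.Agent.H5.DegC Groth.Agent.H5.Snap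
open Groth.Agent.LD.PN Groth.Agent.LD.TW Twist
open scoped fwdDiff

section arith

/-- a function whose iterated differences at `0` vanish above `d` is `O((n+1)^d)`. -/
lemma exists_upper_of_fwdDiff (f : ℕ → ℤ) (d : ℕ)
    (h0 : ∀ j, d < j → (fwdDiff (1 : ℕ))^[j] f 0 = 0) :
    ∃ G : ℕ, ∀ n : ℕ, f n ≤ (G : ℤ) * ((n : ℤ) + 1) ^ d := by
  have hnn : (0 : ℤ) ≤ ∑ j ∈ Finset.range (d + 1), |(fwdDiff (1 : ℕ))^[j] f 0| :=
    Finset.sum_nonneg (fun _ _ => abs_nonneg _)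
  refine ⟨(∑ j ∈ Finset.range (d + 1), |(fwdDiff (1 : ℕ))^[j] f 0|).toNat, fun n => ?_⟩
  rw [Int.toNat_of_nonneg hnn, eq_sum_choose_mul f d h0 n, Finset.sum_mul]
  apply Finset.sum_le_sum
  intro j hj
  have hj' : j ≤ d := Nat.lt_succ_iff.mp (Finset.mem_range.mp hj)
  have h2 : n.choose j ≤ (n + 1) ^ d :=
    calc n.choose j ≤ n ^ j := Nat.choose_le_pow n j
      _ ≤ (n + 1) ^ j := Nat.pow_le_pow_left (Nat.le_succ n) j
      _ ≤ (n + 1) ^ d := Nat.pow_le_pow_right (Nat.succ_pos n) hj'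
  have h1 : ((n.choose j : ℕ) : ℤ) ≤ ((n : ℤ) + 1) ^ d := by exact_mod_cast h2
  calc ((n.choose j : ℕ) : ℤ) * (fwdDiff (1 : ℕ))^[j] f 0
      ≤ ((n.choose j : ℕ) : ℤ) * |(fwdDiff (1 : ℕ))^[j] f 0| :=
        mul_le_mul_of_nonneg_left (le_abs_self _) (Nat.cast_nonneg _)
    _ ≤ ((n : ℤ) + 1) ^ d * |(fwdDiff (1 : ℕ))^[j] f 0| :=
        mul_le_mul_of_nonneg_right h1 (abs_nonneg _)
    _ = |(fwdDiff (1 : ℕ))^[j] f 0| * ((n : ℤ) + 1) ^ d := mul_comm _ _

/-- a function whose iterated differences at `0` vanish above `d`, with positive `d`-th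
difference, grows at least like `n^d`. -/
lemma exists_lower_of_fwdDiff (f : ℕ → ℤ) (d : ℕ)
    (h0 : ∀ j, d < j → (fwdDiff (1 : ℕ))^[j] f 0 = 0)
    (hpos : 0 < (fwdDiff (1 : ℕ))^[d] f 0) :
    ∃ c n₁ : ℕ, 0 < c ∧ 0 < n₁ ∧ ∀ n : ℕ, n₁ ≤ n → (n : ℤ) ^ d ≤ (c : ℤ) * f n := by
  rcases Nat.eq_zero_or_pos d with hd | hd
  · subst hd
    refine ⟨1, 1, one_pos, one_pos, fun n _ => ?_⟩
    have h1 := eq_sum_choose_mul f 0 h0 n
    simp only [zero_add, Finset.range_one, Finset.sum_singleton, Nat.choose_zero_right,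
      Nat.cast_one, one_mul] at h1
    rw [h1]
    simp only [pow_zero, Nat.cast_one, one_mul]
    omega
  · obtain ⟨e, rfl⟩ : ∃ e, d = e + 1 := ⟨d - 1, by omega⟩
    obtain ⟨C₁, hC₁0, hC₁⟩ := exists_bound_of_fwdDiff_eq_zero f (e + 1) h0
    obtain ⟨c₁, hc₁⟩ : ∃ c₁ : ℚ, c₁ =
        (((fwdDiff (1 : ℕ))^[e + 1] f 0 : ℤ) : ℚ) / ((e + 1).factorial : ℚ) := ⟨_, rfl⟩
    rw [← hc₁] at hC₁
    have hc₁pos : 0 < c₁ := by
      rw [hc₁]
      exact div_pos (by exact_mod_cast hpos) (by exact_mod_cast Nat.factorial_pos _)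
    have hne : c₁ ≠ 0 := hc₁pos.ne'
    obtain ⟨N₁, hN₁⟩ := exists_nat_ge (2 * (C₁ * 2 ^ e) / c₁)
    obtain ⟨N₂, hN₂⟩ := exists_nat_ge (2 / c₁)
    refine ⟨N₂ + 1, N₁ + 1, Nat.succ_pos _, Nat.succ_pos _, fun n hn => ?_⟩
    have hx1 : (1 : ℚ) ≤ (n : ℚ) := by
      have : 1 ≤ n := by omega
      exact_mod_cast this
    have hxN : (N₁ : ℚ) ≤ (n : ℚ) := by
      have : N₁ ≤ n := by omega
      exact_mod_cast this
    have hx0 : (0 : ℚ) ≤ (n : ℚ) := by linarith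
    have hP0 : (0 : ℚ) ≤ (n : ℚ) ^ e := pow_nonneg hx0 e
    have hcx : 2 * (C₁ * 2 ^ e) ≤ c₁ * (n : ℚ) := by
      have h1 : 2 * (C₁ * 2 ^ e) / c₁ ≤ (n : ℚ) := hN₁.trans hxN
      rw [div_le_iff₀ hc₁pos] at h1
      linarith
    have hb := (abs_le.mp (hC₁ n)).1
    rw [Nat.add_sub_cancel, pow_succ] at hb
    have hpw : ((n : ℚ) + 1) ^ e ≤ 2 ^ e * (n : ℚ) ^ e := by
      rw [← mul_pow]
      exact pow_le_pow_left₀ (by linarith) (by linarith) e
    have h2 : C₁ * ((n : ℚ) + 1) ^ e ≤ C₁ * (2 ^ e * (n : ℚ) ^ e) :=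
      mul_le_mul_of_nonneg_left hpw hC₁0
    have h3 : 2 * (C₁ * 2 ^ e) * (n : ℚ) ^ e ≤ c₁ * (n : ℚ) * (n : ℚ) ^ e :=
      mul_le_mul_of_nonneg_right hcx hP0
    have hlow : c₁ * (n : ℚ) * (n : ℚ) ^ e / 2 ≤ (f n : ℚ) := by
      linarith [h2, h3, hb]
    have hlow0 : (0 : ℚ) ≤ c₁ * (n : ℚ) * (n : ℚ) ^ e / 2 := by
      have := mul_nonneg (mul_nonneg hc₁pos.le hx0) hP0
      linarith
    have hf0 : (0 : ℚ) ≤ (f n : ℚ) := le_trans hlow0 hlow
    have h4 : 2 / c₁ ≤ ((N₂ + 1 : ℕ) : ℚ) := by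
      push_cast
      linarith
    have h20 : (0 : ℚ) ≤ 2 / c₁ := by positivity
    have h5 : 2 / c₁ * (c₁ * (n : ℚ) * (n : ℚ) ^ e / 2) = (n : ℚ) ^ (e + 1) := by
      rw [pow_succ, div_mul_eq_mul_div, div_eq_iff hne]
      ring
    have hfin : (n : ℚ) ^ (e + 1) ≤ ((N₂ + 1 : ℕ) : ℚ) * (f n : ℚ) :=
      calc (n : ℚ) ^ (e + 1) = 2 / c₁ * (c₁ * (n : ℚ) * (n : ℚ) ^ e / 2) := h5.symm
        _ ≤ 2 / c₁ * (f n : ℚ) := mul_le_mul_of_nonneg_left hlow h20
        _ ≤ ((N₂ + 1 : ℕ) : ℚ) * (f n : ℚ) := mul_le_mul_of_nonneg_right h4 hf0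
    exact_mod_cast hfin

end arith

section general

variable {X : Scheme.{u}}

/-- tensor powers of a monomorphism of invertible modules. -/
lemma exists_mono_tensorPow {A B : X.Modules} (hA : PicF.IsInvertible A)
    (hB : PicF.IsInvertible B) (φ : A ⟶ B) [Mono φ] :
    ∀ m : ℕ, ∃ ψ : CohB1.tensorPow A m ⟶ CohB1.tensorPow B m, Mono ψ
  | 0 => by
    change ∃ ψ : Coh.structureModule X ⟶ Coh.structureModule X, Mono ψ
    exact ⟨𝟙 _, inferInstance⟩
  | m + 1 => by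
    obtain ⟨ψ, hψ⟩ := exists_mono_tensorPow hA hB φ m
    haveI := hψ
    haveI := mono_tensorMap_of_isInvertible ψ A hA
    haveI := mono_tensorMap_left_of_isFinLocFree φ (CohB1.tensorPow B m)
      (Curve.isFinLocFree_of_rank ((isInvertible_iff _).mp (isInvertible_tensorPow hB m)))
    change ∃ ψ : CohB1.tensorMod (CohB1.tensorPow A m) A ⟶
      CohB1.tensorMod (CohB1.tensorPow B m) B, Mono ψ
    exact ⟨_, mono_comp (KoszTw.tensorMap ψ (𝟙 A))
      (KoszTw.tensorMap (𝟙 (CohB1.tensorPow B m)) φ)⟩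

end general

variable (k : Type u) [Field k] {X : Scheme.{u}} [X.Over (Spec (CommRingCat.of k))]
  [IsProper (X ↘ Spec (CommRingCat.of k))]

/-- `h⁰` is monotone along monomorphisms. -/
lemma finrank_H0_le_of_mono {M N : X.Modules} (φ : M ⟶ N) [Mono φ] (hN : Coh.IsCoh N) :
    Module.finrank k (Coh.HH X M 0) ≤ Module.finrank k (Coh.HH X N 0) := by
  haveI := Curve.finite_HH k X N hN 0
  exact LinearMap.finrank_le_finrank_of_injective (Curve2.injective_HHmap_zero k φ)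

/-- the Hilbert function of an ample module: eventually equal to `h⁰`, with vanishing
differences above the dimension and positive top difference. -/
theorem ample_h0_data (d : ℕ) (hd : topologicalKrullDim X ≤ ((d : ℕ) : WithBot ℕ∞))
    (L : X.Modules) (hL : CohB1.IsAmple L) :
    ∃ (f : ℕ → ℤ) (n₀ : ℕ), (∀ j, d < j → (fwdDiff (1 : ℕ))^[j] f 0 = 0) ∧
      (∀ n, n₀ ≤ n → (Module.finrank k (Coh.HH X (CohB1.tensorPow L n) 0) : ℤ) = f n) ∧
      (topologicalKrullDim X = ((d : ℕ) : WithBot ℕ∞) → 0 < (fwdDiff (1 : ℕ))^[d] f 0) := by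
  classical
  have hLi : PicF.IsInvertible L := hL.1
  haveI : L.IsQuasicoherent := qc_of_isInvertible L hLi
  obtain ⟨L', hL', hLL'⟩ := Groth.Agent.H5.Glue.exists_inverse L hLi
  haveI : L'.IsQuasicoherent := qc_of_isInvertible L' hL'
  have hOc : Coh.IsCoh (unitMod X) := isCoh_of_isInvertible (isInvertible_unit X)
  have hpowi : ∀ m, PicF.IsInvertible (CohB1.tensorPow L m) :=
    fun m => isInvertible_tensorPow hLi m
  have hpowc : ∀ m, Coh.IsCoh (CohB1.tensorPow L m) := fun m => isCoh_of_isInvertible (hpowi m)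
  let f : ℕ → ℤ := fun m => FGA.eulerCharLE k X (CohB1.tensorPow L m) d
  have hfe : ∀ m, f m = Curv2.euler k X (CohB1.tensorPow L m) :=
    fun m => eulerCharLE_eq_euler k d hd _ (hpowc m)
  have hG : ∀ m, Nonempty (CohB1.tensorMod L' (CohB1.tensorPow L (m + 1)) ≅
      CohB1.tensorPow L m) := by
    intro m
    exact ⟨tensorCommAll L' (CohB1.tensorPow L (m + 1)) ≪≫
      tensorAssoc (CohB1.tensorPow L m) L L' ≪≫
      tensorIso' (Iso.refl _) hLL'.some ≪≫ SecTwist.unitorR _⟩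
  have key := intNum_const_eq_fwdDiff k d L' hL' (fun m => CohB1.tensorPow L m) hpowc hG
  have hg : ∀ j, (fwdDiff (1 : ℕ))^[j] f 0 =
      FGA.intNum k X d (fun _ : Fin j => L') (CohB1.tensorPow L (0 + j)) :=
    fun j => (key j 0).symm
  have hsuppO : CohB1.support (unitMod X) = Set.univ :=
    Set.eq_univ_iff_forall.mpr (fun x => mem_support_unitMod' x)
  have hvan : ∀ j, d < j → (fwdDiff (1 : ℕ))^[j] f 0 = 0 := by
    intro j hj
    rw [hg j]
    apply intNum_eq_zero k d hd _ (fun _ => hL') _ (hpowc _)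
    refine lt_of_le_of_lt
      ((Topology.IsEmbedding.subtypeVal.isInducing.topologicalKrullDim_le).trans hd) ?_
    exact_mod_cast hj
  obtain ⟨n₀, hn₀⟩ := Groth.Agent.LD.PN.AmS.serre_vanishing_of_isAmple k
    (X ↘ Spec (CommRingCat.of k)) L hLi hL (unitMod X) hOc
  refine ⟨f, n₀, hvan, ?_, ?_⟩
  · intro n hn
    have hsub : ∀ p, 0 < p → Subsingleton (Coh.HH X (CohB1.tensorPow L n) p) := fun p hp =>
      Groth.Agent.LD.PN.subsingleton_HH_of_iso (unitorL' (CohB1.tensorPow L n)) p (hn₀ n hn p hp)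
    rw [hfe, Groth.Agent.LD.Curve.euler_eq_sum k X _ 0 hsub]
    simp
  · intro hX
    have hdimO : topologicalKrullDim (CohB1.support (unitMod X)) = ((d : ℕ) : WithBot ℕ∞) := by
      rw [hsuppO, ← hX]
      exact IsHomeomorph.topologicalKrullDim_eq _ (Homeomorph.Set.univ X).isHomeomorph
    rw [hg d, intNum_invertible_eq k d hd le_rfl _ (fun _ => hL') _ (hpowi _)]
    exact intNum_pos_of_isAmple k X d hd (fun _ => L) (fun _ => L') (fun _ => hL)
      (fun _ => hLL') _ hOc hdimO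

/-- `h⁰(L^n) = O((n+1)^d)` for `L` ample on a proper scheme of dimension `≤ d`. -/
theorem exists_h0_tensorPow_le (d : ℕ) (hd : topologicalKrullDim X ≤ ((d : ℕ) : WithBot ℕ∞))
    (L : X.Modules) (hL : CohB1.IsAmple L) :
    ∃ C : ℕ, ∀ n : ℕ,
      Module.finrank k (Coh.HH X (CohB1.tensorPow L n) 0) ≤ C * (n + 1) ^ d := by
  obtain ⟨f, n₀, hvan, hh0, -⟩ := ample_h0_data k d hd L hL
  obtain ⟨G, hG⟩ := exists_upper_of_fwdDiff f d hvan
  refine ⟨(∑ n ∈ Finset.range n₀, Module.finrank k (Coh.HH X (CohB1.tensorPow L n) 0)) + G,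
    fun n => ?_⟩
  have hpow1 : 1 ≤ (n + 1) ^ d := Nat.one_le_pow _ _ (Nat.succ_pos n)
  by_cases hn : n₀ ≤ n
  · have h1 : ((Module.finrank k (Coh.HH X (CohB1.tensorPow L n) 0) : ℕ) : ℤ) ≤
        (G : ℤ) * ((n : ℤ) + 1) ^ d := by
      rw [hh0 n hn]
      exact hG n
    have h2 : Module.finrank k (Coh.HH X (CohB1.tensorPow L n) 0) ≤ G * (n + 1) ^ d := by
      exact_mod_cast h1
    exact h2.trans (Nat.mul_le_mul_right _ (Nat.le_add_left G _))
  · have hmem : n ∈ Finset.range n₀ := Finset.mem_range.mpr (by omega)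
    have h1 : Module.finrank k (Coh.HH X (CohB1.tensorPow L n) 0) ≤
        ∑ n ∈ Finset.range n₀, Module.finrank k (Coh.HH X (CohB1.tensorPow L n) 0) :=
      Finset.single_le_sum
        (f := fun n => Module.finrank k (Coh.HH X (CohB1.tensorPow L n) 0))
        (fun _ _ => Nat.zero_le _) hmem
    exact (h1.trans (le_mul_of_one_le_right (Nat.zero_le _) hpow1)).trans
      (Nat.mul_le_mul_right _ (Nat.le_add_right _ G))

/-- `n^d = O(h⁰(L^n))` for `L` ample on a proper scheme of dimension `d`. -/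
theorem exists_le_h0_tensorPow (d : ℕ) (hX : topologicalKrullDim X = ((d : ℕ) : WithBot ℕ∞))
    (L : X.Modules) (hL : CohB1.IsAmple L) :
    ∃ c n₁ : ℕ, 0 < c ∧ 0 < n₁ ∧ ∀ n : ℕ, n₁ ≤ n →
      n ^ d ≤ c * Module.finrank k (Coh.HH X (CohB1.tensorPow L n) 0) := by
  obtain ⟨f, n₀, hvan, hh0, hpos⟩ := ample_h0_data k d (le_of_eq hX) L hL
  obtain ⟨c, n₁, hc, hn₁, h⟩ := exists_lower_of_fwdDiff f d hvan (hpos hX)
  refine ⟨c, max n₁ n₀, hc, lt_of_lt_of_le hn₁ (le_max_left _ _), fun n hn => ?_⟩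
  have h1 := h n (le_trans (le_max_left _ _) hn)
  rw [← hh0 n (le_trans (le_max_right _ _) hn)] at h1
  exact_mod_cast h1

end Groth.Agent.H5.IntN
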