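import Mathlib
import Groth.Agent.Lib.Helper5.IntN.Kod1
import Groth.Agent.Lib.Helper5.Snap.Main
import Groth.Agent.Lib.Lead.QC.AmpleGG
import Groth.Agent.Lib.Lead.QC.AmpleIso
import Groth.Agent.Lib.Lead.QC.SepAmple
import Groth.Agent.Lib.Lead.PN.AmpleDev
import Groth.Agent.Lib.Lead.CohLES.PushEquiv
import Groth.Agent.Lib.Lead.Curve.InvMono
import Groth.Agent.S2327
import Groth.Agent.Lib.Helper5.Curve4.H0Bound

/-!
# Polynomial growth of `h⁰(F ⊗ L^m)`: `O(m^{dim Supp F})`.
-/

set_option autoImplicit false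
universe u
open CategoryTheory CategoryTheory.Limits AlgebraicGeometry TopologicalSpace Opposite

namespace Groth.Agent.H5.IntN

open Groth.Agent.LD Groth.Agent.LD.QC Groth.Agent.H5.Curve4 Groth.Agent.H5.DegC Groth.Agent.H5.Snap

section general

variable {X : Scheme.{u}}

/-- an invertible module on a nonempty scheme is nonzero. -/
lemma not_isZero_of_isInvertible [Nonempty X] {M : X.Modules} (hM : PicF.IsInvertible M) :
    ¬ IsZero M := by
  intro hz
  obtain ⟨M', -, ⟨e⟩⟩ := Groth.Agent.H5.Glue.exists_inverse M hM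
  have h1 : IsZero (CohB1.tensorMod M M') := (DCoh.tensorRightMod M').map_isZero hz
  have h2 : IsZero (unitMod X) := h1.of_iso e.symm
  obtain ⟨x⟩ := ‹Nonempty X›
  have h4 := mem_support_unitMod' x
  rw [support_eq_empty_of_isZero h2] at h4
  exact (Set.mem_empty_iff_false x).mp h4

/-- a subset of negative dimension is empty. -/
lemma eq_empty_of_dim_lt_zero {T : Type*} [TopologicalSpace T] (Z : Set T)
    (h : topologicalKrullDim Z < ((0 : ℕ) : WithBot ℕ∞)) : Z = ∅ := by
  by_contra hne
  obtain ⟨x, hx⟩ := Set.nonempty_iff_ne_empty.mpr hne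
  unfold topologicalKrullDim at h
  rw [Order.krullDim_lt_coe_iff] at h
  have := h (RelSeries.singleton _
    ⟨closure {(⟨x, hx⟩ : Z)}, isIrreducible_singleton.closure, isClosed_closure⟩)
  simp at this

end general

variable (k : Type u) [Field k] {X : Scheme.{u}} [X.Over (Spec (CommRingCat.of k))]
  [IsProper (X ↘ Spec (CommRingCat.of k))]

/-- on an integral proper scheme of dimension `≤ e` carrying an ample module, `h⁰(L^m) = O(m^e)`
for every invertible `L`. -/
theorem exists_h0_tensorPow_le_of_isIntegral [IsIntegral X] (e : ℕ)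
    (he : topologicalKrullDim X ≤ ((e : ℕ) : WithBot ℕ∞))
    (H : X.Modules) (hH : CohB1.IsAmple H) (L : X.Modules) (hL : PicF.IsInvertible L) :
    ∃ C : ℕ, ∀ m : ℕ,
      Module.finrank k (Coh.HH X (CohB1.tensorPow L m) 0) ≤ C * (m + 1) ^ e := by
  haveI : IsNoetherian X := Curve2.isNoetherian_of_proper k X
  haveI : CompactSpace X := hH.2.1
  haveI : X.IsSeparated := isSeparated_of_affine_genLocus H hH.1 hH.2.2
  obtain ⟨L', hL', ⟨ε⟩⟩ := Groth.Agent.H5.Glue.exists_inverse L hL
  haveI := qc_of_isInvertible L hL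
  haveI := qc_of_isInvertible L' hL'
  have hL'c := isCoh_of_isInvertible hL'
  obtain ⟨n₀, hn₀⟩ := exists_epi_free_of_isAmple H hH L' hL'c.2
  obtain ⟨K, p, hp⟩ := hn₀ (n₀ + 1) (Nat.le_succ _)
  have hPi : PicF.IsInvertible (CohB1.tensorPow H (n₀ + 1)) := isInvertible_tensorPow hH.1 _
  haveI := qc_of_isInvertible _ hPi
  have hPa : CohB1.IsAmple (CohB1.tensorPow H (n₀ + 1)) :=
    (Groth.Agent.S2327.result X H hH.1 (n₀ + 1) (Nat.succ_pos _)).mp hH
  have hMi : PicF.IsInvertible (CohB1.tensorMod L' (CohB1.tensorPow H (n₀ + 1))) :=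
    isInvertible_tensorMod hL' hPi
  -- a nonzero section of `M = L' ⊗ H^(n₀+1)`
  obtain ⟨t, ht⟩ : ∃ t : unitMod X ⟶ CohB1.tensorMod L' (CohB1.tensorPow H (n₀ + 1)),
      t ≠ 0 := by
    by_contra hcon
    push Not at hcon
    have hp0 : p = 0 := by
      refine Sigma.hom_ext _ _ (fun j => ?_)
      rw [hcon (Sigma.ι (fun _ : Fin K => Coh.structureModule X) j ≫ p), comp_zero]
    haveI := hp
    exact not_isZero_of_isInvertible hMi (IsZero.of_epi_eq_zero p hp0)
  haveI : Mono t := Curve.mono_of_ne_zero (isInvertible_unit X) hMi t ht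
  have hNi : PicF.IsInvertible
      (CohB1.tensorMod (CohB1.tensorMod L' (CohB1.tensorPow H (n₀ + 1))) L) :=
    isInvertible_tensorMod hMi hL
  haveI := mono_tensorMap_of_isInvertible t L hL
  haveI hu : Mono ((unitorL' L).inv ≫ KoszTw.tensorMap t (𝟙 L)) := mono_comp _ _
  have eN : CohB1.tensorMod (CohB1.tensorMod L' (CohB1.tensorPow H (n₀ + 1))) L ≅
      CohB1.tensorPow H (n₀ + 1) :=
    tensorCommAll _ _ ≪≫ (tensorAssoc L L' (CohB1.tensorPow H (n₀ + 1))).symm ≪≫
      tensorIso' ε (Iso.refl _) ≪≫ unitorL' _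
  have hNa : CohB1.IsAmple
      (CohB1.tensorMod (CohB1.tensorMod L' (CohB1.tensorPow H (n₀ + 1))) L) :=
    isAmple_of_iso eN.symm hPa
  obtain ⟨C, hC⟩ := exists_h0_tensorPow_le k e he _ hNa
  refine ⟨C, fun m => ?_⟩
  obtain ⟨ψ, hψ⟩ := exists_mono_tensorPow hL hNi
    ((unitorL' L).inv ≫ KoszTw.tensorMap t (𝟙 L)) m
  haveI := hψ
  exact (finrank_H0_le_of_mono k ψ
    (isCoh_of_isInvertible (isInvertible_tensorPow hNi m))).trans (hC m)

/-- **polynomial growth of sections**: for `F` coherent with `dim Supp F ≤ e` on a proper scheme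
carrying an ample module, `h⁰(F ⊗ L^m) = O(m^e)` for every invertible `L`. -/
theorem exists_h0_twist_le (e : ℕ) (H : X.Modules) (hH : CohB1.IsAmple H) (L : X.Modules)
    (hL : PicF.IsInvertible L) (F : X.Modules) (hF : Coh.IsCoh F)
    (hsupp : topologicalKrullDim (CohB1.support F) ≤ ((e : ℕ) : WithBot ℕ∞)) :
    ∃ C : ℕ, ∀ m : ℕ,
      Module.finrank k (Coh.HH X ((tpFun 1 (fun _ : Fin 1 => L) (fun _ => m)).obj F) 0) ≤
        C * (m + 1) ^ e := by
  rcases isEmpty_or_nonempty X with hem | hne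
  · refine ⟨0, fun m => ?_⟩
    have hz : IsZero F := isZero_of_support_eq_empty (Set.eq_empty_of_isEmpty _)
    rw [finrank_H0_of_isZero k X
      ((tpFun 1 (fun _ : Fin 1 => L) (fun _ => m)).map_isZero hz)]
    exact Nat.zero_le _
  haveI : IsNoetherian X := Curve2.isNoetherian_of_proper k X
  refine devissage_ideal X (fun F => topologicalKrullDim (CohB1.support F) ≤
      ((e : ℕ) : WithBot ℕ∞) → ∃ C : ℕ, ∀ m : ℕ,
      Module.finrank k (Coh.HH X ((tpFun 1 (fun _ : Fin 1 => L) (fun _ => m)).obj F) 0) ≤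
        C * (m + 1) ^ e) ?_ ?_ ?_ F hF hsupp
  · rintro M N ⟨i⟩ h hs
    rw [← support_eq_of_iso i] at hs
    obtain ⟨C, hC⟩ := h hs
    refine ⟨C, fun m => ?_⟩
    rw [← Groth.Agent.LD.FBC.finrank_HH_congr k
      ((tpFun 1 (fun _ : Fin 1 => L) (fun _ => m)).mapIso i) 0]
    exact hC m
  · intro S hS h1 h2 h3 p1 p3 hs
    have hsupp2 := support_of_shortExact hS
    obtain ⟨C₁, hC₁⟩ := p1 (le_trans (dim_mono (by rw [hsupp2]; exact Set.subset_union_left)) hs)
    obtain ⟨C₃, hC₃⟩ := p3 (le_trans (dim_mono (by rw [hsupp2]; exact Set.subset_union_right)) hs)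
    refine ⟨C₁ + C₃, fun m => ?_⟩
    have hSm := shortExact_map_tpFun 1 (fun _ : Fin 1 => L) (fun _ => hL) (fun _ => m) S hS
    have h := Curve2.finrank_H0_le k X hSm
      (isCoh_tpFun 1 (fun _ : Fin 1 => L) (fun _ => hL) (fun _ => m) _ h2)
      (isCoh_tpFun 1 (fun _ : Fin 1 => L) (fun _ => hL) (fun _ => m) _ h3)
    change Module.finrank k (Coh.HH X ((tpFun 1 (fun _ : Fin 1 => L) (fun _ => m)).obj S.X₂) 0) ≤
      Module.finrank k (Coh.HH X ((tpFun 1 (fun _ : Fin 1 => L) (fun _ => m)).obj S.X₁) 0) +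
      Module.finrank k (Coh.HH X ((tpFun 1 (fun _ : Fin 1 => L) (fun _ => m)).obj S.X₃) 0) at h
    calc _ ≤ _ := h
      _ ≤ C₁ * (m + 1) ^ e + C₃ * (m + 1) ^ e := Nat.add_le_add (hC₁ m) (hC₃ m)
      _ = (C₁ + C₃) * (m + 1) ^ e := (Nat.add_mul _ _ _).symm
  · intro C hC I ι hι hI hs
    haveI := hC
    haveI := hι
    haveI : I.IsQuasicoherent := hI
    letI : C.subscheme.Over (Spec (CommRingCat.of k)) := overOf k C.subschemeι
    haveI : IsProper (C.subscheme ↘ Spec (CommRingCat.of k)) :=
      inferInstanceAs (IsProper (C.subschemeι ≫ (X ↘ Spec (CommRingCat.of k))))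
    haveI : C.subschemeι.IsOver (Spec (CommRingCat.of k)) := ⟨rfl⟩
    haveI : IsNoetherian C.subscheme := Curve2.isNoetherian_of_proper k C.subscheme
    have hOCc : Coh.IsCoh (unitMod C.subscheme) :=
      Groth.Agent.LD.PF.isCoh_unitMod C.subscheme
    have hIc : Coh.IsCoh I := isCoh_of_mono ι hI hOCc
    have hLC : PicF.IsInvertible ((Scheme.Modules.pullback C.subschemeι).obj L) :=
      isInvertible_pullback C.subschemeι hL
    change ∃ C₀ : ℕ, ∀ m : ℕ, Module.finrank k (Coh.HH X
      ((tpFun 1 (fun _ : Fin 1 => L) (fun _ => m)).obj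
        ((Scheme.Modules.pushforward C.subschemeι).obj I)) 0) ≤ C₀ * (m + 1) ^ e
    have hkey : ∀ m : ℕ, Module.finrank k (Coh.HH X
        ((tpFun 1 (fun _ : Fin 1 => L) (fun _ => m)).obj
          ((Scheme.Modules.pushforward C.subschemeι).obj I)) 0) =
        Module.finrank k (Coh.HH C.subscheme
          ((tpFun 1 (fun _ : Fin 1 => (Scheme.Modules.pullback C.subschemeι).obj L)
            (fun _ => m)).obj I) 0) := by
      intro m
      obtain ⟨e1⟩ := nonempty_tp_push_iso C.subschemeι 1 (fun _ : Fin 1 => L) (fun _ => hL)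
        (fun _ => m) I
      exact (Groth.Agent.LD.FBC.finrank_HH_congr k e1 0).trans
        (CL.HHpushEquiv C.subschemeι k _ 0).finrank_eq.symm
    by_cases ht : IsTors I
    · refine ⟨0, fun m => ?_⟩
      rw [hkey m, finrank_H0_of_isZero k C.subscheme
        ((tpFun 1 (fun _ : Fin 1 => (Scheme.Modules.pullback C.subschemeι).obj L)
          (fun _ => m)).map_isZero (isZero_of_mono_unit_of_isTors I ι ht))]
      exact Nat.zero_le _
    · have hcl : IsClosed (CohB1.support I) := QC.isClosed_support_of_isFiniteType I hIc.2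
      have huniv : CohB1.support I = Set.univ := by
        have hη : genericPoint C.subscheme ∈ CohB1.support I := ht
        have h1 : closure {genericPoint C.subscheme} ⊆ CohB1.support I :=
          hcl.closure_subset_iff.mpr (Set.singleton_subset_iff.mpr hη)
        rw [(genericPoint_spec C.subscheme).def] at h1
        exact Set.univ_subset_iff.mp h1
      have hdimC : topologicalKrullDim C.subscheme ≤ ((e : ℕ) : WithBot ℕ∞) := by
        refine le_trans ?_ hs
        let g : C.subscheme → CohB1.support ((Coh.push C.subschemeι).obj I) := fun z =>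
          ⟨C.subschemeι z, mem_support_pushforward C.subschemeι I z (by rw [huniv]; trivial)⟩
        have hg : Topology.IsInducing g := by
          apply Topology.IsInducing.of_comp
            (Continuous.subtype_mk C.subschemeι.continuous _) continuous_subtype_val
          exact C.subschemeι.isClosedEmbedding.isInducing
        exact hg.topologicalKrullDim_le
      have hHC : CohB1.IsAmple ((Scheme.Modules.pullback C.subschemeι).obj H) :=
        Groth.Agent.LD.PN.AmD.isAmple_pullback_of_isAffineHom C.subschemeι H hH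
      obtain ⟨C₀, hC₀⟩ := exists_h0_tensorPow_le_of_isIntegral k e hdimC _ hHC _ hLC
      refine ⟨C₀, fun m => ?_⟩
      rw [hkey m]
      have hSι := Groth.Agent.H5.HP.shortExact_coker ι
      have hSm := shortExact_map_tpFun 1
        (fun _ : Fin 1 => (Scheme.Modules.pullback C.subschemeι).obj L) (fun _ => hLC)
        (fun _ => m) _ hSι
      haveI hmono : Mono ((tpFun 1
          (fun _ : Fin 1 => (Scheme.Modules.pullback C.subschemeι).obj L)
          (fun _ => m)).map ι) := hSm.mono_f
      have h1 := finrank_H0_le_of_mono k ((tpFun 1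
          (fun _ : Fin 1 => (Scheme.Modules.pullback C.subschemeι).obj L)
          (fun _ => m)).map ι)
        (isCoh_tpFun 1 (fun _ : Fin 1 => (Scheme.Modules.pullback C.subschemeι).obj L)
          (fun _ => hLC) (fun _ => m) _ hOCc)
      have h2 : Module.finrank k (Coh.HH C.subscheme ((tpFun 1
          (fun _ : Fin 1 => (Scheme.Modules.pullback C.subschemeι).obj L)
          (fun _ => m)).obj (unitMod C.subscheme)) 0) =
          Module.finrank k (Coh.HH C.subscheme
            (CohB1.tensorPow ((Scheme.Modules.pullback C.subschemeι).obj L) m) 0) :=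
        Groth.Agent.LD.FBC.finrank_HH_congr k
          (unitorL' (CohB1.tensorPow ((Scheme.Modules.pullback C.subschemeι).obj L) m)) 0
      exact h1.trans (h2.le.trans (hC₀ m))

end Groth.Agent.H5.IntN
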