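import Mathlib
import Groth.Agent.Lib.Helper5.IntN.Kod2
import Groth.Agent.Lib.Helper5.IntN.Surf1
import Groth.Agent.Lib.Helper5.IntN.Section
import Groth.Agent.Lib.Helper5.Deg.Deg4
import Groth.Agent.Lib.Helper5.HP.HP4
import Groth.Agent.Lib.Lead.QC.AmpleBasis

/-!
# Kodaira's lemma (S16901): maximal growth of sections ⇔ `L^ν` contains an ample submodule.
-/

set_option autoImplicit false
universe u
open CategoryTheory CategoryTheory.Limits AlgebraicGeometry TopologicalSpace Opposite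

namespace Groth.Agent.H5.IntN

open Groth.Agent.LD Groth.Agent.LD.QC Groth.Agent.H5.Curve4 Groth.Agent.H5.DegC Groth.Agent.H5.Snap
open Groth.Agent.H5.Deg Groth.Agent.H5.HP

variable (k : Type u) [Field k] {X : Scheme.{u}} [X.Over (Spec (CommRingCat.of k))]
  [IsProper (X ↘ Spec (CommRingCat.of k))]

/-- an ample submodule of a power gives maximal growth of sections. -/
theorem kodaira_mpr (n : ℕ) (hn : topologicalKrullDim X = ((n : ℕ) : WithBot ℕ∞))
    (L : X.Modules) (hL : PicF.IsInvertible L) (ν : ℕ) (A : X.Modules)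
    (φ : A ⟶ CohB1.tensorPow L ν) (hν : 0 < ν) (hA : CohB1.IsAmple A) [Mono φ] :
    ∃ ν' a : ℕ, 0 < ν' ∧ 0 < a ∧ ∀ μ : ℕ, 1 ≤ μ →
      μ ^ n ≤ a * Module.finrank k (Coh.HH X (CohB1.tensorPow L (ν' * μ)) 0) := by
  obtain ⟨c, n₁, hc, hn₁, h⟩ := exists_le_h0_tensorPow k n hn A hA
  haveI := qc_of_isInvertible L hL
  have hLν : PicF.IsInvertible (CohB1.tensorPow L ν) := isInvertible_tensorPow hL ν
  refine ⟨ν * n₁, c, Nat.mul_pos hν hn₁, hc, fun μ hμ => ?_⟩
  obtain ⟨ψ, hψ⟩ := exists_mono_tensorPow hA.1 hLν φ (n₁ * μ)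
  haveI := hψ
  have h1 := finrank_H0_le_of_mono k ψ
    (isCoh_of_isInvertible (isInvertible_tensorPow hLν (n₁ * μ)))
  have h2 : Module.finrank k (Coh.HH X (CohB1.tensorPow (CohB1.tensorPow L ν) (n₁ * μ)) 0) =
      Module.finrank k (Coh.HH X (CohB1.tensorPow L (ν * n₁ * μ)) 0) :=
    Groth.Agent.LD.FBC.finrank_HH_congr k (powPowIso L ν (n₁ * μ) ≪≫
      castPow L ((powIdx_eq ν (n₁ * μ)).trans (mul_assoc ν n₁ μ).symm)) 0
  have h3 := h (n₁ * μ) (Nat.le_mul_of_pos_right n₁ hμ)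
  calc μ ^ n ≤ (n₁ * μ) ^ n := Nat.pow_le_pow_left (Nat.le_mul_of_pos_left μ hn₁) n
    _ ≤ c * Module.finrank k (Coh.HH X (CohB1.tensorPow A (n₁ * μ)) 0) := h3
    _ ≤ c * Module.finrank k
        (Coh.HH X (CohB1.tensorPow (CohB1.tensorPow L ν) (n₁ * μ)) 0) :=
      Nat.mul_le_mul_left c h1
    _ = c * Module.finrank k (Coh.HH X (CohB1.tensorPow L (ν * n₁ * μ)) 0) := by rw [h2]

/-- maximal growth of sections gives an ample submodule of a power (Kodaira's lemma). -/
theorem kodaira_mp [IsIntegral X] (n : ℕ)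
    (hn : topologicalKrullDim X = ((n : ℕ) : WithBot ℕ∞))
    (H : X.Modules) (hH : CohB1.IsAmple H) (L : X.Modules) (hL : PicF.IsInvertible L)
    (ν a : ℕ) (hν : 0 < ν)
    (hgrow : ∀ μ : ℕ, 1 ≤ μ →
      μ ^ n ≤ a * Module.finrank k (Coh.HH X (CohB1.tensorPow L (ν * μ)) 0)) :
    ∃ (ν' : ℕ) (A : X.Modules) (φ : A ⟶ CohB1.tensorPow L ν'),
      0 < ν' ∧ CohB1.IsAmple A ∧ Mono φ := by
  classical
  haveI : IsNoetherian X := Curve2.isNoetherian_of_proper k X
  haveI : CompactSpace X := hH.2.1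
  haveI : X.IsSeparated := isSeparated_of_affine_genLocus H hH.1 hH.2.2
  obtain ⟨j, s, hj, hηs⟩ := exists_section_mem_genLocus H hH (genericPoint X)
  have hAi : PicF.IsInvertible (CohB1.tensorPow H j) := isInvertible_tensorPow hH.1 j
  have hAa : CohB1.IsAmple (CohB1.tensorPow H j) :=
    (Groth.Agent.S2327.result X H hH.1 j hj).mp hH
  obtain ⟨A', hA'i, ⟨ε⟩⟩ := Groth.Agent.H5.Glue.exists_inverse _ hAi
  have hO : PicF.IsInvertible (unitMod X) := isInvertible_unit X
  have hOc : Coh.IsCoh (unitMod X) := isCoh_of_isInvertible hO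
  have hA'c : Coh.IsCoh A' := isCoh_of_isInvertible hA'i
  have hON : PicF.IsInvertible (CohB1.tensorMod (unitMod X) (CohB1.tensorPow H j)) :=
    isInvertible_tensorMod hO hAi
  have hONc := isCoh_of_isInvertible hON
  have hL₁ : PicF.IsInvertible (CohB1.tensorPow L ν) := isInvertible_tensorPow hL ν
  haveI := qc_of_isInvertible _ hL
  haveI := qc_of_isInvertible _ hAi
  haveI := qc_of_isInvertible _ hA'i
  haveI := qc_of_isInvertible _ hL₁
  -- multiplication by `s` is a monomorphism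
  have hτ : twistBy (unitMod X) s ≠ 0 := by
    intro h0
    have hW : CohB1.genLocus _ s ≤ CohB1.genLocus _ s := le_rfl
    have h1 := eq_zero_of_twistBy_eq_zero (unitMod X) s (CohB1.genLocus _ s) hW
      (show Γ(unitMod X, CohB1.genLocus _ s) from (1 : Γ(X, CohB1.genLocus _ s)))
      (by rw [h0]; rfl)
    haveI : Nonempty (CohB1.genLocus (CohB1.tensorPow H j) s) := ⟨⟨genericPoint X, hηs⟩⟩
    haveI : IsDomain Γ(X, CohB1.genLocus (CohB1.tensorPow H j) s) :=
      IsIntegral.component_integral _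
    have h2 : (1 : Γ(X, CohB1.genLocus (CohB1.tensorPow H j) s)) = 0 := h1
    exact one_ne_zero h2
  haveI : Mono (twistBy (unitMod X) s) := Curve.mono_of_ne_zero hO hON _ hτ
  have hS := shortExact_coker (twistBy (unitMod X) s)
  have hQc : Coh.IsCoh (cokernel (twistBy (unitMod X) s)) := isCoh_cokernel _ hOc hONc
  have hsuppQ := support_cokernel_twistBy_subset (unitMod X) hOc.2 hAi s
  have hQne : CohB1.support (cokernel (twistBy (unitMod X) s)) ≠ Set.univ := by
    intro heq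
    have hmem : genericPoint X ∈ CohB1.support (cokernel (twistBy (unitMod X) s)) := by
      rw [heq]; trivial
    exact (hsuppQ hmem).2 hηs
  have hS₁ := shortExact_map_tensorRightMod hS A' hA'i
  have hFc : Coh.IsCoh (CohB1.tensorMod (cokernel (twistBy (unitMod X) s)) A') :=
    isCoh_tensorMod' hQc hA'c
  have hFsupp : CohB1.support (CohB1.tensorMod (cokernel (twistBy (unitMod X) s)) A') ⊆
      CohB1.support (cokernel (twistBy (unitMod X) s)) :=
    support_tensorMod_subset _ hQc.2 hA'i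
  -- the basic inequality
  have hineq : ∀ μ : ℕ, Module.finrank k (Coh.HH X (CohB1.tensorPow L (ν * μ)) 0) ≤
      Module.finrank k (Coh.HH X (CohB1.tensorMod (CohB1.tensorMod (unitMod X) A')
        (CohB1.tensorPow (CohB1.tensorPow L ν) μ)) 0) +
      Module.finrank k (Coh.HH X ((tpFun 1 (fun _ : Fin 1 => CohB1.tensorPow L ν)
        (fun _ => μ)).obj (CohB1.tensorMod (cokernel (twistBy (unitMod X) s)) A')) 0) := by
    intro μ
    have hS₂ := shortExact_map_tpFun 1 (fun _ : Fin 1 => CohB1.tensorPow L ν) (fun _ => hL₁)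
      (fun _ => μ) _ hS₁
    have h := Curve2.finrank_H0_le k X hS₂
      (isCoh_tpFun 1 (fun _ : Fin 1 => CohB1.tensorPow L ν) (fun _ => hL₁) (fun _ => μ) _
        (isCoh_tensorMod' hONc hA'c))
      (isCoh_tpFun 1 (fun _ : Fin 1 => CohB1.tensorPow L ν) (fun _ => hL₁) (fun _ => μ) _ hFc)
    have e2 : CohB1.tensorMod (CohB1.tensorMod (CohB1.tensorMod (unitMod X)
        (CohB1.tensorPow H j)) A') (CohB1.tensorPow (CohB1.tensorPow L ν) μ) ≅
        CohB1.tensorPow L (ν * μ) :=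
      tensorIso' (tensorIso' (unitorL' _) (Iso.refl A') ≪≫ ε) (Iso.refl _) ≪≫ unitorL' _ ≪≫
        powPowIso L ν μ ≪≫ castPow L (powIdx_eq ν μ)
    rw [← Groth.Agent.LD.FBC.finrank_HH_congr k e2 0]
    exact h
  -- some twist has a section
  obtain ⟨μ, hμ, hne⟩ : ∃ μ : ℕ, 1 ≤ μ ∧
      Module.finrank k (Coh.HH X (CohB1.tensorMod (CohB1.tensorMod (unitMod X) A')
        (CohB1.tensorPow (CohB1.tensorPow L ν) μ)) 0) ≠ 0 := by
    by_contra hcon
    push Not at hcon
    have hb : ∀ μ : ℕ, 1 ≤ μ → μ ^ n ≤ a * Module.finrank k (Coh.HH X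
        ((tpFun 1 (fun _ : Fin 1 => CohB1.tensorPow L ν) (fun _ => μ)).obj
          (CohB1.tensorMod (cokernel (twistBy (unitMod X) s)) A')) 0) := by
      intro μ hμ
      have h1 := hineq μ
      rw [hcon μ hμ, zero_add] at h1
      exact (hgrow μ hμ).trans (Nat.mul_le_mul_left a h1)
    rcases n with _ | e
    · have hlt := dim_lt_of_isClosed_ne_univ
        (CohB1.support (cokernel (twistBy (unitMod X) s))) (isClosed_support_of_isCoh hQc)
        hQne 0 (le_of_eq hn)
      have hempty := eq_empty_of_dim_lt_zero _ hlt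
      have hz : IsZero (CohB1.tensorMod (cokernel (twistBy (unitMod X) s)) A') := by
        apply isZero_of_support_eq_empty
        apply Set.subset_empty_iff.mp
        rw [← hempty]
        exact hFsupp
      have h1 := hb 1 le_rfl
      rw [finrank_H0_of_isZero k X ((tpFun 1 (fun _ : Fin 1 => CohB1.tensorPow L ν)
        (fun _ => 1)).map_isZero hz)] at h1
      simp at h1
    · have hdimQ := dim_le_of_ne_univ (r := e) hn
        (CohB1.support (cokernel (twistBy (unitMod X) s))) (isClosed_support_of_isCoh hQc) hQne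
      obtain ⟨C, hC⟩ := exists_h0_twist_le k e H hH (CohB1.tensorPow L ν) hL₁ _ hFc
        ((dim_mono hFsupp).trans hdimQ)
      obtain ⟨T, hT⟩ : ∃ T : ℕ, T = a * C * 2 ^ e := ⟨_, rfl⟩
      have h1 := hb (T + 1) (Nat.le_add_left 1 T)
      have h2 := hC (T + 1)
      have h3 : (T + 1 + 1) ^ e ≤ 2 ^ e * (T + 1) ^ e := by
        rw [← Nat.mul_pow]
        exact Nat.pow_le_pow_left (by omega) e
      have h6 : (T + 1) ^ (e + 1) ≤ a * (C * (2 ^ e * (T + 1) ^ e)) :=
        h1.trans (Nat.mul_le_mul_left a (h2.trans (Nat.mul_le_mul_left C h3)))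
      have h4 : (T + 1) ^ e * (T + 1) ≤ (T + 1) ^ e * T :=
        calc (T + 1) ^ e * (T + 1) = (T + 1) ^ (e + 1) := (pow_succ (T + 1) e).symm
          _ ≤ a * (C * (2 ^ e * (T + 1) ^ e)) := h6
          _ = (T + 1) ^ e * T := by rw [hT]; ring
      have h5 := Nat.le_of_mul_le_mul_left h4 (pow_pos (Nat.succ_pos T) e)
      omega
  -- the section and the resulting monomorphism
  haveI := qc_of_isInvertible _ (isInvertible_tensorPow hL₁ μ)
  have hTi : PicF.IsInvertible (CohB1.tensorMod (CohB1.tensorMod (unitMod X) A')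
      (CohB1.tensorPow (CohB1.tensorPow L ν) μ)) :=
    isInvertible_tensorMod (isInvertible_tensorMod hO hA'i) (isInvertible_tensorPow hL₁ μ)
  have hnt : Nontrivial (Coh.HH X (CohB1.tensorMod (CohB1.tensorMod (unitMod X) A')
      (CohB1.tensorPow (CohB1.tensorPow L ν) μ)) 0) :=
    Module.nontrivial_of_finrank_pos (R := k) (Nat.pos_of_ne_zero hne)
  obtain ⟨σ, hσ⟩ := exists_ne_zero_of_nontrivial_HH _ hnt
  haveI : Mono σ := Curve.mono_of_ne_zero hO hTi σ hσ
  haveI := mono_tensorMap_of_isInvertible σ (CohB1.tensorPow H j) hAi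
  have e3 : CohB1.tensorMod (CohB1.tensorMod (CohB1.tensorMod (unitMod X) A')
      (CohB1.tensorPow (CohB1.tensorPow L ν) μ)) (CohB1.tensorPow H j) ≅
      CohB1.tensorPow L (ν * μ) :=
    tensorCommAll _ _ ≪≫
      tensorIso' (Iso.refl (CohB1.tensorPow H j)) (tensorIso' (unitorL' A') (Iso.refl _)) ≪≫
      (tensorAssoc (CohB1.tensorPow H j) A' (CohB1.tensorPow (CohB1.tensorPow L ν) μ)).symm ≪≫
      tensorIso' ε (Iso.refl _) ≪≫ unitorL' _ ≪≫
      powPowIso L ν μ ≪≫ castPow L (powIdx_eq ν μ)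
  refine ⟨ν * μ, CohB1.tensorPow H j,
    (unitorL' (CohB1.tensorPow H j)).inv ≫
      KoszTw.tensorMap σ (𝟙 (CohB1.tensorPow H j)) ≫ e3.hom,
    Nat.mul_pos hν hμ, hAa, ?_⟩
  infer_instance

end Groth.Agent.H5.IntN
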