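import Mathlib
import Groth.Agent.Lib.Helper5.IntN.Kod3
import Groth.Agent.Lib.Lead.QC.SpanEpi

/-!
# Big invertible modules: growth of sections ⇔ every ample module embeds in a power
(S17586, S17587).
-/

set_option autoImplicit false
universe u
open CategoryTheory CategoryTheory.Limits AlgebraicGeometry TopologicalSpace Opposite

namespace Groth.Agent.H5.IntN

open Groth.Agent.LD Groth.Agent.LD.QC Groth.Agent.H5.Curve4 Groth.Agent.H5.DegC Groth.Agent.H5.Snap
open Groth.Agent.H5.Deg Groth.Agent.H5.HP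
open scoped fwdDiff

section general

variable {X : Scheme.{u}}

/-- a nonzero morphism `O ⟶ M` gives a nontrivial `H⁰`. -/
lemma nontrivial_HH_of_ne_zero {M : X.Modules} (σ : unitMod X ⟶ M) (hσ : σ ≠ 0) :
    Nontrivial (Coh.HH X M 0) := by
  refine ⟨⟨(CL.HH0Equiv M).symm (sectionOfHom σ), 0, fun h => hσ ?_⟩⟩
  have h1 : sectionOfHom σ = 0 := by
    have h2 := congrArg (CL.HH0Equiv M) h
    rw [AddEquiv.apply_symm_apply, map_zero] at h2
    exact h2
  rw [← homOfSection_sectionOfHom σ, h1, homOfSection_zero]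

/-- twists of an invertible module by large powers of an ample module have nonzero sections. -/
lemma exists_section_ne_zero_of_isAmple [Nonempty X] [QuasiSeparatedSpace X] (H : X.Modules)
    (hH : CohB1.IsAmple H) (N : X.Modules) (hN : PicF.IsInvertible N) :
    ∃ n₀ : ℕ, ∀ n, n₀ ≤ n →
      ∃ t : unitMod X ⟶ CohB1.tensorMod N (CohB1.tensorPow H n), t ≠ 0 := by
  haveI := qc_of_isInvertible N hN
  obtain ⟨n₀, hn₀⟩ := exists_epi_free_of_isAmple H hH N (isCoh_of_isInvertible hN).2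
  refine ⟨n₀, fun n hn => ?_⟩
  obtain ⟨K, p, hp⟩ := hn₀ n hn
  have hMi : PicF.IsInvertible (CohB1.tensorMod N (CohB1.tensorPow H n)) :=
    isInvertible_tensorMod hN (isInvertible_tensorPow hH.1 n)
  by_contra hcon
  push Not at hcon
  have hp0 : p = 0 := by
    refine Sigma.hom_ext _ _ (fun j => ?_)
    rw [hcon (Sigma.ι (fun _ : Fin K => Coh.structureModule X) j ≫ p), comp_zero]
  haveI := hp
  exact not_isZero_of_isInvertible hMi (IsZero.of_epi_eq_zero p hp0)

/-- large powers of an ample module have nonzero sections. -/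
lemma exists_section_tensorPow_ne_zero [Nonempty X] [QuasiSeparatedSpace X] (H : X.Modules)
    (hH : CohB1.IsAmple H) :
    ∃ n₀ : ℕ, ∀ n, n₀ ≤ n → ∃ t : unitMod X ⟶ CohB1.tensorPow H n, t ≠ 0 := by
  obtain ⟨n₀, hn₀⟩ := exists_section_ne_zero_of_isAmple H hH (unitMod X) (isInvertible_unit X)
  refine ⟨n₀, fun n hn => ?_⟩
  obtain ⟨t, ht⟩ := hn₀ n hn
  refine ⟨t ≫ (unitorL' (CohB1.tensorPow H n)).hom, fun h => ht ?_⟩
  rw [← cancel_mono (unitorL' (CohB1.tensorPow H n)).hom, h, zero_comp]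

/-- a monomorphism `H → L^{m₀}` induces monomorphisms `L^r ⊗ H^q → L^{r + m₀ q}`. -/
lemma exists_mono_twist_pow {H L : X.Modules} (hH : PicF.IsInvertible H)
    (hL : PicF.IsInvertible L) (m₀ : ℕ) (φ : H ⟶ CohB1.tensorPow L m₀) [Mono φ]
    (r q m : ℕ) (hm : r + m₀ * q = m) :
    ∃ ψ : CohB1.tensorMod (CohB1.tensorPow L r) (CohB1.tensorPow H q) ⟶ CohB1.tensorPow L m,
      Mono ψ := by
  haveI := qc_of_isInvertible L hL
  have hLm : PicF.IsInvertible (CohB1.tensorPow L m₀) := isInvertible_tensorPow hL m₀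
  obtain ⟨ψ, hψ⟩ := exists_mono_tensorPow hH hLm φ q
  haveI := hψ
  haveI := mono_tensorMap_left_of_isFinLocFree ψ (CohB1.tensorPow L r)
    (Curve.isFinLocFree_of_rank ((isInvertible_iff _).mp (isInvertible_tensorPow hL r)))
  refine ⟨KoszTw.tensorMap (𝟙 (CohB1.tensorPow L r)) ψ ≫
    (tensorIso' (Iso.refl (CohB1.tensorPow L r))
        (powPowIso L m₀ q ≪≫ castPow L (powIdx_eq m₀ q)) ≪≫
      powAddIso L r (m₀ * q) ≪≫ castPow L hm).hom, ?_⟩
  infer_instance

end general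

variable (k : Type u) [Field k] {X : Scheme.{u}} [X.Over (Spec (CommRingCat.of k))]
  [IsProper (X ↘ Spec (CommRingCat.of k))]

/-- the Hilbert function of an ample module twisted by an invertible module. -/
theorem ample_twist_h0_data (d : ℕ) (hd : topologicalKrullDim X ≤ ((d : ℕ) : WithBot ℕ∞))
    (L : X.Modules) (hL : CohB1.IsAmple L) (N : X.Modules) (hN : PicF.IsInvertible N) :
    ∃ (f : ℕ → ℤ) (n₀ : ℕ), (∀ j, d < j → (fwdDiff (1 : ℕ))^[j] f 0 = 0) ∧
      (∀ n, n₀ ≤ n → (Module.finrank k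
        (Coh.HH X (CohB1.tensorMod N (CohB1.tensorPow L n)) 0) : ℤ) = f n) ∧
      (topologicalKrullDim X = ((d : ℕ) : WithBot ℕ∞) → 0 < (fwdDiff (1 : ℕ))^[d] f 0) := by
  classical
  have hLi : PicF.IsInvertible L := hL.1
  haveI : L.IsQuasicoherent := qc_of_isInvertible L hLi
  haveI : N.IsQuasicoherent := qc_of_isInvertible N hN
  obtain ⟨L', hL', hLL'⟩ := Groth.Agent.H5.Glue.exists_inverse L hLi
  haveI : L'.IsQuasicoherent := qc_of_isInvertible L' hL'
  have hOc : Coh.IsCoh (unitMod X) := isCoh_of_isInvertible (isInvertible_unit X)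
  have hpowi : ∀ m, PicF.IsInvertible (CohB1.tensorPow L m) :=
    fun m => isInvertible_tensorPow hLi m
  have hGi : ∀ m, PicF.IsInvertible (CohB1.tensorMod N (CohB1.tensorPow L m)) :=
    fun m => isInvertible_tensorMod hN (hpowi m)
  have hGc : ∀ m, Coh.IsCoh (CohB1.tensorMod N (CohB1.tensorPow L m)) :=
    fun m => isCoh_of_isInvertible (hGi m)
  let f : ℕ → ℤ := fun m => FGA.eulerCharLE k X (CohB1.tensorMod N (CohB1.tensorPow L m)) d
  have hfe : ∀ m, f m = Curv2.euler k X (CohB1.tensorMod N (CohB1.tensorPow L m)) :=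
    fun m => eulerCharLE_eq_euler k d hd _ (hGc m)
  have hG : ∀ m, Nonempty (CohB1.tensorMod L' (CohB1.tensorMod N (CohB1.tensorPow L (m + 1))) ≅
      CohB1.tensorMod N (CohB1.tensorPow L m)) := by
    intro m
    haveI := qc_of_isInvertible _ (hpowi m)
    haveI := qc_of_isInvertible _ (hpowi (m + 1))
    exact ⟨tensorCommAll L' _ ≪≫ tensorAssoc N (CohB1.tensorPow L (m + 1)) L' ≪≫
      tensorIso' (Iso.refl N) (tensorAssoc (CohB1.tensorPow L m) L L' ≪≫
        tensorIso' (Iso.refl _) hLL'.some ≪≫ SecTwist.unitorR _)⟩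
  have key := intNum_const_eq_fwdDiff k d L' hL'
    (fun m => CohB1.tensorMod N (CohB1.tensorPow L m)) hGc hG
  have hg : ∀ j, (fwdDiff (1 : ℕ))^[j] f 0 =
      FGA.intNum k X d (fun _ : Fin j => L') (CohB1.tensorMod N (CohB1.tensorPow L (0 + j))) :=
    fun j => (key j 0).symm
  have hsuppO : CohB1.support (unitMod X) = Set.univ :=
    Set.eq_univ_iff_forall.mpr (fun x => mem_support_unitMod' x)
  have hvan : ∀ j, d < j → (fwdDiff (1 : ℕ))^[j] f 0 = 0 := by
    intro j hj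
    rw [hg j]
    apply intNum_eq_zero k d hd _ (fun _ => hL') _ (hGc _)
    refine lt_of_le_of_lt
      ((Topology.IsEmbedding.subtypeVal.isInducing.topologicalKrullDim_le).trans hd) ?_
    exact_mod_cast hj
  obtain ⟨n₀, hn₀⟩ := Groth.Agent.LD.PN.AmS.serre_vanishing_of_isAmple k
    (X ↘ Spec (CommRingCat.of k)) L hLi hL N (isCoh_of_isInvertible hN)
  refine ⟨f, n₀, hvan, ?_, ?_⟩
  · intro n hn
    have hsub : ∀ p, 0 < p →
        Subsingleton (Coh.HH X (CohB1.tensorMod N (CohB1.tensorPow L n)) p) :=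
      fun p hp => hn₀ n hn p hp
    rw [hfe, Groth.Agent.LD.Curve.euler_eq_sum k X _ 0 hsub]
    simp
  · intro hX
    have hdimO : topologicalKrullDim (CohB1.support (unitMod X)) = ((d : ℕ) : WithBot ℕ∞) := by
      rw [hsuppO, ← hX]
      exact IsHomeomorph.topologicalKrullDim_eq _ (Homeomorph.Set.univ X).isHomeomorph
    rw [hg d, intNum_invertible_eq k d hd le_rfl _ (fun _ => hL') _ (hGi _)]
    exact intNum_pos_of_isAmple k X d hd (fun _ => L) (fun _ => L') (fun _ => hL)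
      (fun _ => hLL') _ hOc hdimO

/-- `n^d = O(h⁰(N ⊗ L^n))` for `L` ample and `N` invertible on a proper scheme of dimension
`d`. -/
theorem exists_le_h0_twist (d : ℕ) (hX : topologicalKrullDim X = ((d : ℕ) : WithBot ℕ∞))
    (L : X.Modules) (hL : CohB1.IsAmple L) (N : X.Modules) (hN : PicF.IsInvertible N) :
    ∃ c n₁ : ℕ, 0 < c ∧ 0 < n₁ ∧ ∀ n : ℕ, n₁ ≤ n →
      n ^ d ≤ c * Module.finrank k (Coh.HH X (CohB1.tensorMod N (CohB1.tensorPow L n)) 0) := by
  obtain ⟨f, n₀, hvan, hh0, hpos⟩ := ample_twist_h0_data k d (le_of_eq hX) L hL N hN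
  obtain ⟨c, n₁, hc, hn₁, h⟩ := exists_lower_of_fwdDiff f d hvan (hpos hX)
  refine ⟨c, max n₁ n₀, hc, lt_of_lt_of_le hn₁ (le_max_left _ _), fun n hn => ?_⟩
  have h1 := h n (le_trans (le_max_left _ _) hn)
  rw [← hh0 n (le_trans (le_max_right _ _) hn)] at h1
  exact_mod_cast h1

/-- **Kodaira's lemma**, core form: under maximal growth of sections of the powers of `L`, every
invertible module with a nonzero section embeds into some `L^{νμ}`. -/
theorem kodaira_core [IsIntegral X] (n : ℕ)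
    (hn : topologicalKrullDim X = ((n : ℕ) : WithBot ℕ∞))
    (H : X.Modules) (hH : CohB1.IsAmple H) (L : X.Modules) (hL : PicF.IsInvertible L)
    (ν a : ℕ)
    (hgrow : ∀ μ : ℕ, 1 ≤ μ →
      μ ^ n ≤ a * Module.finrank k (Coh.HH X (CohB1.tensorPow L (ν * μ)) 0))
    (P : X.Modules) (hP : PicF.IsInvertible P) (s : unitMod X ⟶ P) (hs : s ≠ 0) :
    ∃ (μ : ℕ) (φ : P ⟶ CohB1.tensorPow L (ν * μ)), 1 ≤ μ ∧ Mono φ := by
  classical
  haveI : IsNoetherian X := Curve2.isNoetherian_of_proper k X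
  have hηs : genericPoint X ∈ CohB1.genLocus P s := Curve2.genericPoint_mem_genLocus hP s hs
  obtain ⟨A', hA'i, ⟨ε⟩⟩ := Groth.Agent.H5.Glue.exists_inverse P hP
  have hO : PicF.IsInvertible (unitMod X) := isInvertible_unit X
  have hOc : Coh.IsCoh (unitMod X) := isCoh_of_isInvertible hO
  have hA'c : Coh.IsCoh A' := isCoh_of_isInvertible hA'i
  have hON : PicF.IsInvertible (CohB1.tensorMod (unitMod X) P) := isInvertible_tensorMod hO hP
  have hONc := isCoh_of_isInvertible hON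
  have hL₁ : PicF.IsInvertible (CohB1.tensorPow L ν) := isInvertible_tensorPow hL ν
  haveI := qc_of_isInvertible _ hL
  haveI := qc_of_isInvertible _ hP
  haveI := qc_of_isInvertible _ hA'i
  haveI := qc_of_isInvertible _ hL₁
  -- multiplication by `s` is a monomorphism
  have hτ : twistBy (unitMod X) s ≠ 0 := by
    intro h0
    have hW : CohB1.genLocus P s ≤ CohB1.genLocus P s := le_rfl
    have h1 := eq_zero_of_twistBy_eq_zero (unitMod X) s (CohB1.genLocus P s) hW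
      (show Γ(unitMod X, CohB1.genLocus P s) from (1 : Γ(X, CohB1.genLocus P s)))
      (by rw [h0]; rfl)
    haveI : Nonempty (CohB1.genLocus P s) := ⟨⟨genericPoint X, hηs⟩⟩
    haveI : IsDomain Γ(X, CohB1.genLocus P s) := IsIntegral.component_integral _
    have h2 : (1 : Γ(X, CohB1.genLocus P s)) = 0 := h1
    exact one_ne_zero h2
  haveI : Mono (twistBy (unitMod X) s) := Curve.mono_of_ne_zero hO hON _ hτ
  have hS := shortExact_coker (twistBy (unitMod X) s)
  have hQc : Coh.IsCoh (cokernel (twistBy (unitMod X) s)) := isCoh_cokernel _ hOc hONc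
  have hsuppQ := support_cokernel_twistBy_subset (unitMod X) hOc.2 hP s
  have hQne : CohB1.support (cokernel (twistBy (unitMod X) s)) ≠ Set.univ := by
    intro heq
    have hmem : genericPoint X ∈ CohB1.support (cokernel (twistBy (unitMod X) s)) := by
      rw [heq]; trivial
    exact (hsuppQ hmem).2 hηs
  have hS₁ := shortExact_map_tensorRightMod hS A' hA'i
  have hFc : Coh.IsCoh (CohB1.tensorMod (cokernel (twistBy (unitMod X) s)) A') :=
    isCoh_tensorMod' hQc hA'c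
  have hFsupp : CohB1.support (CohB1.tensorMod (cokernel (twistBy (unitMod X) s)) A') ⊆
      CohB1.support (cokernel (twistBy (unitMod X) s)) :=
    support_tensorMod_subset _ hQc.2 hA'i
  -- the basic inequality
  have hineq : ∀ μ : ℕ, Module.finrank k (Coh.HH X (CohB1.tensorPow L (ν * μ)) 0) ≤
      Module.finrank k (Coh.HH X (CohB1.tensorMod (CohB1.tensorMod (unitMod X) A')
        (CohB1.tensorPow (CohB1.tensorPow L ν) μ)) 0) +
      Module.finrank k (Coh.HH X ((tpFun 1 (fun _ : Fin 1 => CohB1.tensorPow L ν)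
        (fun _ => μ)).obj (CohB1.tensorMod (cokernel (twistBy (unitMod X) s)) A')) 0) := by
    intro μ
    have hS₂ := shortExact_map_tpFun 1 (fun _ : Fin 1 => CohB1.tensorPow L ν) (fun _ => hL₁)
      (fun _ => μ) _ hS₁
    have h := Curve2.finrank_H0_le k X hS₂
      (isCoh_tpFun 1 (fun _ : Fin 1 => CohB1.tensorPow L ν) (fun _ => hL₁) (fun _ => μ) _
        (isCoh_tensorMod' hONc hA'c))
      (isCoh_tpFun 1 (fun _ : Fin 1 => CohB1.tensorPow L ν) (fun _ => hL₁) (fun _ => μ) _ hFc)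
    have e2 : CohB1.tensorMod (CohB1.tensorMod (CohB1.tensorMod (unitMod X) P) A')
        (CohB1.tensorPow (CohB1.tensorPow L ν) μ) ≅ CohB1.tensorPow L (ν * μ) :=
      tensorIso' (tensorIso' (unitorL' _) (Iso.refl A') ≪≫ ε) (Iso.refl _) ≪≫ unitorL' _ ≪≫
        powPowIso L ν μ ≪≫ castPow L (powIdx_eq ν μ)
    rw [← Groth.Agent.LD.FBC.finrank_HH_congr k e2 0]
    exact h
  -- some twist has a section
  obtain ⟨μ, hμ, hne⟩ : ∃ μ : ℕ, 1 ≤ μ ∧
      Module.finrank k (Coh.HH X (CohB1.tensorMod (CohB1.tensorMod (unitMod X) A')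
        (CohB1.tensorPow (CohB1.tensorPow L ν) μ)) 0) ≠ 0 := by
    by_contra hcon
    push Not at hcon
    have hb : ∀ μ : ℕ, 1 ≤ μ → μ ^ n ≤ a * Module.finrank k (Coh.HH X
        ((tpFun 1 (fun _ : Fin 1 => CohB1.tensorPow L ν) (fun _ => μ)).obj
          (CohB1.tensorMod (cokernel (twistBy (unitMod X) s)) A')) 0) := by
      intro μ hμ
      have h1 := hineq μ
      rw [hcon μ hμ, zero_add] at h1
      exact (hgrow μ hμ).trans (Nat.mul_le_mul_left a h1)
    rcases n with _ | e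
    · have hlt := dim_lt_of_isClosed_ne_univ
        (CohB1.support (cokernel (twistBy (unitMod X) s))) (isClosed_support_of_isCoh hQc)
        hQne 0 (le_of_eq hn)
      have hempty := eq_empty_of_dim_lt_zero _ hlt
      have hz : IsZero (CohB1.tensorMod (cokernel (twistBy (unitMod X) s)) A') := by
        apply isZero_of_support_eq_empty
        apply Set.subset_empty_iff.mp
        rw [← hempty]
        exact hFsupp
      have h1 := hb 1 le_rfl
      rw [finrank_H0_of_isZero k X ((tpFun 1 (fun _ : Fin 1 => CohB1.tensorPow L ν)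
        (fun _ => 1)).map_isZero hz)] at h1
      simp at h1
    · have hdimQ := dim_le_of_ne_univ (r := e) hn
        (CohB1.support (cokernel (twistBy (unitMod X) s))) (isClosed_support_of_isCoh hQc) hQne
      obtain ⟨C, hC⟩ := exists_h0_twist_le k e H hH (CohB1.tensorPow L ν) hL₁ _ hFc
        ((dim_mono hFsupp).trans hdimQ)
      obtain ⟨T, hT⟩ : ∃ T : ℕ, T = a * C * 2 ^ e := ⟨_, rfl⟩
      have h1 := hb (T + 1) (Nat.le_add_left 1 T)
      have h2 := hC (T + 1)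
      have h3 : (T + 1 + 1) ^ e ≤ 2 ^ e * (T + 1) ^ e := by
        rw [← Nat.mul_pow]
        exact Nat.pow_le_pow_left (by omega) e
      have h6 : (T + 1) ^ (e + 1) ≤ a * (C * (2 ^ e * (T + 1) ^ e)) :=
        h1.trans (Nat.mul_le_mul_left a (h2.trans (Nat.mul_le_mul_left C h3)))
      have h4 : (T + 1) ^ e * (T + 1) ≤ (T + 1) ^ e * T :=
        calc (T + 1) ^ e * (T + 1) = (T + 1) ^ (e + 1) := (pow_succ (T + 1) e).symm
          _ ≤ a * (C * (2 ^ e * (T + 1) ^ e)) := h6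
          _ = (T + 1) ^ e * T := by rw [hT]; ring
      have h5 := Nat.le_of_mul_le_mul_left h4 (pow_pos (Nat.succ_pos T) e)
      omega
  -- the section and the resulting monomorphism
  haveI := qc_of_isInvertible _ (isInvertible_tensorPow hL₁ μ)
  have hTi : PicF.IsInvertible (CohB1.tensorMod (CohB1.tensorMod (unitMod X) A')
      (CohB1.tensorPow (CohB1.tensorPow L ν) μ)) :=
    isInvertible_tensorMod (isInvertible_tensorMod hO hA'i) (isInvertible_tensorPow hL₁ μ)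
  have hnt : Nontrivial (Coh.HH X (CohB1.tensorMod (CohB1.tensorMod (unitMod X) A')
      (CohB1.tensorPow (CohB1.tensorPow L ν) μ)) 0) :=
    Module.nontrivial_of_finrank_pos (R := k) (Nat.pos_of_ne_zero hne)
  obtain ⟨σ, hσ⟩ := exists_ne_zero_of_nontrivial_HH _ hnt
  haveI : Mono σ := Curve.mono_of_ne_zero hO hTi σ hσ
  haveI := mono_tensorMap_of_isInvertible σ P hP
  have e3 : CohB1.tensorMod (CohB1.tensorMod (CohB1.tensorMod (unitMod X) A')
      (CohB1.tensorPow (CohB1.tensorPow L ν) μ)) P ≅ CohB1.tensorPow L (ν * μ) :=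
    tensorCommAll _ _ ≪≫
      tensorIso' (Iso.refl P) (tensorIso' (unitorL' A') (Iso.refl _)) ≪≫
      (tensorAssoc P A' (CohB1.tensorPow (CohB1.tensorPow L ν) μ)).symm ≪≫
      tensorIso' ε (Iso.refl _) ≪≫ unitorL' _ ≪≫
      powPowIso L ν μ ≪≫ castPow L (powIdx_eq ν μ)
  refine ⟨μ, (unitorL' P).inv ≫ KoszTw.tensorMap σ (𝟙 P) ≫ e3.hom, hμ, ?_⟩
  infer_instance

/-- if every ample module embeds in a power of `L`, the sections of the powers of `L` have
maximal growth. -/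
theorem growth_of_big [IsIntegral X] (n : ℕ)
    (hn : topologicalKrullDim X = ((n : ℕ) : WithBot ℕ∞))
    (H : X.Modules) (hH : CohB1.IsAmple H) (L : X.Modules) (hL : PicF.IsInvertible L)
    (m₀ : ℕ) (hm₀ : 0 < m₀) (φ : H ⟶ CohB1.tensorPow L m₀) [Mono φ] :
    ∃ D m₁ : ℕ, 0 < D ∧ ∀ m : ℕ, m₁ ≤ m →
      m ^ n ≤ D * Module.finrank k (Coh.HH X (CohB1.tensorPow L m) 0) := by
  have hdat : ∀ r : ℕ, ∃ c n₁ : ℕ, 0 < c ∧ 0 < n₁ ∧ ∀ q : ℕ, n₁ ≤ q →
      q ^ n ≤ c * Module.finrank k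
        (Coh.HH X (CohB1.tensorMod (CohB1.tensorPow L r) (CohB1.tensorPow H q)) 0) :=
    fun r => exists_le_h0_twist k n hn H hH (CohB1.tensorPow L r) (isInvertible_tensorPow hL r)
  choose c q₁ hc hq₁ hcq using hdat
  have hcs : 0 < ∑ r ∈ Finset.range m₀, c r :=
    lt_of_lt_of_le (hc 0) (Finset.single_le_sum (f := c) (fun _ _ => Nat.zero_le _)
      (Finset.mem_range.mpr hm₀))
  refine ⟨(2 * m₀) ^ n * ∑ r ∈ Finset.range m₀, c r,
    m₀ * ((∑ r ∈ Finset.range m₀, q₁ r) + 1),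
    Nat.mul_pos (pow_pos (Nat.mul_pos two_pos hm₀) n) hcs, fun m hm => ?_⟩
  obtain ⟨q, hq⟩ : ∃ q, q = m / m₀ := ⟨_, rfl⟩
  obtain ⟨r, hr⟩ : ∃ r, r = m % m₀ := ⟨_, rfl⟩
  have hrlt : r < m₀ := by rw [hr]; exact Nat.mod_lt _ hm₀
  have hdecomp : r + m₀ * q = m := by rw [hr, hq]; exact Nat.mod_add_div m m₀
  have hqge : (∑ r ∈ Finset.range m₀, q₁ r) + 1 ≤ q := by
    rw [hq, Nat.le_div_iff_mul_le hm₀, Nat.mul_comm]
    exact hm
  have hqr : q₁ r ≤ q :=
    le_trans (Finset.single_le_sum (f := q₁) (fun _ _ => Nat.zero_le _)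
      (Finset.mem_range.mpr hrlt)) (by omega)
  have hcr : c r ≤ ∑ r ∈ Finset.range m₀, c r :=
    Finset.single_le_sum (f := c) (fun _ _ => Nat.zero_le _) (Finset.mem_range.mpr hrlt)
  obtain ⟨ψ, hψ⟩ := exists_mono_twist_pow hH.1 hL m₀ φ r q m hdecomp
  haveI := hψ
  have h1 := finrank_H0_le_of_mono k ψ (isCoh_of_isInvertible (isInvertible_tensorPow hL m))
  have h2 := hcq r q hqr
  have h3 : m ≤ 2 * m₀ * q := by
    have h4 : m₀ ≤ m₀ * q := Nat.le_mul_of_pos_right m₀ (by omega)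
    have h5 : 2 * m₀ * q = m₀ * q + m₀ * q := by ring
    omega
  calc m ^ n ≤ (2 * m₀ * q) ^ n := Nat.pow_le_pow_left h3 n
    _ = (2 * m₀) ^ n * q ^ n := Nat.mul_pow _ _ _
    _ ≤ (2 * m₀) ^ n * (c r * Module.finrank k
        (Coh.HH X (CohB1.tensorMod (CohB1.tensorPow L r) (CohB1.tensorPow H q)) 0)) :=
      Nat.mul_le_mul_left _ h2
    _ ≤ (2 * m₀) ^ n * ((∑ r ∈ Finset.range m₀, c r) *
        Module.finrank k (Coh.HH X (CohB1.tensorPow L m) 0)) :=
      Nat.mul_le_mul_left _ (Nat.mul_le_mul hcr h1)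
    _ = (2 * m₀) ^ n * (∑ r ∈ Finset.range m₀, c r) *
        Module.finrank k (Coh.HH X (CohB1.tensorPow L m) 0) := (Nat.mul_assoc _ _ _).symm

/-- under maximal growth of sections, every ample module embeds in a positive power of `L`. -/
theorem big_of_growth [IsIntegral X] (n : ℕ)
    (hn : topologicalKrullDim X = ((n : ℕ) : WithBot ℕ∞))
    (H : X.Modules) (hH : CohB1.IsAmple H) (L : X.Modules) (hL : PicF.IsInvertible L)
    (ν a : ℕ) (hν : 0 < ν)
    (hgrow : ∀ μ : ℕ, 1 ≤ μ →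
      μ ^ n ≤ a * Module.finrank k (Coh.HH X (CohB1.tensorPow L (ν * μ)) 0))
    (A : X.Modules) (hA : CohB1.IsAmple A) :
    ∃ (m : ℕ) (φ : A ⟶ CohB1.tensorPow L m), 0 < m ∧ Mono φ := by
  haveI : IsNoetherian X := Curve2.isNoetherian_of_proper k X
  obtain ⟨n₀, hn₀⟩ := exists_section_tensorPow_ne_zero A hA
  obtain ⟨s₁, hs₁⟩ := hn₀ n₀ le_rfl
  obtain ⟨s₂, hs₂⟩ := hn₀ (n₀ + 1) (Nat.le_succ _)
  have hO : PicF.IsInvertible (unitMod X) := isInvertible_unit X
  have hP : PicF.IsInvertible (CohB1.tensorMod (CohB1.tensorPow A n₀) A) :=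
    isInvertible_tensorMod (isInvertible_tensorPow hA.1 n₀) hA.1
  obtain ⟨μ, ψ, hμ, hψ⟩ := kodaira_core k n hn H hH L hL ν a hgrow
    (CohB1.tensorMod (CohB1.tensorPow A n₀) A) hP s₂ hs₂
  haveI := hψ
  haveI : Mono s₁ := Curve.mono_of_ne_zero hO (isInvertible_tensorPow hA.1 n₀) s₁ hs₁
  haveI := mono_tensorMap_of_isInvertible s₁ A hA.1
  refine ⟨ν * μ, (unitorL' A).inv ≫ KoszTw.tensorMap s₁ (𝟙 A) ≫ ψ, Nat.mul_pos hν hμ, ?_⟩
  infer_instance

/-- **S17586**: the two characterisations of bigness. -/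
theorem big_iff_growth [IsIntegral X] (H : X.Modules) (hH : CohB1.IsAmple H) (n : ℕ)
    (hn : topologicalKrullDim X = ((n : ℕ) : WithBot ℕ∞))
    (L : X.Modules) (hL : PicF.IsInvertible L) :
    (∀ A : X.Modules, CohB1.IsAmple A →
        ∃ (m : ℕ) (φ : A ⟶ CohB1.tensorPow L m), 0 < m ∧ Mono φ) ↔
      ∃ C : ℝ, 0 < C ∧ ∃ m₁ : ℕ, ∀ m : ℕ, m₁ ≤ m →
        C * (m : ℝ) ^ n ≤ (Module.finrank k (Coh.HH X (CohB1.tensorPow L m) 0) : ℝ) := by
  constructor
  · intro hbig
    obtain ⟨m₀, φ, hm₀, hφ⟩ := hbig H hH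
    haveI := hφ
    obtain ⟨D, m₁, hD, h⟩ := growth_of_big k n hn H hH L hL m₀ hm₀ φ
    have hDpos : (0 : ℝ) < (D : ℝ) := by exact_mod_cast hD
    refine ⟨1 / (D : ℝ), one_div_pos.mpr hDpos, m₁, fun m hm => ?_⟩
    have h1 : ((m : ℝ)) ^ n ≤
        (Module.finrank k (Coh.HH X (CohB1.tensorPow L m) 0) : ℝ) * (D : ℝ) := by
      have h2 := h m hm
      have h3 : ((m ^ n : ℕ) : ℝ) ≤
          ((D * Module.finrank k (Coh.HH X (CohB1.tensorPow L m) 0) : ℕ) : ℝ) := by
        exact_mod_cast h2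
      rw [mul_comm]
      exact_mod_cast h3
    rw [div_mul_eq_mul_div, one_mul, div_le_iff₀ hDpos]
    exact h1
  · rintro ⟨C, hC, m₁, h⟩ A hA
    obtain ⟨a, ha⟩ := exists_nat_ge (1 / C)
    have hν : 0 < max m₁ 1 := lt_of_lt_of_le one_pos (le_max_right _ _)
    refine big_of_growth k n hn H hH L hL (max m₁ 1) a hν (fun μ hμ => ?_) A hA
    have hle : m₁ ≤ max m₁ 1 * μ :=
      le_trans (le_max_left _ _) (Nat.le_mul_of_pos_right _ hμ)
    have h1 := h (max m₁ 1 * μ) hle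
    have h2 : (μ : ℝ) ^ n ≤ ((max m₁ 1 * μ : ℕ) : ℝ) ^ n := by
      apply pow_le_pow_left₀ (Nat.cast_nonneg _)
      exact_mod_cast Nat.le_mul_of_pos_left μ hν
    have hf0 : (0 : ℝ) ≤
        (Module.finrank k (Coh.HH X (CohB1.tensorPow L (max m₁ 1 * μ)) 0) : ℝ) :=
      Nat.cast_nonneg _
    have h3 : (μ : ℝ) ^ n ≤ (a : ℝ) *
        (Module.finrank k (Coh.HH X (CohB1.tensorPow L (max m₁ 1 * μ)) 0) : ℝ) :=
      calc (μ : ℝ) ^ n ≤ ((max m₁ 1 * μ : ℕ) : ℝ) ^ n := h2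
        _ = 1 / C * (C * ((max m₁ 1 * μ : ℕ) : ℝ) ^ n) := by
          rw [one_div, inv_mul_cancel_left₀ hC.ne']
        _ ≤ 1 / C * (Module.finrank k
            (Coh.HH X (CohB1.tensorPow L (max m₁ 1 * μ)) 0) : ℝ) :=
          mul_le_mul_of_nonneg_left h1 (one_div_pos.mpr hC).le
        _ ≤ (a : ℝ) * (Module.finrank k
            (Coh.HH X (CohB1.tensorPow L (max m₁ 1 * μ)) 0) : ℝ) :=
          mul_le_mul_of_nonneg_right ha hf0
    exact_mod_cast h3

include k in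
/-- **S17587**: a big invertible module has sections in all large degrees. -/
theorem eventually_nontrivial_of_big [IsIntegral X] (H : X.Modules) (hH : CohB1.IsAmple H)
    (L : X.Modules) (hL : PicF.IsInvertible L)
    (hbig : ∀ A : X.Modules, CohB1.IsAmple A →
      ∃ (m : ℕ) (φ : A ⟶ CohB1.tensorPow L m), 0 < m ∧ Mono φ) :
    ∃ m₁ : ℕ, ∀ m : ℕ, m₁ ≤ m → Nontrivial (Coh.HH X (CohB1.tensorPow L m) 0) := by
  haveI : IsNoetherian X := Curve2.isNoetherian_of_proper k X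
  obtain ⟨m₀, φ, hm₀, hφ⟩ := hbig H hH
  haveI := hφ
  have hdat : ∀ r : ℕ, ∃ n₀ : ℕ, ∀ q, n₀ ≤ q →
      ∃ t : unitMod X ⟶ CohB1.tensorMod (CohB1.tensorPow L r) (CohB1.tensorPow H q), t ≠ 0 :=
    fun r => exists_section_ne_zero_of_isAmple H hH _ (isInvertible_tensorPow hL r)
  choose q₁ hq₁ using hdat
  refine ⟨m₀ * ∑ r ∈ Finset.range m₀, q₁ r, fun m hm => ?_⟩
  obtain ⟨q, hq⟩ : ∃ q, q = m / m₀ := ⟨_, rfl⟩
  obtain ⟨r, hr⟩ : ∃ r, r = m % m₀ := ⟨_, rfl⟩
  have hrlt : r < m₀ := by rw [hr]; exact Nat.mod_lt _ hm₀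
  have hdecomp : r + m₀ * q = m := by rw [hr, hq]; exact Nat.mod_add_div m m₀
  have hqge : (∑ r ∈ Finset.range m₀, q₁ r) ≤ q := by
    rw [hq, Nat.le_div_iff_mul_le hm₀, Nat.mul_comm]
    exact hm
  have hqr : q₁ r ≤ q :=
    le_trans (Finset.single_le_sum (f := q₁) (fun _ _ => Nat.zero_le _)
      (Finset.mem_range.mpr hrlt)) hqge
  obtain ⟨t, ht⟩ := hq₁ r q hqr
  obtain ⟨ψ, hψ⟩ := exists_mono_twist_pow hH.1 hL m₀ φ r q m hdecomp
  haveI := hψ
  refine nontrivial_HH_of_ne_zero (t ≫ ψ) (fun h => ht ?_)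
  rw [← cancel_mono ψ, h, zero_comp]

end Groth.Agent.H5.IntN
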