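import Mathlib
import Groth.Agent.Lib.Helper5.IntN.Kod4
import Groth.Agent.Lib.Lead.KS.Chase
import Groth.Agent.Lib.Lead.QC.InvInverse
import Groth.Agent.Lib.Lead.QC.ProjFormulaLF
import Groth.Agent.Lib.Lead.QC.PullInv

/-!
# Polynomial growth of all the cohomology groups of twists

For a coherent module `F` with `dim Supp F < e` on a proper scheme carrying an ample module and a
finite list `Ls` of invertible modules, `h^i(F ⊗ P) ≤ C · (1 + s)^{e-1}` for all tensor products
`P` of `s` members of `Ls`.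
-/

set_option autoImplicit false
universe u
open CategoryTheory CategoryTheory.Limits AlgebraicGeometry TopologicalSpace Opposite

namespace Groth.Agent.H5.IntN

open Groth.Agent.LD Groth.Agent.LD.QC Groth.Agent.H5.Curve4 Groth.Agent.H5.DegC Groth.Agent.H5.Snap
open Groth.Agent.H5.Deg Groth.Agent.H5.HP

section arith

/-- the bound `(1 + s)^{e-1}` (and `0` for `e = 0`). -/
def bnd : ℕ → ℕ → ℕ
  | 0, _ => 0
  | e + 1, s => (1 + s) ^ e

lemma bnd_succ_add : ∀ (e s : ℕ), bnd (e + 1) s + bnd e s ≤ bnd (e + 1) (s + 1)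
  | 0, s => by
    change (1 + s) ^ 0 + 0 ≤ (1 + (s + 1)) ^ 0
    simp
  | e + 1, s => by
    change (1 + s) ^ (e + 1) + (1 + s) ^ e ≤ (1 + (s + 1)) ^ (e + 1)
    have h1 : (1 + s) ^ e ≤ (1 + (s + 1)) ^ e := Nat.pow_le_pow_left (by omega) e
    calc (1 + s) ^ (e + 1) + (1 + s) ^ e = (1 + s) ^ e * (1 + (s + 1)) := by ring
      _ ≤ (1 + (s + 1)) ^ e * (1 + (s + 1)) := Nat.mul_le_mul_right _ h1
      _ = (1 + (s + 1)) ^ (e + 1) := (pow_succ _ _).symm

lemma bnd_le_succ : ∀ (e s : ℕ), bnd e s ≤ bnd (e + 1) s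
  | 0, s => Nat.zero_le _
  | e + 1, s => by
    change (1 + s) ^ e ≤ (1 + s) ^ (e + 1)
    exact Nat.pow_le_pow_right (by omega) (Nat.le_succ e)

lemma bnd_succ_zero (e : ℕ) : bnd (e + 1) 0 = 1 := by
  change (1 + 0) ^ e = 1
  simp

/-- a uniform constant over a finite list. -/
lemma exists_uniform {α : Type*} (p : α → ℕ → Prop)
    (hmono : ∀ a C C', C ≤ C' → p a C → p a C') :
    ∀ l : List α, (∀ a ∈ l, ∃ C, p a C) → ∃ C, ∀ a ∈ l, p a C := by
  intro l
  induction l with
  | nil => intro _; exact ⟨0, fun a ha => by simp at ha⟩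
  | cons a l ih =>
    intro h
    obtain ⟨C₁, h₁⟩ := ih (fun b hb => h b (List.mem_cons_of_mem _ hb))
    obtain ⟨C₂, h₂⟩ := h a (by simp)
    refine ⟨max C₁ C₂, fun b hb => ?_⟩
    rcases List.mem_cons.mp hb with hba | hb'
    · rw [hba]; exact hmono _ _ _ (le_max_right _ _) h₂
    · exact hmono _ _ _ (le_max_left _ _) (h₁ b hb')

lemma finrank_le_add_of_exact {K V W U : Type*} [Field K] [AddCommGroup V] [Module K V]
    [AddCommGroup W] [Module K W] [AddCommGroup U] [Module K U] [Module.Finite K V]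
    [Module.Finite K W] [Module.Finite K U] (f : V →ₗ[K] W) (g : W →ₗ[K] U)
    (h : ∀ w, g w = 0 → ∃ v, f v = w) :
    Module.finrank K W ≤ Module.finrank K V + Module.finrank K U := by
  have h1 := LinearMap.finrank_range_add_finrank_ker g
  have h2 : Module.finrank K (LinearMap.range g) ≤ Module.finrank K U := Submodule.finrank_le _
  have h3 : LinearMap.ker g ≤ LinearMap.range f := fun w hw => by
    obtain ⟨v, hv⟩ := h w (LinearMap.mem_ker.mp hw)
    exact ⟨v, hv⟩
  have h4 : Module.finrank K (LinearMap.ker g) ≤ Module.finrank K (LinearMap.range f) :=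
    Submodule.finrank_mono h3
  have h5 : Module.finrank K (LinearMap.range f) ≤ Module.finrank K V :=
    LinearMap.finrank_range_le f
  omega

end arith

section words

variable {X : Scheme.{u}}

/-- `P` is isomorphic to a tensor product of `s` members of the list `Ls`. -/
def IsWord (Ls : List X.Modules) : ℕ → X.Modules → Prop
  | 0, P => Nonempty (P ≅ unitMod X)
  | s + 1, P => ∃ L ∈ Ls, ∃ P' : X.Modules, IsWord Ls s P' ∧ Nonempty (P ≅ CohB1.tensorMod L P')

lemma isWord_zero {Ls : List X.Modules} {P : X.Modules} :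
    IsWord Ls 0 P ↔ Nonempty (P ≅ unitMod X) := Iff.rfl

lemma isWord_succ {Ls : List X.Modules} {s : ℕ} {P : X.Modules} :
    IsWord Ls (s + 1) P ↔
      ∃ L ∈ Ls, ∃ P' : X.Modules, IsWord Ls s P' ∧ Nonempty (P ≅ CohB1.tensorMod L P') := Iff.rfl

lemma IsWord.of_iso {Ls : List X.Modules} {s : ℕ} {P P' : X.Modules} (h : IsWord Ls s P)
    (e : P ≅ P') : IsWord Ls s P' := by
  cases s with
  | zero =>
    obtain ⟨e0⟩ := isWord_zero.mp h
    exact isWord_zero.mpr ⟨e.symm ≪≫ e0⟩
  | succ s =>
    obtain ⟨L, hL, Q, hQ, ⟨eQ⟩⟩ := isWord_succ.mp h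
    exact isWord_succ.mpr ⟨L, hL, Q, hQ, ⟨e.symm ≪≫ eQ⟩⟩

lemma IsWord.isInvertible {Ls : List X.Modules} (hLs : ∀ L ∈ Ls, PicF.IsInvertible L) :
    ∀ {s : ℕ} {P : X.Modules}, IsWord Ls s P → PicF.IsInvertible P := by
  intro s
  induction s with
  | zero =>
    intro P h
    obtain ⟨e⟩ := isWord_zero.mp h
    exact isInvertible_of_iso e.symm (isInvertible_unit X)
  | succ s ih =>
    intro P h
    obtain ⟨L, hL, Q, hQ, ⟨e⟩⟩ := isWord_succ.mp h
    exact isInvertible_of_iso e.symm (isInvertible_tensorMod (hLs L hL) (ih hQ))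

/-- the tensor product of two words. -/
lemma IsWord.tensor {Ls : List X.Modules} (hLs : ∀ L ∈ Ls, PicF.IsInvertible L) {t : ℕ}
    {Q : X.Modules} (hQ : IsWord Ls t Q) :
    ∀ {s : ℕ} {P : X.Modules}, IsWord Ls s P → IsWord Ls (s + t) (CohB1.tensorMod P Q) := by
  intro s
  induction s with
  | zero =>
    intro P h
    obtain ⟨e⟩ := isWord_zero.mp h
    rw [Nat.zero_add]
    exact hQ.of_iso ((unitorL' Q).symm ≪≫ tensorIso' e.symm (Iso.refl Q))
  | succ s ih =>
    intro P h
    obtain ⟨L, hL, P', hP', ⟨e⟩⟩ := isWord_succ.mp h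
    rw [Nat.add_right_comm s 1 t]
    haveI := qc_of_isInvertible _ (hLs L hL)
    haveI := qc_of_isInvertible _ (IsWord.isInvertible hLs hP')
    haveI := qc_of_isInvertible _ (IsWord.isInvertible hLs hQ)
    exact isWord_succ.mpr ⟨L, hL, _, ih hP', ⟨tensorIso' e (Iso.refl Q) ≪≫ tensorAssoc L P' Q⟩⟩

/-- tensor powers of a word. -/
lemma IsWord.pow {Ls : List X.Modules} (hLs : ∀ L ∈ Ls, PicF.IsInvertible L) {s : ℕ}
    {P : X.Modules} (hP : IsWord Ls s P) : ∀ m : ℕ, IsWord Ls (m * s) (CohB1.tensorPow P m)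
  | 0 => by
    rw [Nat.zero_mul]
    exact isWord_zero.mpr ⟨Iso.refl _⟩
  | m + 1 => by
    rw [show (m + 1) * s = m * s + s from Nat.succ_mul m s]
    exact IsWord.tensor hLs hP (IsWord.pow hLs hP m)

lemma IsWord.single {Ls : List X.Modules} {L : X.Modules} (hL : L ∈ Ls) : IsWord Ls 1 L :=
  isWord_succ.mpr ⟨L, hL, unitMod X, isWord_zero.mpr ⟨Iso.refl _⟩, ⟨(SecTwist.unitorR L).symm⟩⟩

lemma IsWord.mono {Ls Ls' : List X.Modules} (h : ∀ L ∈ Ls, L ∈ Ls') :
    ∀ {s : ℕ} {P : X.Modules}, IsWord Ls s P → IsWord Ls' s P := by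
  intro s
  induction s with
  | zero =>
    intro P hP
    exact isWord_zero.mpr (isWord_zero.mp hP)
  | succ s ih =>
    intro P hP
    obtain ⟨L, hL, P', hP', e⟩ := isWord_succ.mp hP
    exact isWord_succ.mpr ⟨L, h L hL, P', ih hP', e⟩

lemma IsWord.pullback {Z : Scheme.{u}} (g : Z ⟶ X) {Ls : List X.Modules}
    (hLs : ∀ L ∈ Ls, PicF.IsInvertible L) :
    ∀ {s : ℕ} {P : X.Modules}, IsWord Ls s P →
      IsWord (Ls.map (Scheme.Modules.pullback g).obj) s ((Scheme.Modules.pullback g).obj P) := by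
  intro s
  induction s with
  | zero =>
    intro P hP
    obtain ⟨e⟩ := isWord_zero.mp hP
    exact isWord_zero.mpr ⟨(Scheme.Modules.pullback g).mapIso e ≪≫ pbUnitIso g⟩
  | succ s ih =>
    intro P hP
    obtain ⟨L, hL, P', hP', ⟨e⟩⟩ := isWord_succ.mp hP
    exact isWord_succ.mpr ⟨_, List.mem_map.mpr ⟨L, hL, rfl⟩, _, ih hP',
      ⟨(Scheme.Modules.pullback g).mapIso e ≪≫
        pbTensorIso g L P' (hLs L hL) (IsWord.isInvertible hLs hP')⟩⟩

/-- twists of the members of a finite list by a large power of an ample module have nonzero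
sections. -/
lemma exists_sections_list [Nonempty X] [QuasiSeparatedSpace X] (H : X.Modules)
    (hH : CohB1.IsAmple H) : ∀ (Ls : List X.Modules), (∀ L ∈ Ls, PicF.IsInvertible L) →
    ∃ n₀ : ℕ, ∀ n, n₀ ≤ n → ∀ L ∈ Ls,
      ∃ t : unitMod X ⟶ CohB1.tensorMod L (CohB1.tensorPow H n), t ≠ 0 := by
  intro Ls
  induction Ls with
  | nil => intro _; exact ⟨0, fun n _ L hL => by simp at hL⟩
  | cons L₀ Ls ih =>
    intro h
    obtain ⟨n₁, h₁⟩ := ih (fun L hL => h L (List.mem_cons_of_mem _ hL))
    obtain ⟨n₂, h₂⟩ := exists_section_ne_zero_of_isAmple H hH L₀ (h L₀ (by simp))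
    refine ⟨max n₁ n₂, fun n hn L hL => ?_⟩
    rcases List.mem_cons.mp hL with hLL | hL'
    · rw [hLL]; exact h₂ n (le_trans (le_max_right _ _) hn)
    · exact h₁ n (le_trans (le_max_left _ _) hn) L hL'

/-- the sequence `0 → O → O ⊗ N → Q → 0` of a nonzero section on an integral scheme. -/
lemma twistBy_data [IsIntegral X] [IsNoetherian X] {N : X.Modules} (hN : PicF.IsInvertible N)
    (σ : unitMod X ⟶ N) (hσ : σ ≠ 0) :
    Mono (twistBy (unitMod X) σ) ∧ Coh.IsCoh (cokernel (twistBy (unitMod X) σ)) ∧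
      CohB1.support (cokernel (twistBy (unitMod X) σ)) ≠ Set.univ := by
  have hηs : genericPoint X ∈ CohB1.genLocus N σ := Curve2.genericPoint_mem_genLocus hN σ hσ
  have hO : PicF.IsInvertible (unitMod X) := isInvertible_unit X
  have hOc : Coh.IsCoh (unitMod X) := isCoh_of_isInvertible hO
  have hON : PicF.IsInvertible (CohB1.tensorMod (unitMod X) N) := isInvertible_tensorMod hO hN
  have hONc := isCoh_of_isInvertible hON
  have hτ : twistBy (unitMod X) σ ≠ 0 := by
    intro h0
    have hW : CohB1.genLocus N σ ≤ CohB1.genLocus N σ := le_rfl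
    have h1 := eq_zero_of_twistBy_eq_zero (unitMod X) σ (CohB1.genLocus N σ) hW
      (show Γ(unitMod X, CohB1.genLocus N σ) from (1 : Γ(X, CohB1.genLocus N σ)))
      (by rw [h0]; rfl)
    haveI : Nonempty (CohB1.genLocus N σ) := ⟨⟨genericPoint X, hηs⟩⟩
    haveI : IsDomain Γ(X, CohB1.genLocus N σ) := IsIntegral.component_integral _
    have h2 : (1 : Γ(X, CohB1.genLocus N σ)) = 0 := h1
    exact one_ne_zero h2
  have hmono : Mono (twistBy (unitMod X) σ) := Curve.mono_of_ne_zero hO hON _ hτ
  have hQc : Coh.IsCoh (cokernel (twistBy (unitMod X) σ)) := isCoh_cokernel _ hOc hONc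
  have hsuppQ := support_cokernel_twistBy_subset (unitMod X) hOc.2 hN σ
  refine ⟨hmono, hQc, ?_⟩
  intro heq
  have hmem : genericPoint X ∈ CohB1.support (cokernel (twistBy (unitMod X) σ)) := by
    rw [heq]; trivial
  exact (hsuppQ hmem).2 hηs

end words

variable (k : Type u) [Field k] {X : Scheme.{u}} [X.Over (Spec (CommRingCat.of k))]
  [IsProper (X ↘ Spec (CommRingCat.of k))]

lemma finrank_HH_of_isZero {G : X.Modules} (hG : IsZero G) (i : ℕ) :
    Module.finrank k (Coh.HH X G i) = 0 := by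
  haveI := CL.subsingleton_HH_of_isZero hG i
  exact Module.finrank_zero_of_subsingleton

theorem finrank_HH_mid_le {S : ShortComplex X.Modules} (hS : S.ShortExact)
    (h₁ : Coh.IsCoh S.X₁) (h₂ : Coh.IsCoh S.X₂) (h₃ : Coh.IsCoh S.X₃) (i : ℕ) :
    Module.finrank k (Coh.HH X S.X₂ i) ≤
      Module.finrank k (Coh.HH X S.X₁ i) + Module.finrank k (Coh.HH X S.X₃ i) := by
  haveI := Curve.finite_HH k X S.X₁ h₁ i
  haveI := Curve.finite_HH k X S.X₂ h₂ i
  haveI := Curve.finite_HH k X S.X₃ h₃ i
  exact finrank_le_add_of_exact (CL.HHmap k S.f i) (CL.HHmap k S.g i)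
    (fun w hw => CL.exact₂ hS k i w hw)

theorem finrank_HH_right_le {S : ShortComplex X.Modules} (hS : S.ShortExact)
    (h₁ : Coh.IsCoh S.X₁) (h₂ : Coh.IsCoh S.X₂) (h₃ : Coh.IsCoh S.X₃) (i : ℕ) :
    Module.finrank k (Coh.HH X S.X₃ i) ≤
      Module.finrank k (Coh.HH X S.X₂ i) + Module.finrank k (Coh.HH X S.X₁ (i + 1)) := by
  haveI := Curve.finite_HH k X S.X₁ h₁ (i + 1)
  haveI := Curve.finite_HH k X S.X₂ h₂ i
  haveI := Curve.finite_HH k X S.X₃ h₃ i
  exact finrank_le_add_of_exact (CL.HHmap k S.g i) (CL.HHδ hS k i)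
    (fun w hw => CL.exact₃ hS k i w hw)

theorem finrank_HH_left_succ_le {S : ShortComplex X.Modules} (hS : S.ShortExact)
    (h₁ : Coh.IsCoh S.X₁) (h₂ : Coh.IsCoh S.X₂) (h₃ : Coh.IsCoh S.X₃) (i : ℕ) :
    Module.finrank k (Coh.HH X S.X₁ (i + 1)) ≤
      Module.finrank k (Coh.HH X S.X₃ i) + Module.finrank k (Coh.HH X S.X₂ (i + 1)) := by
  haveI := Curve.finite_HH k X S.X₁ h₁ (i + 1)
  haveI := Curve.finite_HH k X S.X₂ h₂ (i + 1)
  haveI := Curve.finite_HH k X S.X₃ h₃ i
  exact finrank_le_add_of_exact (CL.HHδ hS k i) (CL.HHmap k S.f (i + 1))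
    (fun w hw => CL.exact₁ hS k i w hw)

theorem finrank_HH_left_zero_le {S : ShortComplex X.Modules} (hS : S.ShortExact)
    (h₂ : Coh.IsCoh S.X₂) :
    Module.finrank k (Coh.HH X S.X₁ 0) ≤ Module.finrank k (Coh.HH X S.X₂ 0) := by
  haveI := hS.mono_f
  exact finrank_H0_le_of_mono k S.f h₂

section tensorles

variable {A B C : X.Modules} {f : A ⟶ B} {g : B ⟶ C} {w : f ≫ g = 0}

theorem tensor_mid_le (hS : (ShortComplex.mk f g w).ShortExact) (hA : Coh.IsCoh A)
    (hB : Coh.IsCoh B) (hC : Coh.IsCoh C) (R : X.Modules) (hR : PicF.IsInvertible R) (i : ℕ) :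
    Module.finrank k (Coh.HH X (CohB1.tensorMod B R) i) ≤
      Module.finrank k (Coh.HH X (CohB1.tensorMod A R) i) +
        Module.finrank k (Coh.HH X (CohB1.tensorMod C R) i) := by
  have hRc := isCoh_of_isInvertible hR
  have h := finrank_HH_mid_le k (shortExact_map_tensorRightMod hS R hR)
    (isCoh_tensorMod' hA hRc) (isCoh_tensorMod' hB hRc) (isCoh_tensorMod' hC hRc) i
  exact h

theorem tensor_right_le (hS : (ShortComplex.mk f g w).ShortExact) (hA : Coh.IsCoh A)
    (hB : Coh.IsCoh B) (hC : Coh.IsCoh C) (R : X.Modules) (hR : PicF.IsInvertible R) (i : ℕ) :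
    Module.finrank k (Coh.HH X (CohB1.tensorMod C R) i) ≤
      Module.finrank k (Coh.HH X (CohB1.tensorMod B R) i) +
        Module.finrank k (Coh.HH X (CohB1.tensorMod A R) (i + 1)) := by
  have hRc := isCoh_of_isInvertible hR
  have h := finrank_HH_right_le k (shortExact_map_tensorRightMod hS R hR)
    (isCoh_tensorMod' hA hRc) (isCoh_tensorMod' hB hRc) (isCoh_tensorMod' hC hRc) i
  exact h

theorem tensor_left_succ_le (hS : (ShortComplex.mk f g w).ShortExact) (hA : Coh.IsCoh A)
    (hB : Coh.IsCoh B) (hC : Coh.IsCoh C) (R : X.Modules) (hR : PicF.IsInvertible R) (i : ℕ) :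
    Module.finrank k (Coh.HH X (CohB1.tensorMod A R) (i + 1)) ≤
      Module.finrank k (Coh.HH X (CohB1.tensorMod C R) i) +
        Module.finrank k (Coh.HH X (CohB1.tensorMod B R) (i + 1)) := by
  have hRc := isCoh_of_isInvertible hR
  have h := finrank_HH_left_succ_le k (shortExact_map_tensorRightMod hS R hR)
    (isCoh_tensorMod' hA hRc) (isCoh_tensorMod' hB hRc) (isCoh_tensorMod' hC hRc) i
  exact h

theorem tensor_left_zero_le (hS : (ShortComplex.mk f g w).ShortExact)
    (hB : Coh.IsCoh B) (R : X.Modules) (hR : PicF.IsInvertible R) :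
    Module.finrank k (Coh.HH X (CohB1.tensorMod A R) 0) ≤
      Module.finrank k (Coh.HH X (CohB1.tensorMod B R) 0) := by
  have hRc := isCoh_of_isInvertible hR
  have h := finrank_HH_left_zero_le k (shortExact_map_tensorRightMod hS R hR)
    (isCoh_tensorMod' hB hRc)
  exact h

end tensorles

/-- the basic step: comparison of the cohomology of `(O ⊗ N) ⊗ (T ⊗ P)` and `O ⊗ (T ⊗ P)` for a
nonzero section of `N`, up to the cohomology of a module with smaller support. -/
theorem section_step [IsIntegral X] (e : ℕ)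
    (he : topologicalKrullDim X ≤ ((e : ℕ) : WithBot ℕ∞))
    (Ls : List X.Modules) (hLs : ∀ L ∈ Ls, PicF.IsInvertible L) (i : ℕ)
    (IH : ∀ (F : X.Modules), Coh.IsCoh F →
      topologicalKrullDim (CohB1.support F) < ((e : ℕ) : WithBot ℕ∞) → ∀ j : ℕ, ∃ C : ℕ,
      ∀ (s : ℕ) (P : X.Modules), IsWord Ls s P →
        Module.finrank k (Coh.HH X (CohB1.tensorMod F P) j) ≤ C * bnd e s)
    (N T : X.Modules) (hN : PicF.IsInvertible N) (hT : PicF.IsInvertible T)
    (σ : unitMod X ⟶ N) (hσ : σ ≠ 0) :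
    ∃ C : ℕ, ∀ (s : ℕ) (P : X.Modules), IsWord Ls s P →
      Module.finrank k (Coh.HH X (CohB1.tensorMod (CohB1.tensorMod (unitMod X) N)
          (CohB1.tensorMod T P)) i) ≤
        Module.finrank k (Coh.HH X (CohB1.tensorMod (unitMod X) (CohB1.tensorMod T P)) i) +
          C * bnd e s ∧
      Module.finrank k (Coh.HH X (CohB1.tensorMod (unitMod X) (CohB1.tensorMod T P)) i) ≤
        Module.finrank k (Coh.HH X (CohB1.tensorMod (CohB1.tensorMod (unitMod X) N)
          (CohB1.tensorMod T P)) i) + C * bnd e s := by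
  haveI : IsNoetherian X := Curve2.isNoetherian_of_proper k X
  obtain ⟨hmono, hQc, hQne⟩ := twistBy_data hN σ hσ
  haveI := hmono
  have hO : PicF.IsInvertible (unitMod X) := isInvertible_unit X
  have hOc : Coh.IsCoh (unitMod X) := isCoh_of_isInvertible hO
  have hON : PicF.IsInvertible (CohB1.tensorMod (unitMod X) N) := isInvertible_tensorMod hO hN
  have hONc := isCoh_of_isInvertible hON
  have hTc := isCoh_of_isInvertible hT
  have hS := shortExact_coker (twistBy (unitMod X) σ)
  have hFc : Coh.IsCoh (CohB1.tensorMod (cokernel (twistBy (unitMod X) σ)) T) :=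
    isCoh_tensorMod' hQc hTc
  have hFdim : topologicalKrullDim (CohB1.support
      (CohB1.tensorMod (cokernel (twistBy (unitMod X) σ)) T)) < ((e : ℕ) : WithBot ℕ∞) :=
    lt_of_le_of_lt (dim_mono (support_tensorMod_subset _ hQc.2 hT))
      (dim_lt_of_isClosed_ne_univ _ (isClosed_support_of_isCoh hQc) hQne e he)
  haveI := hQc.1
  haveI := qc_of_isInvertible _ hT
  have hkey : ∀ (P : X.Modules), PicF.IsInvertible P → ∀ j : ℕ,
      Module.finrank k (Coh.HH X (CohB1.tensorMod (cokernel (twistBy (unitMod X) σ))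
        (CohB1.tensorMod T P)) j) =
      Module.finrank k (Coh.HH X (CohB1.tensorMod
        (CohB1.tensorMod (cokernel (twistBy (unitMod X) σ)) T) P) j) := by
    intro P hPi j
    haveI := qc_of_isInvertible _ hPi
    exact Groth.Agent.LD.FBC.finrank_HH_congr k
      (tensorAssoc (cokernel (twistBy (unitMod X) σ)) T P).symm j
  obtain ⟨C₁, hC₁⟩ := IH _ hFc hFdim i
  rcases i with _ | i
  · refine ⟨C₁, fun s P hP => ?_⟩
    have hPi := IsWord.isInvertible hLs hP
    have hRi : PicF.IsInvertible (CohB1.tensorMod T P) := isInvertible_tensorMod hT hPi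
    have hmid := tensor_mid_le k hS hOc hONc hQc _ hRi 0
    have hleft := tensor_left_zero_le k hS hONc _ hRi
    have hQ := hC₁ s P hP
    rw [← hkey P hPi 0] at hQ
    constructor
    · omega
    · omega
  · obtain ⟨C₂, hC₂⟩ := IH _ hFc hFdim i
    refine ⟨C₁ + C₂, fun s P hP => ?_⟩
    have hPi := IsWord.isInvertible hLs hP
    have hRi : PicF.IsInvertible (CohB1.tensorMod T P) := isInvertible_tensorMod hT hPi
    have hmid := tensor_mid_le k hS hOc hONc hQc _ hRi (i + 1)
    have hleft := tensor_left_succ_le k hS hOc hONc hQc _ hRi i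
    have hQ1 := hC₁ s P hP
    rw [← hkey P hPi (i + 1)] at hQ1
    have hQ2 := hC₂ s P hP
    rw [← hkey P hPi i] at hQ2
    rw [Nat.add_mul C₁ C₂]
    constructor
    · omega
    · omega

/-- the growth bound for the structure sheaf of an integral scheme, given the bound for modules
with smaller support. -/
theorem word_growth_integral [IsIntegral X] (e : ℕ)
    (he : topologicalKrullDim X ≤ ((e : ℕ) : WithBot ℕ∞))
    (H : X.Modules) (hH : CohB1.IsAmple H)
    (Ls : List X.Modules) (hLs : ∀ L ∈ Ls, PicF.IsInvertible L) (i : ℕ)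
    (IH : ∀ (F : X.Modules), Coh.IsCoh F →
      topologicalKrullDim (CohB1.support F) < ((e : ℕ) : WithBot ℕ∞) → ∀ j : ℕ, ∃ C : ℕ,
      ∀ (s : ℕ) (P : X.Modules), IsWord Ls s P →
        Module.finrank k (Coh.HH X (CohB1.tensorMod F P) j) ≤ C * bnd e s) :
    ∃ C : ℕ, ∀ (s : ℕ) (P : X.Modules), IsWord Ls s P →
      Module.finrank k (Coh.HH X (CohB1.tensorMod (unitMod X) P) i) ≤ C * bnd (e + 1) s := by
  classical
  haveI : IsNoetherian X := Curve2.isNoetherian_of_proper k X
  have hO : PicF.IsInvertible (unitMod X) := isInvertible_unit X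
  haveI := qc_of_isInvertible _ hO
  obtain ⟨n₁, hn₁⟩ := exists_sections_list H hH Ls hLs
  obtain ⟨n₂, hn₂⟩ := exists_section_tensorPow_ne_zero H hH
  obtain ⟨B, hBdef⟩ : ∃ B : X.Modules, B = CohB1.tensorPow H (max n₁ n₂) := ⟨_, rfl⟩
  have hBi : PicF.IsInvertible B := by rw [hBdef]; exact isInvertible_tensorPow hH.1 _
  obtain ⟨sB, hsB⟩ : ∃ t : unitMod X ⟶ B, t ≠ 0 := by
    rw [hBdef]; exact hn₂ _ (le_max_right _ _)
  have hsL : ∀ L ∈ Ls, ∃ t : unitMod X ⟶ CohB1.tensorMod L B, t ≠ 0 := by
    rw [hBdef]; exact hn₁ _ (le_max_left _ _)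
  obtain ⟨T, hTi, ⟨ε⟩⟩ := Groth.Agent.H5.Glue.exists_inverse B hBi
  haveI := qc_of_isInvertible _ hBi
  haveI := qc_of_isInvertible _ hTi
  obtain ⟨CB, hCB⟩ := section_step k e he Ls hLs i IH B T hBi hTi sB hsB
  obtain ⟨CL, hCL⟩ : ∃ C : ℕ, ∀ L ∈ Ls, ∀ (s : ℕ) (P : X.Modules), IsWord Ls s P →
      Module.finrank k (Coh.HH X (CohB1.tensorMod
        (CohB1.tensorMod (unitMod X) (CohB1.tensorMod L B)) (CohB1.tensorMod T P)) i) ≤
      Module.finrank k (Coh.HH X (CohB1.tensorMod (unitMod X) (CohB1.tensorMod T P)) i) +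
        C * bnd e s := by
    refine exists_uniform (fun (L : X.Modules) (C : ℕ) => ∀ (s : ℕ) (P : X.Modules),
      IsWord Ls s P →
      Module.finrank k (Coh.HH X (CohB1.tensorMod
        (CohB1.tensorMod (unitMod X) (CohB1.tensorMod L B)) (CohB1.tensorMod T P)) i) ≤
      Module.finrank k (Coh.HH X (CohB1.tensorMod (unitMod X) (CohB1.tensorMod T P)) i) +
        C * bnd e s) ?_ Ls ?_
    · intro L C C' hCC' h s P hP
      exact (h s P hP).trans (Nat.add_le_add_left (Nat.mul_le_mul_right _ hCC') _)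
    · intro L hL
      obtain ⟨t, ht⟩ := hsL L hL
      obtain ⟨C, hC⟩ := section_step k e he Ls hLs i IH _ T
        (isInvertible_tensorMod (hLs L hL) hBi) hTi t ht
      exact ⟨C, fun s P hP => (hC s P hP).1⟩
  obtain ⟨g0, hg0⟩ : ∃ g0 : ℕ, g0 = Module.finrank k
      (Coh.HH X (CohB1.tensorMod (unitMod X) (unitMod X)) i) := ⟨_, rfl⟩
  refine ⟨g0 + (CB + CL), ?_⟩
  intro s
  induction s with
  | zero =>
    intro P hP
    obtain ⟨eP⟩ := isWord_zero.mp hP
    rw [Groth.Agent.LD.FBC.finrank_HH_congr k (tensorIso' (Iso.refl (unitMod X)) eP) i, ← hg0,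
      bnd_succ_zero, Nat.mul_one]
    exact Nat.le_add_right _ _
  | succ s ih =>
    intro P hP
    obtain ⟨L, hL, P', hP', ⟨eP⟩⟩ := isWord_succ.mp hP
    have hLi := hLs L hL
    have hP'i := IsWord.isInvertible hLs hP'
    haveI := qc_of_isInvertible _ hLi
    haveI := qc_of_isInvertible _ hP'i
    haveI := qc_of_isInvertible _ (isInvertible_tensorMod hLi hBi)
    haveI := qc_of_isInvertible _ (isInvertible_tensorMod hTi hP'i)
    have e1 : CohB1.tensorMod (CohB1.tensorMod (unitMod X) (CohB1.tensorMod L B))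
        (CohB1.tensorMod T P') ≅ CohB1.tensorMod (unitMod X) P :=
      tensorAssoc (unitMod X) (CohB1.tensorMod L B) (CohB1.tensorMod T P') ≪≫
        tensorIso' (Iso.refl (unitMod X))
          (tensorAssoc L B (CohB1.tensorMod T P') ≪≫
            tensorIso' (Iso.refl L) ((tensorAssoc B T P').symm ≪≫
              tensorIso' ε (Iso.refl P') ≪≫ unitorL' P') ≪≫ eP.symm)
    have e2 : CohB1.tensorMod (CohB1.tensorMod (unitMod X) B) (CohB1.tensorMod T P') ≅
        CohB1.tensorMod (unitMod X) P' :=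
      tensorIso' (unitorL' B) (Iso.refl _) ≪≫ (tensorAssoc B T P').symm ≪≫
        tensorIso' ε (Iso.refl P')
    have h1 := hCL L hL s P' hP'
    have h2 := (hCB s P' hP').2
    rw [Groth.Agent.LD.FBC.finrank_HH_congr k e1 i] at h1
    rw [Groth.Agent.LD.FBC.finrank_HH_congr k e2 i] at h2
    have h3 := ih P' hP'
    have h4 := bnd_succ_add e s
    calc Module.finrank k (Coh.HH X (CohB1.tensorMod (unitMod X) P) i)
        ≤ Module.finrank k (Coh.HH X (CohB1.tensorMod (unitMod X) P') i) + CB * bnd e s +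
          CL * bnd e s := by omega
      _ ≤ (g0 + (CB + CL)) * bnd (e + 1) s + (CB + CL) * bnd e s := by
          rw [Nat.add_mul CB CL]; omega
      _ ≤ (g0 + (CB + CL)) * bnd (e + 1) s + (g0 + (CB + CL)) * bnd e s :=
          Nat.add_le_add_left (Nat.mul_le_mul_right _ (Nat.le_add_left _ _)) _
      _ = (g0 + (CB + CL)) * (bnd (e + 1) s + bnd e s) := (Nat.mul_add _ _ _).symm
      _ ≤ (g0 + (CB + CL)) * bnd (e + 1) (s + 1) := Nat.mul_le_mul_left _ h4

/-- **polynomial growth of cohomology**: for `F` coherent with `dim Supp F < e` on a proper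
scheme carrying an ample module and a finite list `Ls` of invertible modules,
`h^i(F ⊗ P) ≤ C (1 + s)^{e - 1}` for all tensor products `P` of `s` members of `Ls`. -/
theorem word_growth (e : ℕ) : ∀ (X : Scheme.{u}) [X.Over (Spec (CommRingCat.of k))]
    [IsProper (X ↘ Spec (CommRingCat.of k))] (H : X.Modules), CohB1.IsAmple H →
    ∀ (F : X.Modules), Coh.IsCoh F →
    topologicalKrullDim (CohB1.support F) < ((e : ℕ) : WithBot ℕ∞) →
    ∀ (Ls : List X.Modules), (∀ L ∈ Ls, PicF.IsInvertible L) → ∀ i : ℕ, ∃ C : ℕ,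
      ∀ (s : ℕ) (P : X.Modules), IsWord Ls s P →
        Module.finrank k (Coh.HH X (CohB1.tensorMod F P) i) ≤ C * bnd e s := by
  induction e with
  | zero =>
    intro X _ _ H hH F hF hsupp Ls hLs i
    have hempty := eq_empty_of_dim_lt_zero _ hsupp
    have hz : IsZero F := isZero_of_support_eq_empty hempty
    refine ⟨0, fun s P hP => ?_⟩
    have hz' : IsZero (CohB1.tensorMod F P) := (DCoh.tensorRightMod P).map_isZero hz
    rw [finrank_HH_of_isZero k hz' i]
    exact Nat.zero_le _
  | succ e ih =>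
    intro X _ _ H hH F hF hsupp Ls hLs i
    rcases isEmpty_or_nonempty X with hem | hne
    · refine ⟨0, fun s P hP => ?_⟩
      have hz : IsZero F := isZero_of_support_eq_empty (Set.eq_empty_of_isEmpty _)
      have hz' : IsZero (CohB1.tensorMod F P) := (DCoh.tensorRightMod P).map_isZero hz
      rw [finrank_HH_of_isZero k hz' i]
      exact Nat.zero_le _
    haveI : IsNoetherian X := Curve2.isNoetherian_of_proper k X
    refine devissage_ideal X (fun F => topologicalKrullDim (CohB1.support F) <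
        ((e + 1 : ℕ) : WithBot ℕ∞) → ∃ C : ℕ, ∀ (s : ℕ) (P : X.Modules), IsWord Ls s P →
        Module.finrank k (Coh.HH X (CohB1.tensorMod F P) i) ≤ C * bnd (e + 1) s)
      ?_ ?_ ?_ F hF hsupp
    · rintro M N ⟨ι⟩ h hs
      rw [← support_eq_of_iso ι] at hs
      obtain ⟨C, hC⟩ := h hs
      refine ⟨C, fun s P hP => ?_⟩
      rw [← Groth.Agent.LD.FBC.finrank_HH_congr k (tensorIso' ι (Iso.refl P)) i]
      exact hC s P hP
    · intro S hS h1 h2 h3 p1 p3 hs
      have hsupp2 := support_of_shortExact hS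
      obtain ⟨C₁, hC₁⟩ := p1 (lt_of_le_of_lt
        (dim_mono (by rw [hsupp2]; exact Set.subset_union_left)) hs)
      obtain ⟨C₃, hC₃⟩ := p3 (lt_of_le_of_lt
        (dim_mono (by rw [hsupp2]; exact Set.subset_union_right)) hs)
      refine ⟨C₁ + C₃, fun s P hP => ?_⟩
      have hPi := IsWord.isInvertible hLs hP
      have h := tensor_mid_le k (f := S.f) (g := S.g) (w := S.zero) hS h1 h2 h3 P hPi i
      calc Module.finrank k (Coh.HH X (CohB1.tensorMod S.X₂ P) i) ≤ _ := h
        _ ≤ C₁ * bnd (e + 1) s + C₃ * bnd (e + 1) s := Nat.add_le_add (hC₁ s P hP) (hC₃ s P hP)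
        _ = (C₁ + C₃) * bnd (e + 1) s := (Nat.add_mul _ _ _).symm
    · intro C hC I ι hι hI hs
      haveI := hC
      haveI := hι
      haveI : I.IsQuasicoherent := hI
      letI : C.subscheme.Over (Spec (CommRingCat.of k)) := overOf k C.subschemeι
      haveI : IsProper (C.subscheme ↘ Spec (CommRingCat.of k)) :=
        inferInstanceAs (IsProper (C.subschemeι ≫ (X ↘ Spec (CommRingCat.of k))))
      haveI : C.subschemeι.IsOver (Spec (CommRingCat.of k)) := ⟨rfl⟩
      haveI : IsNoetherian C.subscheme := Curve2.isNoetherian_of_proper k C.subscheme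
      have hOCc : Coh.IsCoh (unitMod C.subscheme) :=
        Groth.Agent.LD.PF.isCoh_unitMod C.subscheme
      have hIc : Coh.IsCoh I := isCoh_of_mono ι hI hOCc
      have hHC : CohB1.IsAmple ((Scheme.Modules.pullback C.subschemeι).obj H) :=
        Groth.Agent.LD.PN.AmD.isAmple_pullback_of_isAffineHom C.subschemeι H hH
      have hLs' : ∀ L ∈ Ls.map (Scheme.Modules.pullback C.subschemeι).obj,
          PicF.IsInvertible L := by
        intro L hL
        obtain ⟨L₀, hL₀, rfl⟩ := List.mem_map.mp hL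
        exact isInvertible_pullback C.subschemeι (hLs L₀ hL₀)
      change ∃ C₀ : ℕ, ∀ (s : ℕ) (P : X.Modules), IsWord Ls s P →
        Module.finrank k (Coh.HH X (CohB1.tensorMod
          ((Scheme.Modules.pushforward C.subschemeι).obj I) P) i) ≤ C₀ * bnd (e + 1) s
      have hkey : ∀ (P : X.Modules), PicF.IsInvertible P → ∀ j : ℕ,
          Module.finrank k (Coh.HH X (CohB1.tensorMod
            ((Scheme.Modules.pushforward C.subschemeι).obj I) P) j) =
          Module.finrank k (Coh.HH C.subscheme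
            (CohB1.tensorMod I ((Scheme.Modules.pullback C.subschemeι).obj P)) j) := by
        intro P hPi j
        have hP' : FlatMod.IsFinLocFree P :=
          Curve.isFinLocFree_of_rank ((isInvertible_iff _).mp hPi)
        have e1 : CohB1.tensorMod ((Scheme.Modules.pushforward C.subschemeι).obj I) P ≅
            (Scheme.Modules.pushforward C.subschemeι).obj
              (CohB1.tensorMod I ((Scheme.Modules.pullback C.subschemeι).obj P)) :=
          tensorCommAll _ _ ≪≫
            @asIso _ _ _ _ (projHomL C.subschemeι I P) (isIso_projHomL C.subschemeι I P hP') ≪≫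
            (Scheme.Modules.pushforward C.subschemeι).mapIso (tensorCommAll _ _)
        exact (Groth.Agent.LD.FBC.finrank_HH_congr k e1 j).trans
          (CL.HHpushEquiv C.subschemeι k _ j).finrank_eq.symm
      by_cases ht : IsTors I
      · refine ⟨0, fun s P hP => ?_⟩
        have hz' : IsZero (CohB1.tensorMod I ((Scheme.Modules.pullback C.subschemeι).obj P)) :=
          (DCoh.tensorRightMod _).map_isZero (isZero_of_mono_unit_of_isTors I ι ht)
        rw [hkey P (IsWord.isInvertible hLs hP) i, finrank_HH_of_isZero k hz' i]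
        exact Nat.zero_le _
      · have hcl : IsClosed (CohB1.support I) := QC.isClosed_support_of_isFiniteType I hIc.2
        have huniv : CohB1.support I = Set.univ := by
          have hη : genericPoint C.subscheme ∈ CohB1.support I := ht
          have h1 : closure {genericPoint C.subscheme} ⊆ CohB1.support I :=
            hcl.closure_subset_iff.mpr (Set.singleton_subset_iff.mpr hη)
          rw [(genericPoint_spec C.subscheme).def] at h1
          exact Set.univ_subset_iff.mp h1
        have hdimC : topologicalKrullDim C.subscheme ≤ ((e : ℕ) : WithBot ℕ∞) := by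
          apply le_of_lt_succ_coe
          refine lt_of_le_of_lt ?_ hs
          let g : C.subscheme → CohB1.support ((Coh.push C.subschemeι).obj I) := fun z =>
            ⟨C.subschemeι z, mem_support_pushforward C.subschemeι I z (by rw [huniv]; trivial)⟩
          have hg : Topology.IsInducing g := by
            apply Topology.IsInducing.of_comp
              (Continuous.subtype_mk C.subschemeι.continuous _) continuous_subtype_val
            exact C.subschemeι.isClosedEmbedding.isInducing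
          exact hg.topologicalKrullDim_le
        have hSι := Groth.Agent.H5.HP.shortExact_coker ι
        have hQc : Coh.IsCoh (cokernel ι) := isCoh_cokernel ι hIc hOCc
        have hQt : IsTors (cokernel ι) := isTors_cokernel_of_not_isTors I ι hIc ht
        have hQdim : topologicalKrullDim (CohB1.support (cokernel ι)) <
            ((e : ℕ) : WithBot ℕ∞) := by
          apply dim_lt_of_isClosed_ne_univ _ (isClosed_support_of_isCoh hQc) ?_ e hdimC
          intro hu
          have : genericPoint C.subscheme ∈ CohB1.support (cokernel ι) := by rw [hu]; trivial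
          exact this hQt
        have IHZ : ∀ (F : C.subscheme.Modules), Coh.IsCoh F →
            topologicalKrullDim (CohB1.support F) < ((e : ℕ) : WithBot ℕ∞) → ∀ j : ℕ,
            ∃ C₀ : ℕ, ∀ (s : ℕ) (P : C.subscheme.Modules),
            IsWord (Ls.map (Scheme.Modules.pullback C.subschemeι).obj) s P →
            Module.finrank k (Coh.HH C.subscheme (CohB1.tensorMod F P) j) ≤ C₀ * bnd e s :=
          fun F hF hFd j => ih C.subscheme _ hHC F hF hFd _ hLs' j
        obtain ⟨C₁, hC₁⟩ := word_growth_integral k e hdimC _ hHC _ hLs' i IHZ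
        obtain ⟨C₂, hC₂⟩ : ∃ C₂ : ℕ, ∀ (s : ℕ) (P : C.subscheme.Modules),
            IsWord (Ls.map (Scheme.Modules.pullback C.subschemeι).obj) s P →
            Module.finrank k (Coh.HH C.subscheme (CohB1.tensorMod I P) i) ≤
              Module.finrank k (Coh.HH C.subscheme
                (CohB1.tensorMod (unitMod C.subscheme) P) i) + C₂ * bnd e s := by
          rcases i with _ | i
          · refine ⟨0, fun s P hP => ?_⟩
            have hPi := IsWord.isInvertible hLs' hP
            have h := tensor_left_zero_le k hSι hOCc P hPi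
            exact h.trans (Nat.le_add_right _ _)
          · obtain ⟨C₂, hC₂⟩ := IHZ _ hQc hQdim i
            refine ⟨C₂, fun s P hP => ?_⟩
            have hPi := IsWord.isInvertible hLs' hP
            have h := tensor_left_succ_le k hSι hIc hOCc hQc P hPi i
            have h' := hC₂ s P hP
            calc Module.finrank k (Coh.HH C.subscheme (CohB1.tensorMod I P) (i + 1)) ≤ _ := h
              _ ≤ C₂ * bnd e s + Module.finrank k (Coh.HH C.subscheme
                  (CohB1.tensorMod (unitMod C.subscheme) P) (i + 1)) :=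
                  Nat.add_le_add_right h' _
              _ = _ := Nat.add_comm _ _
        refine ⟨C₁ + C₂, fun s P hP => ?_⟩
        have hPi := IsWord.isInvertible hLs hP
        have hPZ := IsWord.pullback C.subschemeι hLs hP
        rw [hkey P hPi i]
        have h1 := hC₂ s _ hPZ
        have h2 := hC₁ s _ hPZ
        have h3 := bnd_le_succ e s
        calc Module.finrank k (Coh.HH C.subscheme
              (CohB1.tensorMod I ((Scheme.Modules.pullback C.subschemeι).obj P)) i) ≤ _ := h1
          _ ≤ C₁ * bnd (e + 1) s + C₂ * bnd (e + 1) s :=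
              Nat.add_le_add h2 (Nat.mul_le_mul_left _ h3)
          _ = (C₁ + C₂) * bnd (e + 1) s := (Nat.add_mul _ _ _).symm

end Groth.Agent.H5.IntN
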