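import Mathlib
import Groth.Agent.Lib.Helper5.Deg.Deg3b
import Groth.Agent.Lib.Lead.QC.InvEpi
import Groth.Agent.Lib.Lead.QC.TensorComm

set_option autoImplicit false
universe u
open CategoryTheory CategoryTheory.Limits AlgebraicGeometry TopologicalSpace Opposite

namespace Groth.Agent.H5.IntN

open Groth.Agent.LD Groth.Agent.LD.QC Groth.Agent.H5.Curve4

variable {X : Scheme.{u}}

/-- **Nakayama, generation form**: if `σ ⊗ P : O ⊗ P ⟶ L ⊗ P` followed by a morphism `π` to a
quasi-coherent module of finite type `C` is an epimorphism, then `C` is supported where `σ`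
generates. -/
theorem support_subset_genLocus_of_epi_tensorMap (P C : X.Modules) [P.IsQuasicoherent]
    [C.IsQuasicoherent] (hC : C.IsFiniteType) {L : X.Modules} (hL : PicF.IsInvertible L)
    (σ : unitMod X ⟶ L) (π : CohB1.tensorMod L P ⟶ C)
    (hepi : Epi (KoszTw.tensorMap σ (𝟙 P) ≫ π)) :
    CohB1.support C ⊆ (CohB1.genLocus L σ : Set X) := by
  intro y hyC
  by_contra hyσ
  apply hyC
  obtain ⟨U, e, hyU, he⟩ := (isInvertible_iff_exists_isBasisOver L).mp hL y
  obtain ⟨h, hh⟩ := (he U le_rfl).2 (SecTwist.val σ U)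
  have hh' : h • e = SecTwist.val σ U := by
    have := hh
    simp only [QC.res_self] at this
    exact this
  have hnu : ¬ IsUnit (X.presheaf.germ U y hyU h) := by
    intro hu
    apply hyσ
    have hyb : y ∈ X.basicOpen h := (X.mem_basicOpen h y hyU).mpr hu
    have hble : X.basicOpen h ≤ U := X.basicOpen_le h
    have hunit : IsUnit (X.presheaf.map (homOfLE hble).op h) :=
      RingedSpace.isUnit_res_basicOpen X.toRingedSpace h
    have hb : IsBasisOver L (X.basicOpen h) (SecTwist.val σ (X.basicOpen h)) := by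
      have h1 := Groth.Agent.H5.Deg.IsBasisOver.smul_unit (he.mono hble) _ hunit
      have h2 : X.presheaf.map (homOfLE hble).op h • L.presheaf.map (homOfLE hble).op e =
          SecTwist.val σ (X.basicOpen h) := by
        rw [← smul_res, hh']
        exact SecTwist.map_val σ (homOfLE hble)
      rwa [h2] at h1
    exact ((le_genLocus_iff_isBasisOver L σ _).mpr hb) hyb
  -- every germ of `C` at `y` is a multiple of the germ of `h`
  have key : ∀ a : C.presheaf.stalk y, ∃ b : C.presheaf.stalk y,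
      a = X.presheaf.germ U y hyU h • b := by
    intro a
    obtain ⟨V₀, hyV₀, c₀, rfl⟩ := TopCat.Presheaf.exists_germ_eq C.presheaf a
    set V : X.Opens := V₀ ⊓ U
    have hyV : y ∈ V := ⟨hyV₀, hyU⟩
    have hVU : V ≤ U := inf_le_right
    obtain ⟨c, hcdef⟩ : ∃ c : Γ(C, V), c = C.presheaf.map (homOfLE (inf_le_left : V ≤ V₀)).op c₀ :=
      ⟨_, rfl⟩
    have hc : C.presheaf.germ V y hyV c = C.presheaf.germ V₀ y hyV₀ c₀ := by
      rw [hcdef]; exact germ_res C y inf_le_left hyV c₀
    rw [← hc]
    obtain ⟨W, hWV, hyW, z, hz⟩ := exists_local_lift (KoszTw.tensorMap σ (𝟙 P) ≫ π) hepi V c y hyV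
    have hWU : W ≤ U := hWV.trans hVU
    -- `z = 1 ⊗ p`
    obtain ⟨p, hp⟩ : ∃ p : Γ(P, W), z = SecTwist.tmul (unitMod X) P W (1 : Γ(X, W)) p := by
      refine ⟨(unitorL P).hom.app W z, ?_⟩
      rw [← unitorL_inv_app]
      change z = ((unitorL P).hom ≫ (unitorL P).inv).app W z
      rw [Iso.hom_inv_id]
      rfl
    have h1 : (KoszTw.tensorMap σ (𝟙 P) ≫ π).app W z =
        X.presheaf.map (homOfLE hWU).op h •
          π.app W (SecTwist.tmul L P W (L.presheaf.map (homOfLE hWU).op e) p) := by
      change π.app W ((KoszTw.tensorMap σ (𝟙 P)).app W z) = _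
      rw [hp, KoszTw.tensorMap_tmul]
      have h2 : σ.app W (1 : Γ(X, W)) = SecTwist.val σ W := rfl
      have h3 : SecTwist.val σ W = X.presheaf.map (homOfLE hWU).op h •
          L.presheaf.map (homOfLE hWU).op e := by
        rw [← smul_res, hh']
        exact (SecTwist.map_val σ (homOfLE hWU)).symm
      have h4 : (𝟙 P : P ⟶ P).app W p = p := rfl
      rw [h2, h3, h4, tmul_smul_left]
      exact (appLinear π W).map_smul _ _
    refine ⟨C.presheaf.germ W y hyW
      (π.app W (SecTwist.tmul L P W (L.presheaf.map (homOfLE hWU).op e) p)), ?_⟩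
    rw [← germ_res C y hWV hyW c, ← hz, h1, germ_smul, sgerm_res]
    rfl
  -- Nakayama
  haveI : @Module.Finite (X.presheaf.stalk y) (C.presheaf.stalk y) _ _ (QC.stalkModule C y) :=
    Groth.Agent.H1.CohLen.finite_stalk C hC y
  letI : Module (X.presheaf.stalk y) (C.presheaf.stalk y) := QC.stalkModule C y
  have hle : (⊤ : Submodule (X.presheaf.stalk y) (C.presheaf.stalk y)) ≤
      IsLocalRing.maximalIdeal (X.presheaf.stalk y) • ⊤ := by
    intro a _
    obtain ⟨b, rfl⟩ := key a
    exact Submodule.smul_mem_smul ((IsLocalRing.mem_maximalIdeal _).mpr hnu) Submodule.mem_top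
  have hbot := Submodule.eq_bot_of_le_smul_of_le_jacobson_bot _ _ Module.Finite.fg_top hle
    (IsLocalRing.maximalIdeal_le_jacobson _)
  exact ⟨fun a b => by
    have ha : a ∈ (⊤ : Submodule (X.presheaf.stalk y) (C.presheaf.stalk y)) := Submodule.mem_top
    have hb : b ∈ (⊤ : Submodule (X.presheaf.stalk y) (C.presheaf.stalk y)) := Submodule.mem_top
    rw [hbot] at ha hb
    rw [(Submodule.mem_bot _).mp ha, (Submodule.mem_bot _).mp hb]⟩

end Groth.Agent.H5.IntN
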