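import Mathlib
import Groth.Agent.Lib.Helper5.IntN.Nak5
import Groth.Agent.Lib.Helper5.GG.FinGen
import Groth.Agent.Lib.Helper5.GG.Ext
import Groth.Agent.Lib.Lead.QC.SpanEpi
import Groth.Agent.Lib.Lead.QC.AmpleGG
import Groth.Agent.Lib.Lead.QC.LocFree

set_option autoImplicit false
universe u
open CategoryTheory CategoryTheory.Limits AlgebraicGeometry TopologicalSpace Opposite

namespace Groth.Agent.H5.IntN

open Groth.Agent.LD Groth.Agent.LD.QC Groth.Agent.H5.Curve4

variable {X : Scheme.{u}}

/-- the cokernel of a section is not supported where the section generates. -/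
theorem not_mem_support_cokernel_of_mem_genLocus {E : X.Modules} (s : unitMod X ⟶ E) (y : X)
    (hy : y ∈ CohB1.genLocus E s) : y ∉ CohB1.support (cokernel s) := by
  intro hsupp
  apply hsupp
  refine ⟨fun a b => ?_⟩
  have key : ∀ a : (cokernel s).presheaf.stalk y, a = 0 := by
    intro a
    obtain ⟨V₀, hyV₀, c₀, rfl⟩ := TopCat.Presheaf.exists_germ_eq (cokernel s).presheaf a
    obtain ⟨W, hWV, hyW, t, ht⟩ := exists_local_lift (cokernel.π s) inferInstance V₀ c₀ y hyV₀
    set W' : X.Opens := W ⊓ CohB1.genLocus E s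
    have hyW' : y ∈ W' := ⟨hyW, hy⟩
    have hW'W : W' ≤ W := inf_le_left
    have hb := (le_genLocus_iff_isBasisOver E s W').mp inf_le_right
    obtain ⟨a, ha⟩ := (hb W' le_rfl).2 (E.presheaf.map (homOfLE hW'W).op t)
    have ha' : a • SecTwist.val s W' = E.presheaf.map (homOfLE hW'W).op t := by
      have := ha
      simp only [QC.res_self] at this
      exact this
    have h1 : s.app W' a = E.presheaf.map (homOfLE hW'W).op t := by
      rw [← ha']
      have h2 : (a : Γ(X, W')) = a • (1 : Γ(X, W')) := (mul_one a).symm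
      conv_lhs => rw [h2]
      exact (appLinear s W').map_smul a (1 : Γ(X, W'))
    have h3 : (cokernel.π s).app W' (E.presheaf.map (homOfLE hW'W).op t) = 0 := by
      rw [← h1]
      change (s ≫ cokernel.π s).app W' a = 0
      rw [cokernel.condition]
      rfl
    rw [← germ_res (cokernel s) y hWV hyW c₀, ← ht, ← germ_res (cokernel s) y hW'W hyW',
      ← app_res, h3, map_zero]
  rw [key a, key b]


/-- **lifting global generation through `σ ⊗ P`**: in a short exact sequence
`0 ⟶ O ⊗ P ⟶ L ⊗ P ⟶ R ⟶ 0` whose first map is `σ ⊗ P`, if `R` is globally generated, global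
sections of `R` lift to `L ⊗ P`, and some global section of `L ⊗ P` generates where `σ` does,
then `L ⊗ P` is globally generated. -/
theorem isGloballyGenerated_of_tensorMap_ses [CompactSpace X] (P : X.Modules) [P.IsQuasicoherent]
    {L : X.Modules} (hL : PicF.IsInvertible L) (σ : unitMod X ⟶ L) {R : X.Modules}
    (g : CohB1.tensorMod L P ⟶ R) (w : KoszTw.tensorMap σ (𝟙 P) ≫ g = 0)
    (hS : (ShortComplex.mk (KoszTw.tensorMap σ (𝟙 P)) g w).ShortExact)
    (hEq : (CohB1.tensorMod L P).IsQuasicoherent) (hEf : (CohB1.tensorMod L P).IsFiniteType)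
    (hRq : R.IsQuasicoherent) (hRf : R.IsFiniteType) (hR : Curv2.IsGloballyGenerated R)
    (hsurj : ∀ t : Γ(R, ⊤), ∃ e : Γ(CohB1.tensorMod L P, ⊤), g.app ⊤ e = t)
    (τ : Γ(CohB1.tensorMod L P, ⊤))
    (hτ : CohB1.genLocus L σ ≤ CohB1.genLocus _ (homOfSection (CohB1.tensorMod L P) τ)) :
    Curv2.IsGloballyGenerated (CohB1.tensorMod L P) := by
  haveI := hEq
  haveI := hRq
  obtain ⟨K, p, hp⟩ := Groth.Agent.H5.GG.exists_epi_freeMod_of_isGloballyGenerated R hRf hR
  choose e he using fun j : Fin K => hsurj (sectionsOfHom p j)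
  obtain ⟨sec, hsec⟩ : ∃ sec : Fin (K + 1) → Γ((CohB1.tensorMod L P), ⊤), sec = Fin.cons τ e := ⟨_, rfl⟩
  obtain ⟨ev, hev⟩ : ∃ ev : FlatMod.freeMod X (K + 1) ⟶ (CohB1.tensorMod L P), ev = homOfSections (CohB1.tensorMod L P) sec := ⟨_, rfl⟩
  -- `ev ≫ g` is an epimorphism
  have hevg : Epi (ev ≫ g) := by
    let lam : FlatMod.freeMod X K ⟶ FlatMod.freeMod X (K + 1) :=
      Sigma.desc (fun j : Fin K => Sigma.ι (fun _ : Fin (K + 1) => unitMod X) j.succ)
    have hfac : lam ≫ (ev ≫ g) = p := by
      apply Sigma.hom_ext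
      intro j
      have h1 : Sigma.ι (fun _ : Fin K => unitMod X) j ≫ lam =
          Sigma.ι (fun _ : Fin (K + 1) => unitMod X) j.succ := Sigma.ι_desc _ _
      rw [← Category.assoc, h1, ← Category.assoc, hev, ι_homOfSections, homOfSection_comp]
      have h2 : sec j.succ = e j := by rw [hsec, Fin.cons_succ]
      rw [h2, he j]
      conv_rhs => rw [← homOfSections_sectionsOfHom p, ι_homOfSections]
    haveI := hp
    haveI : Epi (lam ≫ (ev ≫ g)) := by rw [hfac]; exact hp
    exact epi_of_epi lam (ev ≫ g)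
  -- the cokernel of `ev`
  have hCq : (cokernel ev).IsQuasicoherent := qc_cokernel ev inferInstance hEq
  haveI := hCq
  have hCf : (cokernel ev).IsFiniteType := isFiniteType_of_epi (cokernel.π ev) hEq hCq hEf
  have hepi : Epi (KoszTw.tensorMap σ (𝟙 P) ≫ cokernel.π ev) := by
    constructor
    intro T q q' hqq'
    have hz : (KoszTw.tensorMap σ (𝟙 P) ≫ cokernel.π ev) ≫ (q - q') = 0 := by
      rw [Preadditive.comp_sub, hqq', sub_self]
    haveI := hS.epi_g
    -- `π ≫ (q - q')` factors through `g`
    have hfac := hS.exact.g_desc (cokernel.π ev ≫ (q - q')) (by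
      change KoszTw.tensorMap σ (𝟙 P) ≫ cokernel.π ev ≫ (q - q') = 0
      rw [← Category.assoc]; exact hz)
    obtain ⟨r, hfac⟩ : ∃ r : R ⟶ T, g ≫ r = cokernel.π ev ≫ (q - q') := ⟨_, hfac⟩
    have h0 : (ev ≫ g) ≫ r = 0 := by
      rw [Category.assoc, hfac, ← Category.assoc, cokernel.condition, zero_comp]
    have hr0 : r = 0 := by
      haveI := hevg
      rw [← cancel_epi (ev ≫ g), h0, comp_zero]
    rw [hr0, comp_zero] at hfac
    have : q - q' = 0 := by
      rw [← cancel_epi (cokernel.π ev), ← hfac, comp_zero]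
    exact sub_eq_zero.mp this
  have hsub := support_subset_genLocus_of_epi_tensorMap P (cokernel ev) hCf hL σ (cokernel.π ev) hepi
  -- the cokernel vanishes
  have hzero : IsZero (cokernel ev) := by
    apply isZero_of_support_eq_empty
    apply Set.eq_empty_of_subset_empty
    intro y hy
    have hyσ := hsub hy
    -- `cokernel ev` is a quotient of `cokernel (homOfSection τ)`
    have h0 : homOfSection (CohB1.tensorMod L P) τ ≫ cokernel.π ev = 0 := by
      have h1 : homOfSection (CohB1.tensorMod L P) τ = Sigma.ι (fun _ : Fin (K + 1) => unitMod X) 0 ≫ ev := by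
        rw [hev, ι_homOfSections, hsec, Fin.cons_zero]
      rw [h1, Category.assoc, cokernel.condition, comp_zero]
    let d : cokernel (homOfSection (CohB1.tensorMod L P) τ) ⟶ cokernel ev := cokernel.desc _ (cokernel.π ev) h0
    haveI : Epi d := by
      have : cokernel.π (homOfSection (CohB1.tensorMod L P) τ) ≫ d = cokernel.π ev := cokernel.π_desc _ _ _
      haveI : Epi (cokernel.π (homOfSection (CohB1.tensorMod L P) τ) ≫ d) := by rw [this]; infer_instance
      exact epi_of_epi (cokernel.π (homOfSection (CohB1.tensorMod L P) τ)) d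
    exact not_mem_support_cokernel_of_mem_genLocus (homOfSection (CohB1.tensorMod L P) τ) y (hτ hyσ)
      (support_subset_of_epi d hy)
  haveI : Epi ev := Preadditive.epi_of_isZero_cokernel _ hzero
  exact isGloballyGenerated_of_epi_freeMod ev inferInstance

end Groth.Agent.H5.IntN
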