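import Mathlib
import Groth.Agent.Lib.Helper5.IntN.Nak6
import Groth.Agent.Lib.Helper5.IntN.Gro1
import Groth.Agent.Lib.Lead.PN.AmpleDev
import Groth.Agent.Lib.Lead.QC.Mon
import Groth.Agent.Lib.Lead.CohLES.H0Lin
import Groth.Agent.Lib.Lead.Curve.InvMono

set_option autoImplicit false
universe u
open CategoryTheory CategoryTheory.Limits AlgebraicGeometry TopologicalSpace Opposite

namespace Groth.Agent.H5.IntN

open Groth.Agent.LD Groth.Agent.LD.QC Groth.Agent.H5.Curve4 Groth.Agent.H5.DegC
  Groth.Agent.H5.Snap Groth.Agent.LD.PN.AmD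

variable (k : Type u) [Field k] {X : Scheme.{u}} [X.Over (Spec (CommRingCat.of k))]
  [IsProper (X ↘ Spec (CommRingCat.of k))]

/-- in a short exact sequence of coherent modules with `H¹` of the quotient vanishing and
`h¹(sub) = h¹(mid)`, global sections of the quotient lift. -/
theorem exists_lift_section_of_finrank_eq {S : ShortComplex X.Modules} (hS : S.ShortExact)
    (h₁ : Coh.IsCoh S.X₁) (h₂ : Coh.IsCoh S.X₂)
    (h3 : Subsingleton (Coh.HH X S.X₃ 1))
    (heq : Module.finrank k (Coh.HH X S.X₁ 1) = Module.finrank k (Coh.HH X S.X₂ 1))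
    (t : Γ(S.X₃, ⊤)) : ∃ e : Γ(S.X₂, ⊤), S.g.app ⊤ e = t := by
  haveI := Curve.finite_HH k X S.X₁ h₁ 1
  haveI := Curve.finite_HH k X S.X₂ h₂ 1
  -- `H¹(f)` is surjective, hence injective
  have hsurj : Function.Surjective (CL.HHmap k S.f 1) := by
    intro x₂
    exact CL.exact₂ hS k 1 x₂ (Subsingleton.elim _ _)
  have hinj : Function.Injective (CL.HHmap k S.f 1) :=
    (LinearMap.injective_iff_surjective_of_finrank_eq_finrank heq).mpr hsurj
  -- the connecting map vanishes
  set x₃ : Coh.HH X S.X₃ 0 := (CL.HH0Equiv S.X₃).symm t with hx₃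
  have hδ : CL.HHδ hS k 0 x₃ = 0 := by
    apply hinj
    rw [CL.HHmap_f_δ, map_zero]
  obtain ⟨x₂, hx₂⟩ := CL.exact₃ hS k 0 x₃ hδ
  refine ⟨CL.HH0Equiv S.X₂ x₂, ?_⟩
  have h1 := CL.HH0Equiv_mapAb ((SheafOfModules.toSheaf X.ringCatSheaf).map S.g) x₂
  rw [CL.HHmap_apply] at hx₂
  rw [hx₂, hx₃, AddEquiv.apply_symm_apply] at h1
  exact h1.symm


/-- a sequence of natural numbers which is eventually non-increasing is stationary at some
later index. -/
theorem exists_eq_succ_of_antitone_from (u : ℕ → ℕ) (n₀ : ℕ)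
    (h : ∀ n, n₀ ≤ n → u (n + 1) ≤ u n) : ∃ n, n₀ ≤ n ∧ u (n + 1) = u n := by
  by_contra hcon
  push Not at hcon
  have hlt : ∀ n, n₀ ≤ n → u (n + 1) < u n := fun n hn =>
    lt_of_le_of_ne (h n hn) (hcon n hn)
  have key : ∀ j, u (n₀ + j) + j ≤ u n₀ := by
    intro j
    induction j with
    | zero => simp
    | succ j ih =>
      have := hlt (n₀ + j) (Nat.le_add_right _ _)
      have h2 : n₀ + (j + 1) = n₀ + j + 1 := by ring
      rw [h2]
      omega
  have := key (u n₀ + 1)
  omega

include k in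
/-- **the key step of the Nakai–Moishezon argument**: on an integral proper scheme, if an
invertible module `N` has a nonzero section `σ` whose cokernel has eventually vanishing higher
cohomology and eventually globally generated twists, then some positive power of `N` is globally
generated. -/
theorem exists_gg_tensorPow_of_section [IsIntegral X] (N : X.Modules) (hN : PicF.IsInvertible N)
    (σ : unitMod X ⟶ N) (hσ : σ ≠ 0) (hEV : EV N (cokernel σ))
    (hEGG : ∃ n₀ : ℕ, ∀ n, n₀ ≤ n →
      Curv2.IsGloballyGenerated (CohB1.tensorMod (cokernel σ) (CohB1.tensorPow N n))) :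
    ∃ m : ℕ, Curv2.IsGloballyGenerated (CohB1.tensorPow N (m + 1)) := by
  haveI : IsLocallyNoetherian X := Curve.isLocallyNoetherian k X
  haveI : CompactSpace X := QuasiCompact.compactSpace_of_compactSpace (X ↘ Spec (CommRingCat.of k))
  haveI : IsNoetherian X := {}
  have hO : PicF.IsInvertible (unitMod X) := isInvertible_unit X
  haveI : Mono σ := Curve.mono_of_ne_zero hO hN σ hσ
  have hS := Groth.Agent.H5.HP.shortExact_coker σ
  have hOc := isCoh_of_isInvertible hO
  have hNc := isCoh_of_isInvertible hN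
  have hRc : Coh.IsCoh (cokernel σ) := isCoh_cokernel σ hOc hNc
  have hP : ∀ n, PicF.IsInvertible (CohB1.tensorPow N n) := fun n => isInvertible_tensorPow hN n
  have hPc : ∀ n, Coh.IsCoh (CohB1.tensorPow N n) := fun n => isCoh_of_isInvertible (hP n)
  obtain ⟨n₀, hn₀⟩ := hEV
  obtain ⟨n₀', hn₀'⟩ := hEGG
  have hSn := fun n => shortExact_tensorMap_of_isInvertible hS (CohB1.tensorPow N n) (hP n)
  haveI := hNc.1
  haveI : ∀ n, (CohB1.tensorPow N n).IsQuasicoherent := fun n => (hPc n).1
  -- `h¹(N ⊗ N^n) = h¹(O ⊗ N^(n+1))`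
  have hiso : ∀ n, Module.finrank k (Coh.HH X (CohB1.tensorMod N (CohB1.tensorPow N n)) 1) =
      Module.finrank k (Coh.HH X (CohB1.tensorMod (unitMod X) (CohB1.tensorPow N (n + 1))) 1) := by
    intro n
    exact Groth.Agent.H5.Curve2.finrank_HH_iso k X
      (tensorCommAll N (CohB1.tensorPow N n) ≪≫ (unitorL' (CohB1.tensorPow N (n + 1))).symm) 1
  obtain ⟨n, hn, hstab⟩ := exists_eq_succ_of_antitone_from
    (fun n => Module.finrank k (Coh.HH X (CohB1.tensorMod (unitMod X) (CohB1.tensorPow N n)) 1))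
    (max n₀ n₀') (by
      intro n hn
      have h3 := hn₀ n ((le_max_left _ _).trans hn) 1 Nat.one_pos
      have hle := finrank_HH_mid_le k (hSn n) (isCoh_tensorMod' hOc (hPc n))
        (isCoh_tensorMod' hNc (hPc n)) (isCoh_tensorMod' hRc (hPc n)) 1
      haveI := h3
      rw [Module.finrank_zero_of_subsingleton (M := Coh.HH X
        (CohB1.tensorMod (cokernel σ) (CohB1.tensorPow N n)) 1), add_zero] at hle
      change Module.finrank k (Coh.HH X (CohB1.tensorMod N (CohB1.tensorPow N n)) 1) ≤ _ at hle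
      rw [hiso n] at hle
      exact hle)
  refine ⟨n, ?_⟩
  beta_reduce at hstab
  rw [← hiso n] at hstab
  -- lifting of sections
  have hlift := exists_lift_section_of_finrank_eq k (hSn n) (isCoh_tensorMod' hOc (hPc n))
    (isCoh_tensorMod' hNc (hPc n)) (hn₀ n ((le_max_left _ _).trans hn) 1 Nat.one_pos) hstab.symm
  have hE := isCoh_tensorMod' hNc (hPc n)
  have hRn := isCoh_tensorMod' hRc (hPc n)
  have hgg := isGloballyGenerated_of_tensorMap_ses (CohB1.tensorPow N n) hN σ
    (KoszTw.tensorMap (cokernel.π σ) (𝟙 (CohB1.tensorPow N n))) _ (hSn n) hE.1 hE.2 hRn.1 hRn.2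
    (hn₀' n ((le_max_right _ _).trans hn)) hlift
    (sectionOfHom (SecTwist.tmulHom σ (SecTwist.powHom σ n))) (by
      rw [homOfSection_sectionOfHom, genLocus_tmulHom hN (hP n)]
      exact le_inf le_rfl (le_genLocus_powHom hN σ n))
  exact Groth.Agent.H5.GG.isGloballyGenerated_of_epi (tensorCommAll N (CohB1.tensorPow N n)).hom
    inferInstance hgg

end Groth.Agent.H5.IntN
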