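import Mathlib
import Groth.Agent.Lib.Helper5.IntN.Nak7
import Groth.Agent.Lib.Helper5.IntN.Nak3
import Groth.Agent.Lib.Helper5.DegC.Cartier
import Groth.Agent.H4.RPC1
import Groth.Agent.Lib.Lead.QC.AnnIdeal
import Groth.Agent.Lib.Lead.QC.ClosedUnit
import Groth.Agent.H4.FlatPull2
import Groth.Agent.Lib.Lead.PN.ClosedSubGG
import Groth.Agent.Lib.Helper5.GG.Ext

set_option autoImplicit false
universe u
open CategoryTheory CategoryTheory.Limits AlgebraicGeometry TopologicalSpace Opposite

namespace Groth.Agent.H5.IntN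

open Groth.Agent.LD Groth.Agent.LD.QC Groth.Agent.H5.Curve4 Groth.Agent.H5.DegC
  Groth.Agent.H5.Snap Groth.Agent.LD.PN.AmD

/-- a positive power of an ample module is ample. -/
theorem isAmple_tensorPow {X : Scheme.{u}} {L : X.Modules} (hL : CohB1.IsAmple L) (a : ℕ)
    (ha : 0 < a) : CohB1.IsAmple (CohB1.tensorPow L a) := by
  obtain ⟨hinv, hc, hA⟩ := hL
  haveI := (isCoh_of_isInvertible hinv).1
  refine ⟨isInvertible_tensorPow hinv a, hc, fun x => ?_⟩
  obtain ⟨n, s, hxs, haff⟩ := hA x
  obtain ⟨a', rfl⟩ : ∃ a', a = a' + 1 := Nat.exists_eq_succ_of_ne_zero ha.ne'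
  have hidx : powIdx (n + 1) (a' + 1) = powIdx (a' + 1) (n + 1) := by
    rw [powIdx_eq, powIdx_eq, mul_comm]
  have h1 : CohB1.genLocus _ (((SecTwist.powHom s (a' + 1) ≫ (powPowIso L (n + 1) (a' + 1)).hom) ≫
      (castPow L hidx).hom) ≫ (powPowIso L (a' + 1) (n + 1)).symm.hom) = CohB1.genLocus _ s := by
    rw [genLocus_comp_iso, genLocus_comp_iso,
      genLocus_comp_iso, genLocus_powHom_succ (isInvertible_tensorPow hinv (n + 1))]
  refine ⟨n, ((SecTwist.powHom s (a' + 1) ≫ (powPowIso L (n + 1) (a' + 1)).hom) ≫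
      (castPow L hidx).hom) ≫ (powPowIso L (a' + 1) (n + 1)).symm.hom, ?_, ?_⟩
  · rw [h1]; exact hxs
  · rw [h1]; exact haff


/-- the direct image along a closed subscheme of a quotient of a finite free module is globally
generated. -/
theorem isGloballyGenerated_push_of_epi_freeMod {Z : Scheme.{u}} (D : Z.IdealSheafData)
    {G : D.subscheme.Modules} {K : ℕ} (p : FlatMod.freeMod D.subscheme K ⟶ G) (hp : Epi p) :
    Curv2.IsGloballyGenerated ((Scheme.Modules.pushforward D.subschemeι).obj G) := by
  haveI := hp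
  let F := Scheme.Modules.pushforward D.subschemeι
  let r : FlatMod.freeMod Z K ⟶ ∐ (fun _ : Fin K => F.obj (unitMod D.subscheme)) :=
    Limits.Sigma.map (fun _ : Fin K => ClSub.toSubscheme D)
  haveI : Epi r := by
    dsimp only [r]
    infer_instance
  let c : (∐ fun _ : Fin K => F.obj (unitMod D.subscheme)) ⟶
      F.obj (∐ fun _ : Fin K => unitMod D.subscheme) :=
    sigmaComparison F (fun _ : Fin K => unitMod D.subscheme)
  haveI : IsIso c := by
    dsimp only [c]
    infer_instance
  haveI : Epi (F.map p) := inferInstance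
  exact isGloballyGenerated_of_epi_freeMod (r ≫ c ≫ F.map p) inferInstance

variable (k : Type u) [Field k] {Z : Scheme.{u}} [Z.Over (Spec (CommRingCat.of k))]
  [IsProper (Z ↘ Spec (CommRingCat.of k))]

include k in
/-- if `R` is the direct image of a coherent module from a closed subscheme on which `N` is
ample, then the twists of `R` by powers of `N` have eventually vanishing higher cohomology
and are eventually globally generated. -/
theorem EV_EGG_of_isAmple_pullback (N : Z.Modules) (hN : PicF.IsInvertible N) (R : Z.Modules)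
    (hR : Coh.IsCoh R) (D : Z.IdealSheafData)
    (hD : IsIso ((Scheme.Modules.pullbackPushforwardAdjunction D.subschemeι).unit.app R))
    (hamp : CohB1.IsAmple ((Scheme.Modules.pullback D.subschemeι).obj N)) :
    EV N R ∧ ∃ n₀ : ℕ, ∀ n, n₀ ≤ n →
      Curv2.IsGloballyGenerated (CohB1.tensorMod R (CohB1.tensorPow N n)) := by
  haveI : IsLocallyNoetherian Z := Curve.isLocallyNoetherian k Z
  haveI : CompactSpace Z := QuasiCompact.compactSpace_of_compactSpace (Z ↘ Spec (CommRingCat.of k))
  haveI : IsNoetherian Z := {}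
  haveI := hD
  obtain ⟨G, hG⟩ : ∃ G, G = (Scheme.Modules.pullback D.subschemeι).obj R := ⟨_, rfl⟩
  have hGc : Coh.IsCoh G := hG ▸ Groth.Agent.H4.FlatPull2.isCoh_pullback D.subschemeι R hR
  have e : R ≅ (Scheme.Modules.pushforward D.subschemeι).obj G :=
    hG ▸ asIso ((Scheme.Modules.pullbackPushforwardAdjunction D.subschemeι).unit.app R)
  refine ⟨(EV_push k (Z ↘ Spec (CommRingCat.of k)) D.subschemeι N hN hamp G hGc).of_iso e.symm, ?_⟩
  haveI : G.IsQuasicoherent := hGc.1
  haveI : IsLocallyNoetherian D.subscheme :=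
    LocallyOfFiniteType.isLocallyNoetherian D.subschemeι
  haveI : CompactSpace D.subscheme := QuasiCompact.compactSpace_of_compactSpace D.subschemeι
  haveI : IsNoetherian D.subscheme := {}
  obtain ⟨n₀, hn₀⟩ := exists_epi_free_of_isAmple _ hamp G hGc.2
  refine ⟨n₀, fun n hn => ?_⟩
  obtain ⟨K, p, hp⟩ := hn₀ n hn
  have h1 := isGloballyGenerated_push_of_epi_freeMod D p hp
  have e' : CohB1.tensorMod R (CohB1.tensorPow N n) ≅
      (Scheme.Modules.pushforward D.subschemeι).obj
        (CohB1.tensorMod G (CohB1.tensorPow ((Scheme.Modules.pullback D.subschemeι).obj N) n)) :=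
    tensorIso' e (Iso.refl _) ≪≫
    projIso D.subschemeι G (CohB1.tensorPow N n) (isInvertible_tensorPow hN n) ≪≫
      (Scheme.Modules.pushforward D.subschemeι).mapIso
        (tensorIso' (Iso.refl _) (pbTensorPowIso D.subschemeι N hN n))
  exact Groth.Agent.LD.PN.isGloballyGenerated_of_iso e'.symm h1

include k in
/-- **globally generated + (ample on / no section generating along) every integral curve ⟹
ample.** -/
theorem isAmple_of_gg_of_restrict_curves' (L : Z.Modules) (hL : PicF.IsInvertible L)
    (hgen : Curv2.IsGloballyGenerated L)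
    (hcurves : ∀ C : Z.IdealSheafData, IsIntegral C.subscheme →
      topologicalKrullDim (C.support : Set Z) = 1 →
        CohB1.IsAmple ((Scheme.Modules.pullback C.subschemeι).obj L) ∨
        ∀ τ : unitMod Z ⟶ L, ¬ ((C.support : Set Z) ⊆ CohB1.genLocus L τ)) :
    CohB1.IsAmple L := by
  haveI : CompactSpace Z := QuasiCompact.compactSpace_of_compactSpace (Z ↘ Spec (CommRingCat.of k))
  obtain ⟨n, s, hs⟩ := exists_generatedBy_of_isGloballyGenerated L hL hgen
  apply isAmple_of_generatedBy_of_no_curve k Z L hL s hs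
  intro C hCint hCdim j hsub
  haveI := hCint
  rcases hcurves C hCint hCdim with hamp | hno
  · have hgl : CohB1.genLocus _ (pbHom C.subschemeι (homOfSection L (s j))) = ⊤ := by
      rw [genLocus_pbHom C.subschemeι hL]
      ext y
      simp only [Opens.coe_top, Set.mem_univ, iff_true]
      apply hsub
      rw [← Scheme.IdealSheafData.range_subschemeι]
      exact ⟨y, rfl⟩
    haveI := Groth.Agent.H5.Glue.isIso_of_genLocus_eq_top _ hgl
    have hO : CohB1.IsAmple (unitMod C.subscheme) :=
      isAmple_of_iso (asIso (pbHom C.subschemeι (homOfSection L (s j)))).symm hamp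
    letI : C.subscheme.Over (Spec (CommRingCat.of k)) :=
      ⟨C.subschemeι ≫ (Z ↘ Spec (CommRingCat.of k))⟩
    haveI : IsProper (C.subscheme ↘ Spec (CommRingCat.of k)) := by
      show IsProper (C.subschemeι ≫ (Z ↘ Spec (CommRingCat.of k)))
      infer_instance
    have hdim : topologicalKrullDim C.subscheme = 1 := by
      rw [← hCdim, ← Scheme.IdealSheafData.range_subschemeι]
      exact IsHomeomorph.topologicalKrullDim_eq _
        (C.subschemeι.isClosedEmbedding.isEmbedding.toHomeomorph).isHomeomorph
    exact not_isAmple_unitMod_of_dim_one k C.subscheme hdim hO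
  · exact hno _ hsub

include k in
/-- **core step of Nakai–Moishezon**: on an integral proper scheme, an invertible module `M`
with a nonzero section of a positive power, ample on every proper closed subscheme, and (in
dimension one) with no nowhere vanishing section of a positive power, is ample. -/
theorem isAmple_of_section_of_isAmple_proper_closed [IsIntegral Z] (M : Z.Modules)
    (hM : PicF.IsInvertible M) (a : ℕ) (ha : 0 < a) (σ : unitMod Z ⟶ CohB1.tensorPow M a)
    (hσ : σ ≠ 0)
    (H1 : ∀ D : Z.IdealSheafData, (D.support : Set Z) ≠ Set.univ →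
      CohB1.IsAmple ((Scheme.Modules.pullback D.subschemeι).obj M))
    (H3 : topologicalKrullDim Z = 1 → ∀ b : ℕ, 0 < b → ∀ τ : unitMod Z ⟶ CohB1.tensorPow M b,
      (CohB1.genLocus _ τ : Set Z) ≠ Set.univ) :
    CohB1.IsAmple M := by
  haveI : IsLocallyNoetherian Z := Curve.isLocallyNoetherian k Z
  haveI : CompactSpace Z := QuasiCompact.compactSpace_of_compactSpace (Z ↘ Spec (CommRingCat.of k))
  haveI : IsNoetherian Z := {}
  haveI := (isCoh_of_isInvertible hM).1
  have hN := isInvertible_tensorPow hM a
  have hRc : Coh.IsCoh (cokernel σ) := isCoh_cokernel σ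
    (isCoh_of_isInvertible (isInvertible_unit Z)) (isCoh_of_isInvertible hN)
  haveI := hRc.1
  -- the annihilator ideal of the cokernel
  obtain ⟨D, hD⟩ : ∃ D, D = annIdeal (cokernel σ) hRc.2 := ⟨_, rfl⟩
  have hDs : (D.support : Set Z) = CohB1.support (cokernel σ) := by
    rw [hD]; exact support_annIdeal _ hRc.2
  have hDne : (D.support : Set Z) ≠ Set.univ := by
    intro h
    have h1 : genericPoint Z ∈ CohB1.support (cokernel σ) := by
      rw [← hDs, h]; trivial
    exact not_mem_support_cokernel_of_mem_genLocus σ _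
      (Groth.Agent.H5.Curve2.genericPoint_mem_genLocus hN σ hσ) h1
  have hiso : IsIso ((Scheme.Modules.pullbackPushforwardAdjunction D.subschemeι).unit.app
      (cokernel σ)) := by
    rw [isIso_unit_closedImmersion_iff]
    intro U x hx s
    rw [Scheme.IdealSheafData.ker_subschemeι, hD] at hx
    exact Module.mem_annihilator.mp hx s
  have hampD : CohB1.IsAmple ((Scheme.Modules.pullback D.subschemeι).obj (CohB1.tensorPow M a)) :=
    isAmple_of_iso (pbTensorPowIso D.subschemeι M hM a).symm (isAmple_tensorPow (H1 D hDne) a ha)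
  obtain ⟨hEV, hEGG⟩ := EV_EGG_of_isAmple_pullback k _ hN _ hRc D hiso hampD
  obtain ⟨m, hm⟩ := exists_gg_tensorPow_of_section k _ hN σ hσ hEV hEGG
  have hc := powIdx_pos ha m
  have hgg : Curv2.IsGloballyGenerated (CohB1.tensorPow M (powIdx a (m + 1))) :=
    Groth.Agent.LD.PN.isGloballyGenerated_of_iso (powPowIso M a (m + 1)) hm
  apply isAmple_of_isAmple_tensorPow hM _ hc
  apply isAmple_of_gg_of_restrict_curves' k _ (isInvertible_tensorPow hM _) hgg
  intro C hCint hCdim
  by_cases hCu : (C.support : Set Z) = Set.univ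
  · right
    intro τ hsub
    have hdimZ : topologicalKrullDim Z = 1 := by
      rw [← hCdim, hCu]
      exact (IsHomeomorph.topologicalKrullDim_eq _ (Homeomorph.Set.univ Z).isHomeomorph).symm
    apply H3 hdimZ _ hc τ
    rw [← hCu]
    exact Set.Subset.antisymm (by rw [hCu]; exact Set.subset_univ _) hsub
  · left
    exact isAmple_of_iso (pbTensorPowIso C.subschemeι M hM _).symm
      (isAmple_tensorPow (H1 C hCu) _ hc)

end Groth.Agent.H5.IntN
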