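import Mathlib
import Groth.Agent.Lib.Helper5.IntN.Nak8

set_option autoImplicit false
universe u
open CategoryTheory CategoryTheory.Limits AlgebraicGeometry TopologicalSpace Opposite

namespace Groth.Agent.H5.IntN

open Groth.Agent.LD Groth.Agent.LD.QC Groth.Agent.H5.Curve4 Groth.Agent.H5.DegC
  Groth.Agent.H5.Snap Groth.Agent.LD.PN.AmD

/-- ampleness of the pullback along a closed immersion can be tested on the scheme-theoretic
image. -/
theorem isAmple_pullback_of_ker {T X : Scheme.{u}} (g : T ⟶ X) [IsClosedImmersion g]
    (L : X.Modules) (h : CohB1.IsAmple ((Scheme.Modules.pullback g.ker.subschemeι).obj L)) :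
    CohB1.IsAmple ((Scheme.Modules.pullback g).obj L) := by
  have h1 := isAmple_pullback_of_isAffineHom g.toImage _ h
  exact isAmple_of_iso ((Scheme.Modules.pullbackComp g.toImage g.ker.subschemeι).app L ≪≫
    (Scheme.Modules.pullbackCongr g.toImage_imageι).app L) h1

variable (k : Type u) [Field k] {X : Scheme.{u}} [X.Over (Spec (CommRingCat.of k))]
  [IsProper (X ↘ Spec (CommRingCat.of k))]

/-- a strictly nef module has no positive power trivial along an integral curve. -/
theorem not_iso_quotMod_tensorPow (L : X.Modules) (hL : PicF.IsInvertible L)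
    (C : X.IdealSheafData) (hCdim : topologicalKrullDim (C.support : Set X) = 1)
    (hpos : 0 < Curv2.euler k X (CohB1.tensorMod (ClSub.quotMod C) L) -
          Curv2.euler k X (ClSub.quotMod C)) (b : ℕ) (hb : 0 < b)
    (e : CohB1.tensorMod (ClSub.quotMod C) (CohB1.tensorPow L b) ≅ ClSub.quotMod C) : False := by
  obtain ⟨d, hd⟩ := Groth.Agent.H9.ORB3.exists_nat_dim_le (X ↘ Spec (CommRingCat.of k))
  obtain ⟨M, hM, hLM⟩ := Groth.Agent.H5.Glue.exists_inverse L hL
  have hQ : Coh.IsCoh (ClSub.quotMod C) := isCoh_quotMod C
  have hsupp : CohB1.support (ClSub.quotMod C) = (C.support : Set X) := support_quotMod C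
  have heq := Curve.euler_iso k X e
  have hdim1 : topologicalKrullDim (CohB1.support (ClSub.quotMod C)) ≤ 1 := by
    rw [hsupp, hCdim]
  have hlin := euler_tensorPow_eq k d hd L M hL hLM (ClSub.quotMod C) hQ hdim1 b
  rw [euler_tensor_sub k d hd L M hL hLM (ClSub.quotMod C) hQ hdim1] at hpos
  rw [heq] at hlin
  have h0 : (0 : ℤ) < (b : ℤ) * FGA.intNum k X d (fun _ : Fin 1 => M) (ClSub.quotMod C) := by
    have : (0 : ℤ) < (b : ℤ) := by exact_mod_cast hb
    positivity
  omega

/-- a nowhere vanishing section of a power of the restriction of `L` to a closed subscheme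
trivialises the corresponding twist of the quotient module. -/
noncomputable def quotModTensorPowIso (L : X.Modules) (hL : PicF.IsInvertible L)
    (C : X.IdealSheafData) (b : ℕ)
    (τ : unitMod C.subscheme ⟶
      CohB1.tensorPow ((Scheme.Modules.pullback C.subschemeι).obj L) b) [IsIso τ] :
    CohB1.tensorMod (ClSub.quotMod C) (CohB1.tensorPow L b) ≅ ClSub.quotMod C :=
  projIso C.subschemeι (unitMod C.subscheme) (CohB1.tensorPow L b) (isInvertible_tensorPow hL b) ≪≫
    (Scheme.Modules.pushforward C.subschemeι).mapIso
      (tensorIso' (Iso.refl _) (pbTensorPowIso C.subschemeι L hL b) ≪≫ unitorL' _ ≪≫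
        (asIso τ).symm)

/-- integrality transfers to the scheme-theoretic image of a closed immersion. -/
theorem isIntegral_ker_subscheme {T X : Scheme.{u}} (g : T ⟶ X) [IsClosedImmersion g]
    [IsIntegral T] : IsIntegral g.ker.subscheme := by
  haveI : Nonempty g.ker.subscheme := ⟨g.toImage (Classical.arbitrary T)⟩
  exact isIntegral_of_isOpenImmersion (inv g.toImage)

include k in
/-- **Nakai–Moishezon framework**: a strictly nef invertible module on a proper scheme, such
that on every integral closed subscheme `Z` (on whose proper closed subschemes it is already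
known to be ample) some positive power has a nonzero section, is ample. -/
theorem isAmple_of_forall_integral_section (L : X.Modules) (hL : PicF.IsInvertible L)
    (hnef : ∀ C : X.IdealSheafData, IsIntegral C.subscheme →
      topologicalKrullDim (C.support : Set X) = 1 →
        0 < Curv2.euler k X (CohB1.tensorMod (ClSub.quotMod C) L) -
          Curv2.euler k X (ClSub.quotMod C))
    (heff : ∀ Z : X.IdealSheafData, IsIntegral Z.subscheme →
      (∀ D : Z.subscheme.IdealSheafData, (D.support : Set Z.subscheme) ≠ Set.univ →
        CohB1.IsAmple ((Scheme.Modules.pullback D.subschemeι).obj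
          ((Scheme.Modules.pullback Z.subschemeι).obj L))) →
      ∃ (m : ℕ) (s : Coh.structureModule Z.subscheme ⟶
          CohB1.tensorPow ((Scheme.Modules.pullback Z.subschemeι).obj L) (m + 1)), s ≠ 0) :
    CohB1.IsAmple L := by
  haveI : IsLocallyNoetherian X := Curve.isLocallyNoetherian k X
  haveI : CompactSpace X := QuasiCompact.compactSpace_of_compactSpace (X ↘ Spec (CommRingCat.of k))
  haveI : IsNoetherian X := {}
  have key : ∀ (S : Closeds X) (C : X.IdealSheafData), C.support = S → IsIntegral C.subscheme →
      CohB1.IsAmple ((Scheme.Modules.pullback C.subschemeι).obj L) := by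
    intro S
    induction S using WellFoundedLT.induction with
    | ind S IH =>
    intro C hCS hCint
    haveI := hCint
    letI : C.subscheme.Over (Spec (CommRingCat.of k)) :=
      ⟨C.subschemeι ≫ (X ↘ Spec (CommRingCat.of k))⟩
    haveI : IsProper (C.subscheme ↘ Spec (CommRingCat.of k)) := by
      show IsProper (C.subschemeι ≫ (X ↘ Spec (CommRingCat.of k)))
      infer_instance
    have hM : PicF.IsInvertible ((Scheme.Modules.pullback C.subschemeι).obj L) :=
      isInvertible_pullback C.subschemeι hL
    have H1 : ∀ D : C.subscheme.IdealSheafData, (D.support : Set C.subscheme) ≠ Set.univ →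
        CohB1.IsAmple ((Scheme.Modules.pullback D.subschemeι).obj
          ((Scheme.Modules.pullback C.subschemeι).obj L)) := by
      intro D hD
      apply isAmple_of_integral_closed k (D.subschemeι ≫ (C.subscheme ↘ Spec (CommRingCat.of k))) _
        (isInvertible_pullback _ hM)
      intro T i hi hT
      haveI := hi
      haveI := hT
      obtain ⟨g, hg⟩ : ∃ g : T ⟶ X, g = i ≫ D.subschemeι ≫ C.subschemeι := ⟨_, rfl⟩
      haveI : IsClosedImmersion g := by rw [hg]; infer_instance
      have hsupp : (g.ker.support : Set X) = Set.range g := by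
        rw [Scheme.Hom.support_ker]
        exact g.isClosedEmbedding.isClosed_range.closure_eq
      have hlt : g.ker.support < S := by
        rw [← hCS]
        refine lt_of_le_of_ne ?_ ?_
        · intro x hx
          have hx' : x ∈ Set.range g := hsupp ▸ hx
          obtain ⟨t, rfl⟩ := hx'
          show g t ∈ (C.support : Set X)
          rw [← Scheme.IdealSheafData.range_subschemeι, hg]
          exact ⟨D.subschemeι (i t), rfl⟩
        · intro heq
          apply hD
          ext z
          simp only [Set.mem_univ, iff_true]
          have hz : C.subschemeι z ∈ (C.support : Set X) := by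
            rw [← Scheme.IdealSheafData.range_subschemeι]; exact ⟨z, rfl⟩
          rw [← heq] at hz
          have hz' : C.subschemeι z ∈ Set.range g := hsupp ▸ hz
          obtain ⟨t, ht⟩ := hz'
          have h3 : D.subschemeι (i t) = z := by
            apply C.subschemeι.isClosedEmbedding.injective
            rw [← ht, hg]; rfl
          show z ∈ (D.support : Set C.subscheme)
          rw [← Scheme.IdealSheafData.range_subschemeι, ← h3]
          exact ⟨i t, rfl⟩
      have h2 := IH g.ker.support hlt g.ker rfl (isIntegral_ker_subscheme g)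
      have h3 := isAmple_pullback_of_ker g L h2
      subst hg
      exact isAmple_of_iso (((Scheme.Modules.pullbackComp i (D.subschemeι ≫ C.subschemeι)).app L).symm ≪≫
        (Scheme.Modules.pullback i).mapIso
          ((Scheme.Modules.pullbackComp D.subschemeι C.subschemeι).app L).symm) h3
    obtain ⟨m, s, hs⟩ := heff C hCint H1
    apply isAmple_of_section_of_isAmple_proper_closed k _ hM (m + 1) (Nat.succ_pos m) s hs H1
    intro hdim b hb τ hτ
    have hgl : CohB1.genLocus _ τ = ⊤ := by
      ext y
      simp only [Opens.coe_top, Set.mem_univ, iff_true]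
      rw [hτ]; trivial
    haveI := Groth.Agent.H5.Glue.isIso_of_genLocus_eq_top τ hgl
    have hCdim : topologicalKrullDim (C.support : Set X) = 1 := by
      rw [← Scheme.IdealSheafData.range_subschemeι, ← hdim]
      exact (IsHomeomorph.topologicalKrullDim_eq _
        (C.subschemeι.isClosedEmbedding.isEmbedding.toHomeomorph).isHomeomorph).symm
    exact not_iso_quotMod_tensorPow k L hL C hCdim (hnef C hCint hCdim) b hb
      (quotModTensorPowIso L hL C b τ)
  apply isAmple_of_integral_closed k (X ↘ Spec (CommRingCat.of k)) L hL
  intro T i hi hT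
  haveI := hi
  haveI := hT
  exact isAmple_pullback_of_ker i L (key _ i.ker rfl (isIntegral_ker_subscheme i))

end Groth.Agent.H5.IntN
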