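import Mathlib
import Groth.Agent.Lib.Helper5.IntN.Nak9
import Groth.Agent.Lib.Helper5.Snap.DelCycle
import Groth.Agent.Lib.Helper5.Deg.Deg3
import Groth.Agent.Lib.Lead.QC.NonzeroHom

set_option autoImplicit false
universe u
open CategoryTheory CategoryTheory.Limits AlgebraicGeometry TopologicalSpace Opposite

namespace Groth.Agent.H5.IntN

open Groth.Agent.LD Groth.Agent.LD.QC Groth.Agent.H5.Curve4 Groth.Agent.H5.DegC
  Groth.Agent.H5.Snap Groth.Agent.LD.PN.AmD

variable {Z : Scheme.{u}} [IsIntegral Z] [IsNoetherian Z]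

/-- a coherent module of generic rank zero is torsion. -/
theorem isTors_of_gdim_eq_zero {T : Z.Modules} (hT : Coh.IsCoh T) (h : gdim T = 0) : IsTors T := by
  haveI := hT.1
  letI : Field (Z.presheaf.stalk (genericPoint Z)) := inferInstanceAs (Field Z.functionField)
  haveI : Module.Finite (Z.presheaf.stalk (genericPoint Z))
      (T.presheaf.stalk (genericPoint Z)) :=
    Groth.Agent.H1.CohLen.finite_stalk T hT.2 (genericPoint Z)
  exact Module.finrank_zero_iff.mp h

/-- torsion is invariant under isomorphisms (coherent case). -/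
theorem isTors_of_iso {T T' : Z.Modules} (e : T ≅ T') (hT' : Coh.IsCoh T') (h : IsTors T) :
    IsTors T' :=
  isTors_of_gdim_eq_zero hT' (by rw [← gdim_iso e]; exact gdim_of_isTors h)

/-- a torsion coherent submodule of an invertible module on an integral scheme is zero. -/
theorem isZero_of_mono_invertible_of_isTors {G N : Z.Modules} (hN : PicF.IsInvertible N)
    (g : G ⟶ N) [Mono g] (hG : Coh.IsCoh G) (h : IsTors G) : IsZero G := by
  obtain ⟨N', hN', ⟨e⟩⟩ := Groth.Agent.H5.Glue.exists_inverse N hN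
  haveI := hG.1
  haveI := (isCoh_of_isInvertible hN).1
  haveI := (isCoh_of_isInvertible hN').1
  have hS := Groth.Agent.H5.HP.shortExact_coker g
  have hS' := shortExact_tensorMap_of_isInvertible hS N' hN'
  haveI : Mono (KoszTw.tensorMap g (𝟙 N')) := hS'.mono_f
  have ht : IsTors (CohB1.tensorMod G N') := by
    by_contra hne
    exact (Groth.Agent.H5.Deg.support_tensorMod_subset G hG.2 hN' hne) h
  have hz : IsZero (CohB1.tensorMod G N') :=
    isZero_of_mono_unit_of_isTors _ (KoszTw.tensorMap g (𝟙 N') ≫ e.hom) ht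
  -- `G ≅ (G ⊗ N') ⊗ N`
  have hz2 : IsZero (CohB1.tensorMod (CohB1.tensorMod G N') N) := by
    rw [IsZero.iff_id_eq_zero, ← KoszTw.tensorMap_id, hz.eq_of_src (𝟙 _) 0,
      tensorMap_zero_id hN]
  have e2 : CohB1.tensorMod (CohB1.tensorMod G N') N ≅ G :=
    tensorAssoc G N' N ≪≫ tensorIso' (Iso.refl G) (tensorCommAll N' N ≪≫ e) ≪≫
      SecTwist.unitorR G
  exact hz2.of_iso e2.symm

/-- **common subsheaf**: on an integral Noetherian scheme, the structure sheaf and an
invertible module contain a common coherent submodule with torsion cokernels. -/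
theorem exists_common_sub (M' : Z.Modules) (hM' : PicF.IsInvertible M') :
    ∃ (F : Z.Modules) (ι : F ⟶ unitMod Z) (ψ : F ⟶ M'), Mono ι ∧ Mono ψ ∧ Coh.IsCoh F ∧
      IsTors (cokernel ι) ∧ IsTors (cokernel ψ) := by
  have hOc : Coh.IsCoh (unitMod Z) := Groth.Agent.LD.PF.isCoh_unitMod Z
  have hMc : Coh.IsCoh M' := isCoh_of_isInvertible hM'
  have hrk : gdim M' = 1 := gdim_of_rank ((isInvertible_iff M').mp hM')
  have hM0 : ¬ IsZero M' := by
    intro hz
    have := gdim_of_isTors (isTors_of_isZero hz)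
    omega
  obtain ⟨F, ι, ψ, hι, hFq, hψ⟩ := exists_sub_nonzero_hom (unitMod Z) M' hOc.1 hMc.1 hMc.2 hM0
    (fun x _ => mem_support_unitMod' x)
  haveI := hι
  have hFc : Coh.IsCoh F := isCoh_of_mono ι hFq hOc
  have hFt : ¬ IsTors F := by
    intro ht
    exact hψ ((isZero_of_mono_unit_of_isTors F ι ht).eq_of_src _ _)
  have hF1 : gdim F = 1 := gdim_eq_one_of_not_isTors F ι hFc hFt
  have hCι : IsTors (cokernel ι) := isTors_cokernel_of_not_isTors F ι hFc hFt
  -- `ψ` is a monomorphism
  have hKc : Coh.IsCoh (kernel ψ) := isCoh_kernel ψ hFc hMc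
  haveI hmono : Mono ψ := by
    by_cases hK : IsTors (kernel ψ)
    · exact Preadditive.mono_of_isZero_kernel ψ
        (isZero_of_mono_unit_of_isTors (kernel ψ) (kernel.ι ψ ≫ ι) hK)
    · exfalso
      have hK1 : gdim (kernel ψ) = 1 :=
        gdim_eq_one_of_not_isTors (kernel ψ) (kernel.ι ψ ≫ ι) hKc hK
      have hS := Groth.Agent.H5.HP.shortExact_coker (kernel.ι ψ)
      have hcc : Coh.IsCoh (cokernel (kernel.ι ψ)) := isCoh_cokernel _ hKc hFc
      have hadd := gdim_add _ hS hKc hcc
      change gdim F = gdim (kernel ψ) + gdim (cokernel (kernel.ι ψ)) at hadd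
      have h0 : gdim (cokernel (kernel.ι ψ)) = 0 := by omega
      have hIc : Coh.IsCoh (Abelian.image ψ) := isCoh_kernel _ hMc (isCoh_cokernel ψ hFc hMc)
      have hIt : IsTors (Abelian.image ψ) :=
        isTors_of_iso (Abelian.coimageIsoImage ψ) hIc (isTors_of_gdim_eq_zero hcc h0)
      have hIz : IsZero (Abelian.image ψ) :=
        isZero_of_mono_invertible_of_isTors hM' (Abelian.image.ι ψ) hIc hIt
      apply hψ
      rw [← Abelian.image.fac ψ, hIz.eq_of_tgt (Abelian.factorThruImage ψ) 0, zero_comp]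
  refine ⟨F, ι, ψ, hι, hmono, hFc, hCι, ?_⟩
  have hS := Groth.Agent.H5.HP.shortExact_coker ψ
  have hcc : Coh.IsCoh (cokernel ψ) := isCoh_cokernel _ hFc hMc
  have hadd := gdim_add _ hS hFc hcc
  change gdim M' = gdim F + gdim (cokernel ψ) at hadd
  exact isTors_of_gdim_eq_zero hcc (by omega)

end Groth.Agent.H5.IntN
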