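import Mathlib
import Groth.Agent.Lib.Helper5.IntN.Nak10
import Groth.Agent.Lib.Helper5.IntN.ARR

set_option autoImplicit false
universe u
open CategoryTheory CategoryTheory.Limits AlgebraicGeometry TopologicalSpace Opposite
open scoped fwdDiff

namespace Groth.Agent.H5.IntN

open Groth.Agent.LD Groth.Agent.LD.QC Groth.Agent.H5.Curve4 Groth.Agent.H5.DegC
  Groth.Agent.H5.Snap Groth.Agent.LD.PN.AmD

/-- an integer function with vanishing differences of order `> d` and positive `d`-th difference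
(`d ≥ 1`) is unbounded above. -/
theorem exists_large_of_fwdDiff (f : ℕ → ℤ) (d : ℕ) (hd : 0 < d)
    (hvan : ∀ j, d < j → (fwdDiff (1 : ℕ))^[j] f 0 = 0)
    (hpos : 0 < (fwdDiff (1 : ℕ))^[d] f 0) (B : ℤ) (n₀ : ℕ) : ∃ n, n₀ ≤ n ∧ B < f n := by
  obtain ⟨C, hC0, hC⟩ := exists_bound_of_fwdDiff_eq_zero f d hvan
  obtain ⟨c, hc⟩ : ∃ c : ℚ, c = (((fwdDiff (1 : ℕ))^[d] f 0 : ℤ) : ℚ) / (d.factorial : ℚ) :=
    ⟨_, rfl⟩
  have hc0 : 0 < c := by
    rw [hc]
    have : (0 : ℚ) < (((fwdDiff (1 : ℕ))^[d] f 0 : ℤ) : ℚ) := by exact_mod_cast hpos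
    positivity
  obtain ⟨N, hN⟩ := exists_nat_gt ((C * 2 ^ (d - 1) + |(B : ℚ)| + 1) / c)
  refine ⟨max (max N n₀) 1, le_trans (le_max_right N n₀) (le_max_left _ _), ?_⟩
  set n := max (max N n₀) 1 with hn
  have hn1 : (1 : ℚ) ≤ (n : ℚ) := by exact_mod_cast le_max_right (max N n₀) 1
  have hnN : (N : ℚ) ≤ (n : ℚ) := by
    exact_mod_cast le_trans (le_max_left N n₀) (le_max_left _ 1)
  have h1 : C * 2 ^ (d - 1) + |(B : ℚ)| + 1 < c * n := by
    have := (div_lt_iff₀ hc0).mp (lt_of_lt_of_le hN hnN)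
    linarith
  have h2 := hC n
  rw [← hc] at h2
  have h3 : c * (n : ℚ) ^ d - C * ((n : ℚ) + 1) ^ (d - 1) ≤ (f n : ℚ) := by
    have := abs_le.mp h2
    linarith [this.1]
  have h4 : ((n : ℚ) + 1) ^ (d - 1) ≤ 2 ^ (d - 1) * (n : ℚ) ^ (d - 1) := by
    rw [← mul_pow]
    apply pow_le_pow_left₀ (by linarith)
    linarith
  have h5 : (n : ℚ) ^ d = (n : ℚ) ^ (d - 1) * n := by
    rw [← pow_succ]
    congr 1
    omega
  have h6 : (1 : ℚ) ≤ (n : ℚ) ^ (d - 1) := one_le_pow₀ hn1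
  have h7 : |(B : ℚ)| + 1 ≤ (f n : ℚ) := by
    have h8 : C * ((n : ℚ) + 1) ^ (d - 1) ≤ C * (2 ^ (d - 1) * (n : ℚ) ^ (d - 1)) :=
      mul_le_mul_of_nonneg_left h4 hC0
    have h9 : (n : ℚ) ^ (d - 1) * (|(B : ℚ)| + 1) ≤
        (n : ℚ) ^ (d - 1) * (c * n - C * 2 ^ (d - 1)) :=
      mul_le_mul_of_nonneg_left (by linarith) (by linarith)
    have h10 : |(B : ℚ)| + 1 ≤ (n : ℚ) ^ (d - 1) * (|(B : ℚ)| + 1) := by
      have : 0 ≤ |(B : ℚ)| + 1 := by positivity
      nlinarith
    rw [h5] at h3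
    nlinarith
  have h11 : (B : ℚ) < (f n : ℚ) := by
    have := le_abs_self (B : ℚ)
    linarith
  exact_mod_cast h11

variable (k : Type u) [Field k] {Z : Scheme.{u}} [Z.Over (Spec (CommRingCat.of k))]
  [IsProper (Z ↘ Spec (CommRingCat.of k))]

/-- in a short exact sequence whose third term has no cohomology in degrees `i`, `i + 1`, the
first two terms have the same `h^{i+1}`. -/
theorem finrank_HH_eq_of_shortExact {S : ShortComplex Z.Modules} (hS : S.ShortExact) (i : ℕ)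
    (h1 : Subsingleton (Coh.HH Z S.X₃ i)) (h2 : Subsingleton (Coh.HH Z S.X₃ (i + 1))) :
    Module.finrank k (Coh.HH Z S.X₁ (i + 1)) = Module.finrank k (Coh.HH Z S.X₂ (i + 1)) := by
  have hinj : Function.Injective (CL.HHmap k S.f (i + 1)) := by
    rw [injective_iff_map_eq_zero]
    intro x hx
    obtain ⟨x₃, rfl⟩ := CL.exact₁ hS k i x hx
    rw [Subsingleton.elim x₃ 0, map_zero]
  have hsurj : Function.Surjective (CL.HHmap k S.f (i + 1)) := by
    intro x₂
    exact CL.exact₂ hS k (i + 1) x₂ (Subsingleton.elim _ _)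
  exact (LinearEquiv.ofBijective (CL.HHmap k S.f (i + 1)) ⟨hinj, hsurj⟩).finrank_eq

include k in
/-- torsion coherent modules have eventually vanishing twisted higher cohomology, if `M` is ample
on every proper closed subscheme. -/
theorem EV_of_isTors [IsIntegral Z] (M : Z.Modules) (hM : PicF.IsInvertible M)
    (H1 : ∀ D : Z.IdealSheafData, (D.support : Set Z) ≠ Set.univ →
      CohB1.IsAmple ((Scheme.Modules.pullback D.subschemeι).obj M))
    (T : Z.Modules) (hT : Coh.IsCoh T) (ht : IsTors T) : EV M T := by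
  haveI := hT.1
  obtain ⟨D, hD⟩ : ∃ D, D = annIdeal T hT.2 := ⟨_, rfl⟩
  have hDs : (D.support : Set Z) = CohB1.support T := by
    rw [hD]; exact support_annIdeal _ hT.2
  have hDne : (D.support : Set Z) ≠ Set.univ := by
    intro h
    have h1 : genericPoint Z ∈ CohB1.support T := by
      rw [← hDs, h]; trivial
    exact h1 ht
  have hiso : IsIso ((Scheme.Modules.pullbackPushforwardAdjunction D.subschemeι).unit.app T) := by
    rw [isIso_unit_closedImmersion_iff]
    intro U x hx s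
    rw [Scheme.IdealSheafData.ker_subschemeι, hD] at hx
    exact Module.mem_annihilator.mp hx s
  exact (EV_EGG_of_isAmple_pullback k M hM T hT D hiso (H1 D hDne)).1

include k in
/-- **stabilisation of the higher cohomology**: on an integral proper scheme, if `M` is ample on
every proper closed subscheme then `h^i(M^{n+1}) = h^i(M^n)` for all `i ≥ 2` and `n ≫ 0`. -/
theorem exists_finrank_HH_tensorPow_succ_eq [IsIntegral Z] (M : Z.Modules)
    (hM : PicF.IsInvertible M)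
    (H1 : ∀ D : Z.IdealSheafData, (D.support : Set Z) ≠ Set.univ →
      CohB1.IsAmple ((Scheme.Modules.pullback D.subschemeι).obj M)) :
    ∃ n₀ : ℕ, ∀ n, n₀ ≤ n → ∀ i : ℕ,
      Module.finrank k (Coh.HH Z (CohB1.tensorPow M (n + 1)) (i + 2)) =
        Module.finrank k (Coh.HH Z (CohB1.tensorPow M n) (i + 2)) := by
  haveI : IsLocallyNoetherian Z := Curve.isLocallyNoetherian k Z
  haveI : CompactSpace Z := QuasiCompact.compactSpace_of_compactSpace (Z ↘ Spec (CommRingCat.of k))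
  haveI : IsNoetherian Z := {}
  haveI := (isCoh_of_isInvertible hM).1
  obtain ⟨M', hM', ⟨e⟩⟩ := Groth.Agent.H5.Glue.exists_inverse M hM
  haveI := (isCoh_of_isInvertible hM').1
  obtain ⟨F, ι, ψ, hι, hψ, hFc, hCι, hCψ⟩ := exists_common_sub M' hM'
  haveI := hι
  haveI := hψ
  have hOc : Coh.IsCoh (unitMod Z) := Groth.Agent.LD.PF.isCoh_unitMod Z
  have hM'c : Coh.IsCoh M' := isCoh_of_isInvertible hM'
  obtain ⟨na, hna⟩ := EV_of_isTors k M hM H1 _ (isCoh_cokernel ι hFc hOc) hCι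
  obtain ⟨nb, hnb⟩ := EV_of_isTors k M hM H1 _ (isCoh_cokernel ψ hFc hM'c) hCψ
  have hG : ∀ m, CohB1.tensorMod M' (CohB1.tensorPow M (m + 1)) ≅ CohB1.tensorPow M m := fun m =>
    tensorCommAll M' (CohB1.tensorPow M (m + 1)) ≪≫
      tensorAssoc (CohB1.tensorPow M m) M M' ≪≫
      tensorIso' (Iso.refl _) e ≪≫ SecTwist.unitorR _
  -- comparison through `F`
  have keyA : ∀ n, na ≤ n → ∀ i : ℕ,
      Module.finrank k (Coh.HH Z (CohB1.tensorMod F (CohB1.tensorPow M n)) (i + 2)) =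
        Module.finrank k (Coh.HH Z (CohB1.tensorPow M n) (i + 2)) := by
    intro n hn i
    have hS := shortExact_tensorMap_of_isInvertible (Groth.Agent.H5.HP.shortExact_coker ι)
      (CohB1.tensorPow M n) (isInvertible_tensorPow hM n)
    rw [finrank_HH_eq_of_shortExact k hS (i + 1) (hna n hn (i + 1) (Nat.succ_pos _))
      (hna n hn (i + 2) (Nat.succ_pos _))]
    exact Groth.Agent.H5.Curve2.finrank_HH_iso k Z (unitorL' (CohB1.tensorPow M n)) (i + 2)
  have keyB : ∀ n, nb ≤ n + 1 → ∀ i : ℕ,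
      Module.finrank k (Coh.HH Z (CohB1.tensorMod F (CohB1.tensorPow M (n + 1))) (i + 2)) =
        Module.finrank k (Coh.HH Z (CohB1.tensorPow M n) (i + 2)) := by
    intro n hn i
    have hS := shortExact_tensorMap_of_isInvertible (Groth.Agent.H5.HP.shortExact_coker ψ)
      (CohB1.tensorPow M (n + 1)) (isInvertible_tensorPow hM (n + 1))
    rw [finrank_HH_eq_of_shortExact k hS (i + 1) (hnb (n + 1) hn (i + 1) (Nat.succ_pos _))
      (hnb (n + 1) hn (i + 2) (Nat.succ_pos _))]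
    exact Groth.Agent.H5.Curve2.finrank_HH_iso k Z (hG n) (i + 2)
  refine ⟨max na nb, fun n hn i => ?_⟩
  rw [← keyA (n + 1) (by omega) i, keyB n (by omega) i]

include k in
/-- **existence of sections from positivity of the leading term of `χ(M^n)`** (the key step of
the Nakai–Moishezon criterion). -/
theorem exists_section_of_pos [IsIntegral Z] (M : Z.Modules) (hM : PicF.IsInvertible M)
    (H1 : ∀ D : Z.IdealSheafData, (D.support : Set Z) ≠ Set.univ →
      CohB1.IsAmple ((Scheme.Modules.pullback D.subschemeι).obj M))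
    (d : ℕ) (hd1 : 0 < d)
    (hvan : ∀ j, d < j →
      (fwdDiff (1 : ℕ))^[j] (fun m => Curv2.euler k Z (CohB1.tensorPow M m)) 0 = 0)
    (hpos : 0 < (fwdDiff (1 : ℕ))^[d] (fun m => Curv2.euler k Z (CohB1.tensorPow M m)) 0) :
    ∃ (m : ℕ) (s : unitMod Z ⟶ CohB1.tensorPow M (m + 1)), s ≠ 0 := by
  haveI : IsLocallyNoetherian Z := Curve.isLocallyNoetherian k Z
  haveI : CompactSpace Z := QuasiCompact.compactSpace_of_compactSpace (Z ↘ Spec (CommRingCat.of k))
  haveI := (isCoh_of_isInvertible hM).1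
  obtain ⟨r, hr⟩ := Groth.Agent.H9.ORB3.exists_nat_dim_le (Z ↘ Spec (CommRingCat.of k))
  have hpc : ∀ n, Coh.IsCoh (CohB1.tensorPow M n) := fun n =>
    isCoh_of_isInvertible (isInvertible_tensorPow hM n)
  obtain ⟨n₀, hn₀⟩ := exists_finrank_HH_tensorPow_succ_eq k M hM H1
  have hstab : ∀ n, n₀ ≤ n → ∀ i : ℕ,
      Module.finrank k (Coh.HH Z (CohB1.tensorPow M n) (i + 2)) =
        Module.finrank k (Coh.HH Z (CohB1.tensorPow M n₀) (i + 2)) := by
    intro n hn
    induction n, hn using Nat.le_induction with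
    | base => intro i; rfl
    | succ n hn ih => intro i; rw [hn₀ n hn i, ih i]
  -- the Euler characteristic as a finite sum
  have heul : ∀ n, Curv2.euler k Z (CohB1.tensorPow M n) =
      (Finset.range (r + 1)).sum (fun j => (-1 : ℤ) ^ (j + 2) *
        (Module.finrank k (Coh.HH Z (CohB1.tensorPow M n) (j + 2)) : ℤ)) -
      (Module.finrank k (Coh.HH Z (CohB1.tensorPow M n) 1) : ℤ) +
      (Module.finrank k (Coh.HH Z (CohB1.tensorPow M n) 0) : ℤ) := by
    intro n
    rw [Curve.euler_eq_sum k Z _ (r + 2) (fun p hp =>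
      Groth.Agent.H5.GV.subsingleton_HH_of_isCoh r hr _ (hpc n) p (by omega)),
      Finset.sum_range_succ', Finset.sum_range_succ']
    simp
    ring
  obtain ⟨T, hT⟩ : ∃ T : ℤ, T = (Finset.range (r + 1)).sum (fun j => (-1 : ℤ) ^ (j + 2) *
      (Module.finrank k (Coh.HH Z (CohB1.tensorPow M n₀) (j + 2)) : ℤ)) := ⟨_, rfl⟩
  obtain ⟨n, hn, hTn⟩ := exists_large_of_fwdDiff _ d hd1 hvan hpos T (n₀ + 1)
  obtain ⟨m, rfl⟩ : ∃ m, n = m + 1 := ⟨n - 1, by omega⟩
  have hsum : (Finset.range (r + 1)).sum (fun j => (-1 : ℤ) ^ (j + 2) *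
      (Module.finrank k (Coh.HH Z (CohB1.tensorPow M (m + 1)) (j + 2)) : ℤ)) = T := by
    rw [hT]
    apply Finset.sum_congr rfl
    intro j _
    rw [hstab (m + 1) (by omega) j]
  have h0 : 0 < Module.finrank k (Coh.HH Z (CohB1.tensorPow M (m + 1)) 0) := by
    have h1 := heul (m + 1)
    rw [hsum] at h1
    have h2 : T < Curv2.euler k Z (CohB1.tensorPow M (m + 1)) := hTn
    have h3 : (0 : ℤ) ≤ (Module.finrank k (Coh.HH Z (CohB1.tensorPow M (m + 1)) 1) : ℤ) :=
      Int.natCast_nonneg _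
    omega
  haveI := Curve.finite_HH k Z _ (hpc (m + 1)) 0
  haveI : Nontrivial (Coh.HH Z (CohB1.tensorPow M (m + 1)) 0) :=
    Module.nontrivial_of_finrank_pos (R := k) h0
  obtain ⟨x, hx⟩ := exists_ne (0 : Coh.HH Z (CohB1.tensorPow M (m + 1)) 0)
  refine ⟨m, homOfSection _ (CL.HH0Equiv _ x), ?_⟩
  intro hs
  apply hx
  have h4 := sectionOfHom_homOfSection (CohB1.tensorPow M (m + 1)) (CL.HH0Equiv _ x)
  rw [hs, sectionOfHom_zero] at h4
  exact (CL.HH0Equiv _).injective (by rw [← h4, map_zero])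

end Groth.Agent.H5.IntN
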