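import Mathlib
import Groth.Agent.Lib.Helper5.IntN.Nak11
import Groth.Agent.Lib.Helper5.DegC.Tors
import Groth.Agent.Lib.Helper5.Curve2.B
import Groth.Agent.Lib.Lead.Curve.Torsion

set_option autoImplicit false
universe u
open CategoryTheory CategoryTheory.Limits AlgebraicGeometry TopologicalSpace Opposite
open scoped fwdDiff

namespace Groth.Agent.H5.IntN

open Groth.Agent.LD Groth.Agent.LD.QC Groth.Agent.H5.Curve4 Groth.Agent.H5.DegC
  Groth.Agent.H5.Snap Groth.Agent.LD.PN.AmD

variable (k : Type u) [Field k] {Z : Scheme.{u}} [Z.Over (Spec (CommRingCat.of k))]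
  [IsProper (Z ↘ Spec (CommRingCat.of k))]

include k in
/-- a coherent module with `h⁰ > 0` has a nonzero global section. -/
theorem exists_hom_ne_zero_of_finrank_pos (N : Z.Modules) (hN : Coh.IsCoh N)
    (h0 : 0 < Module.finrank k (Coh.HH Z N 0)) : ∃ s : unitMod Z ⟶ N, s ≠ 0 := by
  haveI := Curve.finite_HH k Z _ hN 0
  haveI : Nontrivial (Coh.HH Z N 0) := Module.nontrivial_of_finrank_pos (R := k) h0
  obtain ⟨x, hx⟩ := exists_ne (0 : Coh.HH Z N 0)
  refine ⟨homOfSection _ (CL.HH0Equiv _ x), ?_⟩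
  intro hs
  apply hx
  have h4 := sectionOfHom_homOfSection N (CL.HH0Equiv _ x)
  rw [hs, sectionOfHom_zero] at h4
  exact (CL.HH0Equiv _).injective (by rw [← h4, map_zero])

include k in
/-- on a nonempty proper scheme of dimension zero every invertible module has a nonzero
section. -/
theorem exists_section_of_dim_zero [Nonempty Z] (hdim : topologicalKrullDim Z ≤ 0)
    (M : Z.Modules) (hM : PicF.IsInvertible M) :
    ∃ s : unitMod Z ⟶ CohB1.tensorPow M 1, s ≠ 0 := by
  haveI : IsLocallyNoetherian Z := Curve.isLocallyNoetherian k Z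
  have hOc : Coh.IsCoh (unitMod Z) := Groth.Agent.LD.PF.isCoh_unitMod Z
  have hP := isInvertible_tensorPow hM 1
  have hPc := isCoh_of_isInvertible hP
  have hcl : ∀ x : Z, IsClosed ({x} : Set Z) := fun x => isClosed_singleton_of_dim_le_zero hdim x
  apply exists_hom_ne_zero_of_finrank_pos k _ hPc
  have h1 := Groth.Agent.LD.Curve.euler_of_support_closed_points k Z _ hPc (fun x _ => hcl x)
  have h2 : Curv2.euler k Z (CohB1.tensorPow M 1) = Curv2.euler k Z (unitMod Z) :=
    Groth.Agent.H5.Curve2.euler_tensor_of_support_closed_points k Z (unitMod Z) hOc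
      (fun x _ => hcl x) M hM
  have h3 := Groth.Agent.LD.Curve.euler_of_support_closed_points k Z _ hOc (fun x _ => hcl x)
  have h4 : 0 < Module.finrank k (Coh.HH Z (unitMod Z) 0) := by
    haveI := Curve.finite_HH k Z _ hOc 0
    haveI : Nontrivial (Coh.HH Z (unitMod Z) 0) := by
      refine ⟨⟨(CL.HH0Equiv (unitMod Z)).symm (show Γ(unitMod Z, ⊤) from (1 : Γ(Z, ⊤))), 0, ?_⟩⟩
      intro h
      have h5 := congrArg (CL.HH0Equiv (unitMod Z)) h
      rw [AddEquiv.apply_symm_apply, map_zero] at h5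
      haveI : Nontrivial Γ(Z, ⊤) := by
        obtain ⟨z⟩ := ‹Nonempty Z›
        haveI : Nonempty (⊤ : Z.Opens) := ⟨⟨z, trivial⟩⟩
        exact Scheme.component_nontrivial Z ⊤
      exact one_ne_zero (α := Γ(Z, ⊤)) h5
    exact Module.finrank_pos
  omega

/-- the finite differences of order `> dim` of `m ↦ χ(M^m)` vanish. -/
theorem fwdDiff_euler_tensorPow_eq_zero (d : ℕ) (hd : topologicalKrullDim Z ≤ d) (M : Z.Modules)
    (hM : PicF.IsInvertible M) (j : ℕ) (hj : d < j) :
    (fwdDiff (1 : ℕ))^[j] (fun m => Curv2.euler k Z (CohB1.tensorPow M m)) 0 = 0 := by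
  haveI : M.IsQuasicoherent := qc_of_isInvertible M hM
  obtain ⟨M', hM', hMM'⟩ := Groth.Agent.H5.Glue.exists_inverse M hM
  haveI : M'.IsQuasicoherent := qc_of_isInvertible M' hM'
  have hpowc : ∀ m, Coh.IsCoh (CohB1.tensorPow M m) := fun m =>
    isCoh_of_isInvertible (isInvertible_tensorPow hM m)
  have hfe : (fun m => FGA.eulerCharLE k Z (CohB1.tensorPow M m) d) =
      (fun m => Curv2.euler k Z (CohB1.tensorPow M m)) :=
    funext fun m => eulerCharLE_eq_euler k d hd _ (hpowc m)
  have hG : ∀ m, Nonempty (CohB1.tensorMod M' (CohB1.tensorPow M (m + 1)) ≅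
      CohB1.tensorPow M m) := by
    intro m
    exact ⟨tensorCommAll M' (CohB1.tensorPow M (m + 1)) ≪≫
      tensorAssoc (CohB1.tensorPow M m) M M' ≪≫
      tensorIso' (Iso.refl _) hMM'.some ≪≫ SecTwist.unitorR _⟩
  have key := intNum_const_eq_fwdDiff k d M' hM' (fun m => CohB1.tensorPow M m) hpowc hG
  rw [← hfe, ← key j 0]
  apply intNum_eq_zero k d hd _ (fun _ => hM') _ (hpowc _)
  refine lt_of_le_of_lt
    ((Topology.IsEmbedding.subtypeVal.isInducing.topologicalKrullDim_le).trans hd) ?_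
  exact_mod_cast hj

/-- the top mixed coefficient of the Snapper polynomial of `(O, M, …, M)` is the top finite
difference of `m ↦ χ(M^m)`. -/
theorem coeff_one_eq_fwdDiff (d : ℕ) (hd : topologicalKrullDim Z ≤ d) (M : Z.Modules)
    (hM : PicF.IsInvertible M) (P : MvPolynomial (Fin d) ℚ)
    (hP : ∀ n : Fin d → ℕ,
      (Curv2.euler k Z (Curv2.tensorPows (Coh.structureModule Z) d (fun _ => M) n) : ℚ) =
        MvPolynomial.eval (fun i => (n i : ℚ)) P) :
    MvPolynomial.coeff (Finsupp.equivFunOnFinite.symm fun _ : Fin d => 1) P =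
      (((fwdDiff (1 : ℕ))^[d] (fun m => Curv2.euler k Z (CohB1.tensorPow M m)) 0 : ℤ) : ℚ) := by
  haveI : M.IsQuasicoherent := qc_of_isInvertible M hM
  have hOc : Coh.IsCoh (unitMod Z) := isCoh_of_isInvertible (isInvertible_unit Z)
  have hdimO : topologicalKrullDim (CohB1.support (unitMod Z)) ≤ ((d : ℕ) : WithBot ℕ∞) :=
    (Topology.IsEmbedding.subtypeVal.isInducing.topologicalKrullDim_le).trans hd
  have hdeg := support_deg_le k (unitMod Z) hOc d hdimO d (fun _ => M) (fun _ => hM) P hP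
  rw [← mixDiffL_eval d P hdeg, ← mixDiffL_comp_sum d]
  congr 1
  funext n
  rw [← hP n]
  exact congrArg (Int.cast : ℤ → ℚ)
    (Groth.Agent.LD.FBC.euler_congr k (nonempty_tensorPows_const_iso M d n).some)

lemma exists_nat_eq_of_le {x : WithBot ℕ∞} {n : ℕ} (h0 : 0 ≤ x) (hn : x ≤ n) :
    ∃ d : ℕ, x = d := by
  induction x using WithBot.recBotCoe with
  | bot => exact absurd h0 (by simp)
  | coe y =>
    have hy : y ≤ (n : ℕ∞) := by exact_mod_cast hn
    have hyt : y ≠ ⊤ := ne_top_of_le_ne_top (ENat.coe_ne_top n) hy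
    obtain ⟨d, rfl⟩ := ENat.ne_top_iff_exists.mp hyt
    exact ⟨d, rfl⟩

include k in
/-- the dimension of a nonempty proper scheme over a field is a natural number. -/
theorem exists_nat_dim_eq [Nonempty Z] : ∃ d : ℕ, topologicalKrullDim Z = d := by
  obtain ⟨n, hn⟩ := Groth.Agent.H9.ORB3.exists_nat_dim_le (Z ↘ Spec (CommRingCat.of k))
  refine exists_nat_eq_of_le ?_ hn
  obtain ⟨z⟩ := ‹Nonempty Z›
  haveI : Nonempty (IrreducibleCloseds Z) :=
    ⟨⟨closure {z}, isIrreducible_singleton.closure, isClosed_closure⟩⟩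
  exact Order.krullDim_nonneg

end Groth.Agent.H5.IntN
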