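import Mathlib
import Groth.Agent.Lib.Helper5.IntN.Nak12

set_option autoImplicit false
universe u
open CategoryTheory CategoryTheory.Limits AlgebraicGeometry TopologicalSpace Opposite
open scoped fwdDiff

namespace Groth.Agent.H5.IntN

open Groth.Agent.LD Groth.Agent.LD.QC Groth.Agent.H5.Curve4 Groth.Agent.H5.DegC
  Groth.Agent.H5.Snap Groth.Agent.LD.PN.AmD

variable (k : Type u) [Field k] {X : Scheme.{u}} [X.Over (Spec (CommRingCat.of k))]
  [IsProper (X ↘ Spec (CommRingCat.of k))]

/-- the linear coefficient of the polynomial `n ↦ χ(F ⊗ L^n)` for `dim Supp F ≤ 1`. -/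
theorem coeff_one_eq_euler_sub (F : X.Modules) (hF : Coh.IsCoh F)
    (hsupp : topologicalKrullDim (CohB1.support F) ≤ (1 : ℕ)) (L : X.Modules)
    (hL : PicF.IsInvertible L) (P : MvPolynomial (Fin 1) ℚ)
    (hP : ∀ n : Fin 1 → ℕ, (Curv2.euler k X (Curv2.tensorPows F 1 (fun _ => L) n) : ℚ) =
      MvPolynomial.eval (fun i => (n i : ℚ)) P) :
    MvPolynomial.coeff (Finsupp.equivFunOnFinite.symm fun _ : Fin 1 => 1) P =
      ((Curv2.euler k X (CohB1.tensorMod F L) - Curv2.euler k X F : ℤ) : ℚ) := by
  haveI := hF.1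
  haveI := (isCoh_of_isInvertible hL).1
  rw [coeff_one_eq_sum_euler k F hF 1 hsupp (fun _ => L) (fun _ => hL) P hP]
  congr 1
  have hu : (Finset.univ : Finset (Fin 1)) = {0} := rfl
  have hp : ({0} : Finset (Fin 1)).powerset = {∅, {0}} := by decide
  rw [hu, hp, Finset.sum_pair (by decide)]
  have e0 : Curv2.tensorPows F 1 (fun _ => L) (fun i => if i ∈ (∅ : Finset (Fin 1)) then 1 else 0) ≅ F :=
    SecTwist.unitorR F
  have e1 : Curv2.tensorPows F 1 (fun _ => L)
      (fun i => if i ∈ ({0} : Finset (Fin 1)) then 1 else 0) ≅ CohB1.tensorMod F L :=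
    tensorIso' (Iso.refl F) (unitorL' L)
  rw [Curve.euler_iso k X e0, Curve.euler_iso k X e1]
  simp
  ring

/-- the Snapper polynomial of `(O_Z, L, …, L)` on `X` computes the Euler characteristics on the
closed subscheme `Z`. -/
theorem euler_tensorPows_subscheme (L : X.Modules) (hL : PicF.IsInvertible L)
    (Z : X.IdealSheafData) (d : ℕ) (n : Fin d → ℕ) :
    (Curv2.euler k X (Curv2.tensorPows (ClSub.quotMod Z) d (fun _ => L) n) : ℚ) =
      ((@Curv2.euler k _ Z.subscheme (overOf k Z.subschemeι)
        (Curv2.tensorPows (Coh.structureModule Z.subscheme) d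
          (fun _ => (Scheme.Modules.pullback Z.subschemeι).obj L) n) : ℤ) : ℚ) := by
  have h := congrFun (chiFn_push k Z.subschemeι d (fun _ => L) (fun _ => hL)
    (Coh.structureModule Z.subscheme)) n
  unfold chiFn at h
  rw [tpFun_obj, tpFun_obj] at h
  exact h

/-- **the Nakai–Moishezon criterion** (S7749). -/
theorem nakai_moishezon (L : X.Modules) (hL : PicF.IsInvertible L) :
    CohB1.IsAmple L ↔
      ∀ (Z : X.IdealSheafData) [IsIntegral Z.subscheme] (d : ℕ), 0 < d →
        topologicalKrullDim (Z.support : Set X) = d →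
        ∀ P : MvPolynomial (Fin d) ℚ,
          (∀ n : Fin d → ℕ,
            (Curv2.euler k X (Curv2.tensorPows (ClSub.quotMod Z) d (fun _ => L) n) : ℚ) =
              MvPolynomial.eval (fun i => (n i : ℚ)) P) →
          0 < MvPolynomial.coeff (Finsupp.equivFunOnFinite.symm fun _ : Fin d => 1) P := by
  have hdimZ : ∀ (Z : X.IdealSheafData),
      topologicalKrullDim Z.subscheme = topologicalKrullDim (Z.support : Set X) := by
    intro Z
    rw [← Scheme.IdealSheafData.range_subschemeι]
    exact IsHomeomorph.topologicalKrullDim_eq _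
      (Z.subschemeι.isClosedEmbedding.isEmbedding.toHomeomorph).isHomeomorph
  constructor
  · intro hamp Z hZ d hd hdim P hP
    letI : Z.subscheme.Over (Spec (CommRingCat.of k)) := overOf k Z.subschemeι
    haveI : IsProper (Z.subscheme ↘ Spec (CommRingCat.of k)) := by
      show IsProper (Z.subschemeι ≫ (X ↘ Spec (CommRingCat.of k)))
      infer_instance
    have hM := isAmple_pullback_of_isAffineHom Z.subschemeι L hamp
    have hP' : ∀ n : Fin d → ℕ,
        (Curv2.euler k Z.subscheme (Curv2.tensorPows (Coh.structureModule Z.subscheme) d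
          (fun _ => (Scheme.Modules.pullback Z.subschemeι).obj L) n) : ℚ) =
          MvPolynomial.eval (fun i => (n i : ℚ)) P := by
      intro n
      rw [← hP n, euler_tensorPows_subscheme k L hL Z d n]
    exact (asymptotic_rr k Z.subscheme d ((hdimZ Z).trans hdim) _ hM P hP').1
  · intro H
    apply isAmple_of_forall_integral_section k L hL
    · -- strictly nef
      intro C hC hCdim
      haveI := hC
      have hQ : Coh.IsCoh (ClSub.quotMod C) := isCoh_quotMod C
      have hsupp : topologicalKrullDim (CohB1.support (ClSub.quotMod C)) ≤ (1 : ℕ) := by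
        rw [support_quotMod C, hCdim]; rfl
      obtain ⟨P, -, hP⟩ := snapper k (ClSub.quotMod C) hQ 1 hsupp 1 (fun _ => L) (fun _ => hL)
      have h1 := H C 1 Nat.one_pos (by rw [hCdim]; rfl) P hP
      rw [coeff_one_eq_euler_sub k _ hQ hsupp L hL P hP] at h1
      exact_mod_cast h1
    · -- sections
      intro Z hZ H1
      haveI := hZ
      letI : Z.subscheme.Over (Spec (CommRingCat.of k)) := overOf k Z.subschemeι
      haveI : IsProper (Z.subscheme ↘ Spec (CommRingCat.of k)) := by
        show IsProper (Z.subschemeι ≫ (X ↘ Spec (CommRingCat.of k)))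
        infer_instance
      have hM := isInvertible_pullback Z.subschemeι hL
      obtain ⟨d, hd⟩ := exists_nat_dim_eq k (Z := Z.subscheme)
      rcases Nat.eq_zero_or_pos d with rfl | hdpos
      · obtain ⟨s, hs⟩ := exists_section_of_dim_zero k (le_of_eq hd) _ hM
        exact ⟨0, s, hs⟩
      · have hQ : Coh.IsCoh (ClSub.quotMod Z) := isCoh_quotMod Z
        have hsupp : topologicalKrullDim (CohB1.support (ClSub.quotMod Z)) ≤ (d : ℕ) := by
          rw [support_quotMod Z, ← hdimZ Z, hd]
        obtain ⟨P, -, hP⟩ := snapper k (ClSub.quotMod Z) hQ d hsupp d (fun _ => L) (fun _ => hL)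
        have h1 := H Z d hdpos (by rw [← hdimZ Z, hd]) P hP
        have hP' : ∀ n : Fin d → ℕ,
            (Curv2.euler k Z.subscheme (Curv2.tensorPows (Coh.structureModule Z.subscheme) d
              (fun _ => (Scheme.Modules.pullback Z.subschemeι).obj L) n) : ℚ) =
              MvPolynomial.eval (fun i => (n i : ℚ)) P := by
          intro n
          rw [← hP n, euler_tensorPows_subscheme k L hL Z d n]
        rw [coeff_one_eq_fwdDiff k d (le_of_eq hd) _ hM P hP'] at h1
        exact exists_section_of_pos k _ hM H1 d hdpos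
          (fun j hj => fwdDiff_euler_tensorPow_eq_zero k d (le_of_eq hd) _ hM j hj)
          (by exact_mod_cast h1)

end Groth.Agent.H5.IntN
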