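import Mathlib
import Groth.Agent.Lib.Helper5.IntN.Nak13

set_option autoImplicit false
universe u
open CategoryTheory CategoryTheory.Limits AlgebraicGeometry TopologicalSpace Opposite

namespace Groth.Agent.H5.IntN

open Groth.Agent.LD Groth.Agent.LD.QC Groth.Agent.H5.Curve4 Groth.Agent.H5.DegC
  Groth.Agent.H5.Snap

variable {X : Scheme.{u}} [IsLocallyNoetherian X]

/-- the tensor products of two lists of coherent modules which are permutations of each other are
isomorphic. -/
theorem nonempty_tensorList_iso_of_perm {l₁ l₂ : List X.Modules} (h : l₁.Perm l₂)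
    (hc : ∀ N ∈ l₁, Coh.IsCoh N) : Nonempty (FGA.tensorList l₁ ≅ FGA.tensorList l₂) := by
  induction h with
  | nil => exact ⟨Iso.refl _⟩
  | cons A _ ih =>
    obtain ⟨e⟩ := ih (fun N hN => hc N (List.mem_cons_of_mem _ hN))
    exact ⟨tensorIso' (Iso.refl A) e⟩
  | swap A B l =>
    have hA : Coh.IsCoh A := hc A (List.mem_cons_of_mem _ List.mem_cons_self)
    have hB : Coh.IsCoh B := hc B List.mem_cons_self
    have hl : Coh.IsCoh (FGA.tensorList l) := isCoh_tensorList l
      (fun N hN => hc N (List.mem_cons_of_mem _ (List.mem_cons_of_mem _ hN)))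
    haveI := hA.1
    haveI := hB.1
    haveI := hl.1
    exact ⟨(tensorAssoc B A (FGA.tensorList l)).symm ≪≫ swapIso B A (FGA.tensorList l)⟩
  | trans h₁ _ ih₁ ih₂ =>
    obtain ⟨e₁⟩ := ih₁ hc
    obtain ⟨e₂⟩ := ih₂ (fun N hN => hc N (h₁.mem_iff.mpr hN))
    exact ⟨e₁ ≪≫ e₂⟩

variable (k : Type u) [Field k] [X.Over (Spec (CommRingCat.of k))]

/-- **the intersection symbol is symmetric.** -/
theorem intNum_perm (d : ℕ) {r : ℕ} (M : Fin r → X.Modules) (hM : ∀ i, Coh.IsCoh (M i))
    (σ : Equiv.Perm (Fin r)) (F : X.Modules) :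
    FGA.intNum k X d (M ∘ σ) F = FGA.intNum k X d M F := by
  classical
  unfold FGA.intNum
  refine Fintype.sum_equiv (Equiv.finsetCongr σ) _ _ (fun I => ?_)
  have hcard : ((Equiv.finsetCongr σ) I).card = I.card := by
    simp [Equiv.finsetCongr_apply]
  rw [hcard]
  congr 1
  have hperm : ((I.sort (· ≤ ·)).map (M ∘ σ)).Perm
      ((((Equiv.finsetCongr σ) I).sort (· ≤ ·)).map M) := by
    rw [← List.map_map]
    apply List.Perm.map
    rw [← Multiset.coe_eq_coe, ← Multiset.map_coe, Finset.sort_eq, Finset.sort_eq,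
      Equiv.finsetCongr_apply, Finset.map_val]
    rfl
  obtain ⟨e⟩ := nonempty_tensorList_iso_of_perm hperm (by
    intro N hN
    obtain ⟨i, -, rfl⟩ := List.mem_map.mp hN
    exact hM _)
  exact eulerCharLE_iso k (tensorIso' e (Iso.refl F)) d

end Groth.Agent.H5.IntN
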