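import Mathlib
import Groth.Agent.Lib.Helper5.IntN.Num1
import Groth.Agent.Lib.Helper1.ChevLoc
import Groth.Agent.Lib.Lead.QC.PushFin
import Groth.Agent.Lib.Lead.QC.TensorComm

set_option autoImplicit false
universe u
open CategoryTheory CategoryTheory.Limits AlgebraicGeometry TopologicalSpace Opposite

namespace Groth.Agent.H5.IntN

open Groth.Agent.LD Groth.Agent.LD.QC Groth.Agent.H5.Curve4 Groth.Agent.H5.DegC Groth.Agent.H5.Snap
open Groth.Agent.H5.Deg Groth.Agent.H5.HP

variable (k : Type u) [Field k]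

/-- `N` is numerically trivial: twisting by `N` does not change the Euler characteristic of
coherent modules with support of dimension `≤ 1`. -/
def NumTriv (X : Scheme.{u}) [X.Over (Spec (CommRingCat.of k))] (N : X.Modules) : Prop :=
  ∀ T : X.Modules, Coh.IsCoh T → topologicalKrullDim (CohB1.support T) ≤ 1 →
    Curv2.euler k X (CohB1.tensorMod N T) = Curv2.euler k X T

section push

variable {X Z : Scheme.{u}} (i : Z ⟶ X) [IsClosedImmersion i]

/-- direct images of coherent modules along closed immersions are coherent. -/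
theorem isCoh_pushforward_closedImmersion (T : Z.Modules) (hT : Coh.IsCoh T) :
    Coh.IsCoh ((Scheme.Modules.pushforward i).obj T) := by
  haveI := hT.1
  exact ⟨qc_pushforward i T, isFiniteType_pushforward_of_isFinite i T hT.2⟩

/-- the support of a direct image along a closed immersion has the dimension of the support. -/
theorem dim_support_pushforward_le (T : Z.Modules) :
    topologicalKrullDim (CohB1.support ((Scheme.Modules.pushforward i).obj T)) ≤
      topologicalKrullDim (CohB1.support T) := by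
  have hsub : CohB1.support ((Scheme.Modules.pushforward i).obj T) ⊆ i '' CohB1.support T := by
    intro x hx
    obtain ⟨z, rfl⟩ := Groth.Agent.LD.PS.support_pushforward_subset i T hx
    refine ⟨z, ?_, rfl⟩
    by_contra hz
    exact Groth.Agent.H1.Chev.notMem_support_pushforward i T z hz hx
  refine (dim_mono hsub).trans (le_of_eq ?_)
  exact (IsHomeomorph.topologicalKrullDim_eq _
    (i.isClosedEmbedding.isEmbedding.homeomorphImage (CohB1.support T)).isHomeomorph).symm

variable [X.Over (Spec (CommRingCat.of k))] [IsProper (X ↘ Spec (CommRingCat.of k))]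

/-- numerical triviality restricts to closed subschemes. -/
theorem NumTriv.pullback {N : X.Modules} (hN : PicF.IsInvertible N) (h : NumTriv k X N) :
    @NumTriv k _ Z (overOf k i) ((Scheme.Modules.pullback i).obj N) := by
  intro T hT hdim
  have hlf : FlatMod.IsFinLocFree N := isFinLocFree_of_isInvertible N hN
  rw [← euler_tensor_push k i N hlf T, ← euler_push k i T]
  exact h _ (isCoh_pushforward_closedImmersion i T hT)
    ((dim_support_pushforward_le i T).trans hdim)

end push

section sections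

variable {W : Scheme.{u}} [W.Over (Spec (CommRingCat.of k))]
  [IsProper (W ↘ Spec (CommRingCat.of k))] [IsIntegral W]

include k in
/-- on an integral proper scheme with an ample module `H`, every invertible module has nonzero
sections after twisting by a high power of `H`. -/
theorem exists_section_tensor_tensorPow_ne_zero (H : W.Modules) (hH : CohB1.IsAmple H)
    (B : W.Modules) (hB : PicF.IsInvertible B) :
    ∃ m₀ : ℕ, ∀ m, m₀ ≤ m →
      ∃ σ : unitMod W ⟶ CohB1.tensorMod B (CohB1.tensorPow H m), σ ≠ 0 := by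
  haveI : IsNoetherian W := Curve2.isNoetherian_of_proper k W
  haveI := (isCoh_of_isInvertible hB).1
  obtain ⟨n₀, h⟩ := exists_epi_free_of_isAmple H hH B (isCoh_of_isInvertible hB).2
  refine ⟨n₀, fun m hm => ?_⟩
  obtain ⟨K, p, hp⟩ := h m hm
  by_contra hcon
  push Not at hcon
  have hp0 : p = 0 := by
    apply Sigma.hom_ext
    intro j
    rw [hcon (Sigma.ι (fun _ : Fin K => unitMod W) j ≫ p), comp_zero]
  have hinv : PicF.IsInvertible (CohB1.tensorMod B (CohB1.tensorPow H m)) :=
    isInvertible_tensorMod hB (isInvertible_tensorPow hH.1 m)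
  have hz : IsZero (CohB1.tensorMod B (CohB1.tensorPow H m)) := by
    haveI := hp
    exact IsZero.of_epi_eq_zero p hp0
  have h1 := gdim_of_rank ((isInvertible_iff _).mp hinv)
  have h2 := gdim_of_isTors (isTors_of_isZero hz)
  omega

end sections

/-- vanishing of intersection numbers with a numerically trivial factor (in the last slot). -/
def VanProp (r : ℕ) : Prop :=
  ∀ (X : Scheme.{u}) [X.Over (Spec (CommRingCat.of k))]
    [IsProper (X ↘ Spec (CommRingCat.of k))] (d : ℕ), topologicalKrullDim X ≤ d →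
    ∀ (H : X.Modules), CohB1.IsAmple H → ∀ (N : X.Modules), PicF.IsInvertible N →
      NumTriv k X N → ∀ (M : Fin r → X.Modules), (∀ i, PicF.IsInvertible (M i)) →
      ∀ (F : X.Modules), Coh.IsCoh F →
        topologicalKrullDim (CohB1.support F) ≤ ((r + 1 : ℕ) : WithBot ℕ∞) →
        FGA.intNum k X d (Fin.snoc M N : Fin (r + 1) → X.Modules) F = 0

theorem vanProp_zero : VanProp k 0 := by
  intro X _ _ d hd H hH N hN hNt M hM F hF hdim
  haveI := Curve.isLocallyNoetherian k X
  have hNc := isCoh_of_isInvertible hN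
  haveI := hNc.1
  haveI := hF.1
  rw [intNum_snoc k d 0 M (fun i => i.elim0) N hNc F hF, intNum_zero, intNum_zero,
    eulerCharLE_eq_euler k d hd F hF,
    eulerCharLE_eq_euler k d hd _ (isCoh_tensorMod' hNc hF), hNt F hF (by exact_mod_cast hdim)]
  ring

lemma isInvertible_snoc {X : Scheme.{u}} {r : ℕ} {M : Fin r → X.Modules}
    (hM : ∀ i, PicF.IsInvertible (M i)) {N : X.Modules} (hN : PicF.IsInvertible N) :
    ∀ i, PicF.IsInvertible ((Fin.snoc M N : Fin (r + 1) → X.Modules) i) := by
  intro i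
  refine Fin.lastCases ?_ (fun j => ?_) i
  · rw [Fin.snoc_last]; exact hN
  · rw [Fin.snoc_castSucc]; exact hM j


/-- the induction step on an integral scheme. -/
theorem vanProp_step (r : ℕ) (IH : VanProp k r) (W : Scheme.{u}) [W.Over (Spec (CommRingCat.of k))]
    [IsProper (W ↘ Spec (CommRingCat.of k))] [IsIntegral W] (d : ℕ)
    (hdW : topologicalKrullDim W ≤ d)
    (hdimW : topologicalKrullDim W = ((r + 1 + 1 : ℕ) : WithBot ℕ∞))
    (HW : W.Modules) (hHW : CohB1.IsAmple HW) (N' : W.Modules) (hN' : PicF.IsInvertible N')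
    (hNt' : NumTriv k W N') (A' : W.Modules) (hA' : PicF.IsInvertible A')
    (T : Fin r → W.Modules) (hT : ∀ j, PicF.IsInvertible (T j)) :
    FGA.intNum k W d (Fin.cons A' (Fin.snoc T N' : Fin (r + 1) → W.Modules) :
      Fin (r + 2) → W.Modules) (unitMod W) = 0 := by
  haveI : IsNoetherian W := Curve2.isNoetherian_of_proper k W
  have hS : ∀ j, PicF.IsInvertible ((Fin.snoc T N' : Fin (r + 1) → W.Modules) j) :=
    isInvertible_snoc hT hN'
  have hOc : Coh.IsCoh (unitMod W) := Groth.Agent.LD.PF.isCoh_unitMod _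
  -- the key vanishing for inverses of modules with sections
  have key : ∀ (B B' : W.Modules), PicF.IsInvertible B →
      Nonempty (CohB1.tensorMod B B' ≅ Coh.structureModule W) →
      ∀ σ : unitMod W ⟶ CohB1.tensorPow B 1, σ ≠ 0 →
      FGA.intNum k W d (Fin.cons B' (Fin.snoc T N' : Fin (r + 1) → _) :
        Fin (r + 2) → W.Modules) (unitMod W) = 0 := by
    intro B B' hB e σ hσ
    obtain ⟨hQc, hsupp, heq⟩ := intNum_cons_eq_cokernel k d hdW (le_of_eq hdimW)
      (Fin.snoc T N' : Fin (r + 1) → _) hS B B' hB e 1 σ hσ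
    have hQdim : topologicalKrullDim (CohB1.support (cokernel (twistBy (unitMod _) σ))) ≤
        ((r + 1 : ℕ) : WithBot ℕ∞) := by
      apply dim_le_of_ne_univ hdimW _ (isClosed_support_of_isCoh hQc)
      intro heq'
      have h1 : genericPoint W ∈
          CohB1.support (cokernel (twistBy (unitMod _) σ)) := by rw [heq']; trivial
      rw [hsupp] at h1
      exact h1 (Curve2.genericPoint_mem_genLocus (isInvertible_tensorPow hB 1) σ hσ)
    have h0 := IH W d hdW HW hHW N' hN' hNt' T hT _ hQc hQdim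
    rw [h0] at heq
    simpa using heq
  -- sections
  obtain ⟨A, hA, ⟨eA⟩⟩ := Groth.Agent.H5.Glue.exists_inverse A' hA'
  obtain ⟨m₁, hm₁⟩ := exists_section_tensor_tensorPow_ne_zero k HW hHW A hA
  obtain ⟨m₂, hm₂⟩ := exists_section_tensor_tensorPow_ne_zero k HW hHW (unitMod _)
    (isInvertible_unit _)
  obtain ⟨Q, hQdef⟩ : ∃ Q, Q = CohB1.tensorPow HW (max m₁ m₂) := ⟨_, rfl⟩
  obtain ⟨σ₁, hσ₁⟩ : ∃ σ : unitMod W ⟶ CohB1.tensorMod A Q, σ ≠ 0 := by
    rw [hQdef]; exact hm₁ (max m₁ m₂) (le_max_left _ _)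
  obtain ⟨σ₂, hσ₂⟩ : ∃ σ : unitMod W ⟶ CohB1.tensorMod (unitMod W) Q, σ ≠ 0 := by
    rw [hQdef]; exact hm₂ (max m₁ m₂) (le_max_right _ _)
  have hQ : PicF.IsInvertible Q := hQdef ▸ isInvertible_tensorPow hHW.1 _
  obtain ⟨Q', hQ', ⟨eQ⟩⟩ := Groth.Agent.H5.Glue.exists_inverse Q hQ
  haveI := (isCoh_of_isInvertible hA).1
  haveI := (isCoh_of_isInvertible hA').1
  haveI := (isCoh_of_isInvertible hQ).1
  haveI := (isCoh_of_isInvertible hQ').1
  have hP : PicF.IsInvertible (CohB1.tensorMod A Q) := isInvertible_tensorMod hA hQ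
  have eP : CohB1.tensorMod (CohB1.tensorMod A Q) (CohB1.tensorMod A' Q') ≅
      Coh.structureModule W :=
    tensorMiddleFour A Q A' Q' ≪≫ tensorIso' (tensorCommAll A A' ≪≫ eA) eQ ≪≫ unitorL' _
  obtain ⟨τ₁, hτ₁⟩ : ∃ τ : unitMod W ⟶
      CohB1.tensorMod (unitMod W) (CohB1.tensorMod A Q), τ ≠ 0 := by
    refine ⟨σ₁ ≫ (unitorL' (CohB1.tensorMod A Q)).inv, fun h => hσ₁ ?_⟩
    rw [← cancel_mono (unitorL' (CohB1.tensorMod A Q)).inv, h, zero_comp]
  have k1 := key (CohB1.tensorMod A Q) (CohB1.tensorMod A' Q') hP ⟨eP⟩ τ₁ hτ₁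
  have k2 := key Q Q' hQ ⟨eQ⟩ σ₂ hσ₂
  have hadd := intNum_cons_tensor k d hdW (Fin.snoc T N' : Fin (r + 1) → _) hS A' Q' hA' hQ'
    (unitMod W) hOc
    ((Topology.IsEmbedding.subtypeVal.isInducing.topologicalKrullDim_le).trans (le_of_eq hdimW))
  rw [k1, k2] at hadd
  omega


theorem vanProp_succ (r : ℕ) (IH : VanProp k r) : VanProp k (r + 1) := by
  intro X _ _ d hd H hH N hN hNt M hM F hF hdim
  classical
  haveI : IsNoetherian X := Curve2.isNoetherian_of_proper k X
  have hMN := isInvertible_snoc hM hN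
  obtain ⟨hfin, hlen, -⟩ := good_of_isCoh k (r + 2) (r + 2)
    (Fin.snoc M N : Fin (r + 2) → X.Modules) hMN F hF hdim
  have hs : ∀ ξ : X, ξ ∈ hfin.toFinset ↔
      ξ ∈ CohB1.support F ∧ topologicalKrullDim ↥(closure ({ξ} : Set X)) = ((r + 2 : ℕ) : WithBot ℕ∞) := by
    intro ξ
    rw [Set.Finite.mem_toFinset]
    exact ⟨fun h => ⟨h.2, h.1⟩, fun h => ⟨h.2, h.1⟩⟩
  rw [intNum_eq_sum_components k d hd _ hMN F hF hdim hfin.toFinset hs]
  apply Finset.sum_eq_zero
  intro ξ hξ
  suffices hz : FGA.intNum k X d (Fin.snoc M N : Fin (r + 2) → X.Modules)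
      (ClSub.quotMod (vI ξ)) = 0 by
    rw [show Scheme.IdealSheafData.vanishingIdeal ⟨closure ({ξ} : Set X), isClosed_closure⟩ = vI ξ
      from rfl, hz, mul_zero]
  rw [intNum_quotMod_eq k d hd _ hMN]
  -- the integral subscheme `W`
  letI : (vI ξ).subscheme.Over (Spec (CommRingCat.of k)) := overOf k (vI ξ).subschemeι
  haveI : IsProper ((vI ξ).subscheme ↘ Spec (CommRingCat.of k)) := by
    change IsProper ((vI ξ).subschemeι ≫ (X ↘ Spec (CommRingCat.of k)))
    infer_instance
  haveI := isIntegral_vI ξ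
  have hdW : topologicalKrullDim (vI ξ).subscheme ≤ d :=
    ((vI ξ).subschemeι.isClosedEmbedding.isEmbedding.isInducing.topologicalKrullDim_le).trans hd
  have hdimW : topologicalKrullDim (vI ξ).subscheme = ((r + 1 + 1 : ℕ) : WithBot ℕ∞) := by
    rw [dim_vI]
    exact ((hs ξ).mp hξ).2
  -- the restricted data
  have hfam : (fun j => (Scheme.Modules.pullback (vI ξ).subschemeι).obj
      ((Fin.snoc M N : Fin (r + 2) → X.Modules) j)) =
      (Fin.cons ((Scheme.Modules.pullback (vI ξ).subschemeι).obj (M 0))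
        (Fin.snoc (fun j : Fin r => (Scheme.Modules.pullback (vI ξ).subschemeι).obj (M j.succ))
          ((Scheme.Modules.pullback (vI ξ).subschemeι).obj N) :
            Fin (r + 1) → (vI ξ).subscheme.Modules) :
        Fin (r + 2) → (vI ξ).subscheme.Modules) := by
    funext j
    refine Fin.cases ?_ (fun j' => ?_) j
    · rw [Fin.cons_zero]
      have : (0 : Fin (r + 2)) = Fin.castSucc (0 : Fin (r + 1)) := rfl
      rw [this, Fin.snoc_castSucc]
    · rw [Fin.cons_succ]
      refine Fin.lastCases ?_ (fun j'' => ?_) j'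
      · rw [Fin.snoc_last, Fin.succ_last, Fin.snoc_last]
      · rw [Fin.snoc_castSucc, ← Fin.castSucc_succ, Fin.snoc_castSucc]
  rw [hfam]
  exact vanProp_step k r IH (vI ξ).subscheme d hdW hdimW _
    (PN.AmD.isAmple_pullback_of_isAffineHom (vI ξ).subschemeι H hH) _
    (isInvertible_pullback (vI ξ).subschemeι hN)
    (NumTriv.pullback k (vI ξ).subschemeι hN hNt) _
    (isInvertible_pullback (vI ξ).subschemeι (hM 0)) _
    (fun j => isInvertible_pullback (vI ξ).subschemeι (hM j.succ))

theorem vanProp : ∀ r : ℕ, VanProp k r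
  | 0 => vanProp_zero k
  | r + 1 => vanProp_succ k r (vanProp r)

end Groth.Agent.H5.IntN
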