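import Mathlib
import Groth.Agent.Lib.Helper5.IntN.Num2

set_option autoImplicit false
universe u
open CategoryTheory CategoryTheory.Limits AlgebraicGeometry TopologicalSpace Opposite
open scoped fwdDiff

namespace Groth.Agent.H5.IntN

open Groth.Agent.LD Groth.Agent.LD.QC Groth.Agent.H5.Curve4 Groth.Agent.H5.DegC Groth.Agent.H5.Snap
open Groth.Agent.H5.Deg Groth.Agent.H5.HP

variable (k : Type u) [Field k] {X : Scheme.{u}} [X.Over (Spec (CommRingCat.of k))]
  [IsProper (X ↘ Spec (CommRingCat.of k))]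

/-- the intersection symbol only depends on the isomorphism class of its first entry. -/
theorem intNum_cons_iso (d : ℕ) {r : ℕ} (M : Fin r → X.Modules) (hM : ∀ i, Coh.IsCoh (M i))
    {A A' : X.Modules} (hA : Coh.IsCoh A) (hA' : Coh.IsCoh A') (e : A ≅ A') (F : X.Modules)
    (hF : Coh.IsCoh F) :
    FGA.intNum k X d (Fin.cons A M : Fin (r + 1) → X.Modules) F =
      FGA.intNum k X d (Fin.cons A' M : Fin (r + 1) → X.Modules) F := by
  rw [intNum_cons k d r A hA M hM F hF, intNum_cons k d r A' hA' M hM F hF,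
    intNum_iso k d M (tensorIso' e (Iso.refl F))]

/-- **a numerically trivial factor kills the intersection number** (any slot). -/
theorem intNum_update_numTriv (d : ℕ) (hd : topologicalKrullDim X ≤ d) (H : X.Modules)
    (hH : CohB1.IsAmple H) {r : ℕ} (M : Fin (r + 1) → X.Modules)
    (hM : ∀ i, PicF.IsInvertible (M i)) (i₀ : Fin (r + 1)) (A n : X.Modules)
    (hn : PicF.IsInvertible n) (hnt : NumTriv k X n) (e : A ≅ CohB1.tensorMod (M i₀) n)
    (F : X.Modules) (hF : Coh.IsCoh F)
    (hdim : topologicalKrullDim (CohB1.support F) ≤ ((r + 1 : ℕ) : WithBot ℕ∞)) :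
    FGA.intNum k X d (Function.update M i₀ A) F = FGA.intNum k X d M F := by
  haveI := Curve.isLocallyNoetherian k X
  have hMc : ∀ i, Coh.IsCoh (M i) := fun i => isCoh_of_isInvertible (hM i)
  have hnc := isCoh_of_isInvertible hn
  have hBn : PicF.IsInvertible (CohB1.tensorMod (M i₀) n) := isInvertible_tensorMod (hM i₀) hn
  have hAc : Coh.IsCoh A := isCoh_of_iso e.symm (isCoh_of_isInvertible hBn)
  have hUc : ∀ i, Coh.IsCoh (Function.update M i₀ A i) := by
    intro i
    by_cases hi : i = i₀
    · subst hi; rw [Function.update_self]; exact hAc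
    · rw [Function.update_of_ne hi]; exact hMc i
  obtain ⟨σ, hσ⟩ : ∃ σ : Equiv.Perm (Fin (r + 1)), σ = Equiv.swap 0 i₀ := ⟨_, rfl⟩
  have hσ0 : σ 0 = i₀ := by rw [hσ, Equiv.swap_apply_left]
  rw [← intNum_perm k d (Function.update M i₀ A) hUc σ F, ← intNum_perm k d M hMc σ F]
  obtain ⟨T, hT⟩ : ∃ T : Fin r → X.Modules, T = Fin.tail (M ∘ σ) := ⟨_, rfl⟩
  have h1 : M ∘ σ = Fin.cons (M i₀) T := by
    rw [hT, ← hσ0]
    exact (Fin.cons_self_tail (M ∘ σ)).symm
  have h2 : Function.update M i₀ A ∘ σ = Fin.cons A T := by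
    funext j
    refine Fin.cases ?_ (fun j' => ?_) j
    · rw [Fin.cons_zero, Function.comp_apply, hσ0, Function.update_self]
    · rw [Fin.cons_succ, Function.comp_apply, Function.update_of_ne, hT]
      · rfl
      · rw [← hσ0]
        exact fun h => (Fin.succ_ne_zero j') (σ.injective h)
  have hTi : ∀ j, PicF.IsInvertible (T j) := fun j => by rw [hT]; exact hM _
  have hTc : ∀ j, Coh.IsCoh (T j) := fun j => isCoh_of_isInvertible (hTi j)
  rw [h1, h2, intNum_cons_iso k d T hTc hAc (isCoh_of_isInvertible hBn) e F hF,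
    intNum_cons_tensor k d hd T hTi (M i₀) n (hM i₀) hn F hF hdim]
  have h3 : FGA.intNum k X d (Fin.cons n T : Fin (r + 1) → X.Modules) F = 0 := by
    rw [intNum_cons k d r n hnc T hTc F hF, ← intNum_snoc k d r T hTc n hnc F hF]
    exact vanProp k r X d hd H hH n hn hnt T hTi F hF hdim
  rw [h3, add_zero]

/-- **numerical invariance of the self-intersection number.** -/
theorem intNum_const_numTriv (d : ℕ) (hd : topologicalKrullDim X ≤ d) (H : X.Modules)
    (hH : CohB1.IsAmple H) (r : ℕ) (a b n : X.Modules) (ha : PicF.IsInvertible a)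
    (hb : PicF.IsInvertible b) (hn : PicF.IsInvertible n) (hnt : NumTriv k X n)
    (e : a ≅ CohB1.tensorMod b n) (F : X.Modules) (hF : Coh.IsCoh F)
    (hdim : topologicalKrullDim (CohB1.support F) ≤ (r : WithBot ℕ∞)) :
    FGA.intNum k X d (fun _ : Fin r => a) F = FGA.intNum k X d (fun _ : Fin r => b) F := by
  classical
  rcases r with _ | r
  · have : (fun _ : Fin 0 => a) = (fun _ : Fin 0 => b) := funext fun i => i.elim0
    rw [this]
  have key : ∀ s : Finset (Fin (r + 1)),
      FGA.intNum k X d (fun i : Fin (r + 1) => if i ∈ s then a else b) F =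
        FGA.intNum k X d (fun _ : Fin (r + 1) => b) F := by
    intro s
    induction s using Finset.induction_on with
    | empty => simp
    | insert i₀ s hi₀ ih =>
      have hfam : (fun i : Fin (r + 1) => if i ∈ insert i₀ s then a else b) =
          Function.update (fun i : Fin (r + 1) => if i ∈ s then a else b) i₀ a := by
        funext i
        by_cases hi : i = i₀
        · subst hi; simp
        · rw [Function.update_of_ne hi]
          simp [Finset.mem_insert, hi]
      rw [hfam, intNum_update_numTriv k d hd H hH _ (fun i => by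
        by_cases hi : i ∈ s
        · simp only [hi, if_true]; exact ha
        · simp only [hi, if_false]; exact hb) i₀ a n hn hnt (by simpa [hi₀] using e) F hF hdim]
      exact ih
  have := key Finset.univ
  simpa using this

variable {Y : Scheme.{u}} [Y.Over (Spec (CommRingCat.of k))]
  [IsProper (Y ↘ Spec (CommRingCat.of k))]

/-- the top finite difference of `m ↦ χ(M^m)` is the top self-intersection number. -/
theorem fwdDiff_euler_tensorPow_eq_intNum (D : ℕ) (hD : topologicalKrullDim Y ≤ D) (r : ℕ)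
    (hr : topologicalKrullDim Y ≤ r) (M M' : Y.Modules) (hM : PicF.IsInvertible M)
    (e : CohB1.tensorMod M M' ≅ Coh.structureModule Y) :
    (fwdDiff (1 : ℕ))^[r] (fun m => Curv2.euler k Y (CohB1.tensorPow M m)) 0 =
      FGA.intNum k Y D (fun _ : Fin r => M') (Coh.structureModule Y) := by
  haveI : M.IsQuasicoherent := qc_of_isInvertible M hM
  have hM' : PicF.IsInvertible M' := QC.isInvertible_of_tensor_iso hM e
  haveI : M'.IsQuasicoherent := qc_of_isInvertible M' hM'
  have hpowi : ∀ m, PicF.IsInvertible (CohB1.tensorPow M m) := fun m => isInvertible_tensorPow hM m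
  have hpowc : ∀ m, Coh.IsCoh (CohB1.tensorPow M m) := fun m => isCoh_of_isInvertible (hpowi m)
  have hfe : (fun m => FGA.eulerCharLE k Y (CohB1.tensorPow M m) D) =
      (fun m => Curv2.euler k Y (CohB1.tensorPow M m)) :=
    funext fun m => eulerCharLE_eq_euler k D hD _ (hpowc m)
  have hG : ∀ m, Nonempty (CohB1.tensorMod M' (CohB1.tensorPow M (m + 1)) ≅
      CohB1.tensorPow M m) := by
    intro m
    exact ⟨tensorCommAll M' (CohB1.tensorPow M (m + 1)) ≪≫
      tensorAssoc (CohB1.tensorPow M m) M M' ≪≫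
      tensorIso' (Iso.refl _) e ≪≫ SecTwist.unitorR _⟩
  have key := intNum_const_eq_fwdDiff k D M' hM' (fun m => CohB1.tensorPow M m) hpowc hG
  rw [← hfe, ← key r 0]
  haveI := (hpowc (0 + r)).1
  rw [intNum_iso k D _ (SecTwist.unitorR (CohB1.tensorPow M (0 + r))).symm]
  exact intNum_tensor_of_dim_le' k D hD hr _ (fun _ => hM') _ (hpowi _) _
    (Groth.Agent.LD.PF.isCoh_unitMod Y)

omit [IsProper (Y ↘ Spec (CommRingCat.of k))] in
lemma const_fin_one_eq_cons {Y : Scheme.{u}} (A : Y.Modules) (M₀ : Fin 0 → Y.Modules) :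
    (fun _ : Fin 1 => A) = (Fin.cons A M₀ : Fin 1 → Y.Modules) := by
  funext i
  have hi : i = 0 := Subsingleton.elim _ _
  rw [hi, Fin.cons_zero]

/-- the one-slot intersection symbol of a module with a tensor inverse is the negative of that
of the inverse. -/
theorem intNum_one_inverse (d : ℕ) (hd : topologicalKrullDim X ≤ d) (A B : X.Modules)
    (hA : PicF.IsInvertible A) (hB : PicF.IsInvertible B)
    (e : CohB1.tensorMod A B ≅ Coh.structureModule X) (T : X.Modules) (hT : Coh.IsCoh T)
    (hdim : topologicalKrullDim (CohB1.support T) ≤ 1) :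
    FGA.intNum k X d (fun _ : Fin 1 => A) T = - FGA.intNum k X d (fun _ : Fin 1 => B) T := by
  haveI := Curve.isLocallyNoetherian k X
  let M₀ : Fin 0 → X.Modules := fun i => i.elim0
  have hM₀ : ∀ i, PicF.IsInvertible (M₀ i) := fun i => i.elim0
  have hM₀c : ∀ i, Coh.IsCoh (M₀ i) := fun i => i.elim0
  have hAc := isCoh_of_isInvertible hA
  have hBc := isCoh_of_isInvertible hB
  have hOc : Coh.IsCoh (unitMod X) := Groth.Agent.LD.PF.isCoh_unitMod X
  haveI := hT.1
  have hadd := intNum_cons_tensor k d hd M₀ hM₀ A B hA hB T hT (by exact_mod_cast hdim)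
  rw [intNum_cons_iso k d M₀ hM₀c (isCoh_tensorMod' hAc hBc) hOc e T hT,
    intNum_cons k d 0 (unitMod X) hOc M₀ hM₀c T hT,
    intNum_iso k d M₀ (unitorL' T)] at hadd
  rw [const_fin_one_eq_cons A M₀, const_fin_one_eq_cons B M₀]
  omega

/-- **S11371**: ampleness only depends on the numerical equivalence class. -/
theorem isAmple_of_numEquiv (L L' : X.Modules) (hL : PicF.IsInvertible L)
    (hL' : PicF.IsInvertible L')
    (hnum : ∀ C : X.IdealSheafData, IsIntegral C.subscheme →
      topologicalKrullDim (C.support : Set X) = 1 →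
        Curv2.euler k X (CohB1.tensorMod (ClSub.quotMod C) L) =
          Curv2.euler k X (CohB1.tensorMod (ClSub.quotMod C) L'))
    (hamp : CohB1.IsAmple L) : CohB1.IsAmple L' := by
  classical
  haveI : IsNoetherian X := Curve2.isNoetherian_of_proper k X
  obtain ⟨D, hD⟩ := Groth.Agent.H9.ORB3.exists_nat_dim_le (X ↘ Spec (CommRingCat.of k))
  obtain ⟨La, hLa, ⟨ea⟩⟩ := Groth.Agent.H5.Glue.exists_inverse L hL
  obtain ⟨Lb, hLb, ⟨eb⟩⟩ := Groth.Agent.H5.Glue.exists_inverse L' hL'
  haveI := (isCoh_of_isInvertible hL).1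
  haveI := (isCoh_of_isInvertible hL').1
  haveI := (isCoh_of_isInvertible hLa).1
  haveI := (isCoh_of_isInvertible hLb).1
  -- step 1: the one-slot symbols of `La` and `Lb` agree
  have step1 : ∀ T : X.Modules, Coh.IsCoh T → topologicalKrullDim (CohB1.support T) ≤ 1 →
      FGA.intNum k X D (fun _ : Fin 1 => La) T = FGA.intNum k X D (fun _ : Fin 1 => Lb) T := by
    intro T hT hdim
    have hdim' : topologicalKrullDim (CohB1.support T) ≤ ((1 : ℕ) : WithBot ℕ∞) := by
      exact_mod_cast hdim
    obtain ⟨hfin, -, -⟩ := good_of_isCoh k 1 1 (fun _ : Fin 1 => La) (fun _ => hLa) T hT hdim'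
    have hs : ∀ ξ : X, ξ ∈ hfin.toFinset ↔
        ξ ∈ CohB1.support T ∧ topologicalKrullDim ↥(closure ({ξ} : Set X)) = ((1 : ℕ) : WithBot ℕ∞) := by
      intro ξ
      rw [Set.Finite.mem_toFinset]
      exact ⟨fun h => ⟨h.2, h.1⟩, fun h => ⟨h.2, h.1⟩⟩
    rw [intNum_eq_sum_components k D hD _ (fun _ => hLa) T hT hdim' hfin.toFinset hs,
      intNum_eq_sum_components k D hD _ (fun _ => hLb) T hT hdim' hfin.toFinset hs]
    apply Finset.sum_congr rfl
    intro ξ hξ
    congr 1
    change FGA.intNum k X D (fun _ : Fin 1 => La) (ClSub.quotMod (vI ξ)) =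
      FGA.intNum k X D (fun _ : Fin 1 => Lb) (ClSub.quotMod (vI ξ))
    have hQ : Coh.IsCoh (ClSub.quotMod (vI ξ)) := isCoh_quotMod _
    have hCdim : topologicalKrullDim ((vI ξ).support : Set X) = 1 := by
      rw [coe_support_vI, ((hs ξ).mp hξ).2]; rfl
    have hQdim : topologicalKrullDim (CohB1.support (ClSub.quotMod (vI ξ))) ≤ 1 := by
      rw [support_quotMod, hCdim]
    rw [← euler_tensor_sub k D hD L La hL ⟨ea⟩ _ hQ hQdim,
      ← euler_tensor_sub k D hD L' Lb hL' ⟨eb⟩ _ hQ hQdim, hnum (vI ξ) (isIntegral_vI ξ) hCdim]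
  -- step 2: `ν = Lb ⊗ L` is numerically trivial
  have hν : PicF.IsInvertible (CohB1.tensorMod Lb L) := isInvertible_tensorMod hLb hL
  have hνt : NumTriv k X (CohB1.tensorMod Lb L) := by
    intro T hT hdim
    haveI := hT.1
    have h1 := intNum_one_inverse k D hD L La hL hLa ea T hT hdim
    let M₀ : Fin 0 → X.Modules := fun i => i.elim0
    have hM₀ : ∀ i, PicF.IsInvertible (M₀ i) := fun i => i.elim0
    have hM₀c : ∀ i, Coh.IsCoh (M₀ i) := fun i => i.elim0
    have hadd := intNum_cons_tensor k D hD M₀ hM₀ Lb L hLb hL T hT (by exact_mod_cast hdim)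
    rw [← const_fin_one_eq_cons Lb M₀, ← const_fin_one_eq_cons L M₀, h1, ← step1 T hT hdim,
      intNum_cons k D 0 _ (isCoh_of_isInvertible hν) M₀ hM₀c T hT, intNum_zero, intNum_zero,
      eulerCharLE_eq_euler k D hD T hT,
      eulerCharLE_eq_euler k D hD _ (isCoh_tensorMod' (isCoh_of_isInvertible hν) hT)] at hadd
    omega
  have eν : Lb ≅ CohB1.tensorMod La (CohB1.tensorMod Lb L) :=
    (SecTwist.unitorR Lb).symm ≪≫ tensorIso' (Iso.refl Lb) (tensorCommAll La L ≪≫ ea).symm ≪≫
      (tensorAssoc Lb La L).symm ≪≫ tensorIso' (tensorCommAll Lb La) (Iso.refl L) ≪≫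
      tensorAssoc La Lb L
  apply isAmple_of_forall_integral_section k L' hL'
  · -- strictly nef
    intro C hC hCdim
    rw [← hnum C hC hCdim]
    have hQ : Coh.IsCoh (ClSub.quotMod C) := isCoh_quotMod C
    exact euler_tensor_sub_pos_of_isAmple k L hamp _ hQ (by rw [support_quotMod, hCdim])
  · -- sections
    intro Z hZ H1
    haveI := hZ
    letI : Z.subscheme.Over (Spec (CommRingCat.of k)) := overOf k Z.subschemeι
    haveI : IsProper (Z.subscheme ↘ Spec (CommRingCat.of k)) := by
      show IsProper (Z.subschemeι ≫ (X ↘ Spec (CommRingCat.of k)))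
      infer_instance
    have hM := isInvertible_pullback Z.subschemeι hL'
    have hdimZ : topologicalKrullDim Z.subscheme = topologicalKrullDim (Z.support : Set X) := by
      rw [← Scheme.IdealSheafData.range_subschemeι]
      exact IsHomeomorph.topologicalKrullDim_eq _
        (Z.subschemeι.isClosedEmbedding.isEmbedding.toHomeomorph).isHomeomorph
    obtain ⟨d, hd⟩ := exists_nat_dim_eq k (Z := Z.subscheme)
    rcases Nat.eq_zero_or_pos d with rfl | hdpos
    · obtain ⟨s, hs⟩ := exists_section_of_dim_zero k (le_of_eq hd) _ hM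
      exact ⟨0, s, hs⟩
    · have hDZ : topologicalKrullDim Z.subscheme ≤ D :=
        (Z.subschemeι.isClosedEmbedding.isEmbedding.isInducing.topologicalKrullDim_le).trans hD
      have e₂ : CohB1.tensorMod ((Scheme.Modules.pullback Z.subschemeι).obj L')
          ((Scheme.Modules.pullback Z.subschemeι).obj Lb) ≅ Coh.structureModule Z.subscheme :=
        (pbTensorIso Z.subschemeι _ _ hL' hLb).symm ≪≫
          (Scheme.Modules.pullback Z.subschemeι).mapIso eb ≪≫ pbUnitIso Z.subschemeι
      have hQ : Coh.IsCoh (ClSub.quotMod Z) := isCoh_quotMod Z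
      have hsupp : topologicalKrullDim (CohB1.support (ClSub.quotMod Z)) = (d : WithBot ℕ∞) := by
        rw [support_quotMod Z, ← hdimZ, hd]
      have hpos : 0 < (fwdDiff (1 : ℕ))^[d] (fun m => Curv2.euler k Z.subscheme
          (CohB1.tensorPow ((Scheme.Modules.pullback Z.subschemeι).obj L') m)) 0 := by
        rw [fwdDiff_euler_tensorPow_eq_intNum k D hDZ d (le_of_eq hd) _ _ hM e₂,
          ← intNum_quotMod_eq k D hD (fun _ : Fin d => Lb) (fun _ => hLb) Z,
          intNum_const_numTriv k D hD L hamp d Lb La _ hLb hLa hν hνt eν _ hQ (le_of_eq hsupp)]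
        exact intNum_pos_of_isAmple k X D hD (fun _ : Fin d => L) (fun _ => La) (fun _ => hamp)
          (fun _ => ⟨ea⟩) _ hQ hsupp
      exact exists_section_of_pos k _ hM H1 d hdpos
        (fun j hj => fwdDiff_euler_tensorPow_eq_zero k d (le_of_eq hd) _ hM j hj) hpos

end Groth.Agent.H5.IntN
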