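import Mathlib
import Groth.Agent.Lib.Helper5.IntN.Num3
import Groth.Agent.Lib.Helper5.IntN.Nak13

set_option autoImplicit false
universe u
open CategoryTheory CategoryTheory.Limits AlgebraicGeometry TopologicalSpace Opposite

namespace Groth.Agent.H5.IntN

open Groth.Agent.LD Groth.Agent.LD.QC Groth.Agent.H5.Curve4 Groth.Agent.H5.DegC Groth.Agent.H5.Snap
open Groth.Agent.H5.Deg Groth.Agent.H5.HP

variable (k : Type u) [Field k]

/-- vanishing of intersection numbers with a numerically trivial factor (in the last slot), on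
arbitrary proper schemes (no ample module needed). -/
def VanPropG (r : ℕ) : Prop :=
  ∀ (X : Scheme.{u}) [X.Over (Spec (CommRingCat.of k))]
    [IsProper (X ↘ Spec (CommRingCat.of k))] (d : ℕ), topologicalKrullDim X ≤ d →
    ∀ (N : X.Modules), PicF.IsInvertible N →
      NumTriv k X N → ∀ (M : Fin r → X.Modules), (∀ i, PicF.IsInvertible (M i)) →
      ∀ (F : X.Modules), Coh.IsCoh F →
        topologicalKrullDim (CohB1.support F) ≤ ((r + 1 : ℕ) : WithBot ℕ∞) →
        FGA.intNum k X d (Fin.snoc M N : Fin (r + 1) → X.Modules) F = 0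

theorem vanPropG_zero : VanPropG k 0 := by
  intro X _ _ d hd N hN hNt M hM F hF hdim
  haveI := Curve.isLocallyNoetherian k X
  have hNc := isCoh_of_isInvertible hN
  haveI := hNc.1
  haveI := hF.1
  rw [intNum_snoc k d 0 M (fun i => i.elim0) N hNc F hF, intNum_zero, intNum_zero,
    eulerCharLE_eq_euler k d hd F hF,
    eulerCharLE_eq_euler k d hd _ (isCoh_tensorMod' hNc hF), hNt F hF (by exact_mod_cast hdim)]
  ring

/-- the induction step on an integral scheme. -/
theorem vanPropG_step (r : ℕ) (IH : VanPropG k r) (W : Scheme.{u}) [W.Over (Spec (CommRingCat.of k))]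
    [IsProper (W ↘ Spec (CommRingCat.of k))] [IsIntegral W] (d : ℕ)
    (hdW : topologicalKrullDim W ≤ d)
    (hdimW : topologicalKrullDim W = ((r + 1 + 1 : ℕ) : WithBot ℕ∞))
    (N' : W.Modules) (hN' : PicF.IsInvertible N')
    (hNt' : NumTriv k W N') (A' : W.Modules) (hA' : PicF.IsInvertible A')
    (T : Fin r → W.Modules) (hT : ∀ j, PicF.IsInvertible (T j)) :
    FGA.intNum k W d (Fin.cons A' (Fin.snoc T N' : Fin (r + 1) → W.Modules) :
      Fin (r + 2) → W.Modules) (unitMod W) = 0 := by
  haveI : IsNoetherian W := Curve2.isNoetherian_of_proper k W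
  have hS : ∀ j, PicF.IsInvertible ((Fin.snoc T N' : Fin (r + 1) → W.Modules) j) :=
    isInvertible_snoc hT hN'
  have hSc : ∀ j, Coh.IsCoh ((Fin.snoc T N' : Fin (r + 1) → W.Modules) j) :=
    fun j => isCoh_of_isInvertible (hS j)
  have hOc : Coh.IsCoh (unitMod W) := Groth.Agent.LD.PF.isCoh_unitMod _
  have hAc : Coh.IsCoh A' := isCoh_of_isInvertible hA'
  haveI := hAc.1
  obtain ⟨F, ι, ψ, hι, hψ, hFc, hCι, hCψ⟩ := exists_common_sub A' hA'
  haveI := hι
  haveI := hψ
  -- torsion modules have small support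
  have htors : ∀ Q : W.Modules, Coh.IsCoh Q → IsTors Q →
      FGA.intNum k W d (Fin.snoc T N' : Fin (r + 1) → W.Modules) Q = 0 := by
    intro Q hQc hQt
    apply IH W d hdW N' hN' hNt' T hT Q hQc
    apply dim_le_of_ne_univ hdimW _ (isClosed_support_of_isCoh hQc)
    intro heq'
    have h1 : genericPoint W ∈ CohB1.support Q := by rw [heq']; trivial
    exact h1 hQt
  have h1 := intNum_add k d hdW (Fin.snoc T N' : Fin (r + 1) → W.Modules) hS _
    (Groth.Agent.H5.HP.shortExact_coker ι) hFc hOc (isCoh_cokernel ι hFc hOc)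
  have h2 := intNum_add k d hdW (Fin.snoc T N' : Fin (r + 1) → W.Modules) hS _
    (Groth.Agent.H5.HP.shortExact_coker ψ) hFc hAc (isCoh_cokernel ψ hFc hAc)
  dsimp only at h1 h2
  rw [htors _ (isCoh_cokernel ι hFc hOc) hCι, add_zero] at h1
  rw [htors _ (isCoh_cokernel ψ hFc hAc) hCψ, add_zero] at h2
  rw [intNum_cons k d (r + 1) A' hAc _ hSc _ hOc, intNum_iso k d _ (SecTwist.unitorR A'), h1, h2,
    sub_self]

theorem vanPropG_succ (r : ℕ) (IH : VanPropG k r) : VanPropG k (r + 1) := by
  intro X _ _ d hd N hN hNt M hM F hF hdim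
  classical
  haveI : IsNoetherian X := Curve2.isNoetherian_of_proper k X
  have hMN := isInvertible_snoc hM hN
  obtain ⟨hfin, hlen, -⟩ := good_of_isCoh k (r + 2) (r + 2)
    (Fin.snoc M N : Fin (r + 2) → X.Modules) hMN F hF hdim
  have hs : ∀ ξ : X, ξ ∈ hfin.toFinset ↔
      ξ ∈ CohB1.support F ∧ topologicalKrullDim ↥(closure ({ξ} : Set X)) = ((r + 2 : ℕ) : WithBot ℕ∞) := by
    intro ξ
    rw [Set.Finite.mem_toFinset]
    exact ⟨fun h => ⟨h.2, h.1⟩, fun h => ⟨h.2, h.1⟩⟩
  rw [intNum_eq_sum_components k d hd _ hMN F hF hdim hfin.toFinset hs]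
  apply Finset.sum_eq_zero
  intro ξ hξ
  suffices hz : FGA.intNum k X d (Fin.snoc M N : Fin (r + 2) → X.Modules)
      (ClSub.quotMod (vI ξ)) = 0 by
    rw [show Scheme.IdealSheafData.vanishingIdeal ⟨closure ({ξ} : Set X), isClosed_closure⟩ = vI ξ
      from rfl, hz, mul_zero]
  rw [intNum_quotMod_eq k d hd _ hMN]
  -- the integral subscheme `W`
  letI : (vI ξ).subscheme.Over (Spec (CommRingCat.of k)) := overOf k (vI ξ).subschemeι
  haveI : IsProper ((vI ξ).subscheme ↘ Spec (CommRingCat.of k)) := by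
    change IsProper ((vI ξ).subschemeι ≫ (X ↘ Spec (CommRingCat.of k)))
    infer_instance
  haveI := isIntegral_vI ξ
  have hdW : topologicalKrullDim (vI ξ).subscheme ≤ d :=
    ((vI ξ).subschemeι.isClosedEmbedding.isEmbedding.isInducing.topologicalKrullDim_le).trans hd
  have hdimW : topologicalKrullDim (vI ξ).subscheme = ((r + 1 + 1 : ℕ) : WithBot ℕ∞) := by
    rw [dim_vI]
    exact ((hs ξ).mp hξ).2
  -- the restricted data
  have hfam : (fun j => (Scheme.Modules.pullback (vI ξ).subschemeι).obj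
      ((Fin.snoc M N : Fin (r + 2) → X.Modules) j)) =
      (Fin.cons ((Scheme.Modules.pullback (vI ξ).subschemeι).obj (M 0))
        (Fin.snoc (fun j : Fin r => (Scheme.Modules.pullback (vI ξ).subschemeι).obj (M j.succ))
          ((Scheme.Modules.pullback (vI ξ).subschemeι).obj N) :
            Fin (r + 1) → (vI ξ).subscheme.Modules) :
        Fin (r + 2) → (vI ξ).subscheme.Modules) := by
    funext j
    refine Fin.cases ?_ (fun j' => ?_) j
    · rw [Fin.cons_zero]
      have : (0 : Fin (r + 2)) = Fin.castSucc (0 : Fin (r + 1)) := rfl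
      rw [this, Fin.snoc_castSucc]
    · rw [Fin.cons_succ]
      refine Fin.lastCases ?_ (fun j'' => ?_) j'
      · rw [Fin.snoc_last, Fin.succ_last, Fin.snoc_last]
      · rw [Fin.snoc_castSucc, ← Fin.castSucc_succ, Fin.snoc_castSucc]
  rw [hfam]
  exact vanPropG_step k r IH (vI ξ).subscheme d hdW hdimW _
    (isInvertible_pullback (vI ξ).subschemeι hN)
    (NumTriv.pullback k (vI ξ).subschemeι hN hNt) _
    (isInvertible_pullback (vI ξ).subschemeι (hM 0)) _
    (fun j => isInvertible_pullback (vI ξ).subschemeι (hM j.succ))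

/-- **vanishing of intersection numbers with a numerically trivial factor** on arbitrary proper
schemes over a field. -/
theorem vanPropG : ∀ r : ℕ, VanPropG k r
  | 0 => vanPropG_zero k
  | r + 1 => vanPropG_succ k r (vanPropG r)


variable {X : Scheme.{u}} [X.Over (Spec (CommRingCat.of k))]
  [IsProper (X ↘ Spec (CommRingCat.of k))]

/-- **a numerically trivial factor kills the intersection number** (any slot; no ample module
needed). -/
theorem intNum_update_numTrivG (d : ℕ) (hd : topologicalKrullDim X ≤ d)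
    {r : ℕ} (M : Fin (r + 1) → X.Modules)
    (hM : ∀ i, PicF.IsInvertible (M i)) (i₀ : Fin (r + 1)) (A n : X.Modules)
    (hn : PicF.IsInvertible n) (hnt : NumTriv k X n) (e : A ≅ CohB1.tensorMod (M i₀) n)
    (F : X.Modules) (hF : Coh.IsCoh F)
    (hdim : topologicalKrullDim (CohB1.support F) ≤ ((r + 1 : ℕ) : WithBot ℕ∞)) :
    FGA.intNum k X d (Function.update M i₀ A) F = FGA.intNum k X d M F := by
  haveI := Curve.isLocallyNoetherian k X
  have hMc : ∀ i, Coh.IsCoh (M i) := fun i => isCoh_of_isInvertible (hM i)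
  have hnc := isCoh_of_isInvertible hn
  have hBn : PicF.IsInvertible (CohB1.tensorMod (M i₀) n) := isInvertible_tensorMod (hM i₀) hn
  have hAc : Coh.IsCoh A := isCoh_of_iso e.symm (isCoh_of_isInvertible hBn)
  have hUc : ∀ i, Coh.IsCoh (Function.update M i₀ A i) := by
    intro i
    by_cases hi : i = i₀
    · subst hi; rw [Function.update_self]; exact hAc
    · rw [Function.update_of_ne hi]; exact hMc i
  obtain ⟨σ, hσ⟩ : ∃ σ : Equiv.Perm (Fin (r + 1)), σ = Equiv.swap 0 i₀ := ⟨_, rfl⟩
  have hσ0 : σ 0 = i₀ := by rw [hσ, Equiv.swap_apply_left]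
  rw [← intNum_perm k d (Function.update M i₀ A) hUc σ F, ← intNum_perm k d M hMc σ F]
  obtain ⟨T, hT⟩ : ∃ T : Fin r → X.Modules, T = Fin.tail (M ∘ σ) := ⟨_, rfl⟩
  have h1 : M ∘ σ = Fin.cons (M i₀) T := by
    rw [hT, ← hσ0]
    exact (Fin.cons_self_tail (M ∘ σ)).symm
  have h2 : Function.update M i₀ A ∘ σ = Fin.cons A T := by
    funext j
    refine Fin.cases ?_ (fun j' => ?_) j
    · rw [Fin.cons_zero, Function.comp_apply, hσ0, Function.update_self]
    · rw [Fin.cons_succ, Function.comp_apply, Function.update_of_ne, hT]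
      · rfl
      · rw [← hσ0]
        exact fun h => (Fin.succ_ne_zero j') (σ.injective h)
  have hTi : ∀ j, PicF.IsInvertible (T j) := fun j => by rw [hT]; exact hM _
  have hTc : ∀ j, Coh.IsCoh (T j) := fun j => isCoh_of_isInvertible (hTi j)
  rw [h1, h2, intNum_cons_iso k d T hTc hAc (isCoh_of_isInvertible hBn) e F hF,
    intNum_cons_tensor k d hd T hTi (M i₀) n (hM i₀) hn F hF hdim]
  have h3 : FGA.intNum k X d (Fin.cons n T : Fin (r + 1) → X.Modules) F = 0 := by
    rw [intNum_cons k d r n hnc T hTc F hF, ← intNum_snoc k d r T hTc n hnc F hF]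
    exact vanPropG k r X d hd n hn hnt T hTi F hF hdim
  rw [h3, add_zero]

/-- replacing every slot by a numerically trivial twist does not change the intersection
number. -/
theorem intNum_eq_of_numTriv_twists (d : ℕ) (hd : topologicalKrullDim X ≤ d) {r : ℕ}
    (M M' n : Fin r → X.Modules) (hM : ∀ i, PicF.IsInvertible (M i))
    (hM' : ∀ i, PicF.IsInvertible (M' i)) (hn : ∀ i, PicF.IsInvertible (n i))
    (hnt : ∀ i, NumTriv k X (n i)) (e : ∀ i, Nonempty (M' i ≅ CohB1.tensorMod (M i) (n i)))
    (F : X.Modules) (hF : Coh.IsCoh F)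
    (hdim : topologicalKrullDim (CohB1.support F) ≤ (r : WithBot ℕ∞)) :
    FGA.intNum k X d M' F = FGA.intNum k X d M F := by
  classical
  rcases r with _ | r
  · have : M' = M := funext fun i => i.elim0
    rw [this]
  have key : ∀ s : Finset (Fin (r + 1)),
      FGA.intNum k X d (fun i : Fin (r + 1) => if i ∈ s then M' i else M i) F =
        FGA.intNum k X d M F := by
    intro s
    induction s using Finset.induction_on with
    | empty => simp
    | insert i₀ s hi₀ ih =>
      have hfam : (fun i : Fin (r + 1) => if i ∈ insert i₀ s then M' i else M i) =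
          Function.update (fun i : Fin (r + 1) => if i ∈ s then M' i else M i) i₀ (M' i₀) := by
        funext i
        by_cases hi : i = i₀
        · subst hi; simp
        · rw [Function.update_of_ne hi]
          simp [Finset.mem_insert, hi]
      rw [hfam, intNum_update_numTrivG k d hd _ (fun i => by
        by_cases hi : i ∈ s
        · simp only [hi, if_true]; exact hM' i
        · simp only [hi, if_false]; exact hM i) i₀ (M' i₀) (n i₀) (hn i₀) (hnt i₀)
          (by simpa [hi₀] using (e i₀).some) F hF hdim]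
      exact ih
  have := key Finset.univ
  simpa using this


/-- the one-slot symbols of two invertible modules agree on coherent modules with support of
dimension `≤ 1` as soon as they agree on the structure sheaves of integral curves. -/
theorem intNum_one_eq_of_forall_curve (D : ℕ) (hD : topologicalKrullDim X ≤ D) (A B : X.Modules)
    (hA : PicF.IsInvertible A) (hB : PicF.IsInvertible B)
    (h : ∀ ξ : X, topologicalKrullDim ↥(closure ({ξ} : Set X)) = ((1 : ℕ) : WithBot ℕ∞) →
      FGA.intNum k X D (fun _ : Fin 1 => A) (ClSub.quotMod (vI ξ)) =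
        FGA.intNum k X D (fun _ : Fin 1 => B) (ClSub.quotMod (vI ξ)))
    (T : X.Modules) (hT : Coh.IsCoh T) (hdim : topologicalKrullDim (CohB1.support T) ≤ 1) :
    FGA.intNum k X D (fun _ : Fin 1 => A) T = FGA.intNum k X D (fun _ : Fin 1 => B) T := by
  classical
  haveI : IsNoetherian X := Curve2.isNoetherian_of_proper k X
  have hdim' : topologicalKrullDim (CohB1.support T) ≤ ((1 : ℕ) : WithBot ℕ∞) := by
    exact_mod_cast hdim
  obtain ⟨hfin, -, -⟩ := good_of_isCoh k 1 1 (fun _ : Fin 1 => A) (fun _ => hA) T hT hdim'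
  have hs : ∀ ξ : X, ξ ∈ hfin.toFinset ↔
      ξ ∈ CohB1.support T ∧ topologicalKrullDim ↥(closure ({ξ} : Set X)) = ((1 : ℕ) : WithBot ℕ∞) := by
    intro ξ
    rw [Set.Finite.mem_toFinset]
    exact ⟨fun h => ⟨h.2, h.1⟩, fun h => ⟨h.2, h.1⟩⟩
  rw [intNum_eq_sum_components k D hD _ (fun _ => hA) T hT hdim' hfin.toFinset hs,
    intNum_eq_sum_components k D hD _ (fun _ => hB) T hT hdim' hfin.toFinset hs]
  apply Finset.sum_congr rfl
  intro ξ hξ
  congr 1
  exact h ξ ((hs ξ).mp hξ).2

/-- the degree of the restriction to an integral curve, as a one-slot intersection symbol. -/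
theorem curveDeg_eq_neg_intNum (D : ℕ) (hD : topologicalKrullDim X ≤ D) (A : X.Modules)
    (hA : PicF.IsInvertible A) (V : X.IdealSheafData)
    (hV : topologicalKrullDim V.subscheme ≤ 1) :
    Pic13.curveDeg k (V.subschemeι ≫ (X ↘ Spec (CommRingCat.of k)))
        ((Scheme.Modules.pullback V.subschemeι).obj A) =
      - FGA.intNum k X D (fun _ : Fin 1 => A) (ClSub.quotMod V) := by
  rw [intNum_quotMod_eq k D hD (fun _ : Fin 1 => A) (fun _ => hA) V]
  letI : V.subscheme.Over (Spec (CommRingCat.of k)) := overOf k V.subschemeι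
  haveI : IsProper (V.subscheme ↘ Spec (CommRingCat.of k)) := by
    change IsProper (V.subschemeι ≫ (X ↘ Spec (CommRingCat.of k)))
    infer_instance
  haveI := Curve.isLocallyNoetherian k V.subscheme
  have hDV : topologicalKrullDim V.subscheme ≤ D :=
    (V.subschemeι.isClosedEmbedding.isEmbedding.isInducing.topologicalKrullDim_le).trans hD
  have hV1 : topologicalKrullDim V.subscheme ≤ ((1 : ℕ) : WithBot ℕ∞) := by exact_mod_cast hV
  let M₀ : Fin 0 → V.subscheme.Modules := fun i => i.elim0
  have hM₀c : ∀ i, Coh.IsCoh (M₀ i) := fun i => i.elim0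
  have hAi := isInvertible_pullback V.subschemeι hA
  have hAc := isCoh_of_isInvertible hAi
  haveI := hAc.1
  have hOc : Coh.IsCoh (Coh.structureModule V.subscheme) :=
    Groth.Agent.LD.PF.isCoh_unitMod V.subscheme
  have hfam : (fun _ : Fin 1 => (Scheme.Modules.pullback V.subschemeι).obj A) =
      (Fin.cons ((Scheme.Modules.pullback V.subschemeι).obj A) M₀ :
        Fin 1 → V.subscheme.Modules) := const_fin_one_eq_cons _ M₀
  rw [hfam, intNum_cons k D 0 _ hAc M₀ hM₀c _ hOc, intNum_zero, intNum_zero,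
    eulerCharLE_iso k (SecTwist.unitorR ((Scheme.Modules.pullback V.subschemeι).obj A)) D,
    eulerCharLE_eq_euler k D hDV _ hOc, eulerCharLE_eq_euler k D hDV _ hAc,
    ← eulerCharLE_eq_euler k 1 hV1 _ hOc, ← eulerCharLE_eq_euler k 1 hV1 _ hAc]
  unfold Pic13.curveDeg
  ring

/-- numerical equivalence (equal degrees on all integral curves) makes the quotient numerically
trivial. -/
theorem numTriv_of_curveDeg_eq (A A' B : X.Modules) (hA : PicF.IsInvertible A)
    (hA' : PicF.IsInvertible A') (hB : PicF.IsInvertible B)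
    (e : CohB1.tensorMod A A' ≅ Coh.structureModule X)
    (hnum : ∀ (Y : Scheme.{u}) (ι : Y ⟶ X) [IsClosedImmersion ι], IsIntegral Y →
      topologicalKrullDim Y = 1 →
      Pic13.curveDeg k (ι ≫ (X ↘ Spec (CommRingCat.of k))) ((Scheme.Modules.pullback ι).obj A) =
        Pic13.curveDeg k (ι ≫ (X ↘ Spec (CommRingCat.of k))) ((Scheme.Modules.pullback ι).obj B)) :
    NumTriv k X (CohB1.tensorMod A' B) := by
  haveI : IsNoetherian X := Curve2.isNoetherian_of_proper k X
  obtain ⟨D, hD⟩ := Groth.Agent.H9.ORB3.exists_nat_dim_le (X ↘ Spec (CommRingCat.of k))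
  have hν : PicF.IsInvertible (CohB1.tensorMod A' B) := isInvertible_tensorMod hA' hB
  haveI := (isCoh_of_isInvertible hA).1
  haveI := (isCoh_of_isInvertible hA').1
  haveI := (isCoh_of_isInvertible hB).1
  have step1 : ∀ T : X.Modules, Coh.IsCoh T → topologicalKrullDim (CohB1.support T) ≤ 1 →
      FGA.intNum k X D (fun _ : Fin 1 => A) T = FGA.intNum k X D (fun _ : Fin 1 => B) T := by
    intro T hT hdim
    apply intNum_one_eq_of_forall_curve k D hD A B hA hB _ T hT hdim
    intro ξ hξ
    have hdimV : topologicalKrullDim (vI ξ).subscheme = 1 := by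
      rw [dim_vI, hξ]; rfl
    have h1 := curveDeg_eq_neg_intNum k D hD A hA (vI ξ) (le_of_eq hdimV)
    have h2 := curveDeg_eq_neg_intNum k D hD B hB (vI ξ) (le_of_eq hdimV)
    have h3 := hnum (vI ξ).subscheme (vI ξ).subschemeι (isIntegral_vI ξ) hdimV
    rw [h1, h2] at h3
    exact neg_injective h3
  intro T hT hdim
  haveI := hT.1
  have h1 := intNum_one_inverse k D hD A' A hA' hA (tensorCommAll A' A ≪≫ e) T hT hdim
  let M₀ : Fin 0 → X.Modules := fun i => i.elim0
  have hM₀ : ∀ i, PicF.IsInvertible (M₀ i) := fun i => i.elim0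
  have hM₀c : ∀ i, Coh.IsCoh (M₀ i) := fun i => i.elim0
  have hadd := intNum_cons_tensor k D hD M₀ hM₀ A' B hA' hB T hT (by exact_mod_cast hdim)
  rw [← const_fin_one_eq_cons A' M₀, ← const_fin_one_eq_cons B M₀, h1, ← step1 T hT hdim,
    intNum_cons k D 0 _ (isCoh_of_isInvertible hν) M₀ hM₀c T hT, intNum_zero, intNum_zero,
    eulerCharLE_eq_euler k D hD T hT,
    eulerCharLE_eq_euler k D hD _ (isCoh_tensorMod' (isCoh_of_isInvertible hν) hT)] at hadd
  omega

/-- **S11748**: numerically equivalent invertible modules have the same intersection numbers. -/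
theorem intNum_eq_of_curveDeg_eq (d : ℕ) (hd : topologicalKrullDim X ≤ d) {r : ℕ}
    (M M' : Fin r → X.Modules) (hM : ∀ i, PicF.IsInvertible (M i))
    (hM' : ∀ i, PicF.IsInvertible (M' i))
    (hnum : ∀ (i : Fin r) (Y : Scheme.{u}) (ι : Y ⟶ X) [IsClosedImmersion ι], IsIntegral Y →
      topologicalKrullDim Y = 1 →
      Pic13.curveDeg k (ι ≫ (X ↘ Spec (CommRingCat.of k))) ((Scheme.Modules.pullback ι).obj (M i)) =
        Pic13.curveDeg k (ι ≫ (X ↘ Spec (CommRingCat.of k)))
          ((Scheme.Modules.pullback ι).obj (M' i)))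
    (F : X.Modules) (hF : Coh.IsCoh F) (hr : topologicalKrullDim (CohB1.support F) ≤ r) :
    FGA.intNum k X d M F = FGA.intNum k X d M' F := by
  haveI : IsNoetherian X := Curve2.isNoetherian_of_proper k X
  have hinv : ∀ i, ∃ Q : X.Modules, PicF.IsInvertible Q ∧
      Nonempty (CohB1.tensorMod (M i) Q ≅ Coh.structureModule X) :=
    fun i => Groth.Agent.H5.Glue.exists_inverse (M i) (hM i)
  choose Q hQ eQ using hinv
  symm
  apply intNum_eq_of_numTriv_twists k d hd M M' (fun i => CohB1.tensorMod (Q i) (M' i)) hM hM'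
    (fun i => isInvertible_tensorMod (hQ i) (hM' i))
    (fun i => numTriv_of_curveDeg_eq k (M i) (Q i) (M' i) (hM i) (hQ i) (hM' i) (eQ i).some
      (hnum i)) _ F hF hr
  intro i
  haveI := (isCoh_of_isInvertible (hM i)).1
  haveI := (isCoh_of_isInvertible (hM' i)).1
  haveI := (isCoh_of_isInvertible (hQ i)).1
  exact ⟨(unitorL' (M' i)).symm ≪≫ tensorIso' (eQ i).some.symm (Iso.refl (M' i)) ≪≫
    tensorAssoc (M i) (Q i) (M' i)⟩

end Groth.Agent.H5.IntN
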