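import Mathlib
import Groth.Agent.Lib.Helper5.IntN.Num4
import Groth.Agent.Lib.Helper5.DegC.PullDeg
import Groth.Agent.Lib.Helper5.Lim.ModuleIso
import Groth.Agent.Lib.Helper9.Misc.DGP1

set_option autoImplicit false
universe u
open CategoryTheory CategoryTheory.Limits AlgebraicGeometry TopologicalSpace Opposite

namespace Groth.Agent.H5.IntN

open Groth.Agent.LD Groth.Agent.LD.QC Groth.Agent.H5.Curve4 Groth.Agent.H5.DegC Groth.Agent.H5.Snap
open Groth.Agent.H5.Deg Groth.Agent.H5.HP

section factor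

variable {X Y C : Scheme.{u}}

/-- the range of a morphism from an irreducible scheme lies in the closure of the image of the
generic point. -/
lemma closure_range_eq [IrreducibleSpace Y] (h : Y ⟶ X) :
    closure (Set.range h) = closure ({h (genericPoint Y)} : Set X) := by
  apply le_antisymm
  · apply closure_minimal _ isClosed_closure
    rintro _ ⟨y, rfl⟩
    have hy : y ∈ closure ({genericPoint Y} : Set Y) := by
      rw [(genericPoint_spec Y).def]; trivial
    have := image_closure_subset_closure_image h.continuous ⟨y, hy, rfl⟩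
    simpa using this
  · apply closure_mono
    rintro _ rfl
    exact ⟨_, rfl⟩

/-- a morphism from an integral scheme factors through any integral closed subscheme containing
the image of its generic point as generic point. -/
theorem exists_factor [IsIntegral Y] [IsIntegral C] (j : C ⟶ X) [IsClosedImmersion j] (h : Y ⟶ X)
    (hη : h (genericPoint Y) = j (genericPoint C)) :
    ∃ f : Y ⟶ C, f ≫ j = h ∧ f (genericPoint Y) = genericPoint C := by
  have hker : h.ker = Scheme.IdealSheafData.vanishingIdeal (.closure (Set.range h)) := by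
    rw [← Scheme.IdealSheafData.map_bot, ← Scheme.nilradical_eq_bot,
      ← Scheme.IdealSheafData.vanishingIdeal_top, Scheme.IdealSheafData.map_vanishingIdeal]
    simp
  have hle : j.ker ≤ h.ker := by
    rw [hker, ← Scheme.IdealSheafData.le_support_iff_le_vanishingIdeal]
    rw [← SetLike.coe_subset_coe, TopologicalSpace.Closeds.coe_closure, Scheme.Hom.support_ker,
      closure_range_eq h, hη]
    apply closure_minimal _ isClosed_closure
    rintro _ rfl
    exact subset_closure ⟨_, rfl⟩
  refine ⟨IsClosedImmersion.lift j h hle, IsClosedImmersion.lift_fac j h hle, ?_⟩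
  apply j.isClosedEmbedding.injective
  rw [← hη]
  exact congrArg (fun g : Y ⟶ X => g (genericPoint Y)) (IsClosedImmersion.lift_fac j h hle)

end factor


/-- the direct image of the structure sheaf along a dominant morphism is not torsion. -/
lemma not_isTors_push_unit {Y C : Scheme.{u}} [IsIntegral C] (f : Y ⟶ C) (y : Y)
    (hy : f y = genericPoint C) :
    ¬ IsTors ((Scheme.Modules.pushforward f).obj (unitMod Y)) := by
  intro ht
  have h01 : ((Scheme.Modules.pushforward f).obj (unitMod Y)).presheaf.germ ⊤ (genericPoint C)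
      trivial (show Γ(Y, f ⁻¹ᵁ ⊤) from 1) =
      ((Scheme.Modules.pushforward f).obj (unitMod Y)).presheaf.germ ⊤ (genericPoint C)
      trivial (show Γ(Y, f ⁻¹ᵁ ⊤) from 0) := by
    haveI : Subsingleton (((Scheme.Modules.pushforward f).obj
      (unitMod Y)).presheaf.stalk (genericPoint C)) := ht
    exact Subsingleton.elim _ _
  obtain ⟨W, hW, i₁, i₂, heq⟩ := TopCat.Presheaf.germ_eq _ (genericPoint C)
    (U := ⊤) (V := ⊤) trivial trivial _ _ h01
  have h1 : (1 : Γ(Y, f ⁻¹ᵁ W)) = 0 := by
    have e1 : ((Scheme.Modules.pushforward f).obj (unitMod Y)).presheaf.map i₁.op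
        (show Γ(Y, f ⁻¹ᵁ ⊤) from 1) = (1 : Γ(Y, f ⁻¹ᵁ W)) :=
      map_one (Y.presheaf.map (homOfLE (show f ⁻¹ᵁ W ≤ f ⁻¹ᵁ ⊤ from le_top)).op).hom
    have e2 : ((Scheme.Modules.pushforward f).obj (unitMod Y)).presheaf.map i₂.op
        (show Γ(Y, f ⁻¹ᵁ ⊤) from 0) = (0 : Γ(Y, f ⁻¹ᵁ W)) :=
      map_zero (Y.presheaf.map (homOfLE (show f ⁻¹ᵁ W ≤ f ⁻¹ᵁ ⊤ from le_top)).op).hom
    rw [← e1, ← e2]
    exact heq
  have h2 : f ⁻¹ᵁ W = ⊥ := by
    rw [← Y.basicOpen_one (U := f ⁻¹ᵁ W), h1, Y.basicOpen_zero]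
  have h3 : y ∈ f ⁻¹ᵁ W := by
    change f y ∈ W
    rw [hy]; exact hW
  rw [h2] at h3
  exact h3


lemma le_zero_of_le_one_of_ne (x : WithBot ℕ∞) (h1 : x ≤ 1) (h2 : x ≠ 1) : x ≤ 0 := by
  induction x using WithBot.recBotCoe with
  | bot => exact bot_le
  | coe n =>
    induction n using ENat.recTopCoe with
    | top => 
      exfalso
      have : ((⊤ : ℕ∞) : WithBot ℕ∞) ≤ ((1 : ℕ∞) : WithBot ℕ∞) := h1
      rw [WithBot.coe_le_coe] at this
      simp at this
    | coe m =>
      have h1' : ((m : ℕ∞) : WithBot ℕ∞) ≤ ((1 : ℕ) : ℕ∞) := h1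
      have h2' : ((m : ℕ∞) : WithBot ℕ∞) ≠ ((1 : ℕ) : ℕ∞) := h2
      have : ((m : ℕ∞) : WithBot ℕ∞) ≤ ((0 : ℕ) : ℕ∞) := by
        norm_cast at h1' h2' ⊢
        omega
      exact this

section degree

variable (k : Type u) [Field k]

include k in
/-- on an integral proper scheme of dimension zero every invertible module is trivial. -/
theorem nonempty_iso_unit_of_dim_zero {Z : Scheme.{u}} [Z.Over (Spec (CommRingCat.of k))]
    [IsProper (Z ↘ Spec (CommRingCat.of k))] [IsIntegral Z] (hdim : topologicalKrullDim Z ≤ 0)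
    (M : Z.Modules) (hM : PicF.IsInvertible M) : Nonempty (M ≅ unitMod Z) := by
  obtain ⟨s, hs⟩ := exists_section_of_dim_zero k hdim M hM
  have hP := isInvertible_tensorPow hM 1
  have hη := Curve2.genericPoint_mem_genLocus hP s hs
  have htop : CohB1.genLocus _ s = ⊤ := by
    rw [eq_top_iff]
    intro x _
    have hx : IsClosed ({genericPoint Z} : Set Z) :=
      isClosed_singleton_of_dim_le_zero hdim (genericPoint Z)
    have h1 : genericPoint Z ⤳ x := genericPoint_specializes x
    have h2 : x ∈ ({genericPoint Z} : Set Z) := h1.mem_closed hx rfl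
    rw [Set.mem_singleton_iff] at h2
    rw [h2]
    exact hη
  haveI := Groth.Agent.H5.Glue.isIso_of_genLocus_eq_top s htop
  haveI := (isCoh_of_isInvertible hM).1
  exact ⟨(unitorL' M).symm ≪≫ (asIso s).symm⟩


variable {Y C : Scheme.{u}} [Y.Over (Spec (CommRingCat.of k))] [C.Over (Spec (CommRingCat.of k))]
  [IsProper (Y ↘ Spec (CommRingCat.of k))] [IsProper (C ↘ Spec (CommRingCat.of k))]
  [IsIntegral Y] [IsIntegral C]

/-- **degrees under dominant morphisms of integral proper curves** (the target may be a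
point): `deg f^* E = e · deg E` with `e > 0` if the target is a curve. -/
theorem exists_deg_pullback (hY : topologicalKrullDim Y ≤ 1) (hC : topologicalKrullDim C ≤ 1)
    (f : Y ⟶ C) (hf : f ≫ (C ↘ Spec (CommRingCat.of k)) = Y ↘ Spec (CommRingCat.of k))
    (hξ : f (genericPoint Y) = genericPoint C) :
    ∃ e : ℕ, (topologicalKrullDim C = 1 → 0 < e) ∧ (topologicalKrullDim C ≠ 1 → e = 0) ∧
      ∀ E : C.Modules, PicF.IsInvertible E →
      Curv2.euler k Y ((Scheme.Modules.pullback f).obj E) - Curv2.euler k Y (unitMod Y) =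
        (e : ℤ) * (Curv2.euler k C E - Curv2.euler k C (unitMod C)) := by
  by_cases hC1 : topologicalKrullDim C = 1
  · refine ⟨f.residueDegree (genericPoint Y), fun _ => ?_, fun h => absurd hC1 h, fun E hE => ?_⟩
    · haveI : IsNoetherian C := Curve2.isNoetherian_of_proper k C
      haveI : IsFinite f := isFinite_of_nonconstant k hY hC1 f hf hξ
      have hOc : Coh.IsCoh ((Scheme.Modules.pushforward f).obj (unitMod Y)) :=
        ⟨qc_pushforward f _, isFiniteType_pushforward_of_isFinite f _
          (Groth.Agent.LD.PF.isCoh_unitMod Y).2⟩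
      rw [← gdim_push_unit f hξ]
      by_contra h0
      exact not_isTors_push_unit f (genericPoint Y) hξ
        (isTors_of_gdim_eq_zero hOc (by omega))
    · have h := deg_pullback_eq k hY hC1 f hf hξ 1 E ((isInvertible_iff E).mp hE)
      unfold Curv2.deg at h
      simp only [Nat.cast_one, one_mul] at h
      exact h
  · have hC0 : topologicalKrullDim C ≤ 0 := le_zero_of_le_one_of_ne _ hC hC1
    refine ⟨0, fun h => absurd h hC1, fun _ => rfl, fun E hE => ?_⟩
    obtain ⟨e⟩ := nonempty_iso_unit_of_dim_zero k hC0 E hE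
    rw [Curve.euler_iso k C e, Curve.euler_iso k Y
      ((Scheme.Modules.pullback f).mapIso e ≪≫ pbUnitIso f)]
    simp

end degree


section ambient

variable (k : Type u) [Field k] {X : Scheme.{u}} [X.Over (Spec (CommRingCat.of k))]
  [IsProper (X ↘ Spec (CommRingCat.of k))]

/-- `curveDeg` as a difference of Euler characteristics, on schemes of dimension `≤ 1`. -/
theorem curveDeg_eq_euler_sub {Y : Scheme.{u}} [Y.Over (Spec (CommRingCat.of k))]
    [IsProper (Y ↘ Spec (CommRingCat.of k))] (hY : topologicalKrullDim Y ≤ 1) (M : Y.Modules)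
    (hM : PicF.IsInvertible M) :
    Pic13.curveDeg k (Y ↘ Spec (CommRingCat.of k)) M =
      Curv2.euler k Y M - Curv2.euler k Y (unitMod Y) := by
  have hY1 : topologicalKrullDim Y ≤ ((1 : ℕ) : WithBot ℕ∞) := by exact_mod_cast hY
  haveI := Curve.isLocallyNoetherian k Y
  unfold Pic13.curveDeg
  have h1 := eulerCharLE_eq_euler k 1 hY1 M (isCoh_of_isInvertible hM)
  have h2 := eulerCharLE_eq_euler k 1 hY1 (unitMod Y) (Groth.Agent.LD.PF.isCoh_unitMod Y)
  exact congrArg₂ (· - ·) h1 h2

/-- **degrees of pullbacks to curves mapping to `X`**: for a morphism `h : Y ⟶ X` from an integral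
proper curve, the degree of `h^* L` is a multiple `e · deg (L|_C)` of the degree on the closure
`C` of the image of the generic point; `e > 0` if `C` is a curve, and `C` has dimension `≤ 1`. -/
theorem exists_curveDeg_pullback {Y : Scheme.{u}} [Y.Over (Spec (CommRingCat.of k))]
    [IsProper (Y ↘ Spec (CommRingCat.of k))] [IsIntegral Y] (hY : topologicalKrullDim Y ≤ 1)
    (h : Y ⟶ X) (hh : h ≫ (X ↘ Spec (CommRingCat.of k)) = Y ↘ Spec (CommRingCat.of k))
    {C : Scheme.{u}} [IsIntegral C] (j : C ⟶ X) [IsClosedImmersion j]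
    (hη : h (genericPoint Y) = j (genericPoint C)) :
    topologicalKrullDim C ≤ 1 ∧
    ∃ e : ℕ, (topologicalKrullDim C = 1 → 0 < e) ∧ (topologicalKrullDim C ≠ 1 → e = 0) ∧
      ∀ L : X.Modules, PicF.IsInvertible L →
      Pic13.curveDeg k (Y ↘ Spec (CommRingCat.of k)) ((Scheme.Modules.pullback h).obj L) =
        (e : ℤ) * Pic13.curveDeg k (j ≫ (X ↘ Spec (CommRingCat.of k)))
          ((Scheme.Modules.pullback j).obj L) := by
  obtain ⟨f, hfac, hfη⟩ := exists_factor j h hη
  letI : C.Over (Spec (CommRingCat.of k)) := overOf k j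
  haveI : IsProper (C ↘ Spec (CommRingCat.of k)) := by
    change IsProper (j ≫ (X ↘ Spec (CommRingCat.of k)))
    infer_instance
  have hf : f ≫ (C ↘ Spec (CommRingCat.of k)) = Y ↘ Spec (CommRingCat.of k) := by
    change f ≫ j ≫ (X ↘ Spec (CommRingCat.of k)) = _
    rw [← Category.assoc, hfac, hh]
  have hC : topologicalKrullDim C ≤ 1 :=
    (Groth.Agent.H9.DGP.main k (C ↘ Spec (CommRingCat.of k)) (Y ↘ Spec (CommRingCat.of k)) f hf
      ⟨genericPoint Y, hfη⟩).trans hY
  refine ⟨hC, ?_⟩
  obtain ⟨e, he, he0, hdeg⟩ := exists_deg_pullback k hY hC f hf hfη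
  refine ⟨e, he, he0, fun L hL => ?_⟩
  have hLC := isInvertible_pullback j hL
  have h1 := hdeg _ hLC
  rw [curveDeg_eq_euler_sub k hY _ (isInvertible_pullback h hL)]
  have h2 := curveDeg_eq_euler_sub k hC _ hLC
  change Pic13.curveDeg k (j ≫ (X ↘ Spec (CommRingCat.of k))) _ = _ at h2
  rw [h2, ← h1]
  congr 1
  exact (Curve.euler_iso k Y ((Groth.Agent.H5.Lim.pullbackCompIso f j h hfac).app L)).symm


omit [X.Over (Spec (CommRingCat.of k))] [IsProper (X ↘ Spec (CommRingCat.of k))] in
/-- the generic point of the reduced closed subscheme on `closure {ξ}` is `ξ`. -/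
lemma subschemeι_genericPoint_vI (ξ : X) :
    haveI := isIntegral_vI ξ
    (vI ξ).subschemeι (genericPoint (vI ξ).subscheme) = ξ := by
  haveI := isIntegral_vI ξ
  have h1 := support_eq_closure_of_isIntegral (vI ξ)
  rw [coe_support_vI] at h1
  exact ((inseparable_iff_closure_eq.mpr h1).eq).symm

omit [IsProper (X ↘ Spec (CommRingCat.of k))] in
/-- `curveDeg` only depends on the isomorphism class of the module. -/
lemma curveDeg_iso {Y : Scheme.{u}} (p : Y ⟶ Spec (CommRingCat.of k)) {M N : Y.Modules}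
    (e : M ≅ N) : Pic13.curveDeg k p M = Pic13.curveDeg k p N := by
  unfold Pic13.curveDeg
  letI : Y.Over (Spec (CommRingCat.of k)) := ⟨p⟩
  rw [eulerCharLE_iso k e 1]

/-- **S11749**: numerical equivalence is preserved by pullback. -/
theorem numEquiv_pullback {X' : Scheme.{u}} [X'.Over (Spec (CommRingCat.of k))]
    [IsProper (X' ↘ Spec (CommRingCat.of k))] (g : X' ⟶ X)
    (hg : g ≫ (X ↘ Spec (CommRingCat.of k)) = X' ↘ Spec (CommRingCat.of k))
    (L N : X.Modules) (hL : PicF.IsInvertible L) (hN : PicF.IsInvertible N)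
    (hnum : ∀ (Y : Scheme.{u}) (ι : Y ⟶ X) [IsClosedImmersion ι], IsIntegral Y →
      topologicalKrullDim Y = 1 →
      Pic13.curveDeg k (ι ≫ (X ↘ Spec (CommRingCat.of k))) ((Scheme.Modules.pullback ι).obj L) =
        Pic13.curveDeg k (ι ≫ (X ↘ Spec (CommRingCat.of k))) ((Scheme.Modules.pullback ι).obj N)) :
    ∀ (Y : Scheme.{u}) (ι : Y ⟶ X') [IsClosedImmersion ι], IsIntegral Y →
      topologicalKrullDim Y = 1 →
      Pic13.curveDeg k (ι ≫ (X' ↘ Spec (CommRingCat.of k)))
          ((Scheme.Modules.pullback ι).obj ((Scheme.Modules.pullback g).obj L)) =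
        Pic13.curveDeg k (ι ≫ (X' ↘ Spec (CommRingCat.of k)))
          ((Scheme.Modules.pullback ι).obj ((Scheme.Modules.pullback g).obj N)) := by
  intro Y ι _ hYint hYdim
  haveI := hYint
  letI : Y.Over (Spec (CommRingCat.of k)) := overOf k ι
  haveI : IsProper (Y ↘ Spec (CommRingCat.of k)) := by
    change IsProper (ι ≫ (X' ↘ Spec (CommRingCat.of k)))
    infer_instance
  have hh : (ι ≫ g) ≫ (X ↘ Spec (CommRingCat.of k)) = Y ↘ Spec (CommRingCat.of k) := by
    rw [Category.assoc, hg]; rfl
  haveI := isIntegral_vI ((ι ≫ g) (genericPoint Y))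
  obtain ⟨hC, e, he, he0, hdeg⟩ := exists_curveDeg_pullback k (le_of_eq hYdim) (ι ≫ g) hh
    (vI ((ι ≫ g) (genericPoint Y))).subschemeι (subschemeι_genericPoint_vI _).symm
  have key : ∀ A : X.Modules, PicF.IsInvertible A →
      Pic13.curveDeg k (ι ≫ (X' ↘ Spec (CommRingCat.of k)))
        ((Scheme.Modules.pullback ι).obj ((Scheme.Modules.pullback g).obj A)) =
      (e : ℤ) * Pic13.curveDeg k ((vI ((ι ≫ g) (genericPoint Y))).subschemeι ≫
        (X ↘ Spec (CommRingCat.of k)))
          ((Scheme.Modules.pullback (vI ((ι ≫ g) (genericPoint Y))).subschemeι).obj A) := by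
    intro A hA
    rw [← hdeg A hA]
    exact curveDeg_iso k _ ((Groth.Agent.H5.Lim.pullbackCompIso ι g (ι ≫ g) rfl).app A)
  rw [key L hL, key N hN]
  by_cases hC1 : topologicalKrullDim (vI ((ι ≫ g) (genericPoint Y))).subscheme = 1
  · rw [hnum _ (vI ((ι ≫ g) (genericPoint Y))).subschemeι (isIntegral_vI _) hC1]
  · rw [he0 hC1]
    simp

end ambient

end Groth.Agent.H5.IntN
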