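import Mathlib
import Groth.Agent.Lib.Helper5.IntN.Num5
import Groth.Agent.Lib.Helper1.FibDimTot

set_option autoImplicit false
universe u
open CategoryTheory CategoryTheory.Limits AlgebraicGeometry TopologicalSpace Opposite

namespace Groth.Agent.H5.IntN

open Groth.Agent.LD Groth.Agent.LD.QC Groth.Agent.H5.Curve4 Groth.Agent.H5.DegC Groth.Agent.H5.Snap
open Groth.Agent.H5.Deg Groth.Agent.H5.HP

section lift

/-- a nonempty compact subset of a T0 space has a point which is closed in the subset. -/
lemma exists_closed_point_of_isCompact {T : Type*} [TopologicalSpace T] [T0Space T] {S : Set T}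
    (hS : IsCompact S) (hne : S.Nonempty) :
    ∃ y ∈ S, ∀ y' ∈ S, y' ∈ closure ({y} : Set T) → y' = y := by
  haveI : CompactSpace S := isCompact_iff_compactSpace.mp hS
  haveI : Nonempty S := hne.to_subtype
  obtain ⟨t, -, ht⟩ := IsClosed.exists_closed_singleton (X := S) isClosed_univ Set.univ_nonempty
  refine ⟨t.1, t.2, fun y' hy' hcl => ?_⟩
  have h1 : (⟨y', hy'⟩ : S) ∈ closure ({t} : Set S) := by
    rw [Topology.IsEmbedding.subtypeVal.closure_eq_preimage_closure_image]
    simpa using hcl
  rw [ht.closure_eq] at h1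
  exact congrArg Subtype.val h1

variable {k : Type u} [Field k] {X X' : Scheme.{u}} (q : X ⟶ Spec (CommRingCat.of k))
  (g : X' ⟶ X)

/-- **lifting points with the same dimension**: every point in the image of a quasi-compact
morphism locally of finite type has a preimage whose closure has the same dimension. -/
theorem exists_point_over [LocallyOfFiniteType q] [LocallyOfFiniteType g] [QuasiCompact g]
    (ξ : X) (hξ : ξ ∈ Set.range g) :
    ∃ y : X', g y = ξ ∧
      topologicalKrullDim ↥(closure ({y} : Set X')) = topologicalKrullDim ↥(closure ({ξ} : Set X)) := by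
  obtain ⟨y, hy, hcl⟩ := exists_closed_point_of_isCompact
    (g.isCompact_preimage_singleton ξ) (by obtain ⟨y₀, h⟩ := hξ; exact ⟨y₀, h⟩)
  have hy' : g y = ξ := hy
  subst hy'
  refine ⟨y, rfl, ?_⟩
  rw [Groth.Agent.H1.FibDimTot.dim_closure_eq_add q g y]
  have hsub : Subsingleton ↥(closure ({g.asFiber y} : Set ↥(g.fiber (g y)))) := by
    refine ⟨fun a b => ?_⟩
    have key : ∀ w : ↥(closure ({g.asFiber y} : Set ↥(g.fiber (g y)))), w.1 = g.asFiber y := by
      intro w
      apply (g.fiberι (g y)).isEmbedding.injective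
      rw [g.fiberι_asFiber]
      apply hcl
      · have : g.fiberι (g y) w.1 ∈ Set.range (g.fiberι (g y)) := ⟨_, rfl⟩
        rw [g.range_fiberι] at this
        exact this
      · have h1 := image_closure_subset_closure_image (g.fiberι (g y)).continuous
          (Set.mem_image_of_mem _ w.2)
        rw [Set.image_singleton, g.fiberι_asFiber] at h1
        exact h1
    exact Subtype.ext ((key a).trans (key b).symm)
  haveI : Nonempty ↥(closure ({g.asFiber y} : Set ↥(g.fiber (g y)))) :=
    ⟨⟨g.asFiber y, subset_closure rfl⟩⟩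
  have h0 : topologicalKrullDim ↥(closure ({g.asFiber y} : Set ↥(g.fiber (g y)))) = 0 := by
    apply le_antisymm (Groth.Agent.H5.Curve3.topologicalKrullDim_nonpos_of_subsingleton _)
    haveI : Nonempty (IrreducibleCloseds ↥(closure ({g.asFiber y} : Set ↥(g.fiber (g y))))) :=
      ⟨⟨closure {⟨g.asFiber y, subset_closure rfl⟩}, isIrreducible_singleton.closure,
        isClosed_closure⟩⟩
    exact Order.krullDim_nonneg
  rw [h0, add_zero]

end lift


section surj

variable (k : Type u) [Field k] {X : Scheme.{u}} [X.Over (Spec (CommRingCat.of k))]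
  [IsProper (X ↘ Spec (CommRingCat.of k))]

omit [X.Over (Spec (CommRingCat.of k))] [IsProper (X ↘ Spec (CommRingCat.of k))] in
/-- the closure of the image of the generic point under a closed immersion from an integral scheme
has the dimension of the source. -/
lemma dim_closure_image_genericPoint {Y : Scheme.{u}} [IsIntegral Y] (ι : Y ⟶ X)
    [IsClosedImmersion ι] :
    topologicalKrullDim ↥(closure ({ι (genericPoint Y)} : Set X)) = topologicalKrullDim Y := by
  have h1 : closure ({ι (genericPoint Y)} : Set X) = Set.range ι := by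
    rw [← closure_range_eq ι]
    exact ι.isClosedEmbedding.isClosed_range.closure_eq
  rw [h1]
  exact (IsHomeomorph.topologicalKrullDim_eq _
    (ι.isClosedEmbedding.isEmbedding.toHomeomorph).isHomeomorph).symm

/-- **curves lift along surjective morphisms**: for a surjective morphism `g : X' ⟶ X` of proper
schemes and an integral closed curve `ι : Y ⟶ X`, there is an integral closed curve of `X'`
on which the degree of every `g^* A` is a positive multiple of the degree of `A` on `Y`. -/
theorem exists_curve_over {X' : Scheme.{u}} [X'.Over (Spec (CommRingCat.of k))]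
    [IsProper (X' ↘ Spec (CommRingCat.of k))] (g : X' ⟶ X)
    (hg : g ≫ (X ↘ Spec (CommRingCat.of k)) = X' ↘ Spec (CommRingCat.of k)) [Surjective g]
    {Y : Scheme.{u}} [IsIntegral Y] (ι : Y ⟶ X) [IsClosedImmersion ι]
    (hY : topologicalKrullDim Y = 1) :
    ∃ (y : X') (e : ℕ), 0 < e ∧
      topologicalKrullDim ↥(closure ({y} : Set X')) = 1 ∧
      ∀ A : X.Modules, PicF.IsInvertible A →
        Pic13.curveDeg k ((vI y).subschemeι ≫ (X' ↘ Spec (CommRingCat.of k)))
          ((Scheme.Modules.pullback (vI y).subschemeι).obj ((Scheme.Modules.pullback g).obj A)) =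
        (e : ℤ) * Pic13.curveDeg k (ι ≫ (X ↘ Spec (CommRingCat.of k)))
          ((Scheme.Modules.pullback ι).obj A) := by
  haveI : IsProper (g ≫ (X ↘ Spec (CommRingCat.of k))) := by rw [hg]; infer_instance
  haveI : IsProper g := IsProper.of_comp g (X ↘ Spec (CommRingCat.of k))
  obtain ⟨y, hy, hdim⟩ := exists_point_over (X ↘ Spec (CommRingCat.of k)) g
    (ι (genericPoint Y)) (g.surjective _)
  rw [dim_closure_image_genericPoint ι, hY] at hdim
  haveI := isIntegral_vI y
  letI : (vI y).subscheme.Over (Spec (CommRingCat.of k)) := overOf k (vI y).subschemeι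
  haveI : IsProper ((vI y).subscheme ↘ Spec (CommRingCat.of k)) := by
    change IsProper ((vI y).subschemeι ≫ (X' ↘ Spec (CommRingCat.of k)))
    infer_instance
  have hdimV : topologicalKrullDim (vI y).subscheme = 1 := by rw [dim_vI, hdim]
  have hh : ((vI y).subschemeι ≫ g) ≫ (X ↘ Spec (CommRingCat.of k)) =
      (vI y).subscheme ↘ Spec (CommRingCat.of k) := by
    rw [Category.assoc, hg]; rfl
  have hη : ((vI y).subschemeι ≫ g) (genericPoint (vI y).subscheme) = ι (genericPoint Y) := by
    rw [← hy]
    exact congrArg g (subschemeι_genericPoint_vI y)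
  obtain ⟨-, e, he, -, hdeg⟩ := exists_curveDeg_pullback k (le_of_eq hdimV)
    ((vI y).subschemeι ≫ g) hh ι hη
  refine ⟨y, e, he hY, hdim, fun A hA => ?_⟩
  rw [← hdeg A hA]
  exact curveDeg_iso k _
    ((Groth.Agent.H5.Lim.pullbackCompIso (vI y).subschemeι g ((vI y).subschemeι ≫ g) rfl).app A)

/-- **S11750**: numerical equivalence descends along surjective morphisms. -/
theorem numEquiv_of_pullback_surjective {X' : Scheme.{u}} [X'.Over (Spec (CommRingCat.of k))]
    [IsProper (X' ↘ Spec (CommRingCat.of k))] (g : X' ⟶ X)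
    (hg : g ≫ (X ↘ Spec (CommRingCat.of k)) = X' ↘ Spec (CommRingCat.of k)) [Surjective g]
    (L N : X.Modules) (hL : PicF.IsInvertible L) (hN : PicF.IsInvertible N)
    (hnum : ∀ (Y : Scheme.{u}) (ι : Y ⟶ X') [IsClosedImmersion ι], IsIntegral Y →
      topologicalKrullDim Y = 1 →
      Pic13.curveDeg k (ι ≫ (X' ↘ Spec (CommRingCat.of k)))
          ((Scheme.Modules.pullback ι).obj ((Scheme.Modules.pullback g).obj L)) =
        Pic13.curveDeg k (ι ≫ (X' ↘ Spec (CommRingCat.of k)))
          ((Scheme.Modules.pullback ι).obj ((Scheme.Modules.pullback g).obj N))) :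
    ∀ (Y : Scheme.{u}) (ι : Y ⟶ X) [IsClosedImmersion ι], IsIntegral Y →
      topologicalKrullDim Y = 1 →
      Pic13.curveDeg k (ι ≫ (X ↘ Spec (CommRingCat.of k))) ((Scheme.Modules.pullback ι).obj L) =
        Pic13.curveDeg k (ι ≫ (X ↘ Spec (CommRingCat.of k))) ((Scheme.Modules.pullback ι).obj N) := by
  intro Y ι _ hYint hYdim
  haveI := hYint
  obtain ⟨y, e, he, hdim, hdeg⟩ := exists_curve_over k g hg ι hYdim
  have hdimV : topologicalKrullDim (vI y).subscheme = 1 := by rw [dim_vI, hdim]
  have h1 := hnum (vI y).subscheme (vI y).subschemeι (isIntegral_vI y) hdimV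
  rw [hdeg L hL, hdeg N hN] at h1
  have he' : (e : ℤ) ≠ 0 := by exact_mod_cast he.ne'
  exact mul_left_cancel₀ he' h1


omit [X.Over (Spec (CommRingCat.of k))] [IsProper (X ↘ Spec (CommRingCat.of k))] in
lemma dim_subscheme_eq (Z : X.IdealSheafData) :
    topologicalKrullDim Z.subscheme = topologicalKrullDim (Z.support : Set X) := by
  rw [← Scheme.IdealSheafData.range_subschemeι]
  exact IsHomeomorph.topologicalKrullDim_eq _
    (Z.subschemeι.isClosedEmbedding.isEmbedding.toHomeomorph).isHomeomorph

/-- the degree `χ(O_C ⊗ L) - χ(O_C)` on a closed subscheme of dimension `≤ 1` is the `curveDeg`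
of the restriction. -/
theorem euler_quotMod_sub_eq_curveDeg (C : X.IdealSheafData)
    (hC : topologicalKrullDim (C.support : Set X) ≤ 1) (L : X.Modules) (hL : PicF.IsInvertible L) :
    Curv2.euler k X (CohB1.tensorMod (ClSub.quotMod C) L) - Curv2.euler k X (ClSub.quotMod C) =
      Pic13.curveDeg k (C.subschemeι ≫ (X ↘ Spec (CommRingCat.of k)))
        ((Scheme.Modules.pullback C.subschemeι).obj L) := by
  haveI : IsNoetherian X := Curve2.isNoetherian_of_proper k X
  obtain ⟨D, hD⟩ := Groth.Agent.H9.ORB3.exists_nat_dim_le (X ↘ Spec (CommRingCat.of k))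
  obtain ⟨M, hM, ⟨e⟩⟩ := Groth.Agent.H5.Glue.exists_inverse L hL
  have hQ : Coh.IsCoh (ClSub.quotMod C) := isCoh_quotMod C
  have hQdim : topologicalKrullDim (CohB1.support (ClSub.quotMod C)) ≤ 1 := by
    rw [support_quotMod]; exact hC
  rw [euler_tensor_sub k D hD L M hL ⟨e⟩ _ hQ hQdim,
    curveDeg_eq_neg_intNum k D hD L hL C (by rw [dim_subscheme_eq]; exact hC),
    intNum_one_inverse k D hD L M hL hM e _ hQ hQdim, neg_neg]

/-- **S16712**: nefness can be tested after pullback along a surjective morphism. -/
theorem nef_iff_nef_pullback_surjective {X' : Scheme.{u}} [X'.Over (Spec (CommRingCat.of k))]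
    [IsProper (X' ↘ Spec (CommRingCat.of k))] (f : X' ⟶ X)
    (hf : f ≫ (X ↘ Spec (CommRingCat.of k)) = X' ↘ Spec (CommRingCat.of k)) [Surjective f]
    (L : X.Modules) (hL : PicF.IsInvertible L) :
    (∀ C : X.IdealSheafData, IsIntegral C.subscheme →
        topologicalKrullDim (C.support : Set X) = 1 →
          0 ≤ Curv2.euler k X (CohB1.tensorMod (ClSub.quotMod C) L) -
            Curv2.euler k X (ClSub.quotMod C)) ↔
      (∀ C' : X'.IdealSheafData, IsIntegral C'.subscheme →
        topologicalKrullDim (C'.support : Set X') = 1 →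
          0 ≤ Curv2.euler k X' (CohB1.tensorMod (ClSub.quotMod C')
              ((Scheme.Modules.pullback f).obj L)) -
            Curv2.euler k X' (ClSub.quotMod C')) := by
  have hfL := isInvertible_pullback f hL
  constructor
  · intro H C' hC'int hC'dim
    haveI := hC'int
    rw [euler_quotMod_sub_eq_curveDeg k C' (le_of_eq hC'dim) _ hfL]
    letI : C'.subscheme.Over (Spec (CommRingCat.of k)) := overOf k C'.subschemeι
    haveI : IsProper (C'.subscheme ↘ Spec (CommRingCat.of k)) := by
      change IsProper (C'.subschemeι ≫ (X' ↘ Spec (CommRingCat.of k)))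
      infer_instance
    have hYdim : topologicalKrullDim C'.subscheme = 1 := by rw [dim_subscheme_eq, hC'dim]
    have hh : (C'.subschemeι ≫ f) ≫ (X ↘ Spec (CommRingCat.of k)) =
        C'.subscheme ↘ Spec (CommRingCat.of k) := by
      rw [Category.assoc, hf]; rfl
    haveI := isIntegral_vI ((C'.subschemeι ≫ f) (genericPoint C'.subscheme))
    obtain ⟨hC, e, he, he0, hdeg⟩ := exists_curveDeg_pullback k (le_of_eq hYdim)
      (C'.subschemeι ≫ f) hh
      (vI ((C'.subschemeι ≫ f) (genericPoint C'.subscheme))).subschemeι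
      (subschemeι_genericPoint_vI _).symm
    have hiso : Pic13.curveDeg k (C'.subschemeι ≫ (X' ↘ Spec (CommRingCat.of k)))
        ((Scheme.Modules.pullback C'.subschemeι).obj ((Scheme.Modules.pullback f).obj L)) =
        Pic13.curveDeg k (C'.subscheme ↘ Spec (CommRingCat.of k))
          ((Scheme.Modules.pullback (C'.subschemeι ≫ f)).obj L) :=
      curveDeg_iso k _ ((Groth.Agent.H5.Lim.pullbackCompIso C'.subschemeι f
        (C'.subschemeι ≫ f) rfl).app L)
    rw [hiso, hdeg L hL]
    by_cases hC1 : topologicalKrullDim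
        (vI ((C'.subschemeι ≫ f) (genericPoint C'.subscheme))).subscheme = 1
    · have hs : topologicalKrullDim
          ((vI ((C'.subschemeι ≫ f) (genericPoint C'.subscheme))).support : Set X) = 1 := by
        rw [← dim_subscheme_eq, hC1]
      have h1 := H _ (isIntegral_vI _) hs
      rw [euler_quotMod_sub_eq_curveDeg k _ (le_of_eq hs) L hL] at h1
      exact mul_nonneg (by exact_mod_cast Nat.zero_le e) h1
    · rw [he0 hC1]
      simp
  · intro H C hCint hCdim
    haveI := hCint
    rw [euler_quotMod_sub_eq_curveDeg k C (le_of_eq hCdim) L hL]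
    have hYdim : topologicalKrullDim C.subscheme = 1 := by rw [dim_subscheme_eq, hCdim]
    obtain ⟨y, e, he, hdim, hdeg⟩ := exists_curve_over k f hf C.subschemeι hYdim
    have hs : topologicalKrullDim ((vI y).support : Set X') = 1 := by
      rw [coe_support_vI, hdim]
    have h1 := H (vI y) (isIntegral_vI y) hs
    rw [euler_quotMod_sub_eq_curveDeg k _ (le_of_eq hs) _ hfL, hdeg L hL] at h1
    have he' : (0 : ℤ) < e := by exact_mod_cast he
    exact nonneg_of_mul_nonneg_right h1 he'

end surj

end Groth.Agent.H5.IntN
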