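import Mathlib
import Groth.Agent.Lib.Helper5.IntN.Num6

set_option autoImplicit false
universe u
open CategoryTheory CategoryTheory.Limits AlgebraicGeometry TopologicalSpace Opposite

namespace Groth.Agent.H5.IntN

open Groth.Agent.LD Groth.Agent.LD.QC Groth.Agent.H5.Curve4 Groth.Agent.H5.DegC Groth.Agent.H5.Snap

/-- **S17287**: integral curves lift along surjective morphisms of proper schemes. -/
theorem exists_integral_curve_mapping_onto (k : Type u) [Field k] (X Y : Scheme.{u})
    [X.Over (Spec (CommRingCat.of k))] [IsProper (X ↘ (Spec (CommRingCat.of k)))]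
    [Y.Over (Spec (CommRingCat.of k))] [IsProper (Y ↘ (Spec (CommRingCat.of k)))]
    (f : Y ⟶ X) (hf : f ≫ (X ↘ (Spec (CommRingCat.of k))) = Y ↘ (Spec (CommRingCat.of k)))
    [Surjective f]
    (C : X.IdealSheafData) [IsIntegral C.subscheme]
    (hC : topologicalKrullDim (C.support : Set X) = 1) :
    ∃ C' : Y.IdealSheafData, IsIntegral C'.subscheme ∧
      topologicalKrullDim (C'.support : Set Y) = 1 ∧
      f.base '' (C'.support : Set Y) = (C.support : Set X) := by
  haveI : IsProper (f ≫ (X ↘ Spec (CommRingCat.of k))) := by rw [hf]; infer_instance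
  haveI : IsProper f := IsProper.of_comp f (X ↘ Spec (CommRingCat.of k))
  obtain ⟨y, hy, hdim⟩ := exists_point_over (X ↘ Spec (CommRingCat.of k)) f
    (C.subschemeι (genericPoint C.subscheme)) (f.surjective _)
  have hsupp := support_eq_closure_of_isIntegral C
  rw [← hsupp, hC] at hdim
  refine ⟨vI y, isIntegral_vI y, by rw [coe_support_vI, hdim], ?_⟩
  rw [coe_support_vI, hsupp, ← hy]
  apply le_antisymm
  · exact image_closure_subset_closure_image f.continuous |>.trans (by rw [Set.image_singleton])
  · have hcl : IsClosed (f.base '' closure ({y} : Set Y)) :=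
      f.isClosedMap _ isClosed_closure
    apply closure_minimal _ hcl
    rintro _ rfl
    exact ⟨y, subset_closure rfl, rfl⟩

end Groth.Agent.H5.IntN
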