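import Mathlib
import Groth.Agent.Lib.Helper5.IntN.Num7
import Groth.Agent.H4.Cok4
import Groth.Agent.H4.NormInt2
import Groth.Agent.Lib.Helper6.NZ2
import Groth.Agent.Lib.Helper3.DimSch

set_option autoImplicit false
universe u
open CategoryTheory CategoryTheory.Limits AlgebraicGeometry TopologicalSpace Opposite

namespace Groth.Agent.H5.IntN

open Groth.Agent.LD Groth.Agent.LD.QC Groth.Agent.H5.Curve4 Groth.Agent.H5.DegC Groth.Agent.H5.Snap
open Groth.Agent.H5.Deg Groth.Agent.H5.HP

variable (k : Type u) [Field k]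

lemma isRegularLocalRing_of_isDedekindDomain_of_isLocalRing (R : Type*) [CommRing R]
    [IsDedekindDomain R] [IsLocalRing R] : IsRegularLocalRing R := by
  haveI : IsPrincipalIdealRing R := by
    apply IsPrincipalIdealRing.of_finite_primes
    have : {I : Ideal R | I.IsPrime} ⊆ {⊥, IsLocalRing.maximalIdeal R} := by
      intro I hI
      by_cases h0 : I = ⊥
      · left; exact h0
      · right
        have hmax : I.IsMaximal := Ring.DimensionLEOne.maximalOfPrime h0 hI
        exact IsLocalRing.eq_maximalIdeal hmax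
    exact Set.Finite.subset (by simp) this
  infer_instance

/-- **regular models of curves**: an integral proper curve over a field is finitely dominated by a
regular integral proper curve (its normalization). -/
theorem exists_regular_model (C : Scheme.{u}) [C.Over (Spec (CommRingCat.of k))]
    [IsProper (C ↘ Spec (CommRingCat.of k))] [IsIntegral C] (hC : topologicalKrullDim C = 1) :
    ∃ (C' : Scheme.{u}) (_ : C'.Over (Spec (CommRingCat.of k)))
      (_ : IsProper (C' ↘ Spec (CommRingCat.of k))) (_ : IsIntegral C') (ν : C' ⟶ C),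
      ν ≫ (C ↘ Spec (CommRingCat.of k)) = C' ↘ Spec (CommRingCat.of k) ∧
      topologicalKrullDim C' = 1 ∧ (∀ x : C', IsRegularLocalRing (C'.presheaf.stalk x)) ∧
      ν (genericPoint C') = genericPoint C ∧ IsFinite ν := by
  haveI : IsNoetherian C := Curve2.isNoetherian_of_proper k C
  haveI : QuasiCompact (C.fromSpecStalk (genericPoint C)) := inferInstance
  haveI : QuasiSeparated (C.fromSpecStalk (genericPoint C)) := inferInstance
  haveI hfin : IsFinite (Curv2.normalizationι C) :=
    Groth.Agent.H4.Cok.isFinite_of_nagata C (fun U =>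
      Groth.Agent.H6.NZ.isNagata_sections k (C ↘ Spec (CommRingCat.of k)) U.1 U.2)
  letI : (Curv2.normalization C).Over (Spec (CommRingCat.of k)) :=
    ⟨Curv2.normalizationι C ≫ (C ↘ Spec (CommRingCat.of k))⟩
  haveI : IsProper ((Curv2.normalization C) ↘ Spec (CommRingCat.of k)) := by
    change IsProper (Curv2.normalizationι C ≫ (C ↘ Spec (CommRingCat.of k)))
    infer_instance
  refine ⟨Curv2.normalization C, inferInstance, inferInstance, inferInstance,
    Curv2.normalizationι C, rfl, ?_, ?_, ?_, hfin⟩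
  · have h := (Groth.Agent.H3.DimSch.dim_eq_of_isFinite (Curv2.normalizationι C)).2
      (Groth.Agent.H4.NormInt.surjective_normalizationι C).surj
    rw [h, hC]
  · intro x
    haveI := Groth.Agent.H4.NormInt.isDedekindDomain_stalk (X := C) hC.le x
    exact isRegularLocalRing_of_isDedekindDomain_of_isLocalRing _
  · exact Groth.Agent.H4.NormInt.normalizationι_genericPoint C

/-- the curve-test hypothesis (for regular curves) implies the same for integral proper curves. -/
theorem curveTest_of_integral (X : Scheme.{u}) [X.Over (Spec (CommRingCat.of k))] (E : X.Modules)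
    (hnef : ∀ (C : Scheme.{u}) [C.Over (Spec (CommRingCat.of k))]
      [IsProper (C ↘ (Spec (CommRingCat.of k)))] [IsIntegral C],
      topologicalKrullDim C = 1 → (∀ x : C, IsRegularLocalRing (C.presheaf.stalk x)) →
      ∀ (f : C ⟶ X), f ≫ (X ↘ (Spec (CommRingCat.of k))) = C ↘ (Spec (CommRingCat.of k)) →
      ∀ (M : C.Modules), PicF.IsInvertible M →
      ∀ (q : (Scheme.Modules.pullback f).obj E ⟶ M), Epi q → 0 ≤ Curv2.deg k C M 1)
    (Y : Scheme.{u}) [Y.Over (Spec (CommRingCat.of k))] [IsProper (Y ↘ Spec (CommRingCat.of k))]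
    [IsIntegral Y] (hY : topologicalKrullDim Y = 1) (h : Y ⟶ X)
    (hh : h ≫ (X ↘ Spec (CommRingCat.of k)) = Y ↘ Spec (CommRingCat.of k))
    (M : Y.Modules) (hM : PicF.IsInvertible M) (q : (Scheme.Modules.pullback h).obj E ⟶ M)
    (hq : Epi q) :
    0 ≤ Curv2.euler k Y M - Curv2.euler k Y (unitMod Y) := by
  obtain ⟨Y', i1, i2, i3, ν, hν, hdim', hreg, hgen, hfin⟩ := exists_regular_model k Y hY
  letI := i1
  haveI := i2
  haveI := i3
  haveI : (Scheme.Modules.pullback ν).PreservesEpimorphisms :=
    Functor.preservesEpimorphisms_of_adjunction (Scheme.Modules.pullbackPushforwardAdjunction ν)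
  have hq' : Epi ((Groth.Agent.H5.Lim.pullbackCompIso ν h (ν ≫ h) rfl).inv.app E ≫
      (Scheme.Modules.pullback ν).map q) := by
    haveI := (Scheme.Modules.pullback ν).map_epi q
    exact epi_comp _ _
  have key := hnef Y' hdim' hreg (ν ≫ h) (by rw [Category.assoc, hh, hν])
    ((Scheme.Modules.pullback ν).obj M) (isInvertible_pullback ν hM) _ hq'
  obtain ⟨e, he, -, hdeg⟩ := exists_deg_pullback k (le_of_eq hdim') (le_of_eq hY) ν hν hgen
  have h1 := hdeg M hM
  have he' : (0 : ℤ) < e := by exact_mod_cast he hY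
  have key' : 0 ≤ Curv2.euler k Y' ((Scheme.Modules.pullback ν).obj M) -
      Curv2.euler k Y' (unitMod Y') := by
    have : Curv2.deg k Y' ((Scheme.Modules.pullback ν).obj M) 1 =
        Curv2.euler k Y' ((Scheme.Modules.pullback ν).obj M) - Curv2.euler k Y' (unitMod Y') := by
      unfold Curv2.deg
      simp
    rw [← this]; exact key
  rw [h1] at key'
  exact nonneg_of_mul_nonneg_right key' he'


section comps

variable {X : Scheme.{u}} [X.Over (Spec (CommRingCat.of k))]
  [IsProper (X ↘ Spec (CommRingCat.of k))]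

/-- the one-slot symbol against the structure sheaf. -/
theorem intNum_one_unit (D : ℕ) (hD : topologicalKrullDim X ≤ D) (A : X.Modules)
    (hA : PicF.IsInvertible A) :
    FGA.intNum k X D (fun _ : Fin 1 => A) (unitMod X) =
      Curv2.euler k X (unitMod X) - Curv2.euler k X A := by
  haveI := Curve.isLocallyNoetherian k X
  let M₀ : Fin 0 → X.Modules := fun i => i.elim0
  have hM₀c : ∀ i, Coh.IsCoh (M₀ i) := fun i => i.elim0
  have hAc := isCoh_of_isInvertible hA
  haveI := hAc.1
  have hOc : Coh.IsCoh (unitMod X) := Groth.Agent.LD.PF.isCoh_unitMod X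
  have hfam : (fun _ : Fin 1 => A) = (Fin.cons A M₀ : Fin 1 → X.Modules) :=
    const_fin_one_eq_cons _ M₀
  rw [hfam, intNum_cons k D 0 _ hAc M₀ hM₀c _ hOc, intNum_zero, intNum_zero,
    eulerCharLE_iso k (SecTwist.unitorR A) D,
    eulerCharLE_eq_euler k D hD _ hOc, eulerCharLE_eq_euler k D hD _ hAc]

/-- a one-slot symbol is `≤ 0` on all coherent modules with support of dimension `≤ 1` as soon as
it is on the structure sheaves of integral curves. -/
theorem intNum_one_nonpos_of_forall_curve (D : ℕ) (hD : topologicalKrullDim X ≤ D) (A : X.Modules)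
    (hA : PicF.IsInvertible A)
    (h : ∀ ξ : X, topologicalKrullDim ↥(closure ({ξ} : Set X)) = ((1 : ℕ) : WithBot ℕ∞) →
      FGA.intNum k X D (fun _ : Fin 1 => A) (ClSub.quotMod (vI ξ)) ≤ 0)
    (T : X.Modules) (hT : Coh.IsCoh T) (hdim : topologicalKrullDim (CohB1.support T) ≤ 1) :
    FGA.intNum k X D (fun _ : Fin 1 => A) T ≤ 0 := by
  classical
  haveI : IsNoetherian X := Curve2.isNoetherian_of_proper k X
  have hdim' : topologicalKrullDim (CohB1.support T) ≤ ((1 : ℕ) : WithBot ℕ∞) := by
    exact_mod_cast hdim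
  obtain ⟨hfin, -, -⟩ := good_of_isCoh k 1 1 (fun _ : Fin 1 => A) (fun _ => hA) T hT hdim'
  have hs : ∀ ξ : X, ξ ∈ hfin.toFinset ↔
      ξ ∈ CohB1.support T ∧ topologicalKrullDim ↥(closure ({ξ} : Set X)) = ((1 : ℕ) : WithBot ℕ∞) := by
    intro ξ
    rw [Set.Finite.mem_toFinset]
    exact ⟨fun h => ⟨h.2, h.1⟩, fun h => ⟨h.2, h.1⟩⟩
  rw [intNum_eq_sum_components k D hD _ (fun _ => hA) T hT hdim' hfin.toFinset hs]
  apply Finset.sum_nonpos
  intro ξ hξ
  exact mul_nonpos_of_nonneg_of_nonpos (by positivity) (h ξ ((hs ξ).mp hξ).2)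

end comps

/-- **S17284**: the curve test on regular curves implies the curve test on all proper
one-dimensional schemes. -/
theorem curveTest_of_dim_one (X : Scheme.{u}) [X.Over (Spec (CommRingCat.of k))] (E : X.Modules)
    (hnef : ∀ (C : Scheme.{u}) [C.Over (Spec (CommRingCat.of k))]
      [IsProper (C ↘ (Spec (CommRingCat.of k)))] [IsIntegral C],
      topologicalKrullDim C = 1 → (∀ x : C, IsRegularLocalRing (C.presheaf.stalk x)) →
      ∀ (f : C ⟶ X), f ≫ (X ↘ (Spec (CommRingCat.of k))) = C ↘ (Spec (CommRingCat.of k)) →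
      ∀ (M : C.Modules), PicF.IsInvertible M →
      ∀ (q : (Scheme.Modules.pullback f).obj E ⟶ M), Epi q → 0 ≤ Curv2.deg k C M 1)
    (C : Scheme.{u}) [C.Over (Spec (CommRingCat.of k))] [IsProper (C ↘ (Spec (CommRingCat.of k)))]
    (hC : topologicalKrullDim C = 1)
    (f : C ⟶ X) (hf : f ≫ (X ↘ (Spec (CommRingCat.of k))) = C ↘ (Spec (CommRingCat.of k)))
    (M : C.Modules) (hM : PicF.IsInvertible M)
    (q : (Scheme.Modules.pullback f).obj E ⟶ M) (hq : Epi q) : 0 ≤ Curv2.deg k C M 1 := by
  haveI := Curve.isLocallyNoetherian k C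
  have hC1 : topologicalKrullDim C ≤ ((1 : ℕ) : WithBot ℕ∞) := by exact_mod_cast hC.le
  have hOc : Coh.IsCoh (unitMod C) := Groth.Agent.LD.PF.isCoh_unitMod C
  have hsupp : topologicalKrullDim (CohB1.support (unitMod C)) ≤ 1 :=
    (topologicalKrullDim_subspace_le C _).trans hC.le
  have hmain : FGA.intNum k C 1 (fun _ : Fin 1 => M) (unitMod C) ≤ 0 := by
    apply intNum_one_nonpos_of_forall_curve k 1 hC1 M hM _ _ hOc hsupp
    intro ξ hξ
    haveI := isIntegral_vI ξ
    letI : (vI ξ).subscheme.Over (Spec (CommRingCat.of k)) := overOf k (vI ξ).subschemeι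
    haveI : IsProper ((vI ξ).subscheme ↘ Spec (CommRingCat.of k)) := by
      change IsProper ((vI ξ).subschemeι ≫ (C ↘ Spec (CommRingCat.of k)))
      infer_instance
    have hdimV : topologicalKrullDim (vI ξ).subscheme = 1 := by rw [dim_vI, hξ]; rfl
    have hneg := curveDeg_eq_neg_intNum k 1 hC1 M hM (vI ξ) (le_of_eq hdimV)
    haveI : (Scheme.Modules.pullback (vI ξ).subschemeι).PreservesEpimorphisms :=
      Functor.preservesEpimorphisms_of_adjunction
        (Scheme.Modules.pullbackPushforwardAdjunction (vI ξ).subschemeι)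
    have hq' : Epi ((Groth.Agent.H5.Lim.pullbackCompIso (vI ξ).subschemeι f
        ((vI ξ).subschemeι ≫ f) rfl).inv.app E ≫
        (Scheme.Modules.pullback (vI ξ).subschemeι).map q) := by
      haveI := (Scheme.Modules.pullback (vI ξ).subschemeι).map_epi q
      exact epi_comp _ _
    have key := curveTest_of_integral k X E hnef (vI ξ).subscheme hdimV ((vI ξ).subschemeι ≫ f)
      (by rw [Category.assoc, hf]; rfl)
      ((Scheme.Modules.pullback (vI ξ).subschemeι).obj M)
      (isInvertible_pullback (vI ξ).subschemeι hM) _ hq'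
    rw [← curveDeg_eq_euler_sub k (le_of_eq hdimV) _
      (isInvertible_pullback (vI ξ).subschemeι hM)] at key
    have hcd : Pic13.curveDeg k ((vI ξ).subscheme ↘ Spec (CommRingCat.of k))
        ((Scheme.Modules.pullback (vI ξ).subschemeι).obj M) =
        Pic13.curveDeg k ((vI ξ).subschemeι ≫ (C ↘ Spec (CommRingCat.of k)))
        ((Scheme.Modules.pullback (vI ξ).subschemeι).obj M) := rfl
    rw [hcd, hneg] at key
    linarith
  rw [intNum_one_unit k 1 hC1 M hM] at hmain
  unfold Curv2.deg
  have : Curv2.euler k C (Coh.structureModule C) = Curv2.euler k C (unitMod C) := rfl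
  rw [this]
  push_cast
  linarith


/-- **S17283**: the curve test descends along surjective morphisms. -/
theorem curveTest_of_pullback_surjective (X Y : Scheme.{u}) [X.Over (Spec (CommRingCat.of k))]
    [IsProper (X ↘ (Spec (CommRingCat.of k)))] [Y.Over (Spec (CommRingCat.of k))]
    [IsProper (Y ↘ (Spec (CommRingCat.of k)))]
    (f : Y ⟶ X) (hf : f ≫ (X ↘ (Spec (CommRingCat.of k))) = Y ↘ (Spec (CommRingCat.of k)))
    [Surjective f] (E : X.Modules)
    (hnef : ∀ (C : Scheme.{u}) [C.Over (Spec (CommRingCat.of k))]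
      [IsProper (C ↘ (Spec (CommRingCat.of k)))] [IsIntegral C],
      topologicalKrullDim C = 1 → (∀ x : C, IsRegularLocalRing (C.presheaf.stalk x)) →
      ∀ (g : C ⟶ Y), g ≫ (Y ↘ (Spec (CommRingCat.of k))) = C ↘ (Spec (CommRingCat.of k)) →
      ∀ (M : C.Modules), PicF.IsInvertible M →
      ∀ (q : (Scheme.Modules.pullback g).obj ((Scheme.Modules.pullback f).obj E) ⟶ M), Epi q →
        0 ≤ Curv2.deg k C M 1)
    (C : Scheme.{u}) [C.Over (Spec (CommRingCat.of k))] [IsProper (C ↘ (Spec (CommRingCat.of k)))]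
    [IsIntegral C] (hC : topologicalKrullDim C = 1)
    (g : C ⟶ X) (hg : g ≫ (X ↘ (Spec (CommRingCat.of k))) = C ↘ (Spec (CommRingCat.of k)))
    (M : C.Modules) (hM : PicF.IsInvertible M)
    (q : (Scheme.Modules.pullback g).obj E ⟶ M) (hq : Epi q) : 0 ≤ Curv2.deg k C M 1 := by
  haveI : IsProper (f ≫ (X ↘ Spec (CommRingCat.of k))) := by rw [hf]; infer_instance
  haveI : IsProper f := IsProper.of_comp f (X ↘ Spec (CommRingCat.of k))
  let P : Scheme.{u} := pullback g f
  let p1 : P ⟶ C := pullback.fst g f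
  let p2 : P ⟶ Y := pullback.snd g f
  have hcond : p1 ≫ g = p2 ≫ f := pullback.condition
  letI : P.Over (Spec (CommRingCat.of k)) := ⟨p1 ≫ (C ↘ Spec (CommRingCat.of k))⟩
  haveI : IsProper p1 := MorphismProperty.pullback_fst (P := @IsProper) g f inferInstance
  haveI : Surjective p1 := MorphismProperty.pullback_fst (P := @Surjective) g f inferInstance
  haveI : IsProper (P ↘ Spec (CommRingCat.of k)) := by
    change IsProper (p1 ≫ (C ↘ Spec (CommRingCat.of k)))
    infer_instance
  obtain ⟨y, hy, hdim⟩ := exists_point_over (C ↘ Spec (CommRingCat.of k)) p1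
    (genericPoint C) (p1.surjective _)
  have hdimC : topologicalKrullDim ↥(closure ({genericPoint C} : Set C)) = 1 := by
    have h := dim_closure_image_genericPoint (𝟙 C)
    rw [hC] at h
    exact h
  rw [hdimC] at hdim
  haveI := isIntegral_vI y
  letI : (vI y).subscheme.Over (Spec (CommRingCat.of k)) := overOf k (vI y).subschemeι
  haveI : IsProper ((vI y).subscheme ↘ Spec (CommRingCat.of k)) := by
    change IsProper ((vI y).subschemeι ≫ (P ↘ Spec (CommRingCat.of k)))
    infer_instance
  have hdimV : topologicalKrullDim (vI y).subscheme = 1 := by rw [dim_vI, hdim]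
  let a : (vI y).subscheme ⟶ C := (vI y).subschemeι ≫ p1
  let b : (vI y).subscheme ⟶ Y := (vI y).subschemeι ≫ p2
  have hab : b ≫ f = a ≫ g := by
    simp only [a, b, Category.assoc, hcond]
  have ha : a ≫ (C ↘ Spec (CommRingCat.of k)) = (vI y).subscheme ↘ Spec (CommRingCat.of k) := by
    simp only [a, Category.assoc]; rfl
  have hb : b ≫ (Y ↘ Spec (CommRingCat.of k)) = (vI y).subscheme ↘ Spec (CommRingCat.of k) := by
    rw [← hf, ← Category.assoc, hab, Category.assoc, hg, ha]
  have haη : a (genericPoint (vI y).subscheme) = genericPoint C := by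
    rw [← hy]
    exact congrArg p1 (subschemeι_genericPoint_vI y)
  haveI : (Scheme.Modules.pullback a).PreservesEpimorphisms :=
    Functor.preservesEpimorphisms_of_adjunction (Scheme.Modules.pullbackPushforwardAdjunction a)
  have hq' : Epi ((Groth.Agent.H5.Lim.pullbackCompIso b f (a ≫ g) hab).hom.app E ≫
      (Groth.Agent.H5.Lim.pullbackCompIso a g (a ≫ g) rfl).inv.app E ≫
      (Scheme.Modules.pullback a).map q) := by
    haveI := (Scheme.Modules.pullback a).map_epi q
    haveI : Epi ((Groth.Agent.H5.Lim.pullbackCompIso a g (a ≫ g) rfl).inv.app E ≫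
      (Scheme.Modules.pullback a).map q) := epi_comp _ _
    exact epi_comp _ _
  have key := curveTest_of_integral k Y ((Scheme.Modules.pullback f).obj E) hnef (vI y).subscheme
    hdimV b hb ((Scheme.Modules.pullback a).obj M) (isInvertible_pullback a hM) _ hq'
  obtain ⟨e, he, -, hdeg⟩ := exists_deg_pullback k (le_of_eq hdimV) (le_of_eq hC) a ha haη
  rw [hdeg M hM] at key
  have he' : (0 : ℤ) < e := by exact_mod_cast he hC
  have := nonneg_of_mul_nonneg_right key he'
  unfold Curv2.deg
  have h2 : Curv2.euler k C (Coh.structureModule C) = Curv2.euler k C (unitMod C) := rfl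
  rw [h2]
  push_cast
  linarith

end Groth.Agent.H5.IntN
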