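import Mathlib
import Groth.Agent.Lib.Helper5.IntN.Num8
import Groth.Agent.Lib.Lead.FBC.EulerBC

set_option autoImplicit false
universe u
open CategoryTheory CategoryTheory.Limits AlgebraicGeometry TopologicalSpace Opposite

namespace Groth.Agent.H5.IntN

open Groth.Agent.LD Groth.Agent.LD.QC Groth.Agent.H5.Curve4 Groth.Agent.H5.DegC Groth.Agent.H5.Snap
open Groth.Agent.H5.Deg Groth.Agent.H5.HP

variable (k : Type u) [Field k] (k' : Type u) [Field k'] [Algebra k k']

section bcMap

variable {T S : Scheme.{u}} [T.Over (Spec (CommRingCat.of k))] [S.Over (Spec (CommRingCat.of k))]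
  (g : T ⟶ S) (hg : g ≫ (S ↘ Spec (CommRingCat.of k)) = T ↘ Spec (CommRingCat.of k))

/-- functoriality of the base change to a field extension. -/
noncomputable def bcMap : Curv2.bc k T k' ⟶ Curv2.bc k S k' :=
  pullback.map _ _ _ _ g (𝟙 _) (𝟙 _) (by rw [Category.comp_id, hg])
    (by rw [Category.comp_id, Category.id_comp])

@[reassoc]
lemma bcMap_fst : bcMap k k' g hg ≫ Curv2.bcFst k S k' = Curv2.bcFst k T k' ≫ g :=
  pullback.lift_fst _ _ _

@[reassoc]
lemma bcMap_snd : bcMap k k' g hg ≫ Curv2.bcSnd k S k' = Curv2.bcSnd k T k' :=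
  (pullback.lift_snd _ _ _).trans (Category.comp_id _)

lemma isPullback_bcMap :
    IsPullback (bcMap k k' g hg) (Curv2.bcFst k T k') (Curv2.bcFst k S k') g := by
  have hS : IsPullback (Curv2.bcSnd k S k') (Curv2.bcFst k S k')
      (Spec.map (CommRingCat.ofHom (algebraMap k k'))) (S ↘ Spec (CommRingCat.of k)) :=
    (IsPullback.of_hasPullback _ _).flip
  have hT : IsPullback (Curv2.bcSnd k T k') (Curv2.bcFst k T k')
      (Spec.map (CommRingCat.ofHom (algebraMap k k'))) (T ↘ Spec (CommRingCat.of k)) :=
    (IsPullback.of_hasPullback _ _).flip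
  refine IsPullback.of_right ?_ (bcMap_fst k k' g hg) hS
  rw [bcMap_snd, hg]
  exact hT

lemma bcMap_of_stable (P : MorphismProperty Scheme.{u}) [P.IsStableUnderBaseChange] (h : P g) :
    P (bcMap k k' g hg) :=
  P.of_isPullback (isPullback_bcMap k k' g hg).flip h

instance [IsClosedImmersion g] : IsClosedImmersion (bcMap k k' g hg) :=
  bcMap_of_stable k k' g hg @IsClosedImmersion inferInstance

instance [Surjective g] : Surjective (bcMap k k' g hg) :=
  bcMap_of_stable k k' g hg @Surjective inferInstance

instance [IsProper g] : IsProper (bcMap k k' g hg) :=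
  bcMap_of_stable k k' g hg @IsProper inferInstance

end bcMap

section basic

variable (T : Scheme.{u}) [T.Over (Spec (CommRingCat.of k))]

instance isAffineHom_bcFst : IsAffineHom (Curv2.bcFst k T k') :=
  MorphismProperty.pullback_fst (P := @IsAffineHom) _ _ inferInstance

instance isProper_bcSnd [IsProper (T ↘ Spec (CommRingCat.of k))] :
    IsProper (Curv2.bcSnd k T k') :=
  MorphismProperty.pullback_snd (P := @IsProper) _ _ inferInstance

end basic

end Groth.Agent.H5.IntN
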