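import Mathlib
import Groth.Agent.Lib.Helper5.IntN.Num6

set_option autoImplicit false
universe u
open CategoryTheory CategoryTheory.Limits AlgebraicGeometry TopologicalSpace Opposite

namespace Groth.Agent.H5.IntN

open Groth.Agent.LD Groth.Agent.LD.QC Groth.Agent.H5.Curve4 Groth.Agent.H5.DegC Groth.Agent.H5.Snap
open Groth.Agent.H5.Deg Groth.Agent.H5.HP

/-- the family with `a` on the slots in `s` and `b` on the others. -/
def fam {X : Scheme.{u}} {d : ℕ} (a b : X.Modules) (s : Finset (Fin d)) : Fin d → X.Modules :=
  fun i => if i ∈ s then a else b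

lemma fam_prop {X : Scheme.{u}} {d : ℕ} {a b : X.Modules} (P : X.Modules → Prop) (ha : P a)
    (hb : P b) (s : Finset (Fin d)) (i : Fin d) : P (fam a b s i) := by
  unfold fam
  split_ifs
  · exact ha
  · exact hb

section perm

variable (k : Type u) [Field k] {X : Scheme.{u}} [X.Over (Spec (CommRingCat.of k))]
  [IsLocallyNoetherian X]

/-- the intersection number of a two-valued family only depends on the number of slots of each
kind. -/
theorem intNum_fam_card (D : ℕ) {d : ℕ} (a b : X.Modules) (ha : Coh.IsCoh a) (hb : Coh.IsCoh b)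
    (s s' : Finset (Fin d)) (h : s.card = s'.card) (F : X.Modules) :
    FGA.intNum k X D (fam a b s) F = FGA.intNum k X D (fam a b s') F := by
  classical
  let e : {x // x ∈ s'} ≃ {x // x ∈ s} := Finset.equivOfCardEq h.symm
  let σ : Equiv.Perm (Fin d) := e.extendSubtype
  have hσ : ∀ i, σ i ∈ s ↔ i ∈ s' := by
    intro i
    constructor
    · intro hi
      by_contra hni
      exact (Equiv.extendSubtype_not_mem e i hni) hi
    · intro hi
      exact Equiv.extendSubtype_mem e i hi
  have hfam : fam a b s ∘ σ = fam a b s' := by
    funext i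
    unfold fam
    simp only [Function.comp_apply]
    by_cases hi : i ∈ s'
    · rw [if_pos hi, if_pos ((hσ i).mpr hi)]
    · rw [if_neg hi, if_neg (fun h => hi ((hσ i).mp h))]
  rw [← hfam, intNum_perm k D _ (fun i => fam_prop Coh.IsCoh ha hb s i) σ F]

end perm


section slot

variable (k : Type u) [Field k] {X : Scheme.{u}} [X.Over (Spec (CommRingCat.of k))]
  [IsProper (X ↘ Spec (CommRingCat.of k))]

omit [X.Over (Spec (CommRingCat.of k))] [IsProper (X ↘ Spec (CommRingCat.of k))] in
/-- moving the slot `i₀` to the front. -/
lemma update_comp_swap {r : ℕ} (M : Fin (r + 1) → X.Modules) (i₀ : Fin (r + 1)) (A : X.Modules) :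
    Function.update M i₀ A ∘ (Equiv.swap 0 i₀) =
      (Fin.cons A (Fin.tail (M ∘ (Equiv.swap 0 i₀))) : Fin (r + 1) → X.Modules) := by
  have hσ0 : (Equiv.swap 0 i₀) 0 = i₀ := Equiv.swap_apply_left _ _
  funext j
  refine Fin.cases ?_ (fun j' => ?_) j
  · rw [Fin.cons_zero, Function.comp_apply, hσ0, Function.update_self]
  · rw [Fin.cons_succ, Function.comp_apply, Function.update_of_ne]
    · rfl
    · rw [← hσ0]
      exact fun h => (Fin.succ_ne_zero j') ((Equiv.swap 0 i₀).injective h)

/-- **multilinearity in one slot**, for a product of powers. -/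
theorem intNum_update_tensorPows (D : ℕ) (hD : topologicalKrullDim X ≤ D) {r : ℕ}
    (M : Fin (r + 1) → X.Modules) (hM : ∀ i, PicF.IsInvertible (M i)) (i₀ : Fin (r + 1))
    (a b : X.Modules) (ha : PicF.IsInvertible a) (hb : PicF.IsInvertible b) (q p : ℕ)
    (F : X.Modules) (hF : Coh.IsCoh F)
    (hdim : topologicalKrullDim (CohB1.support F) ≤ ((r + 1 : ℕ) : WithBot ℕ∞)) :
    FGA.intNum k X D
        (Function.update M i₀ (CohB1.tensorMod (CohB1.tensorPow a q) (CohB1.tensorPow b p))) F =
      (q : ℤ) * FGA.intNum k X D (Function.update M i₀ a) F +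
        (p : ℤ) * FGA.intNum k X D (Function.update M i₀ b) F := by
  haveI := Curve.isLocallyNoetherian k X
  have haq := isInvertible_tensorPow ha q
  have hbp := isInvertible_tensorPow hb p
  have hc := isInvertible_tensorMod haq hbp
  have hU : ∀ (A : X.Modules), PicF.IsInvertible A → ∀ i, Coh.IsCoh (Function.update M i₀ A i) := by
    intro A hA i
    by_cases hi : i = i₀
    · subst hi; rw [Function.update_self]; exact isCoh_of_isInvertible hA
    · rw [Function.update_of_ne hi]; exact isCoh_of_isInvertible (hM i)
  have hT : ∀ j, PicF.IsInvertible (Fin.tail (M ∘ (Equiv.swap 0 i₀)) j) := fun j => hM _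
  rw [← intNum_perm k D _ (hU _ hc) (Equiv.swap 0 i₀) F,
    ← intNum_perm k D _ (hU _ ha) (Equiv.swap 0 i₀) F,
    ← intNum_perm k D _ (hU _ hb) (Equiv.swap 0 i₀) F,
    update_comp_swap, update_comp_swap, update_comp_swap,
    intNum_cons_tensor k D hD _ hT _ _ haq hbp F hF hdim,
    intNum_cons_tensorPow k D hD _ hT a ha F hF hdim q,
    intNum_cons_tensorPow k D hD _ hT b hb F hF hdim p]

/-- the mixed family: on `t`, `a` on `s` and `b` elsewhere; outside `t`, the family `M`. -/
def mix {d : ℕ} (M : Fin d → X.Modules) (a b : X.Modules) (t s : Finset (Fin d)) :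
    Fin d → X.Modules :=
  fun i => if i ∈ t then (if i ∈ s then a else b) else M i

/-- **multilinear expansion** over a set `t` of slots containing `a^q ⊗ b^p`. -/
theorem intNum_expand (D : ℕ) (hD : topologicalKrullDim X ≤ D) {r : ℕ}
    (a b : X.Modules) (ha : PicF.IsInvertible a) (hb : PicF.IsInvertible b) (q p : ℕ)
    (F : X.Modules) (hF : Coh.IsCoh F)
    (hdim : topologicalKrullDim (CohB1.support F) ≤ ((r + 1 : ℕ) : WithBot ℕ∞))
    (t : Finset (Fin (r + 1))) :
    ∀ (M : Fin (r + 1) → X.Modules), (∀ i, PicF.IsInvertible (M i)) →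
    FGA.intNum k X D (fun i => if i ∈ t then
        CohB1.tensorMod (CohB1.tensorPow a q) (CohB1.tensorPow b p) else M i) F =
      ∑ s ∈ t.powerset, (q : ℤ) ^ s.card * (p : ℤ) ^ (t.card - s.card) *
        FGA.intNum k X D (mix M a b t s) F := by
  classical
  have hc := isInvertible_tensorMod (isInvertible_tensorPow ha q) (isInvertible_tensorPow hb p)
  induction t using Finset.induction_on with
  | empty =>
    intro M hM
    have hmix : mix M a b ∅ ∅ = M := by
      funext i
      unfold mix
      simp
    simp [hmix]
  | insert i₀ t hi₀ ih =>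
    intro M hM
    have hG : ∀ i, PicF.IsInvertible ((fun i => if i ∈ t then
        CohB1.tensorMod (CohB1.tensorPow a q) (CohB1.tensorPow b p) else M i) i) := by
      intro i
      simp only
      split_ifs
      · exact hc
      · exact hM i
    have hfam : (fun i => if i ∈ insert i₀ t then
        CohB1.tensorMod (CohB1.tensorPow a q) (CohB1.tensorPow b p) else M i) =
        Function.update (fun i => if i ∈ t then
          CohB1.tensorMod (CohB1.tensorPow a q) (CohB1.tensorPow b p) else M i) i₀
          (CohB1.tensorMod (CohB1.tensorPow a q) (CohB1.tensorPow b p)) := by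
      funext i
      by_cases hi : i = i₀
      · subst hi; simp
      · rw [Function.update_of_ne hi]
        simp [Finset.mem_insert, hi]
    have hupd : ∀ A : X.Modules, Function.update (fun i => if i ∈ t then
        CohB1.tensorMod (CohB1.tensorPow a q) (CohB1.tensorPow b p) else M i) i₀ A =
        (fun i => if i ∈ t then
          CohB1.tensorMod (CohB1.tensorPow a q) (CohB1.tensorPow b p) else
            Function.update M i₀ A i) := by
      intro A
      funext i
      by_cases hi : i = i₀
      · subst hi; simp [hi₀]
      · rw [Function.update_of_ne hi, Function.update_of_ne hi]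
    have hMu : ∀ A : X.Modules, PicF.IsInvertible A →
        ∀ i, PicF.IsInvertible (Function.update M i₀ A i) := by
      intro A hA i
      by_cases hi : i = i₀
      · subst hi; rw [Function.update_self]; exact hA
      · rw [Function.update_of_ne hi]; exact hM i
    rw [hfam, intNum_update_tensorPows k D hD _ hG i₀ a b ha hb q p F hF hdim, hupd a, hupd b,
      ih _ (hMu a ha), ih _ (hMu b hb), Finset.sum_powerset_insert hi₀, Finset.mul_sum,
      Finset.mul_sum, add_comm]
    congr 1
    · apply Finset.sum_congr rfl
      intro s hs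
      have hst : s ⊆ t := Finset.mem_powerset.mp hs
      have hcard : s.card ≤ t.card := Finset.card_le_card hst
      have hi₀s : i₀ ∉ s := fun h => hi₀ (hst h)
      have hmix : mix (Function.update M i₀ b) a b t s = mix M a b (insert i₀ t) s := by
        funext i
        unfold mix
        by_cases hi : i = i₀
        · subst hi; simp [hi₀, hi₀s]
        · simp [Finset.mem_insert, hi, Function.update_of_ne hi]
      rw [hmix, Finset.card_insert_of_notMem hi₀,
        show t.card + 1 - s.card = (t.card - s.card) + 1 by omega, pow_succ]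
      ring
    · apply Finset.sum_congr rfl
      intro s hs
      have hst : s ⊆ t := Finset.mem_powerset.mp hs
      have hi₀s : i₀ ∉ s := fun h => hi₀ (hst h)
      have hmix : mix (Function.update M i₀ a) a b t s =
          mix M a b (insert i₀ t) (insert i₀ s) := by
        funext i
        unfold mix
        by_cases hi : i = i₀
        · subst hi; simp [hi₀]
        · simp [Finset.mem_insert, hi, Function.update_of_ne hi]
      rw [hmix, Finset.card_insert_of_notMem hi₀, Finset.card_insert_of_notMem hi₀s,
        Nat.succ_sub_succ, pow_succ]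
      ring

end slot

end Groth.Agent.H5.IntN
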