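import Mathlib
import Groth.Agent.Lib.Helper5.IntN.Klei1

set_option autoImplicit false
universe u
open CategoryTheory CategoryTheory.Limits AlgebraicGeometry TopologicalSpace Opposite
open scoped fwdDiff

namespace Groth.Agent.H5.IntN

open Groth.Agent.LD Groth.Agent.LD.QC Groth.Agent.H5.Curve4 Groth.Agent.H5.DegC Groth.Agent.H5.Snap
open Groth.Agent.H5.Deg Groth.Agent.H5.HP

variable (k : Type u) [Field k]

section nakai

variable {X : Scheme.{u}} [X.Over (Spec (CommRingCat.of k))]
  [IsProper (X ↘ Spec (CommRingCat.of k))]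

/-- **the Nakai–Moishezon criterion in terms of intersection symbols.** -/
theorem nakai_intNum (D : ℕ) (hD : topologicalKrullDim X ≤ D) (L Lb : X.Modules)
    (hL : PicF.IsInvertible L) (eb : CohB1.tensorMod L Lb ≅ Coh.structureModule X)
    (hpos : ∀ Z : X.IdealSheafData, IsIntegral Z.subscheme → ∀ d : ℕ, 0 < d →
      topologicalKrullDim (Z.support : Set X) = d →
        0 < FGA.intNum k X D (fun _ : Fin d => Lb) (ClSub.quotMod Z)) :
    CohB1.IsAmple L := by
  haveI : IsNoetherian X := Curve2.isNoetherian_of_proper k X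
  have hLb : PicF.IsInvertible Lb := QC.isInvertible_of_tensor_iso hL eb
  apply isAmple_of_forall_integral_section k L hL
  · intro C hC hCdim
    have hQ : Coh.IsCoh (ClSub.quotMod C) := isCoh_quotMod C
    rw [euler_tensor_sub k D hD L Lb hL ⟨eb⟩ _ hQ (by rw [support_quotMod, hCdim])]
    exact hpos C hC 1 one_pos (by rw [hCdim]; rfl)
  · intro Z hZ H1
    haveI := hZ
    letI : Z.subscheme.Over (Spec (CommRingCat.of k)) := overOf k Z.subschemeι
    haveI : IsProper (Z.subscheme ↘ Spec (CommRingCat.of k)) := by
      show IsProper (Z.subschemeι ≫ (X ↘ Spec (CommRingCat.of k)))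
      infer_instance
    have hM := isInvertible_pullback Z.subschemeι hL
    have hdimZ := dim_subscheme_eq Z
    obtain ⟨d, hd⟩ := exists_nat_dim_eq k (Z := Z.subscheme)
    rcases Nat.eq_zero_or_pos d with rfl | hdpos
    · obtain ⟨s, hs⟩ := exists_section_of_dim_zero k (le_of_eq hd) _ hM
      exact ⟨0, s, hs⟩
    · have hDZ : topologicalKrullDim Z.subscheme ≤ D :=
        (Z.subschemeι.isClosedEmbedding.isEmbedding.isInducing.topologicalKrullDim_le).trans hD
      have e₂ : CohB1.tensorMod ((Scheme.Modules.pullback Z.subschemeι).obj L)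
          ((Scheme.Modules.pullback Z.subschemeι).obj Lb) ≅ Coh.structureModule Z.subscheme :=
        (pbTensorIso Z.subschemeι _ _ hL hLb).symm ≪≫
          (Scheme.Modules.pullback Z.subschemeι).mapIso eb ≪≫ pbUnitIso Z.subschemeι
      have hpos' : 0 < (fwdDiff (1 : ℕ))^[d] (fun m => Curv2.euler k Z.subscheme
          (CohB1.tensorPow ((Scheme.Modules.pullback Z.subschemeι).obj L) m)) 0 := by
        rw [fwdDiff_euler_tensorPow_eq_intNum k D hDZ d (le_of_eq hd) _ _ hM e₂,
          ← intNum_quotMod_eq k D hD (fun _ : Fin d => Lb) (fun _ => hLb) Z]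
        exact hpos Z hZ d hdpos (by rw [← hdimZ, hd])
      exact exists_section_of_pos k _ hM H1 d hdpos
        (fun j hj => fwdDiff_euler_tensorPow_eq_zero k d (le_of_eq hd) _ hM j hj) hpos'

end nakai

/-- `L` is numerically effective: twisting by `L` does not decrease the Euler characteristic of
coherent modules with support of dimension `≤ 1`. -/
def NefMod (X : Scheme.{u}) [X.Over (Spec (CommRingCat.of k))] (L : X.Modules) : Prop :=
  ∀ T : X.Modules, Coh.IsCoh T → topologicalKrullDim (CohB1.support T) ≤ 1 →
    Curv2.euler k X T ≤ Curv2.euler k X (CohB1.tensorMod L T)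

section nef

variable {X Z : Scheme.{u}} (i : Z ⟶ X) [IsClosedImmersion i]
  [X.Over (Spec (CommRingCat.of k))] [IsProper (X ↘ Spec (CommRingCat.of k))]

/-- nefness restricts to closed subschemes. -/
theorem NefMod.pullback {N : X.Modules} (hN : PicF.IsInvertible N) (h : NefMod k X N) :
    @NefMod k _ Z (overOf k i) ((Scheme.Modules.pullback i).obj N) := by
  intro T hT hdim
  have hlf : FlatMod.IsFinLocFree N := isFinLocFree_of_isInvertible N hN
  rw [← euler_tensor_push k i N hlf T, ← euler_push k i T]
  exact h _ (isCoh_pushforward_closedImmersion i T hT)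
    ((dim_support_pushforward_le i T).trans hdim)

/-- the one-slot symbol of (the inverse of) a nef module is nonnegative. -/
theorem NefMod.intNum_nonneg {L L' : X.Modules} (hL : PicF.IsInvertible L) (h : NefMod k X L)
    (e : CohB1.tensorMod L L' ≅ Coh.structureModule X) (D : ℕ) (hD : topologicalKrullDim X ≤ D)
    (T : X.Modules) (hT : Coh.IsCoh T) (hdim : topologicalKrullDim (CohB1.support T) ≤ 1) :
    0 ≤ FGA.intNum k X D (fun _ : Fin 1 => L') T := by
  haveI := (isCoh_of_isInvertible hL).1
  haveI := hT.1
  rw [← euler_tensor_sub k D hD L L' hL ⟨e⟩ T hT hdim,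
    Curve.euler_iso k X (tensorCommAll T L)]
  have := h T hT hdim
  omega

end nef

end Groth.Agent.H5.IntN
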