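import Mathlib
import Groth.Agent.Lib.Helper5.IntN.Klei2

set_option autoImplicit false
universe u
open CategoryTheory CategoryTheory.Limits AlgebraicGeometry TopologicalSpace Opposite

namespace Groth.Agent.H5.IntN

open Groth.Agent.LD Groth.Agent.LD.QC Groth.Agent.H5.Curve4 Groth.Agent.H5.DegC Groth.Agent.H5.Snap
open Groth.Agent.H5.Deg Groth.Agent.H5.HP

variable (k : Type u) [Field k]

/-- **Kleiman's property** in dimension `e`: mixed intersection numbers of a nef module and an
ample module are nonnegative. -/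
def KProp (e : ℕ) : Prop :=
  ∀ (X : Scheme.{u}) [X.Over (Spec (CommRingCat.of k))]
    [IsProper (X ↘ Spec (CommRingCat.of k))] (D : ℕ), topologicalKrullDim X ≤ D →
    ∀ (H H' L L' : X.Modules), CohB1.IsAmple H →
      Nonempty (CohB1.tensorMod H H' ≅ Coh.structureModule X) → PicF.IsInvertible L →
      Nonempty (CohB1.tensorMod L L' ≅ Coh.structureModule X) → NefMod k X L →
      ∀ (s : Finset (Fin e)) (F : X.Modules), Coh.IsCoh F →
        topologicalKrullDim (CohB1.support F) ≤ ((e : ℕ) : WithBot ℕ∞) →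
        0 ≤ FGA.intNum k X D (fam L' H' s) F

theorem kProp_zero : KProp k 0 := by
  intro X _ _ D hD H H' L L' hH eH hL eL hnef s F hF hdim
  exact intNum_nonneg_of_isAmple k X D hD (fun i : Fin 0 => i.elim0) (fam L' H' s)
    (fun i => i.elim0) (fun i => i.elim0) F hF hdim

omit k in
lemma fam_pullback {X Z : Scheme.{u}} (i : Z ⟶ X) {d : ℕ} (a b : X.Modules)
    (s : Finset (Fin d)) :
    (fun j => (Scheme.Modules.pullback i).obj (fam a b s j)) =
      fam ((Scheme.Modules.pullback i).obj a) ((Scheme.Modules.pullback i).obj b) s := by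
  funext j
  unfold fam
  split_ifs <;> rfl

/-- **Step A**: on an integral scheme of dimension `e + 1`, mixed numbers with at least one ample
slot are nonnegative, by cutting with a section of a power of the ample module. -/
theorem kProp_stepA (e : ℕ) (IH : KProp k e) (W : Scheme.{u}) [W.Over (Spec (CommRingCat.of k))]
    [IsProper (W ↘ Spec (CommRingCat.of k))] [IsIntegral W] (D : ℕ)
    (hDW : topologicalKrullDim W ≤ D)
    (hdimW : topologicalKrullDim W = ((e + 1 : ℕ) : WithBot ℕ∞))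
    (N N' L L' : W.Modules) (hN : CohB1.IsAmple N)
    (eN : Nonempty (CohB1.tensorMod N N' ≅ Coh.structureModule W)) (hL : PicF.IsInvertible L)
    (eL : Nonempty (CohB1.tensorMod L L' ≅ Coh.structureModule W)) (hnef : NefMod k W L)
    (s : Finset (Fin (e + 1))) (i₀ : Fin (e + 1)) (hi₀ : i₀ ∉ s) :
    0 ≤ FGA.intNum k W D (fam L' N' s) (unitMod W) := by
  classical
  haveI : IsNoetherian W := Curve2.isNoetherian_of_proper k W
  have hN' : PicF.IsInvertible N' := QC.isInvertible_of_tensor_iso hN.1 eN.some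
  have hL' : PicF.IsInvertible L' := QC.isInvertible_of_tensor_iso hL eL.some
  have hfc : ∀ i, Coh.IsCoh (fam L' N' s i) := fun i =>
    fam_prop Coh.IsCoh (isCoh_of_isInvertible hL') (isCoh_of_isInvertible hN') s i
  -- move the slot `i₀` to the front
  obtain ⟨s', hs'⟩ : ∃ s' : Finset (Fin e), s' =
    Finset.univ.filter (fun j : Fin e => (Equiv.swap 0 i₀) j.succ ∈ s) := ⟨_, rfl⟩
  have hperm : fam L' N' s ∘ (Equiv.swap 0 i₀) =
      (Fin.cons N' (fam L' N' s') : Fin (e + 1) → W.Modules) := by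
    funext j
    refine Fin.cases ?_ (fun j' => ?_) j
    · rw [Fin.cons_zero, Function.comp_apply, Equiv.swap_apply_left]
      unfold fam
      rw [if_neg hi₀]
    · rw [Fin.cons_succ, Function.comp_apply]
      unfold fam
      rw [hs']
      simp
  rw [← intNum_perm k D _ hfc (Equiv.swap 0 i₀), hperm]
  -- a section of a positive power of `N`
  obtain ⟨m₀, hm₀⟩ := exists_section_tensor_tensorPow_ne_zero k N hN (unitMod W)
    (isInvertible_unit _)
  obtain ⟨σ, hσ⟩ := hm₀ (m₀ + 1) (Nat.le_succ _)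
  haveI := (isCoh_of_isInvertible (isInvertible_tensorPow hN.1 (m₀ + 1))).1
  obtain ⟨τ, hτ⟩ : ∃ τ : unitMod W ⟶ CohB1.tensorPow N (m₀ + 1), τ ≠ 0 := by
    refine ⟨σ ≫ (unitorL' _).hom, fun h => hσ ?_⟩
    rw [← cancel_mono (unitorL' (CohB1.tensorPow N (m₀ + 1))).hom, h, zero_comp]
  have hT : ∀ j, PicF.IsInvertible (fam L' N' s' j) := fun j =>
    fam_prop PicF.IsInvertible hL' hN' s' j
  obtain ⟨hQc, hsupp, heq⟩ := intNum_cons_eq_cokernel k D hDW (le_of_eq hdimW)
    (fam L' N' s') hT N N' hN.1 eN (m₀ + 1) τ hτ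
  have hQdim : topologicalKrullDim (CohB1.support (cokernel (twistBy (unitMod _) τ))) ≤
      ((e : ℕ) : WithBot ℕ∞) := by
    apply dim_le_of_ne_univ hdimW _ (isClosed_support_of_isCoh hQc)
    intro heq'
    have h1 : genericPoint W ∈
        CohB1.support (cokernel (twistBy (unitMod _) τ)) := by rw [heq']; trivial
    rw [hsupp] at h1
    exact h1 (Curve2.genericPoint_mem_genLocus (isInvertible_tensorPow hN.1 _) τ hτ)
  have h0 := IH W D hDW N N' L L' hN eN hL eL hnef s' _ hQc hQdim
  rw [← heq] at h0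
  have hm : (0 : ℤ) < ((m₀ + 1 : ℕ) : ℤ) := by exact_mod_cast Nat.succ_pos m₀
  exact nonneg_of_mul_nonneg_right h0 hm

/-- reduction of Kleiman's property to integral schemes. -/
theorem kProp_of_integral (e : ℕ)
    (hint : ∀ (W : Scheme.{u}) [W.Over (Spec (CommRingCat.of k))]
      [IsProper (W ↘ Spec (CommRingCat.of k))] [IsIntegral W] (D : ℕ),
      topologicalKrullDim W ≤ D → topologicalKrullDim W = ((e + 1 : ℕ) : WithBot ℕ∞) →
      ∀ (H H' L L' : W.Modules), CohB1.IsAmple H →
        Nonempty (CohB1.tensorMod H H' ≅ Coh.structureModule W) → PicF.IsInvertible L →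
        Nonempty (CohB1.tensorMod L L' ≅ Coh.structureModule W) → NefMod k W L →
        ∀ (s : Finset (Fin (e + 1))), 0 ≤ FGA.intNum k W D (fam L' H' s) (unitMod W)) :
    KProp k (e + 1) := by
  intro X _ _ D hD H H' L L' hH eH hL eL hnef s F hF hdim
  classical
  haveI : IsNoetherian X := Curve2.isNoetherian_of_proper k X
  have hH' : PicF.IsInvertible H' := QC.isInvertible_of_tensor_iso hH.1 eH.some
  have hL' : PicF.IsInvertible L' := QC.isInvertible_of_tensor_iso hL eL.some
  have hfi : ∀ i, PicF.IsInvertible (fam L' H' s i) := fun i =>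
    fam_prop PicF.IsInvertible hL' hH' s i
  obtain ⟨hfin, -, -⟩ := good_of_isCoh k (e + 1) (e + 1) (fam L' H' s) hfi F hF hdim
  have hs : ∀ ξ : X, ξ ∈ hfin.toFinset ↔
      ξ ∈ CohB1.support F ∧
        topologicalKrullDim ↥(closure ({ξ} : Set X)) = ((e + 1 : ℕ) : WithBot ℕ∞) := by
    intro ξ
    rw [Set.Finite.mem_toFinset]
    exact ⟨fun h => ⟨h.2, h.1⟩, fun h => ⟨h.2, h.1⟩⟩
  rw [intNum_eq_sum_components k D hD _ hfi F hF hdim hfin.toFinset hs]
  apply Finset.sum_nonneg
  intro ξ hξ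
  apply mul_nonneg (by exact_mod_cast Nat.zero_le _)
  change 0 ≤ FGA.intNum k X D (fam L' H' s) (ClSub.quotMod (vI ξ))
  rw [intNum_quotMod_eq k D hD _ hfi]
  letI : (vI ξ).subscheme.Over (Spec (CommRingCat.of k)) := overOf k (vI ξ).subschemeι
  haveI : IsProper ((vI ξ).subscheme ↘ Spec (CommRingCat.of k)) := by
    change IsProper ((vI ξ).subschemeι ≫ (X ↘ Spec (CommRingCat.of k)))
    infer_instance
  haveI := isIntegral_vI ξ
  have hDW : topologicalKrullDim (vI ξ).subscheme ≤ D :=
    ((vI ξ).subschemeι.isClosedEmbedding.isEmbedding.isInducing.topologicalKrullDim_le).trans hD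
  have hdimW : topologicalKrullDim (vI ξ).subscheme = ((e + 1 : ℕ) : WithBot ℕ∞) := by
    rw [dim_vI]
    exact ((hs ξ).mp hξ).2
  rw [fam_pullback]
  exact hint (vI ξ).subscheme D hDW hdimW _ _ _ _
    (PN.AmD.isAmple_pullback_of_isAffineHom (vI ξ).subschemeι H hH)
    ⟨(pbTensorIso (vI ξ).subschemeι _ _ hH.1 hH').symm ≪≫
      (Scheme.Modules.pullback (vI ξ).subschemeι).mapIso eH.some ≪≫ pbUnitIso _⟩
    (isInvertible_pullback (vI ξ).subschemeι hL)
    ⟨(pbTensorIso (vI ξ).subschemeι _ _ hL hL').symm ≪≫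
      (Scheme.Modules.pullback (vI ξ).subschemeι).mapIso eL.some ≪≫ pbUnitIso _⟩
    (NefMod.pullback k (vI ξ).subschemeι hL hnef) s

end Groth.Agent.H5.IntN
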