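import Mathlib

set_option autoImplicit false
open Finset

namespace Groth.Agent.H5.IntN

/-- Pascal decomposition of the binomial polynomial. -/
lemma kleiman_poly_identity (d : ℕ) (a : ℕ → ℝ) (t : ℝ) :
    ∑ j ∈ range (d + 2), ((d + 1).choose j : ℝ) * a j * t ^ (d + 1 - j) =
      ∑ j ∈ range (d + 1), (d.choose j : ℝ) * a (j + 1) * t ^ (d - j) +
        t * ∑ j ∈ range (d + 1), (d.choose j : ℝ) * a j * t ^ (d - j) := by
  rw [Finset.sum_range_succ' _ (d + 1), Finset.mul_sum]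
  have h1 : ∑ j ∈ range (d + 1), ((d + 1).choose (j + 1) : ℝ) * a (j + 1) * t ^ (d + 1 - (j + 1)) =
      ∑ j ∈ range (d + 1), (d.choose j : ℝ) * a (j + 1) * t ^ (d - j) +
        ∑ j ∈ range (d + 1), (d.choose (j + 1) : ℝ) * a (j + 1) * t ^ (d - j) := by
    rw [← Finset.sum_add_distrib]
    apply Finset.sum_congr rfl
    intro j _
    rw [Nat.choose_succ_succ, Nat.cast_add, Nat.succ_sub_succ]
    ring
  rw [h1]
  have h2 : ∑ j ∈ range (d + 1), t * ((d.choose j : ℝ) * a j * t ^ (d - j)) =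
      ∑ j ∈ range (d + 1), (d.choose (j + 1) : ℝ) * a (j + 1) * t ^ (d - j) +
        ((d + 1).choose 0 : ℝ) * a 0 * t ^ (d + 1 - 0) := by
    rw [Finset.sum_range_succ' _ d, Finset.sum_range_succ _ d]
    have h3 : (d.choose (d + 1) : ℝ) = 0 := by
      rw [Nat.choose_succ_self]; simp
    rw [h3]
    simp only [Nat.choose_zero_right, Nat.cast_one, one_mul, Nat.sub_zero, zero_mul, add_zero]
    congr 1
    · apply Finset.sum_congr rfl
      intro j hj
      have hj' : j < d := Finset.mem_range.mp hj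
      have : d - j = (d - (j + 1)) + 1 := by omega
      rw [this, pow_succ]
      ring
    · rw [pow_succ]; ring
  rw [h2]
  ring


/-- **the numerical core of Kleiman's theorem.** -/
theorem kleiman_numeric (d : ℕ) (a : ℕ → ℤ) (h0 : 0 < a 0) (hpos : ∀ j, j ≤ d → 0 ≤ a j)
    (G : ∀ p q : ℕ, 0 < p → 0 < q →
      0 < ∑ j ∈ range (d + 2), ((d + 1).choose j : ℤ) * a j * (q : ℤ) ^ j * (p : ℤ) ^ (d + 1 - j) →
      0 ≤ ∑ j ∈ range (d + 1), (d.choose j : ℤ) * a (j + 1) * (q : ℤ) ^ j * (p : ℤ) ^ (d - j)) :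
    0 ≤ a (d + 1) := by
  by_contra hneg
  push Not at hneg
  obtain ⟨A, hA⟩ : ∃ A : ℕ → ℝ, ∀ j, A j = (a j : ℝ) := ⟨fun j => (a j : ℝ), fun _ => rfl⟩
  have hA0 : 0 < A 0 := by rw [hA]; exact_mod_cast h0
  have hApos : ∀ j, j ≤ d → 0 ≤ A j := fun j hj => by rw [hA]; exact_mod_cast hpos j hj
  have hAneg : A (d + 1) < 0 := by rw [hA]; exact_mod_cast hneg
  obtain ⟨P, hP⟩ : ∃ P : ℝ → ℝ, ∀ t, P t =
    ∑ j ∈ range (d + 2), ((d + 1).choose j : ℝ) * A j * t ^ (d + 1 - j) := ⟨_, fun _ => rfl⟩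
  obtain ⟨Q, hQ⟩ : ∃ Q : ℝ → ℝ, ∀ t, Q t =
    ∑ j ∈ range (d + 1), (d.choose j : ℝ) * A (j + 1) * t ^ (d - j) := ⟨_, fun _ => rfl⟩
  obtain ⟨R, hR⟩ : ∃ R : ℝ → ℝ, ∀ t, R t =
    ∑ j ∈ range (d + 1), (d.choose j : ℝ) * A j * t ^ (d - j) := ⟨_, fun _ => rfl⟩
  have hid : ∀ t, P t = Q t + t * R t := by
    intro t
    rw [hP, hQ, hR]
    exact kleiman_poly_identity d A t
  have hPc : Continuous P := by rw [funext hP]; fun_prop
  have hQc : Continuous Q := by rw [funext hQ]; fun_prop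
  -- `R t ≥ A 0 t ^ d`
  have hRge : ∀ t, 0 ≤ t → A 0 * t ^ d ≤ R t := by
    intro t ht
    rw [hR]
    have := Finset.single_le_sum (f := fun j => (d.choose j : ℝ) * A j * t ^ (d - j))
      (s := range (d + 1)) (fun j hj => by
        have hj' : j ≤ d := Nat.lt_succ_iff.mp (Finset.mem_range.mp hj)
        have := hApos j hj'
        positivity) (Finset.mem_range.mpr (Nat.succ_pos d))
    simpa using this
  -- `Q 0 = A (d + 1)`
  have hQ0 : Q 0 = A (d + 1) := by
    rw [hQ]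
    rw [Finset.sum_range_succ]
    have : ∑ j ∈ range d, (d.choose j : ℝ) * A (j + 1) * (0 : ℝ) ^ (d - j) = 0 := by
      apply Finset.sum_eq_zero
      intro j hj
      have hj' : j < d := Finset.mem_range.mp hj
      rw [zero_pow (by omega)]
      ring
    rw [this]
    simp
  have hP0 : P 0 = A (d + 1) := by rw [hid, hQ0]; ring
  -- lower bound for `P`
  have hPge : ∀ t, 0 ≤ t → A 0 * t ^ (d + 1) + Q t ≤ P t := by
    intro t ht
    rw [hid]
    have := mul_le_mul_of_nonneg_left (hRge t ht) ht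
    have h2 : t * (A 0 * t ^ d) = A 0 * t ^ (d + 1) := by ring
    linarith
  -- the set of bad `t`
  obtain ⟨T, hT⟩ : ∃ T : Set ℝ, T = {t | 0 ≤ t ∧ P t ≤ 0} := ⟨_, rfl⟩
  have hTne : T.Nonempty := ⟨0, by rw [hT]; exact ⟨le_rfl, by rw [hP0]; exact hAneg.le⟩⟩
  have hTcl : IsClosed T := by
    rw [hT]
    exact (isClosed_Ici.preimage continuous_id).inter (isClosed_Iic.preimage hPc)
  -- `Q` is bounded below on `[0, ∞)`: `Q t ≥ A (d+1)`
  have hQge : ∀ t, 0 ≤ t → A (d + 1) ≤ Q t := by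
    intro t ht
    rw [hQ]
    rw [Finset.sum_range_succ]
    have : 0 ≤ ∑ j ∈ range d, (d.choose j : ℝ) * A (j + 1) * t ^ (d - j) := by
      apply Finset.sum_nonneg
      intro j hj
      have hj' : j < d := Finset.mem_range.mp hj
      have := hApos (j + 1) hj'
      positivity
    simp
    linarith
  have hTbdd : BddAbove T := by
    refine ⟨max 1 (-A (d + 1) / A 0 + 1), ?_⟩
    intro t ht
    rw [hT] at ht
    by_contra hlt
    push Not at hlt
    have h1 : 1 < t := lt_of_le_of_lt (le_max_left _ _) hlt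
    have h2 : -A (d + 1) / A 0 + 1 < t := lt_of_le_of_lt (le_max_right _ _) hlt
    have h3 : -A (d + 1) < A 0 * t := by
      have : -A (d + 1) / A 0 < t := by linarith
      rw [div_lt_iff₀ hA0] at this
      linarith
    have h4 : t ≤ t ^ (d + 1) := by
      calc t = t ^ 1 := (pow_one t).symm
        _ ≤ t ^ (d + 1) := pow_le_pow_right₀ h1.le (by omega)
    have h5 := hPge t ht.1
    have h6 := hQge t ht.1
    have h7 : A 0 * t ≤ A 0 * t ^ (d + 1) := mul_le_mul_of_nonneg_left h4 hA0.le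
    linarith [ht.2]
  obtain ⟨t₀, ht₀⟩ : ∃ t₀, t₀ = sSup T := ⟨_, rfl⟩
  have ht₀T : t₀ ∈ T := by rw [ht₀]; exact hTcl.csSup_mem hTne hTbdd
  have ht₀0 : 0 ≤ t₀ := by rw [hT] at ht₀T; exact ht₀T.1
  have ht₀P : P t₀ ≤ 0 := by rw [hT] at ht₀T; exact ht₀T.2
  have hgt : ∀ t, t₀ < t → 0 < P t := by
    intro t ht
    by_contra hle
    push Not at hle
    have : t ∈ T := by rw [hT]; exact ⟨ht₀0.trans ht.le, hle⟩
    have := le_csSup hTbdd this
    rw [← ht₀] at this
    linarith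
  -- rational points
  have hrat : ∀ p q : ℕ, 0 < p → 0 < q → t₀ < (p : ℝ) / q → 0 ≤ Q ((p : ℝ) / q) := by
    intro p q hp hq hlt
    have hqR : (0 : ℝ) < q := by exact_mod_cast hq
    have h1 : (0 : ℝ) < (q : ℝ) ^ (d + 1) * P ((p : ℝ) / q) := mul_pos (pow_pos hqR _) (hgt _ hlt)
    have e1 : (q : ℝ) ^ (d + 1) * P ((p : ℝ) / q) =
        ((∑ j ∈ range (d + 2), ((d + 1).choose j : ℤ) * a j * (q : ℤ) ^ j *
          (p : ℤ) ^ (d + 1 - j) : ℤ) : ℝ) := by
      rw [hP]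
      rw [Finset.mul_sum]
      push_cast
      apply Finset.sum_congr rfl
      intro j hj
      have hj' : j ≤ d + 1 := Nat.lt_succ_iff.mp (Finset.mem_range.mp hj)
      rw [hA]
      have : (q : ℝ) ^ (d + 1) = (q : ℝ) ^ j * (q : ℝ) ^ (d + 1 - j) := by
        rw [← pow_add]; congr 1; omega
      rw [this, div_pow]
      field_simp
    rw [e1] at h1
    have h2 := G p q hp hq (by exact_mod_cast h1)
    have e2 : (q : ℝ) ^ d * Q ((p : ℝ) / q) =
        ((∑ j ∈ range (d + 1), (d.choose j : ℤ) * a (j + 1) * (q : ℤ) ^ j *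
          (p : ℤ) ^ (d - j) : ℤ) : ℝ) := by
      rw [hQ]
      rw [Finset.mul_sum]
      push_cast
      apply Finset.sum_congr rfl
      intro j hj
      have hj' : j ≤ d := Nat.lt_succ_iff.mp (Finset.mem_range.mp hj)
      rw [hA]
      have : (q : ℝ) ^ d = (q : ℝ) ^ j * (q : ℝ) ^ (d - j) := by
        rw [← pow_add]; congr 1; omega
      rw [this, div_pow]
      field_simp
    have h3 : (0 : ℝ) ≤ (q : ℝ) ^ d * Q ((p : ℝ) / q) := by
      rw [e2]; exact_mod_cast h2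
    exact nonneg_of_mul_nonneg_right h3 (pow_pos hqR _)
  -- continuity
  have hQt₀ : 0 ≤ Q t₀ := by
    by_contra hlt
    push Not at hlt
    have hopen : IsOpen {t | Q t < 0} := isOpen_lt hQc continuous_const
    obtain ⟨ε, hε, hball⟩ := Metric.isOpen_iff.mp hopen t₀ hlt
    obtain ⟨r, hr1, hr2⟩ := exists_rat_btwn (show t₀ < t₀ + ε by linarith)
    have hrpos : (0 : ℝ) < r := lt_of_le_of_lt ht₀0 hr1
    have hrpos' : (0 : ℚ) < r := by exact_mod_cast hrpos
    have hnum : 0 < r.num := Rat.num_pos.mpr hrpos'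
    have hrepr : (r : ℝ) = ((r.num.toNat : ℕ) : ℝ) / ((r.den : ℕ) : ℝ) := by
      have h1 : ((r.num.toNat : ℕ) : ℤ) = r.num := Int.toNat_of_nonneg hnum.le
      have h2 : (r : ℝ) = (r.num : ℝ) / (r.den : ℝ) := by
        exact_mod_cast (Rat.num_div_den r).symm
      rw [h2]
      congr 1
      exact_mod_cast h1.symm
    have h4 := hrat r.num.toNat r.den (by omega) r.den_pos (by rw [← hrepr]; exact hr1)
    rw [← hrepr] at h4
    have h5 : (r : ℝ) ∈ Metric.ball t₀ ε := by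
      rw [Metric.mem_ball, Real.dist_eq, abs_lt]
      constructor <;> linarith
    have h6 : Q r < 0 := hball h5
    linarith
  rcases ht₀0.lt_or_eq with hpos' | hzero
  · have h1 := hPge t₀ ht₀0
    have h2 : 0 < A 0 * t₀ ^ (d + 1) := mul_pos hA0 (pow_pos hpos' _)
    linarith
  · rw [← hzero, hQ0] at hQt₀
    linarith

end Groth.Agent.H5.IntN
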