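import Mathlib
import Groth.Agent.Lib.Helper5.IntN.Klei3
import Groth.Agent.Lib.Helper5.IntN.KleiNum
import Groth.Agent.Lib.Helper7.UTCon2

set_option autoImplicit false
universe u
open CategoryTheory CategoryTheory.Limits AlgebraicGeometry TopologicalSpace Opposite

namespace Groth.Agent.H5.IntN

open Groth.Agent.LD Groth.Agent.LD.QC Groth.Agent.H5.Curve4 Groth.Agent.H5.DegC Groth.Agent.H5.Snap
open Groth.Agent.H5.Deg Groth.Agent.H5.HP

/-- the first `j` slots. -/
def firstSlots (n j : ℕ) : Finset (Fin n) := Finset.univ.filter (fun i : Fin n => i.val < j)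

lemma card_firstSlots {n j : ℕ} (hj : j ≤ n) : (firstSlots n j).card = j := by
  unfold firstSlots
  rw [Fin.card_filter_val_lt]
  exact min_eq_right hj

lemma firstSlots_self (n : ℕ) : firstSlots n n = Finset.univ := by
  unfold firstSlots
  ext i
  simp [i.2]

lemma firstSlots_zero (n : ℕ) : firstSlots n 0 = ∅ := by
  unfold firstSlots
  ext i
  simp

section bot

variable {W : Scheme.{u}} [IsIntegral W]

/-- an integral closed subscheme of an integral scheme with full support is everything. -/
theorem nonempty_quotMod_iso_unit (Z : W.IdealSheafData) [IsIntegral Z.subscheme]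
    (h : (Z.support : Set W) = Set.univ) : Nonempty (ClSub.quotMod Z ≅ unitMod W) := by
  have hZ : Z = ⊥ := by
    rw [← eq_vanishingIdeal_of_isIntegral Z]
    have h1 : (⟨closure {Z.subschemeι (genericPoint Z.subscheme)}, isClosed_closure⟩ :
        Closeds W) = ⊤ := by
      apply Closeds.ext
      change closure {Z.subschemeι (genericPoint Z.subscheme)} = Set.univ
      rw [← support_eq_closure_of_isIntegral Z, h]
    rw [h1, Scheme.IdealSheafData.vanishingIdeal_top, Scheme.nilradical_eq_bot]
  have hS := shortExact_idealMod Z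
  have h0 : IsZero (ClSub.idealMod Z) := by
    rw [hZ]; exact Groth.Agent.H7.UTCon.isZero_idealMod_bot W
  haveI : Mono (ClSub.toSubscheme Z) := by
    have := hS.exact
    exact hS.exact.mono_g (h0.eq_of_src _ _)
  haveI : Epi (ClSub.toSubscheme Z) := hS.epi_g
  haveI : IsIso (ClSub.toSubscheme Z) := isIso_of_mono_of_epi _
  exact ⟨(asIso (ClSub.toSubscheme Z)).symm⟩

end bot


lemma sum_powerset_card {α : Type*} (t : Finset α) (f : ℕ → ℤ) :
    ∑ s ∈ t.powerset, f s.card =
      ∑ j ∈ Finset.range (t.card + 1), (t.card.choose j : ℤ) * f j := by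
  rw [Finset.sum_powerset_apply_card]
  apply Finset.sum_congr rfl
  intro j _
  rw [nsmul_eq_mul]

section expand

variable (k : Type u) [Field k] {X : Scheme.{u}} [X.Over (Spec (CommRingCat.of k))]
  [IsProper (X ↘ Spec (CommRingCat.of k))]

/-- full multilinear expansion of the self-intersection of `a^q ⊗ b^p`. -/
theorem intNum_const_expand (D : ℕ) (hD : topologicalKrullDim X ≤ D) {r : ℕ}
    (a b : X.Modules) (ha : PicF.IsInvertible a) (hb : PicF.IsInvertible b) (q p : ℕ)
    (F : X.Modules) (hF : Coh.IsCoh F)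
    (hdim : topologicalKrullDim (CohB1.support F) ≤ ((r + 1 : ℕ) : WithBot ℕ∞)) :
    FGA.intNum k X D (fun _ : Fin (r + 1) =>
        CohB1.tensorMod (CohB1.tensorPow a q) (CohB1.tensorPow b p)) F =
      ∑ s ∈ (Finset.univ : Finset (Fin (r + 1))).powerset,
        (q : ℤ) ^ s.card * (p : ℤ) ^ (r + 1 - s.card) * FGA.intNum k X D (fam a b s) F := by
  have h := intNum_expand k D hD a b ha hb q p F hF hdim Finset.univ (fun _ => a) (fun _ => ha)
  have h1 : (fun i : Fin (r + 1) => if i ∈ (Finset.univ : Finset (Fin (r + 1))) then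
      CohB1.tensorMod (CohB1.tensorPow a q) (CohB1.tensorPow b p) else a) =
      (fun _ : Fin (r + 1) => CohB1.tensorMod (CohB1.tensorPow a q) (CohB1.tensorPow b p)) := by
    funext i
    simp
  rw [h1] at h
  rw [h]
  apply Finset.sum_congr rfl
  intro s _
  have h2 : mix (fun _ : Fin (r + 1) => a) a b Finset.univ s = fam a b s := by
    funext i
    unfold mix fam
    simp
  rw [h2, Finset.card_univ, Fintype.card_fin]

/-- multilinear expansion of `(a · (a^q ⊗ b^p)^r)`. -/
theorem intNum_one_expand (D : ℕ) (hD : topologicalKrullDim X ≤ D) {r : ℕ}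
    (a b : X.Modules) (ha : PicF.IsInvertible a) (hb : PicF.IsInvertible b) (q p : ℕ)
    (F : X.Modules) (hF : Coh.IsCoh F)
    (hdim : topologicalKrullDim (CohB1.support F) ≤ ((r + 1 : ℕ) : WithBot ℕ∞)) :
    FGA.intNum k X D (fam a (CohB1.tensorMod (CohB1.tensorPow a q) (CohB1.tensorPow b p))
        ({0} : Finset (Fin (r + 1)))) F =
      ∑ s ∈ (({0} : Finset (Fin (r + 1)))ᶜ).powerset,
        (q : ℤ) ^ s.card * (p : ℤ) ^ (r - s.card) *
          FGA.intNum k X D (fam a b (insert 0 s)) F := by
  classical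
  have h := intNum_expand k D hD a b ha hb q p F hF hdim (({0} : Finset (Fin (r + 1)))ᶜ)
    (fun _ => a) (fun _ => ha)
  have h1 : (fun i : Fin (r + 1) => if i ∈ (({0} : Finset (Fin (r + 1)))ᶜ) then
      CohB1.tensorMod (CohB1.tensorPow a q) (CohB1.tensorPow b p) else a) =
      fam a (CohB1.tensorMod (CohB1.tensorPow a q) (CohB1.tensorPow b p))
        ({0} : Finset (Fin (r + 1))) := by
    funext i
    unfold fam
    by_cases hi : i = 0
    · subst hi; simp
    · simp [hi]
  rw [h1] at h
  rw [h]
  have hcard : (({0} : Finset (Fin (r + 1)))ᶜ).card = r := by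
    rw [Finset.card_compl, Finset.card_singleton, Fintype.card_fin]
    omega
  apply Finset.sum_congr rfl
  intro s hs
  have hst : s ⊆ ({0} : Finset (Fin (r + 1)))ᶜ := Finset.mem_powerset.mp hs
  have h0s : (0 : Fin (r + 1)) ∉ s := fun h0 => by
    have := hst h0
    simp at this
  have h2 : mix (fun _ : Fin (r + 1) => a) a b (({0} : Finset (Fin (r + 1)))ᶜ) s =
      fam a b (insert 0 s) := by
    funext i
    unfold mix fam
    by_cases hi : i = 0
    · subst hi; simp
    · simp [hi]
  rw [h2, hcard]

end expand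

end Groth.Agent.H5.IntN
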