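import Mathlib
import Groth.Agent.Lib.Helper5.IntN.Klei4

set_option autoImplicit false
universe u
open CategoryTheory CategoryTheory.Limits AlgebraicGeometry TopologicalSpace Opposite

namespace Groth.Agent.H5.IntN

open Groth.Agent.LD Groth.Agent.LD.QC Groth.Agent.H5.Curve4 Groth.Agent.H5.DegC Groth.Agent.H5.Snap
open Groth.Agent.H5.Deg Groth.Agent.H5.HP

variable (k : Type u) [Field k]

section

variable {W : Scheme.{u}}

/-- the inverse of `L^q ⊗ H^p`. -/
noncomputable def tensorPowsInverse (L L' H H' : W.Modules) [L.IsQuasicoherent]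
    [L'.IsQuasicoherent] [H.IsQuasicoherent] [H'.IsQuasicoherent]
    (eL : CohB1.tensorMod L L' ≅ Coh.structureModule W)
    (eH : CohB1.tensorMod H H' ≅ Coh.structureModule W) (q p : ℕ) :
    CohB1.tensorMod (CohB1.tensorMod (CohB1.tensorPow L q) (CohB1.tensorPow H p))
      (CohB1.tensorMod (CohB1.tensorPow L' q) (CohB1.tensorPow H' p)) ≅ Coh.structureModule W :=
  tensorMiddleFour (CohB1.tensorPow L q) (CohB1.tensorPow H p) (CohB1.tensorPow L' q)
      (CohB1.tensorPow H' p) ≪≫
    tensorIso' (tensorPowTensor L L' q ≪≫ tensorPowCongr eL q ≪≫ unitPowIso W q)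
      (tensorPowTensor H H' p ≪≫ tensorPowCongr eH p ≪≫ unitPowIso W p) ≪≫ unitorL' _

end


section ample

variable {W : Scheme.{u}} [W.Over (Spec (CommRingCat.of k))]
  [IsProper (W ↘ Spec (CommRingCat.of k))] [IsIntegral W]

omit [IsProper (W ↘ Spec (CommRingCat.of k))] [W.Over (Spec (CommRingCat.of k))] in
lemma support_unitMod_eq_univ : CohB1.support (unitMod W) = Set.univ := by
  ext y
  simp only [Set.mem_univ, iff_true]
  exact mem_support_unitMod y

omit [IsProper (W ↘ Spec (CommRingCat.of k))] [W.Over (Spec (CommRingCat.of k))] in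
lemma dim_support_unitMod : topologicalKrullDim (CohB1.support (unitMod W)) =
    topologicalKrullDim W := by
  rw [support_unitMod_eq_univ]
  exact IsHomeomorph.topologicalKrullDim_eq _ (Homeomorph.Set.univ W).isHomeomorph

/-- **ampleness of `L^q ⊗ H^p`** for nef `L` and ample `H` on an integral scheme of dimension
`n + 1`, given Kleiman's property in smaller dimensions and the positivity of the top
self-intersection. -/
theorem isAmple_tensorPows_of_pos (n : ℕ) (IH : ∀ e', e' ≤ n → KProp k e') (D : ℕ)
    (hDW : topologicalKrullDim W ≤ D)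
    (hdimW : topologicalKrullDim W = ((n + 1 : ℕ) : WithBot ℕ∞))
    (H H' L L' : W.Modules) (hH : CohB1.IsAmple H)
    (eH : Nonempty (CohB1.tensorMod H H' ≅ Coh.structureModule W)) (hL : PicF.IsInvertible L)
    (eL : Nonempty (CohB1.tensorMod L L' ≅ Coh.structureModule W)) (hnef : NefMod k W L)
    (q p : ℕ) (hp : 0 < p)
    (hsum : 0 < ∑ s ∈ (Finset.univ : Finset (Fin (n + 1))).powerset,
      (q : ℤ) ^ s.card * (p : ℤ) ^ (n + 1 - s.card) *
        FGA.intNum k W D (fam L' H' s) (unitMod W)) :
    CohB1.IsAmple (CohB1.tensorMod (CohB1.tensorPow L q) (CohB1.tensorPow H p)) := by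
  haveI : IsNoetherian W := Curve2.isNoetherian_of_proper k W
  have hH' : PicF.IsInvertible H' := QC.isInvertible_of_tensor_iso hH.1 eH.some
  have hL' : PicF.IsInvertible L' := QC.isInvertible_of_tensor_iso hL eL.some
  haveI := (isCoh_of_isInvertible hL).1
  haveI := (isCoh_of_isInvertible hL').1
  haveI := (isCoh_of_isInvertible hH.1).1
  haveI := (isCoh_of_isInvertible hH').1
  have hNinv : PicF.IsInvertible (CohB1.tensorMod (CohB1.tensorPow L q) (CohB1.tensorPow H p)) :=
    isInvertible_tensorMod (isInvertible_tensorPow hL q) (isInvertible_tensorPow hH.1 p)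
  apply nakai_intNum k D hDW _ _ hNinv (tensorPowsInverse L L' H H' eL.some eH.some q p)
  intro Z hZ d₁ hd₁ hdim
  haveI := hZ
  obtain ⟨r, rfl⟩ : ∃ r, d₁ = r + 1 := ⟨d₁ - 1, by omega⟩
  have hQ : Coh.IsCoh (ClSub.quotMod Z) := isCoh_quotMod Z
  have hQdim : topologicalKrullDim (CohB1.support (ClSub.quotMod Z)) =
      ((r + 1 : ℕ) : WithBot ℕ∞) := by rw [support_quotMod, hdim]
  rw [intNum_const_expand k D hDW L' H' hL' hH' q p _ hQ (le_of_eq hQdim)]
  by_cases hr : r + 1 ≤ n
  · apply Finset.sum_pos'
    · intro s _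
      apply mul_nonneg (by positivity)
      exact IH (r + 1) hr W D hDW H H' L L' hH eH hL eL hnef s _ hQ (le_of_eq hQdim)
    · refine ⟨∅, Finset.empty_mem_powerset _, ?_⟩
      have hpz : (0 : ℤ) < (p : ℤ) := by exact_mod_cast hp
      apply mul_pos (by rw [Finset.card_empty, pow_zero, one_mul]; exact pow_pos hpz _)
      exact intNum_pos_of_isAmple k W D hDW (fun _ => H) (fam L' H' ∅) (fun _ => hH)
        (fun i => by unfold fam; simpa using eH) _ hQ hQdim
  · have hle : ((r + 1 : ℕ) : WithBot ℕ∞) ≤ ((n + 1 : ℕ) : WithBot ℕ∞) := by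
      rw [← hdim, ← hdimW]
      exact topologicalKrullDim_subspace_le W _
    have hrn : r = n := by
      have : r + 1 ≤ n + 1 := by exact_mod_cast hle
      omega
    subst hrn
    have hsupp : (Z.support : Set W) = Set.univ := by
      by_contra hne
      have := dim_le_of_ne_univ hdimW (Z.support : Set W) Z.support.isClosed hne
      rw [hdim] at this
      have : r + 1 ≤ r := by exact_mod_cast this
      omega
    obtain ⟨eZ⟩ := nonempty_quotMod_iso_unit Z hsupp
    have hcongr : ∀ s : Finset (Fin (r + 1)),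
        FGA.intNum k W D (fam L' H' s) (ClSub.quotMod Z) =
          FGA.intNum k W D (fam L' H' s) (unitMod W) := fun s => intNum_iso k D _ eZ
    simp only [hcongr]
    exact hsum


/-- **Step B**: the top self-intersection number of a nef module on an integral scheme is
nonnegative (Kleiman's argument). -/
theorem kProp_stepB (n : ℕ) (IH : ∀ e', e' ≤ n → KProp k e') (D : ℕ)
    (hDW : topologicalKrullDim W ≤ D)
    (hdimW : topologicalKrullDim W = ((n + 1 : ℕ) : WithBot ℕ∞))
    (H H' L L' : W.Modules) (hH : CohB1.IsAmple H)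
    (eH : Nonempty (CohB1.tensorMod H H' ≅ Coh.structureModule W)) (hL : PicF.IsInvertible L)
    (eL : Nonempty (CohB1.tensorMod L L' ≅ Coh.structureModule W)) (hnef : NefMod k W L) :
    0 ≤ FGA.intNum k W D (fam L' H' (Finset.univ : Finset (Fin (n + 1)))) (unitMod W) := by
  classical
  haveI : IsNoetherian W := Curve2.isNoetherian_of_proper k W
  have hH' : PicF.IsInvertible H' := QC.isInvertible_of_tensor_iso hH.1 eH.some
  have hL' : PicF.IsInvertible L' := QC.isInvertible_of_tensor_iso hL eL.some
  have hOc : Coh.IsCoh (unitMod W) := Groth.Agent.LD.PF.isCoh_unitMod W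
  have hOdim : topologicalKrullDim (CohB1.support (unitMod W)) = ((n + 1 : ℕ) : WithBot ℕ∞) := by
    rw [dim_support_unitMod, hdimW]
  rcases n with _ | n
  · have hfam : fam L' H' (Finset.univ : Finset (Fin (0 + 1))) = fun _ : Fin 1 => L' := by
      funext i
      unfold fam
      rw [if_pos (Finset.mem_univ i)]
    rw [hfam]
    exact NefMod.intNum_nonneg k hL hnef eL.some D hDW _ hOc (by rw [hOdim]; rfl)
  · obtain ⟨a, ha⟩ : ∃ a : ℕ → ℤ, ∀ j, a j =
        FGA.intNum k W D (fam L' H' (firstSlots (n + 2) j)) (unitMod W) := ⟨_, fun _ => rfl⟩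
    have key : ∀ s : Finset (Fin (n + 2)),
        FGA.intNum k W D (fam L' H' s) (unitMod W) = a s.card := by
      intro s
      rw [ha]
      apply intNum_fam_card k D L' H' (isCoh_of_isInvertible hL') (isCoh_of_isInvertible hH')
      rw [card_firstSlots]
      have := Finset.card_le_univ s
      rwa [Fintype.card_fin] at this
    have hlast : ∀ j, j ≤ n + 1 → Fin.last (n + 1) ∉ firstSlots (n + 2) j := by
      intro j hj hmem
      unfold firstSlots at hmem
      rw [Finset.mem_filter] at hmem
      have := hmem.2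
      simp only [Fin.val_last] at this
      omega
    have h0 : 0 < a 0 := by
      rw [ha, firstSlots_zero]
      exact intNum_pos_of_isAmple k W D hDW (fun _ => H) (fam L' H' ∅) (fun _ => hH)
        (fun i => by unfold fam; simpa using eH) _ hOc hOdim
    have hposj : ∀ j, j ≤ n + 1 → 0 ≤ a j := by
      intro j hj
      rw [ha]
      exact kProp_stepA k (n + 1) (IH (n + 1) le_rfl) W D hDW hdimW H H' L L' hH eH hL eL hnef
        _ (Fin.last (n + 1)) (hlast j hj)
    have hfin := kleiman_numeric (n + 1) a h0 hposj ?_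
    · rw [ha, firstSlots_self] at hfin
      exact hfin
    · intro p q hp hq hsum
      -- ampleness of `L^q ⊗ H^p`
      have hsum' : 0 < ∑ s ∈ (Finset.univ : Finset (Fin (n + 1 + 1))).powerset,
          (q : ℤ) ^ s.card * (p : ℤ) ^ (n + 1 + 1 - s.card) *
            FGA.intNum k W D (fam L' H' s) (unitMod W) := by
        simp only [key]
        rw [sum_powerset_card Finset.univ (fun j => (q : ℤ) ^ j * (p : ℤ) ^ (n + 1 + 1 - j) * a j),
          Finset.card_univ, Fintype.card_fin]
        refine lt_of_lt_of_eq hsum (Finset.sum_congr rfl (fun j _ => ?_))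
        ring
      have hamp := isAmple_tensorPows_of_pos k (n + 1) IH D hDW hdimW H H' L L' hH eH hL eL hnef
        q p hp hsum'
      haveI := (isCoh_of_isInvertible hL).1
      haveI := (isCoh_of_isInvertible hL').1
      haveI := (isCoh_of_isInvertible hH.1).1
      haveI := (isCoh_of_isInvertible hH').1
      have hA := kProp_stepA k (n + 1) (IH (n + 1) le_rfl) W D hDW hdimW _
        (CohB1.tensorMod (CohB1.tensorPow L' q) (CohB1.tensorPow H' p)) L L' hamp
        ⟨tensorPowsInverse L L' H H' eL.some eH.some q p⟩ hL eL hnef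
        ({0} : Finset (Fin (n + 2))) (Fin.last (n + 1)) (by
          rw [Finset.mem_singleton]
          exact (Fin.last_pos).ne')
      rw [intNum_one_expand k D hDW L' H' hL' hH' q p _ hOc (le_of_eq hOdim)] at hA
      have hrew : ∀ s ∈ (({0} : Finset (Fin (n + 1 + 1)))ᶜ).powerset,
          (q : ℤ) ^ s.card * (p : ℤ) ^ (n + 1 - s.card) *
            FGA.intNum k W D (fam L' H' (insert 0 s)) (unitMod W) =
          (q : ℤ) ^ s.card * (p : ℤ) ^ (n + 1 - s.card) * a (s.card + 1) := by
        intro s hs
        have hst : s ⊆ ({0} : Finset (Fin (n + 1 + 1)))ᶜ := Finset.mem_powerset.mp hs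
        have h0s : (0 : Fin (n + 1 + 1)) ∉ s := fun h0 => by
          have := hst h0
          simp at this
        rw [key, Finset.card_insert_of_notMem h0s]
      rw [Finset.sum_congr rfl hrew,
        sum_powerset_card _ (fun j => (q : ℤ) ^ j * (p : ℤ) ^ (n + 1 - j) * a (j + 1))] at hA
      have hcard : (({0} : Finset (Fin (n + 1 + 1)))ᶜ).card = n + 1 := by
        rw [Finset.card_compl, Finset.card_singleton, Fintype.card_fin]
        omega
      rw [hcard] at hA
      refine le_of_le_of_eq hA (Finset.sum_congr rfl (fun j _ => ?_))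
      ring

end ample

end Groth.Agent.H5.IntN
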