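import Mathlib
import Groth.Agent.Lib.Helper5.IntN.Klei5

set_option autoImplicit false
universe u
open CategoryTheory CategoryTheory.Limits AlgebraicGeometry TopologicalSpace Opposite

namespace Groth.Agent.H5.IntN

open Groth.Agent.LD Groth.Agent.LD.QC Groth.Agent.H5.Curve4 Groth.Agent.H5.DegC Groth.Agent.H5.Snap
open Groth.Agent.H5.Deg Groth.Agent.H5.HP

variable (k : Type u) [Field k]

/-- **Kleiman's theorem** (projective case): mixed intersection numbers of a nef module and an
ample module are nonnegative. -/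
theorem kProp : ∀ e : ℕ, KProp k e := by
  intro e
  induction e using Nat.strong_induction_on with
  | _ e ih =>
    rcases e with _ | n
    · exact kProp_zero k
    · apply kProp_of_integral k n
      intro W _ _ _ D hDW hdimW H H' L L' hH eH hL eL hnef s
      by_cases hs : s = Finset.univ
      · subst hs
        exact kProp_stepB k n (fun e' he' => ih e' (by omega)) D hDW hdimW H H' L L' hH eH hL eL
          hnef
      · obtain ⟨i₀, hi₀⟩ : ∃ i₀, i₀ ∉ s := by
          by_contra h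
          push Not at h
          exact hs (Finset.eq_univ_iff_forall.mpr h)
        exact kProp_stepA k n (ih n (Nat.lt_succ_self n)) W D hDW hdimW H H' L L' hH eH hL eL
          hnef s i₀ hi₀

section main

variable {X : Scheme.{u}} [X.Over (Spec (CommRingCat.of k))]
  [IsProper (X ↘ Spec (CommRingCat.of k))]

/-- **nef + ample is ample**: for a nef invertible module `L` and an ample module `A` on a proper
scheme, `L^q ⊗ A^p` is ample for every `p > 0`. -/
theorem isAmple_tensorPows_of_nef (A L : X.Modules) (hA : CohB1.IsAmple A)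
    (hL : PicF.IsInvertible L) (hnef : NefMod k X L) (q p : ℕ) (hp : 0 < p) :
    CohB1.IsAmple (CohB1.tensorMod (CohB1.tensorPow L q) (CohB1.tensorPow A p)) := by
  haveI : IsNoetherian X := Curve2.isNoetherian_of_proper k X
  obtain ⟨D, hD⟩ := Groth.Agent.H9.ORB3.exists_nat_dim_le (X ↘ Spec (CommRingCat.of k))
  obtain ⟨A', hA', eA⟩ := Groth.Agent.H5.Glue.exists_inverse A hA.1
  obtain ⟨L', hL', eL⟩ := Groth.Agent.H5.Glue.exists_inverse L hL
  haveI := (isCoh_of_isInvertible hL).1
  haveI := (isCoh_of_isInvertible hL').1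
  haveI := (isCoh_of_isInvertible hA.1).1
  haveI := (isCoh_of_isInvertible hA').1
  have hNinv : PicF.IsInvertible (CohB1.tensorMod (CohB1.tensorPow L q) (CohB1.tensorPow A p)) :=
    isInvertible_tensorMod (isInvertible_tensorPow hL q) (isInvertible_tensorPow hA.1 p)
  apply nakai_intNum k D hD _ _ hNinv (tensorPowsInverse L L' A A' eL.some eA.some q p)
  intro Z hZ d₁ hd₁ hdim
  obtain ⟨r, rfl⟩ : ∃ r, d₁ = r + 1 := ⟨d₁ - 1, by omega⟩
  have hQ : Coh.IsCoh (ClSub.quotMod Z) := isCoh_quotMod Z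
  have hQdim : topologicalKrullDim (CohB1.support (ClSub.quotMod Z)) =
      ((r + 1 : ℕ) : WithBot ℕ∞) := by rw [support_quotMod, hdim]
  rw [intNum_const_expand k D hD L' A' hL' hA' q p _ hQ (le_of_eq hQdim)]
  apply Finset.sum_pos'
  · intro s _
    apply mul_nonneg (by positivity)
    exact kProp k (r + 1) X D hD A A' L L' hA eA hL eL hnef s _ hQ (le_of_eq hQdim)
  · refine ⟨∅, Finset.empty_mem_powerset _, ?_⟩
    have hpz : (0 : ℤ) < (p : ℤ) := by exact_mod_cast hp
    apply mul_pos (by rw [Finset.card_empty, pow_zero, one_mul]; exact pow_pos hpz _)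
    exact intNum_pos_of_isAmple k X D hD (fun _ => A) (fam L' A' ∅) (fun _ => hA)
      (fun i => by unfold fam; simpa using eA) _ hQ hQdim

/-- nefness from nonnegative degrees on integral curves. -/
theorem nefMod_of_curveDeg (L : X.Modules) (hL : PicF.IsInvertible L)
    (h : ∀ (Y : Scheme.{u}) (i : Y ⟶ X) [IsClosedImmersion i], IsIntegral Y →
      topologicalKrullDim Y = 1 →
      0 ≤ Pic13.curveDeg k (i ≫ (X ↘ Spec (CommRingCat.of k)))
        ((Scheme.Modules.pullback i).obj L)) : NefMod k X L := by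
  classical
  haveI : IsNoetherian X := Curve2.isNoetherian_of_proper k X
  obtain ⟨D, hD⟩ := Groth.Agent.H9.ORB3.exists_nat_dim_le (X ↘ Spec (CommRingCat.of k))
  obtain ⟨L', hL', eL⟩ := Groth.Agent.H5.Glue.exists_inverse L hL
  intro T hT hdim
  haveI := (isCoh_of_isInvertible hL).1
  haveI := hT.1
  have hdim' : topologicalKrullDim (CohB1.support T) ≤ ((1 : ℕ) : WithBot ℕ∞) := by
    exact_mod_cast hdim
  have h1 := euler_tensor_sub k D hD L L' hL eL T hT hdim
  rw [Curve.euler_iso k X (tensorCommAll T L)] at h1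
  obtain ⟨hfin, -, -⟩ := good_of_isCoh k 1 1 (fun _ : Fin 1 => L') (fun _ => hL') T hT hdim'
  have hs : ∀ ξ : X, ξ ∈ hfin.toFinset ↔
      ξ ∈ CohB1.support T ∧ topologicalKrullDim ↥(closure ({ξ} : Set X)) = ((1 : ℕ) : WithBot ℕ∞) := by
    intro ξ
    rw [Set.Finite.mem_toFinset]
    exact ⟨fun h => ⟨h.2, h.1⟩, fun h => ⟨h.2, h.1⟩⟩
  rw [intNum_eq_sum_components k D hD _ (fun _ => hL') T hT hdim' hfin.toFinset hs] at h1
  have h2 : 0 ≤ ∑ ξ ∈ hfin.toFinset,
      ((Module.length (X.presheaf.stalk ξ) (T.presheaf.stalk ξ)).toNat : ℤ) *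
        FGA.intNum k X D (fun _ : Fin 1 => L') (ClSub.quotMod (Scheme.IdealSheafData.vanishingIdeal
          ⟨closure ({ξ} : Set X), isClosed_closure⟩)) := by
    apply Finset.sum_nonneg
    intro ξ hξ
    apply mul_nonneg (by exact_mod_cast Nat.zero_le _)
    change 0 ≤ FGA.intNum k X D (fun _ : Fin 1 => L') (ClSub.quotMod (vI ξ))
    have hCdim : topologicalKrullDim ((vI ξ).support : Set X) = 1 := by
      rw [coe_support_vI, ((hs ξ).mp hξ).2]; rfl
    have hQ : Coh.IsCoh (ClSub.quotMod (vI ξ)) := isCoh_quotMod _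
    have hQdim : topologicalKrullDim (CohB1.support (ClSub.quotMod (vI ξ))) ≤ 1 := by
      rw [support_quotMod, hCdim]
    rw [← euler_tensor_sub k D hD L L' hL eL _ hQ hQdim,
      euler_quotMod_sub_eq_curveDeg k (vI ξ) (le_of_eq hCdim) L hL]
    exact h _ (vI ξ).subschemeι (isIntegral_vI ξ) (by rw [dim_subscheme_eq, hCdim])
  omega


/-- **ample perturbations detect nefness**: if `L^ν ⊗ A` is ample for all `ν > 0` then `L` has
nonnegative degree on every integral curve. -/
theorem curveDeg_nonneg_of_forall_isAmple (A L : X.Modules) (hA : PicF.IsInvertible A)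
    (hL : PicF.IsInvertible L)
    (hamp : ∀ ν : ℕ, 0 < ν → CohB1.IsAmple (CohB1.tensorMod (CohB1.tensorPow L ν) A))
    (Y : Scheme.{u}) (ι : Y ⟶ X) [IsClosedImmersion ι] (hYint : IsIntegral Y)
    (hYdim : topologicalKrullDim Y = 1) :
    0 ≤ Pic13.curveDeg k (ι ≫ (X ↘ Spec (CommRingCat.of k)))
      ((Scheme.Modules.pullback ι).obj L) := by
  haveI := hYint
  letI : Y.Over (Spec (CommRingCat.of k)) := overOf k ι
  haveI : IsProper (Y ↘ Spec (CommRingCat.of k)) := by
    change IsProper (ι ≫ (X ↘ Spec (CommRingCat.of k)))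
    infer_instance
  haveI : IsNoetherian Y := Curve2.isNoetherian_of_proper k Y
  have hY1 : topologicalKrullDim Y ≤ ((1 : ℕ) : WithBot ℕ∞) := by rw [hYdim]; rfl
  have hM := isInvertible_pullback ι hL
  have hB := isInvertible_pullback ι hA
  obtain ⟨M', hM', eM⟩ := Groth.Agent.H5.Glue.exists_inverse _ hM
  obtain ⟨B', hB', eB⟩ := Groth.Agent.H5.Glue.exists_inverse _ hB
  haveI := (isCoh_of_isInvertible hM).1
  haveI := (isCoh_of_isInvertible hM').1
  haveI := (isCoh_of_isInvertible hB).1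
  haveI := (isCoh_of_isInvertible hB').1
  have hOc : Coh.IsCoh (unitMod Y) := Groth.Agent.LD.PF.isCoh_unitMod Y
  have hOdim : topologicalKrullDim (CohB1.support (unitMod Y)) = ((0 + 1 : ℕ) : WithBot ℕ∞) := by
    rw [dim_support_unitMod, hYdim]; rfl
  -- the degree as an intersection symbol
  have hdeg : Pic13.curveDeg k (ι ≫ (X ↘ Spec (CommRingCat.of k)))
      ((Scheme.Modules.pullback ι).obj L) = FGA.intNum k Y 1 (fun _ : Fin 1 => M') (unitMod Y) := by
    have h1 := curveDeg_eq_euler_sub k (le_of_eq hYdim) _ hM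
    change Pic13.curveDeg k (ι ≫ (X ↘ Spec (CommRingCat.of k))) _ = _ at h1
    rw [h1, ← euler_tensor_sub k 1 hY1 _ M' hM eM _ hOc (by rw [dim_support_unitMod, hYdim]),
      Curve.euler_iso k Y (unitorL' ((Scheme.Modules.pullback ι).obj L))]
  rw [hdeg]
  by_contra hneg
  push Not at hneg
  -- choose `ν` large
  obtain ⟨y, hy⟩ : ∃ y : ℤ, y = FGA.intNum k Y 1 (fun _ : Fin 1 => B') (unitMod Y) := ⟨_, rfl⟩
  obtain ⟨ν, hν⟩ : ∃ ν : ℕ, ν = y.natAbs + 1 := ⟨_, rfl⟩
  have hνpos : 0 < ν := by omega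
  -- ampleness on `Y`
  have hampY : CohB1.IsAmple (CohB1.tensorMod
      (CohB1.tensorPow ((Scheme.Modules.pullback ι).obj L) ν)
      (CohB1.tensorPow ((Scheme.Modules.pullback ι).obj A) 1)) := by
    have h1 := PN.AmD.isAmple_pullback_of_isAffineHom ι _ (hamp ν hνpos)
    refine isAmple_of_iso ?_ h1
    exact pbTensorIso ι _ _ (isInvertible_tensorPow hL ν) hA ≪≫
      tensorIso' (pbTensorPowIso ι L hL ν) (unitorL' _).symm
  have hpos : 0 < FGA.intNum k Y 1
      (fun _ : Fin 1 => CohB1.tensorMod (CohB1.tensorPow M' ν) (CohB1.tensorPow B' 1))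
      (unitMod Y) :=
    intNum_pos_of_isAmple k Y 1 hY1 (fun _ : Fin 1 => _)
      (fun _ : Fin 1 => CohB1.tensorMod (CohB1.tensorPow M' ν) (CohB1.tensorPow B' 1))
      (fun _ => hampY)
      (fun _ => ⟨tensorPowsInverse _ M' _ B' eM.some eB.some ν 1⟩) (unitMod Y) hOc hOdim
  have hu : ∀ C : Y.Modules, Function.update (fun _ : Fin (0 + 1) => M') 0 C =
      fun _ : Fin 1 => C := by
    intro C
    funext i
    have : i = 0 := Fin.ext (by have := i.isLt; simp only [Fin.val_zero]; omega)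
    rw [this, Function.update_self]
  have hexp : FGA.intNum k Y 1
      (fun _ : Fin 1 => CohB1.tensorMod (CohB1.tensorPow M' ν) (CohB1.tensorPow B' 1))
      (unitMod Y) = (ν : ℤ) * FGA.intNum k Y 1 (fun _ : Fin 1 => M') (unitMod Y) +
        ((1 : ℕ) : ℤ) * y := by
    have h := intNum_update_tensorPows k 1 hY1 (fun _ : Fin (0 + 1) => M') (fun _ => hM') 0
      M' B' hM' hB' ν 1 (unitMod Y) hOc (le_of_eq hOdim)
    rw [hu, hu, hu] at h
    rw [hy]
    exact h
  obtain ⟨x, hx⟩ : ∃ x : ℤ, x = FGA.intNum k Y 1 (fun _ : Fin 1 => M') (unitMod Y) := ⟨_, rfl⟩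
  rw [← hx] at hexp hneg
  rw [hexp] at hpos
  have h3 : (ν : ℤ) * x ≤ -(ν : ℤ) := by
    have h6 : x ≤ -1 := by omega
    have h7 : (0 : ℤ) ≤ (ν : ℤ) := by exact_mod_cast Nat.zero_le ν
    nlinarith
  have h4 : (ν : ℤ) = (y.natAbs : ℤ) + 1 := by exact_mod_cast hν
  have h5 : y ≤ (y.natAbs : ℤ) := Int.le_natAbs
  push_cast at hpos
  omega

end main

end Groth.Agent.H5.IntN
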