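import Mathlib
import Groth.Agent.Lib.Helper5.IntN.BC1
import Groth.Agent.Lib.Helper5.IntN.Klei6
import Groth.Agent.Lib.Helper3.ConsDim

set_option autoImplicit false
universe u
open CategoryTheory CategoryTheory.Limits AlgebraicGeometry TopologicalSpace Opposite

namespace Groth.Agent.H5.IntN

open Groth.Agent.LD Groth.Agent.LD.QC Groth.Agent.H5.Curve4 Groth.Agent.H5.DegC Groth.Agent.H5.Snap
open Groth.Agent.H5.Deg Groth.Agent.H5.HP Groth.Agent.H5.Lim

variable (k : Type u) [Field k]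

/-- curve form of nefness, with explicit structure morphism. -/
def NefP {X : Scheme.{u}} (p : X ⟶ Spec (CommRingCat.of k)) (L : X.Modules) : Prop :=
  ∀ (Y : Scheme.{u}) (i : Y ⟶ X) [IsClosedImmersion i], IsIntegral Y → topologicalKrullDim Y = 1 →
    0 ≤ Pic13.curveDeg k (i ≫ p) ((Scheme.Modules.pullback i).obj L)

variable {k} in
lemma NefP.of_iso {X : Scheme.{u}} {p : X ⟶ Spec (CommRingCat.of k)} {L L' : X.Modules}
    (e : L ≅ L') (h : NefP k p L) : NefP k p L' := by
  intro Y i _ hYint hYdim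
  rw [← curveDeg_iso k _ ((Scheme.Modules.pullback i).mapIso e)]
  exact h Y i hYint hYdim

/-- nefness is preserved by pullback. -/
theorem NefP.pullback {X W : Scheme.{u}} (pX : X ⟶ Spec (CommRingCat.of k)) [IsProper pX]
    (pW : W ⟶ Spec (CommRingCat.of k)) [IsProper pW] (g : W ⟶ X) (hg : g ≫ pX = pW)
    (L : X.Modules) (hL : PicF.IsInvertible L) (h : NefP k pX L) :
    NefP k pW ((Scheme.Modules.pullback g).obj L) := by
  letI : X.Over (Spec (CommRingCat.of k)) := ⟨pX⟩
  letI : W.Over (Spec (CommRingCat.of k)) := ⟨pW⟩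
  haveI : IsProper (X ↘ Spec (CommRingCat.of k)) := ‹IsProper pX›
  haveI : IsProper (W ↘ Spec (CommRingCat.of k)) := ‹IsProper pW›
  intro Y ι _ hYint hYdim
  haveI := hYint
  letI : Y.Over (Spec (CommRingCat.of k)) := overOf k ι
  haveI : IsProper (Y ↘ Spec (CommRingCat.of k)) := by
    change IsProper (ι ≫ (W ↘ Spec (CommRingCat.of k)))
    infer_instance
  have hh : (ι ≫ g) ≫ (X ↘ Spec (CommRingCat.of k)) = Y ↘ Spec (CommRingCat.of k) := by
    rw [Category.assoc]
    change ι ≫ g ≫ pX = ι ≫ pW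
    rw [hg]
  haveI := isIntegral_vI ((ι ≫ g) (genericPoint Y))
  obtain ⟨hC, e, he, he0, hdeg⟩ := exists_curveDeg_pullback k (le_of_eq hYdim) (ι ≫ g) hh
    (vI ((ι ≫ g) (genericPoint Y))).subschemeι (subschemeι_genericPoint_vI _).symm
  have key : Pic13.curveDeg k (ι ≫ (W ↘ Spec (CommRingCat.of k)))
        ((Scheme.Modules.pullback ι).obj ((Scheme.Modules.pullback g).obj L)) =
      (e : ℤ) * Pic13.curveDeg k ((vI ((ι ≫ g) (genericPoint Y))).subschemeι ≫
          (X ↘ Spec (CommRingCat.of k)))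
          ((Scheme.Modules.pullback (vI ((ι ≫ g) (genericPoint Y))).subschemeι).obj L) := by
    rw [← hdeg L hL]
    exact curveDeg_iso k _ ((pullbackCompIso ι g (ι ≫ g) rfl).app L)
  change 0 ≤ Pic13.curveDeg k (ι ≫ (W ↘ Spec (CommRingCat.of k))) _
  rw [key]
  by_cases hC1 : topologicalKrullDim (vI ((ι ≫ g) (genericPoint Y))).subscheme = 1
  · exact mul_nonneg (by positivity) (h _ (vI _).subschemeι (isIntegral_vI _) hC1)
  · rw [he0 hC1]
    simp

/-- nefness descends along surjective morphisms. -/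
theorem NefP.of_pullback_surjective {X W : Scheme.{u}} (pX : X ⟶ Spec (CommRingCat.of k))
    [IsProper pX] (pW : W ⟶ Spec (CommRingCat.of k)) [IsProper pW] (g : W ⟶ X) (hg : g ≫ pX = pW)
    [Surjective g] (L : X.Modules) (hL : PicF.IsInvertible L)
    (h : NefP k pW ((Scheme.Modules.pullback g).obj L)) : NefP k pX L := by
  letI : X.Over (Spec (CommRingCat.of k)) := ⟨pX⟩
  letI : W.Over (Spec (CommRingCat.of k)) := ⟨pW⟩
  haveI : IsProper (X ↘ Spec (CommRingCat.of k)) := ‹IsProper pX›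
  haveI : IsProper (W ↘ Spec (CommRingCat.of k)) := ‹IsProper pW›
  intro Y ι _ hYint hYdim
  haveI := hYint
  obtain ⟨y, e, he, hdim, hdeg⟩ := exists_curve_over k g hg ι hYdim
  have h1 := h (vI y).subscheme (vI y).subschemeι (isIntegral_vI y) (by rw [dim_vI, hdim])
  have h2 := hdeg L hL
  have h3 : (0 : ℤ) ≤ (e : ℤ) * Pic13.curveDeg k (ι ≫ (X ↘ Spec (CommRingCat.of k)))
      ((Scheme.Modules.pullback ι).obj L) := by
    rw [← h2]; exact h1
  exact nonneg_of_mul_nonneg_right h3 (by exact_mod_cast he)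

section bc

variable (k' : Type u) [Field k'] [Algebra k k']

/-- the degree on a proper scheme is invariant under extension of the base field. -/
theorem curveDeg_bc (Y : Scheme.{u}) [Y.Over (Spec (CommRingCat.of k))]
    [IsProper (Y ↘ Spec (CommRingCat.of k))] (M : Y.Modules) [M.IsQuasicoherent] :
    Pic13.curveDeg k' (Curv2.bcSnd k Y k') ((Scheme.Modules.pullback (Curv2.bcFst k Y k')).obj M) =
      Pic13.curveDeg k (Y ↘ Spec (CommRingCat.of k)) M := by
  letI : (Curv2.bc k Y k').Over (Spec (CommRingCat.of k')) := ⟨Curv2.bcSnd k Y k'⟩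
  haveI : IsNoetherian Y := Curve2.isNoetherian_of_proper k Y
  have h1 : ∀ i, Module.finrank k' (Coh.HH (Curv2.bc k Y k')
      ((Scheme.Modules.pullback (Curv2.bcFst k Y k')).obj M) i) =
      Module.finrank k (Coh.HH Y M i) := fun i =>
    Groth.Agent.LD.FBC.finrank_HH_bc k k' Y (Curv2.bc k Y k') (Curv2.bcFst k Y k')
      (IsPullback.of_hasPullback _ _) M i
  have h2 : ∀ i, Module.finrank k' (Coh.HH (Curv2.bc k Y k')
      (Coh.structureModule (Curv2.bc k Y k')) i) =
      Module.finrank k (Coh.HH Y (Coh.structureModule Y) i) := fun i => by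
    rw [← Groth.Agent.LD.FBC.finrank_HH_congr k' (pullbackUnitIso (Curv2.bcFst k Y k')) i]
    exact Groth.Agent.LD.FBC.finrank_HH_bc k k' Y (Curv2.bc k Y k') (Curv2.bcFst k Y k')
      (IsPullback.of_hasPullback _ _) (unitMod Y) i
  unfold Pic13.curveDeg FGA.eulerCharLE
  simp only [h1, h2]
  rfl

end bc

end Groth.Agent.H5.IntN
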