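import Mathlib
import Groth.Agent.Lib.Helper5.IntN.BC2
import Groth.Agent.Lib.Lead.Chow.Lemma
import Groth.Agent.Lib.Lead.PN.QProj
import Groth.Agent.Lib.Helper5.AG.ProjProper

set_option autoImplicit false
universe u
open CategoryTheory CategoryTheory.Limits AlgebraicGeometry TopologicalSpace Opposite

namespace Groth.Agent.H5.IntN

open Groth.Agent.LD Groth.Agent.LD.QC Groth.Agent.H5.Curve4 Groth.Agent.H5.DegC Groth.Agent.H5.Snap
open Groth.Agent.H5.Deg Groth.Agent.H5.HP Groth.Agent.H5.Lim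

variable (k : Type u) [Field k] (k' : Type u) [Field k'] [Algebra k k']

/-- **nefness descends from a field extension.** -/
theorem NefP.of_bc {X : Scheme.{u}} [X.Over (Spec (CommRingCat.of k))]
    [IsProper (X ↘ Spec (CommRingCat.of k))] (L : X.Modules) (hL : PicF.IsInvertible L)
    (h : NefP k' (Curv2.bcSnd k X k') ((Scheme.Modules.pullback (Curv2.bcFst k X k')).obj L)) :
    NefP k (X ↘ Spec (CommRingCat.of k)) L := by
  intro Y ι _ hYint hYdim
  haveI := hYint
  letI : Y.Over (Spec (CommRingCat.of k)) := overOf k ι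
  haveI : IsProper (Y ↘ Spec (CommRingCat.of k)) := by
    change IsProper (ι ≫ (X ↘ Spec (CommRingCat.of k)))
    infer_instance
  letI : (Curv2.bc k Y k').Over (Spec (CommRingCat.of k')) := ⟨Curv2.bcSnd k Y k'⟩
  haveI : IsProper ((Curv2.bc k Y k') ↘ Spec (CommRingCat.of k')) := isProper_bcSnd k k' Y
  have hι : ι ≫ (X ↘ Spec (CommRingCat.of k)) = Y ↘ Spec (CommRingCat.of k) := rfl
  have hdimY' : topologicalKrullDim (Curv2.bc k Y k') = 1 := by
    rw [← hYdim]
    exact Groth.Agent.H3.ConsDim.dim_eq_of_isPullback (Y ↘ Spec (CommRingCat.of k))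
      (Curv2.bcSnd k Y k') (Curv2.bcFst k Y k')
      (Spec.map (CommRingCat.ofHom (algebraMap k k'))) (IsPullback.of_hasPullback _ _)
  have hdim1' : topologicalKrullDim (Curv2.bc k Y k') ≤ ((1 : ℕ) : WithBot ℕ∞) := by
    rw [hdimY']; rfl
  have hM := isInvertible_pullback ι hL
  haveI := (isCoh_of_isInvertible hM).1
  have hL' := isInvertible_pullback (Curv2.bcFst k X k') hL
  have hA : PicF.IsInvertible ((Scheme.Modules.pullback (bcMap k k' ι hι)).obj
      ((Scheme.Modules.pullback (Curv2.bcFst k X k')).obj L)) :=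
    isInvertible_pullback _ hL'
  have e1 := curveDeg_bc k k' Y ((Scheme.Modules.pullback ι).obj L)
  have iso : (Scheme.Modules.pullback (Curv2.bcFst k Y k')).obj ((Scheme.Modules.pullback ι).obj L) ≅
      (Scheme.Modules.pullback (bcMap k k' ι hι)).obj
        ((Scheme.Modules.pullback (Curv2.bcFst k X k')).obj L) :=
    (pullbackCompIso (Curv2.bcFst k Y k') ι (Curv2.bcFst k Y k' ≫ ι) rfl).app L ≪≫
      ((pullbackCompIso (bcMap k k' ι hι) (Curv2.bcFst k X k') (Curv2.bcFst k Y k' ≫ ι)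
        (bcMap_fst k k' ι hι)).app L).symm
  rw [hι, ← e1, curveDeg_iso k' _ iso]
  change 0 ≤ Pic13.curveDeg k' ((Curv2.bc k Y k') ↘ Spec (CommRingCat.of k')) _
  rw [curveDeg_eq_euler_sub k' (le_of_eq hdimY') _ hA]
  haveI := Curve.isLocallyNoetherian k' (Curv2.bc k Y k')
  have hOc : Coh.IsCoh (unitMod (Curv2.bc k Y k')) := Groth.Agent.LD.PF.isCoh_unitMod _
  have hsupp : topologicalKrullDim (CohB1.support (unitMod (Curv2.bc k Y k'))) ≤ 1 :=
    (topologicalKrullDim_subspace_le _ _).trans hdimY'.le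
  have h3 := intNum_one_unit k' 1 hdim1' _ hA
  have h4 : FGA.intNum k' (Curv2.bc k Y k') 1 (fun _ : Fin 1 =>
      (Scheme.Modules.pullback (bcMap k k' ι hι)).obj
        ((Scheme.Modules.pullback (Curv2.bcFst k X k')).obj L)) (unitMod (Curv2.bc k Y k')) ≤ 0 := by
    apply intNum_one_nonpos_of_forall_curve k' 1 hdim1' _ hA _ _ hOc hsupp
    intro ξ hξ
    haveI := isIntegral_vI ξ
    have hdimV : topologicalKrullDim (vI ξ).subscheme = 1 := by rw [dim_vI, hξ]; rfl
    have hneg := curveDeg_eq_neg_intNum k' 1 hdim1' _ hA (vI ξ) (le_of_eq hdimV)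
    have h5 := h (vI ξ).subscheme ((vI ξ).subschemeι ≫ bcMap k k' ι hι) (isIntegral_vI ξ) hdimV
    rw [← curveDeg_iso k' _ ((pullbackCompIso (vI ξ).subschemeι (bcMap k k' ι hι) _ rfl).app
      ((Scheme.Modules.pullback (Curv2.bcFst k X k')).obj L))] at h5
    have hstr : ((vI ξ).subschemeι ≫ bcMap k k' ι hι) ≫ Curv2.bcSnd k X k' =
        (vI ξ).subschemeι ≫ ((Curv2.bc k Y k') ↘ Spec (CommRingCat.of k')) := by
      rw [Category.assoc, bcMap_snd]; rfl
    rw [hstr] at h5
    dsimp only [Functor.comp_obj] at h5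
    rw [hneg] at h5
    linarith
  rw [h3] at h4
  linarith


/-- **projective covers (Chow's lemma)**: an integral proper scheme over a field is dominated by
a proper scheme carrying an ample invertible module. -/
theorem exists_projective_cover (Z : Scheme.{u}) [Z.Over (Spec (CommRingCat.of k))]
    [IsProper (Z ↘ Spec (CommRingCat.of k))] [IsIntegral Z] :
    ∃ (W : Scheme.{u}) (pW : W ⟶ Spec (CommRingCat.of k)) (π : W ⟶ Z), IsProper pW ∧
      π ≫ (Z ↘ Spec (CommRingCat.of k)) = pW ∧ Surjective π ∧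
      ∃ A : W.Modules, CohB1.IsAmple A := by
  obtain ⟨N, W, c, X₀, hc, hρ, hne, hiso⟩ :=
    Groth.Agent.LD.Chow.chow_lemma k (Z ↘ Spec (CommRingCat.of k))
  haveI := hc
  haveI := hρ
  haveI : IsProper (Groth.Agent.LD.Chow.pStr N k) := by
    rw [Groth.Agent.LD.Chow.pStr_eq]; exact Groth.Agent.H5.AG.isProper_toSpec N k
  have hcond : (c ≫ pullback.fst (Z ↘ Spec (CommRingCat.of k)) (Groth.Agent.LD.Chow.pStr N k)) ≫
      (Z ↘ Spec (CommRingCat.of k)) =
      (c ≫ pullback.snd (Z ↘ Spec (CommRingCat.of k)) (Groth.Agent.LD.Chow.pStr N k)) ≫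
        Groth.Agent.LD.Chow.pStr N k := by
    rw [Category.assoc, Category.assoc, pullback.condition]
  haveI hprop : IsProper ((c ≫ pullback.fst (Z ↘ Spec (CommRingCat.of k))
      (Groth.Agent.LD.Chow.pStr N k)) ≫ (Z ↘ Spec (CommRingCat.of k))) := by
    rw [hcond]; infer_instance
  refine ⟨W, _, c ≫ pullback.fst (Z ↘ Spec (CommRingCat.of k)) (Groth.Agent.LD.Chow.pStr N k),
    hprop, rfl, ?_, ?_⟩
  · haveI : IsProper (c ≫ pullback.fst (Z ↘ Spec (CommRingCat.of k))
        (Groth.Agent.LD.Chow.pStr N k)) :=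
      IsProper.of_comp _ (Z ↘ Spec (CommRingCat.of k))
    constructor
    have hcl : IsClosed (Set.range (c ≫ pullback.fst (Z ↘ Spec (CommRingCat.of k))
        (Groth.Agent.LD.Chow.pStr N k))) :=
      (c ≫ pullback.fst (Z ↘ Spec (CommRingCat.of k))
        (Groth.Agent.LD.Chow.pStr N k)).isClosedMap.isClosed_range
    have hsub : (X₀ : Set Z) ⊆ Set.range (c ≫ pullback.fst (Z ↘ Spec (CommRingCat.of k))
        (Groth.Agent.LD.Chow.pStr N k)) := by
      intro x hx
      haveI := hiso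
      obtain ⟨w, hw⟩ := ((c ≫ pullback.fst (Z ↘ Spec (CommRingCat.of k))
        (Groth.Agent.LD.Chow.pStr N k)) ∣_ X₀).surjective ⟨x, hx⟩
      refine ⟨w.1, ?_⟩
      have h1 := morphismRestrict_base_coe (c ≫ pullback.fst (Z ↘ Spec (CommRingCat.of k))
        (Groth.Agent.LD.Chow.pStr N k)) X₀ w
      exact h1.symm.trans (congrArg Subtype.val hw)
    have hdense : Dense (X₀ : Set Z) := X₀.2.dense hne
    intro x
    exact (hcl.closure_subset_iff.mpr hsub) (hdense x)
  · obtain ⟨-, L, L', hL, -⟩ := Groth.Agent.LD.PN.exists_ample_of_immersion N k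
      (c ≫ pullback.snd (Z ↘ Spec (CommRingCat.of k)) (Groth.Agent.LD.Chow.pStr N k))
    exact ⟨L, hL⟩

/-- base change of nefness in the presence of an ample module. -/
theorem NefP.bc_of_ample {W : Scheme.{u}} [W.Over (Spec (CommRingCat.of k))]
    [IsProper (W ↘ Spec (CommRingCat.of k))] (A : W.Modules) (hA : CohB1.IsAmple A)
    (L : W.Modules) (hL : PicF.IsInvertible L) (h : NefP k (W ↘ Spec (CommRingCat.of k)) L) :
    NefP k' (Curv2.bcSnd k W k') ((Scheme.Modules.pullback (Curv2.bcFst k W k')).obj L) := by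
  have hN := nefMod_of_curveDeg k L hL h
  letI : (Curv2.bc k W k').Over (Spec (CommRingCat.of k')) := ⟨Curv2.bcSnd k W k'⟩
  haveI : IsProper ((Curv2.bc k W k') ↘ Spec (CommRingCat.of k')) := isProper_bcSnd k k' W
  have hL' := isInvertible_pullback (Curv2.bcFst k W k') hL
  have hA' : PicF.IsInvertible ((Scheme.Modules.pullback (Curv2.bcFst k W k')).obj
      (CohB1.tensorPow A 1)) :=
    isInvertible_pullback _ (isInvertible_tensorPow hA.1 1)
  have hamp : ∀ ν : ℕ, 0 < ν → CohB1.IsAmple (CohB1.tensorMod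
      (CohB1.tensorPow ((Scheme.Modules.pullback (Curv2.bcFst k W k')).obj L) ν)
      ((Scheme.Modules.pullback (Curv2.bcFst k W k')).obj (CohB1.tensorPow A 1))) := by
    intro ν _
    have h1 := isAmple_tensorPows_of_nef k A L hA hL hN ν 1 one_pos
    have h2 := Groth.Agent.LD.PN.AmD.isAmple_pullback_of_isAffineHom (Curv2.bcFst k W k') _ h1
    exact isAmple_of_iso (pbTensorIso (Curv2.bcFst k W k') _ _ (isInvertible_tensorPow hL ν)
      (isInvertible_tensorPow hA.1 1) ≪≫
      tensorIso' (pbTensorPowIso (Curv2.bcFst k W k') L hL ν) (Iso.refl _)) h2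
  intro Y ι _ hYint hYdim
  exact curveDeg_nonneg_of_forall_isAmple k' _ _ hA' hL' hamp Y ι hYint hYdim


/-- **nefness is preserved by extension of the base field.** -/
theorem NefP.bc {X : Scheme.{u}} [X.Over (Spec (CommRingCat.of k))]
    [IsProper (X ↘ Spec (CommRingCat.of k))] (L : X.Modules) (hL : PicF.IsInvertible L)
    (h : NefP k (X ↘ Spec (CommRingCat.of k)) L) :
    NefP k' (Curv2.bcSnd k X k') ((Scheme.Modules.pullback (Curv2.bcFst k X k')).obj L) := by
  intro C' ι' _ hCint hCdim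
  haveI := hCint
  obtain ⟨x, hx⟩ : ∃ x : X, x = (Curv2.bcFst k X k') (ι' (genericPoint C')) := ⟨_, rfl⟩
  haveI := isIntegral_vI x
  letI : (vI x).subscheme.Over (Spec (CommRingCat.of k)) := overOf k (vI x).subschemeι
  haveI : IsProper ((vI x).subscheme ↘ Spec (CommRingCat.of k)) := by
    change IsProper ((vI x).subschemeι ≫ (X ↘ Spec (CommRingCat.of k)))
    infer_instance
  have hLZ := isInvertible_pullback (vI x).subschemeι hL
  have hnefZ : NefP k ((vI x).subscheme ↘ Spec (CommRingCat.of k))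
      ((Scheme.Modules.pullback (vI x).subschemeι).obj L) :=
    NefP.pullback k (X ↘ Spec (CommRingCat.of k)) _ (vI x).subschemeι rfl L hL h
  obtain ⟨W, pW, π, hpW, hπ, hsurj, A, hA⟩ := exists_projective_cover k (vI x).subscheme
  letI : W.Over (Spec (CommRingCat.of k)) := ⟨pW⟩
  haveI : IsProper (W ↘ Spec (CommRingCat.of k)) := hpW
  haveI := hsurj
  have hπ' : π ≫ ((vI x).subscheme ↘ Spec (CommRingCat.of k)) = W ↘ Spec (CommRingCat.of k) := hπ
  have hLW := isInvertible_pullback π hLZ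
  have hnefW : NefP k (W ↘ Spec (CommRingCat.of k)) ((Scheme.Modules.pullback π).obj
      ((Scheme.Modules.pullback (vI x).subschemeι).obj L)) :=
    NefP.pullback k ((vI x).subscheme ↘ Spec (CommRingCat.of k)) _ π hπ' _ hLZ hnefZ
  have hnefW' := NefP.bc_of_ample k k' A hA _ hLW hnefW
  have iso1 : (Scheme.Modules.pullback (Curv2.bcFst k W k')).obj ((Scheme.Modules.pullback π).obj
      ((Scheme.Modules.pullback (vI x).subschemeι).obj L)) ≅
      (Scheme.Modules.pullback (bcMap k k' π hπ')).obj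
        ((Scheme.Modules.pullback (Curv2.bcFst k (vI x).subscheme k')).obj
          ((Scheme.Modules.pullback (vI x).subschemeι).obj L)) :=
    (pullbackCompIso (Curv2.bcFst k W k') π (Curv2.bcFst k W k' ≫ π) rfl).app _ ≪≫
      ((pullbackCompIso (bcMap k k' π hπ') (Curv2.bcFst k (vI x).subscheme k')
        (Curv2.bcFst k W k' ≫ π) (bcMap_fst k k' π hπ')).app _).symm
  have hnef1 := NefP.of_iso iso1 hnefW'
  haveI : IsProper (Curv2.bcSnd k (vI x).subscheme k') := isProper_bcSnd k k' _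
  haveI : IsProper (Curv2.bcSnd k W k') := isProper_bcSnd k k' _
  have hnefZ' : NefP k' (Curv2.bcSnd k (vI x).subscheme k')
      ((Scheme.Modules.pullback (Curv2.bcFst k (vI x).subscheme k')).obj
        ((Scheme.Modules.pullback (vI x).subschemeι).obj L)) :=
    NefP.of_pullback_surjective k' (Curv2.bcSnd k (vI x).subscheme k') (Curv2.bcSnd k W k')
      (bcMap k k' π hπ') (bcMap_snd k k' π hπ') _ (isInvertible_pullback _ hLZ) hnef1
  -- factor `C' ⟶ Z'`
  obtain ⟨f, hf, -⟩ := exists_factor (vI x).subschemeι (ι' ≫ Curv2.bcFst k X k')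
    (by rw [subschemeι_genericPoint_vI, hx]; rfl)
  have hcompat : f ≫ ((vI x).subscheme ↘ Spec (CommRingCat.of k)) =
      (ι' ≫ Curv2.bcSnd k X k') ≫ Spec.map (CommRingCat.ofHom (algebraMap k k')) := by
    change f ≫ (vI x).subschemeι ≫ (X ↘ Spec (CommRingCat.of k)) = _
    rw [← Category.assoc, hf, Category.assoc, Category.assoc, pullback.condition]
  obtain ⟨γ, hγ1, hγ2⟩ : ∃ γ : C' ⟶ Curv2.bc k (vI x).subscheme k',
      γ ≫ Curv2.bcFst k (vI x).subscheme k' = f ∧
      γ ≫ Curv2.bcSnd k (vI x).subscheme k' = ι' ≫ Curv2.bcSnd k X k' :=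
    ⟨pullback.lift f (ι' ≫ Curv2.bcSnd k X k') hcompat, pullback.lift_fst _ _ _,
      pullback.lift_snd _ _ _⟩
  have hγj : γ ≫ bcMap k k' (vI x).subschemeι rfl = ι' := by
    apply pullback.hom_ext
    · have := bcMap_fst k k' (vI x).subschemeι rfl
      rw [Category.assoc]
      erw [this]
      rw [← Category.assoc, hγ1, hf]
    · have := bcMap_snd k k' (vI x).subschemeι rfl
      rw [Category.assoc]
      erw [this]
      exact hγ2
  haveI : IsClosedImmersion (γ ≫ bcMap k k' (vI x).subschemeι rfl) := by rw [hγj]; infer_instance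
  haveI : IsClosedImmersion γ :=
    IsClosedImmersion.of_comp_isClosedImmersion γ (bcMap k k' (vI x).subschemeι rfl)
  have h6 := hnefZ' C' γ hCint hCdim
  have iso2 : (Scheme.Modules.pullback γ).obj
      ((Scheme.Modules.pullback (Curv2.bcFst k (vI x).subscheme k')).obj
        ((Scheme.Modules.pullback (vI x).subschemeι).obj L)) ≅
      (Scheme.Modules.pullback ι').obj ((Scheme.Modules.pullback (Curv2.bcFst k X k')).obj L) :=
    (Scheme.Modules.pullback γ).mapIso
      ((pullbackCompIso (Curv2.bcFst k (vI x).subscheme k') (vI x).subschemeι _ rfl).app L) ≪≫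
    (pullbackCompIso γ (Curv2.bcFst k (vI x).subscheme k' ≫ (vI x).subschemeι)
      (ι' ≫ Curv2.bcFst k X k') (by rw [← Category.assoc, hγ1, hf])).app L ≪≫
    ((pullbackCompIso ι' (Curv2.bcFst k X k') _ rfl).app L).symm
  rw [hγ2, curveDeg_iso k' _ iso2] at h6
  exact h6

end Groth.Agent.H5.IntN
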