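import Mathlib
import Groth.Agent.Lib.Helper5.IntN.BC3

set_option autoImplicit false
universe u
open CategoryTheory CategoryTheory.Limits AlgebraicGeometry TopologicalSpace Opposite

namespace Groth.Agent.H5.IntN

open Groth.Agent.LD Groth.Agent.LD.QC Groth.Agent.H5.Curve4 Groth.Agent.H5.DegC Groth.Agent.H5.Snap
open Groth.Agent.H5.Deg Groth.Agent.H5.HP Groth.Agent.H5.Lim

variable (k : Type u) [Field k]

section conv

variable {X : Scheme.{u}} [X.Over (Spec (CommRingCat.of k))]
  [IsProper (X ↘ Spec (CommRingCat.of k))]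

/-- the curve form of nefness in terms of ideal sheaves and Euler characteristics. -/
theorem nefP_iff_forall_ideal (L : X.Modules) (hL : PicF.IsInvertible L) :
    NefP k (X ↘ Spec (CommRingCat.of k)) L ↔
      ∀ C : X.IdealSheafData, IsIntegral C.subscheme →
        topologicalKrullDim (C.support : Set X) = 1 →
          0 ≤ Curv2.euler k X (CohB1.tensorMod (ClSub.quotMod C) L) -
            Curv2.euler k X (ClSub.quotMod C) := by
  constructor
  · intro h C hCint hCdim
    rw [euler_quotMod_sub_eq_curveDeg k C (le_of_eq hCdim) L hL]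
    exact h C.subscheme C.subschemeι hCint (by rw [dim_subscheme_eq, hCdim])
  · intro h Y ι _ hYint hYdim
    haveI := hYint
    letI : Y.Over (Spec (CommRingCat.of k)) := overOf k ι
    haveI : IsProper (Y ↘ Spec (CommRingCat.of k)) := by
      change IsProper (ι ≫ (X ↘ Spec (CommRingCat.of k)))
      infer_instance
    haveI := isIntegral_vI (ι (genericPoint Y))
    have hdimV : topologicalKrullDim ((vI (ι (genericPoint Y))).support : Set X) = 1 := by
      rw [coe_support_vI, dim_closure_image_genericPoint ι, hYdim]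
    obtain ⟨-, e, -, -, hdeg⟩ := exists_curveDeg_pullback k (le_of_eq hYdim) ι rfl
      (vI (ι (genericPoint Y))).subschemeι (subschemeι_genericPoint_vI _).symm
    change 0 ≤ Pic13.curveDeg k (Y ↘ Spec (CommRingCat.of k)) _
    rw [hdeg L hL, ← euler_quotMod_sub_eq_curveDeg k _ (le_of_eq hdimV) L hL]
    exact mul_nonneg (by positivity) (h _ (isIntegral_vI _) hdimV)

/-- the degree of the inverse on a curve. -/
theorem curveDeg_inverse (L L' : X.Modules) (hL : PicF.IsInvertible L)
    (hL' : PicF.IsInvertible L') (e : CohB1.tensorMod L L' ≅ Coh.structureModule X)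
    (Y : Scheme.{u}) (ι : Y ⟶ X) [IsClosedImmersion ι] (hYint : IsIntegral Y)
    (hYdim : topologicalKrullDim Y = 1) :
    Pic13.curveDeg k (ι ≫ (X ↘ Spec (CommRingCat.of k))) ((Scheme.Modules.pullback ι).obj L') =
      - Pic13.curveDeg k (ι ≫ (X ↘ Spec (CommRingCat.of k)))
        ((Scheme.Modules.pullback ι).obj L) := by
  haveI := hYint
  letI : Y.Over (Spec (CommRingCat.of k)) := overOf k ι
  haveI : IsProper (Y ↘ Spec (CommRingCat.of k)) := by
    change IsProper (ι ≫ (X ↘ Spec (CommRingCat.of k)))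
    infer_instance
  haveI := Curve.isLocallyNoetherian k Y
  have hY1 : topologicalKrullDim Y ≤ ((1 : ℕ) : WithBot ℕ∞) := by rw [hYdim]; rfl
  have hM := isInvertible_pullback ι hL
  have hM' := isInvertible_pullback ι hL'
  have e' : CohB1.tensorMod ((Scheme.Modules.pullback ι).obj L)
      ((Scheme.Modules.pullback ι).obj L') ≅ Coh.structureModule Y :=
    (pbTensorIso ι L L' hL hL').symm ≪≫ (Scheme.Modules.pullback ι).mapIso e ≪≫ pbUnitIso ι
  have hOc : Coh.IsCoh (unitMod Y) := Groth.Agent.LD.PF.isCoh_unitMod Y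
  have hsupp : topologicalKrullDim (CohB1.support (unitMod Y)) ≤ 1 :=
    (topologicalKrullDim_subspace_le _ _).trans hYdim.le
  have h1 := intNum_one_unit k 1 hY1 _ hM
  have h2 := intNum_one_unit k 1 hY1 _ hM'
  have h3 := intNum_one_inverse k 1 hY1 _ _ hM hM' e' (unitMod Y) hOc hsupp
  change Pic13.curveDeg k (Y ↘ Spec (CommRingCat.of k)) _ =
    - Pic13.curveDeg k (Y ↘ Spec (CommRingCat.of k)) _
  rw [curveDeg_eq_euler_sub k (le_of_eq hYdim) _ hM, curveDeg_eq_euler_sub k (le_of_eq hYdim) _ hM']
  linarith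

/-- numerical triviality as two-sided nefness. -/
theorem isNumEquivZero_iff_nefP (L L' : X.Modules) (hL : PicF.IsInvertible L)
    (hL' : PicF.IsInvertible L') (e : CohB1.tensorMod L L' ≅ Coh.structureModule X) :
    Pic13.IsNumEquivZero k X L ↔
      NefP k (X ↘ Spec (CommRingCat.of k)) L ∧ NefP k (X ↘ Spec (CommRingCat.of k)) L' := by
  constructor
  · intro h
    refine ⟨fun Y ι _ hYint hYdim => le_of_eq (h Y ι hYint hYdim).symm, fun Y ι _ hYint hYdim => ?_⟩
    rw [curveDeg_inverse k L L' hL hL' e Y ι hYint hYdim, h Y ι hYint hYdim]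
    simp
  · rintro ⟨h1, h2⟩ Y ι _ hYint hYdim
    have a := h1 Y ι hYint hYdim
    have b := h2 Y ι hYint hYdim
    rw [curveDeg_inverse k L L' hL hL' e Y ι hYint hYdim] at b
    linarith

end conv

end Groth.Agent.H5.IntN
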