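import Mathlib
import Groth.Agent.Lib.Helper5.IntN.Surf2

/-!
# Effective nonzero divisors have positive degree with respect to ample modules (S5632).
-/

set_option autoImplicit false
universe u
open CategoryTheory CategoryTheory.Limits AlgebraicGeometry TopologicalSpace Opposite

namespace Groth.Agent.H5.IntN

open Groth.Agent.LD Groth.Agent.LD.QC Groth.Agent.H5.Curve4 Groth.Agent.H5.DegC Groth.Agent.H5.Snap
open Groth.Agent.H5.Deg Groth.Agent.H5.HP Groth.Agent.LD.PN Groth.Agent.LD.TW Twist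

variable (k : Type u) [Field k] {X : Scheme.{u}} [X.Over (Spec (CommRingCat.of k))]
  [IsProper (X ↘ Spec (CommRingCat.of k))]

/-- on an integral proper scheme of dimension `s + 1`, if a power `A^m` (`m > 0`) of an invertible
module `A` has a nonzero section vanishing somewhere, then `(A · H_1 ⋯ H_s) > 0` for ample `H_i`. -/
theorem intNum_pos_of_section [IsIntegral X] (d : ℕ) (hd : topologicalKrullDim X ≤ d) {s : ℕ}
    (hdim : topologicalKrullDim X = ((s + 1 : ℕ) : WithBot ℕ∞))
    (Hs Hs' : Fin s → X.Modules) (hH : ∀ i, CohB1.IsAmple (Hs i))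
    (hHH' : ∀ i, Nonempty (CohB1.tensorMod (Hs i) (Hs' i) ≅ Coh.structureModule X))
    (A A' : X.Modules) (hA : PicF.IsInvertible A)
    (e : Nonempty (CohB1.tensorMod A A' ≅ Coh.structureModule X))
    (m : ℕ) (hm : 0 < m) (σ : unitMod X ⟶ CohB1.tensorPow A m) (hσ : σ ≠ 0) (y : X)
    (hy : y ∉ CohB1.genLocus _ σ) :
    0 < FGA.intNum k X d (Fin.cons A' Hs' : Fin (s + 1) → X.Modules) (unitMod X) := by
  have hdimr : topologicalKrullDim X ≤ ((s + 1 : ℕ) : WithBot ℕ∞) := le_of_eq hdim
  have hHs' : ∀ i, PicF.IsInvertible (Hs' i) := fun i =>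
    QC.isInvertible_of_tensor_iso (hH i).1 (hHH' i).some
  obtain ⟨hQc, hsupp, h2⟩ := intNum_cons_eq_cokernel k d hd hdimr Hs' hHs' A A' hA e m σ hσ
  have hN : PicF.IsInvertible (CohB1.tensorPow A m) := isInvertible_tensorPow hA m
  have hησ : genericPoint X ∈ CohB1.genLocus _ σ :=
    Curve2.genericPoint_mem_genLocus hN σ hσ
  have hdimQ : topologicalKrullDim (CohB1.support (cokernel (twistBy (unitMod X) σ))) =
      ((s : ℕ) : WithBot ℕ∞) := by
    apply le_antisymm
    · apply dim_le_of_ne_univ (r := s) hdim _ (isClosed_support_of_isCoh hQc)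
      intro heq
      have : genericPoint X ∈ CohB1.support (cokernel (twistBy (unitMod X) σ)) := by
        rw [heq]; trivial
      rw [hsupp] at this
      exact this hησ
    · rw [hsupp]
      exact le_dim_zeroLocus_section (X ↘ Spec (CommRingCat.of k)) hN σ hσ y hy (r := s) hdim
  have hp := intNum_pos_of_isAmple k X d hd Hs Hs' hH hHH' _ hQc hdimQ
  rw [← h2] at hp
  have hm' : (0 : ℤ) < (m : ℤ) := by exact_mod_cast hm
  exact (mul_pos_iff_of_pos_left hm').mp hp

/-- a nonzero morphism `O ⟶ N` which generates everywhere is an isomorphism. -/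
lemma isIso_of_genLocus_eq_top {N : X.Modules} (σ : unitMod X ⟶ N)
    (h : ∀ y : X, y ∈ CohB1.genLocus N σ) : IsIso σ := by
  have htop : (⊤ : X.Opens) ≤ CohB1.genLocus _ σ := fun y _ => h y
  rw [le_genLocus_iff] at htop
  rw [Scheme.Modules.Hom.isIso_iff_isIso_app]
  intro W
  rw [ConcreteCategory.isIso_iff_bijective]
  exact htop W le_top

/-- **S5632**. -/
theorem iso_structureSheaf_of_deg_nonpos_of_sections (k : Type u) [Field k] (n : ℕ)
    (X : Scheme.{u}) [X.Over (Spec (CommRingCat.of k))]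
    (i : X ⟶ CohB1.ProjSpace n k) [IsClosedImmersion i]
    (hi : i ≫ CohB1.ProjSpace.toSpec n k = X ↘ Spec (CommRingCat.of k))
    [IsIntegral X] (s : ℕ) (hdim : topologicalKrullDim X = (s + 1 : ℕ))
    (L L' : X.Modules) (hL : PicF.IsInvertible L)
    (hLL' : Nonempty (CohB1.tensorMod L L' ≅ Coh.structureModule X))
    (hdeg : FGA.intNum k X (s + 1)
      (Matrix.vecCons L' (fun _ : Fin s =>
        (Scheme.Modules.pullback i).obj (Twist.twistProjSpace n k (-1))))
      (Coh.structureModule X) ≤ 0)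
    (hsec : Nontrivial (Coh.HH X L 0)) :
    Nonempty (L ≅ Coh.structureModule X) := by
  haveI : IsProper (X ↘ Spec (CommRingCat.of k)) := by
    rw [← hi]
    haveI := Groth.Agent.H5.AG.isProper_toSpec n k
    infer_instance
  have hd : topologicalKrullDim X ≤ ((s + 1 : ℕ) : WithBot ℕ∞) := le_of_eq hdim
  set H : X.Modules := (Scheme.Modules.pullback i).obj (Twist.twistProjSpace n k 1) with hHdef
  set H' : X.Modules := (Scheme.Modules.pullback i).obj (Twist.twistProjSpace n k (-1))
    with hH'def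
  have hH : CohB1.IsAmple H :=
    PN.AmD.isAmple_pullback_of_isAffineHom i _ (Groth.Agent.H5.VAmple.isAmple_O1 n k)
  have hHH' : Nonempty (CohB1.tensorMod H H' ≅ Coh.structureModule X) :=
    ⟨pbTwistTensorIso i 1 (-1) 0 (by ring) ≪≫
      (Scheme.Modules.pullback i).mapIso (twistZeroIso (CohB1.polyGrading n k)) ≪≫ pbUnitIso i⟩
  have hnt : Nontrivial (Coh.HH X (CohB1.tensorPow L 1) 0) :=
    (CL.HHisoEquiv k (unitorL' L).symm 0).toEquiv.symm.nontrivial
  obtain ⟨σ, hσ⟩ := exists_ne_zero_of_nontrivial_HH (CohB1.tensorPow L 1) hnt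
  by_cases hex : ∃ y : X, y ∉ CohB1.genLocus _ σ
  · exfalso
    obtain ⟨y, hy⟩ := hex
    have hp := intNum_pos_of_section k (s + 1) hd hdim (fun _ : Fin s => H) (fun _ : Fin s => H')
      (fun _ => hH) (fun _ => hHH') L L' hL hLL' 1 Nat.one_pos σ hσ y hy
    have hcons : (Matrix.vecCons L' (fun _ : Fin s => H') : Fin (s + 1) → X.Modules) =
        Fin.cons L' (fun _ : Fin s => H') := rfl
    rw [hcons] at hdeg
    exact absurd hp (not_lt.mpr hdeg)
  · push Not at hex
    haveI := isIso_of_genLocus_eq_top σ hex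
    exact ⟨(unitorL' L).symm ≪≫ (asIso σ).symm⟩

end Groth.Agent.H5.IntN
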