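import Mathlib
import Groth.Agent.Lib.Helper5.IntN.Gro1

/-!
# Arithmetic for `O(m^{d-1})` error terms (helper5; S17375, S17285)
-/

set_option autoImplicit false
universe u
open Filter

namespace Groth.Agent.H5.IntN

lemma bnd_le_real (d m : ℕ) (hm : 1 ≤ m) :
    ((bnd d m : ℕ) : ℝ) ≤ 2 ^ (d - 1) * (m : ℝ) ^ (d - 1) := by
  cases d with
  | zero =>
    change ((0 : ℕ) : ℝ) ≤ _
    simp
  | succ e =>
    change (((1 + m) ^ e : ℕ) : ℝ) ≤ _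
    rw [Nat.add_sub_cancel, ← mul_pow]
    push_cast
    have h1 : (1 : ℝ) ≤ (m : ℝ) := by exact_mod_cast hm
    exact pow_le_pow_left₀ (by positivity) (by linarith) e

/-- a difference bounded by `K (1+m)^{d-1}` is `O(m^{d-1})`. -/
theorem isBigO_of_bounds (a b : ℕ → ℕ) (n K d : ℕ)
    (h : ∀ m, a m ≤ n * b m + K * bnd d m ∧ n * b m ≤ a m + K * bnd d m) :
    (fun m : ℕ => ((a m : ℕ) : ℝ) - (n : ℝ) * ((b m : ℕ) : ℝ)) =O[atTop]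
      (fun m : ℕ => (m : ℝ) ^ (d - 1)) := by
  refine Asymptotics.IsBigO.of_bound ((K : ℝ) * 2 ^ (d - 1)) ?_
  filter_upwards [eventually_ge_atTop 1] with m hm
  obtain ⟨h1, h2⟩ := h m
  have h1' : ((a m : ℕ) : ℝ) ≤ (n : ℝ) * (b m : ℝ) + (K : ℝ) * (bnd d m : ℝ) := by
    exact_mod_cast h1
  have h2' : (n : ℝ) * (b m : ℝ) ≤ ((a m : ℕ) : ℝ) + (K : ℝ) * (bnd d m : ℝ) := by
    exact_mod_cast h2
  have h3 := bnd_le_real d m hm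
  have hK : (0 : ℝ) ≤ (K : ℝ) := Nat.cast_nonneg K
  have h4 : (K : ℝ) * (bnd d m : ℝ) ≤ (K : ℝ) * (2 ^ (d - 1) * (m : ℝ) ^ (d - 1)) :=
    mul_le_mul_of_nonneg_left h3 hK
  have hpos : (0 : ℝ) ≤ (m : ℝ) ^ (d - 1) := by positivity
  rw [Real.norm_eq_abs, Real.norm_eq_abs, abs_of_nonneg hpos, abs_le]
  constructor <;> nlinarith

/-- bigness passes along an `O(m^{d-1})` error. -/
theorem big_of_close (a b : ℕ → ℕ) (K d : ℕ)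
    (h : ∀ m, a m ≤ b m + K * bnd d m)
    (ha : ∃ c : ℝ, 0 < c ∧ ∀ᶠ n : ℕ in atTop, c * (n : ℝ) ^ d < ((a n : ℕ) : ℝ)) :
    ∃ c : ℝ, 0 < c ∧ ∀ᶠ n : ℕ in atTop, c * (n : ℝ) ^ d < ((b n : ℕ) : ℝ) := by
  obtain ⟨c, hc, hev⟩ := ha
  refine ⟨c / 2, by positivity, ?_⟩
  obtain ⟨N, hN⟩ := exists_nat_ge ((K : ℝ) * 2 ^ d / c)
  filter_upwards [hev, eventually_ge_atTop 1, eventually_ge_atTop N] with m hm h1 hmN
  have h1' : ((a m : ℕ) : ℝ) ≤ (b m : ℝ) + (K : ℝ) * (bnd d m : ℝ) := by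
    exact_mod_cast h m
  have h3 := bnd_le_real d m h1
  have hK : (0 : ℝ) ≤ (K : ℝ) := Nat.cast_nonneg K
  have h4 : (K : ℝ) * (bnd d m : ℝ) ≤ (K : ℝ) * (2 ^ (d - 1) * (m : ℝ) ^ (d - 1)) :=
    mul_le_mul_of_nonneg_left h3 hK
  have hm1 : (1 : ℝ) ≤ (m : ℝ) := by exact_mod_cast h1
  have hmN' : (K : ℝ) * 2 ^ d / c ≤ (m : ℝ) := le_trans hN (by exact_mod_cast hmN)
  have hmN'' : (K : ℝ) * 2 ^ d ≤ c * (m : ℝ) := by
    rw [div_le_iff₀ hc] at hmN'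
    linarith
  -- `K * bnd ≤ (c/2) m^d`
  have hkey : (K : ℝ) * (bnd d m : ℝ) ≤ c / 2 * (m : ℝ) ^ d := by
    cases d with
    | zero =>
      change (K : ℝ) * ((0 : ℕ) : ℝ) ≤ _
      simp only [Nat.cast_zero, mul_zero]
      positivity
    | succ e =>
      rw [Nat.add_sub_cancel] at h4
      refine le_trans h4 ?_
      have hme : (0 : ℝ) ≤ (m : ℝ) ^ e := by positivity
      rw [pow_succ] at hmN'' ⊢
      nlinarith
  linarith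

theorem big_iff_of_close (a b : ℕ → ℕ) (K d : ℕ)
    (h : ∀ m, a m ≤ b m + K * bnd d m ∧ b m ≤ a m + K * bnd d m) :
    (∃ c : ℝ, 0 < c ∧ ∀ᶠ n : ℕ in atTop, c * (n : ℝ) ^ d < ((a n : ℕ) : ℝ)) ↔
      (∃ c : ℝ, 0 < c ∧ ∀ᶠ n : ℕ in atTop, c * (n : ℝ) ^ d < ((b n : ℕ) : ℝ)) :=
  ⟨big_of_close a b K d (fun m => (h m).1), big_of_close b a K d (fun m => (h m).2)⟩

end Groth.Agent.H5.IntN
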