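import Mathlib
import Groth.Agent.Lib.Helper5.IntN.Gro1
import Groth.Prelude.Def_W4c5asymptcohfnACF

/-!
# Asymptotic cohomological functions: consequences of the polynomial growth of cohomology
(S17628, S17629, S17634).
-/

set_option autoImplicit false
universe u
open CategoryTheory CategoryTheory.Limits AlgebraicGeometry TopologicalSpace Opposite Filter

namespace Groth.Agent.H5.IntN

open Groth.Agent.LD Groth.Agent.LD.QC Groth.Agent.H5.Curve4 Groth.Agent.H5.DegC Groth.Agent.H5.Snap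

section analysis

lemma bddBelow_limsup_set {x : ℕ → ℝ} (hx : ∀ m, 0 ≤ x m) :
    BddBelow {a : ℝ | ∀ᶠ m in atTop, x m ≤ a} :=
  ⟨0, fun b hb => by
    obtain ⟨m, hm⟩ := (hb : ∀ᶠ m in atTop, x m ≤ b).exists
    exact (hx m).trans hm⟩

lemma limsup_le_of_forall_pos {x : ℕ → ℝ} {ℓ : ℝ} (hx : ∀ m, 0 ≤ x m)
    (h : ∀ ε > 0, ∀ᶠ m in atTop, x m ≤ ℓ + ε) : limsup x atTop ≤ ℓ := by
  rw [Filter.limsup_eq]
  apply le_of_forall_pos_le_add
  intro ε hε
  exact csInf_le (bddBelow_limsup_set hx) (h ε hε)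

lemma limsup_le_of_le_tendsto {x y : ℕ → ℝ} {ℓ : ℝ} (hx : ∀ m, 0 ≤ x m)
    (hxy : ∀ᶠ m in atTop, x m ≤ y m) (hy : Tendsto y atTop (nhds ℓ)) : limsup x atTop ≤ ℓ := by
  apply limsup_le_of_forall_pos hx
  intro ε hε
  have h1 : ∀ᶠ m in atTop, y m < ℓ + ε := (tendsto_order.1 hy).2 _ (lt_add_of_pos_right _ hε)
  filter_upwards [hxy, h1] with m h2 h3
  linarith

lemma limsup_eq_of_le_add {u v w : ℕ → ℝ} (hu : ∀ m, 0 ≤ u m) (hv : ∀ m, 0 ≤ v m)
    (h1 : ∀ m, u m ≤ v m + w m) (h2 : ∀ m, v m ≤ u m + w m) (hw : Tendsto w atTop (nhds 0)) :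
    limsup u atTop = limsup v atTop := by
  have key : ∀ (u v : ℕ → ℝ), (∀ m, 0 ≤ u m) → (∀ m, u m ≤ v m + w m) →
      (∀ m, v m ≤ u m + w m) →
      sInf {a : ℝ | ∀ᶠ m in atTop, u m ≤ a} ≤ sInf {a : ℝ | ∀ᶠ m in atTop, v m ≤ a} := by
    intro u v hu h1 h2
    by_cases hne : {a : ℝ | ∀ᶠ m in atTop, v m ≤ a}.Nonempty
    · apply le_of_forall_pos_le_add
      intro ε hε
      have h3 : sInf {a : ℝ | ∀ᶠ m in atTop, u m ≤ a} - ε ≤
          sInf {a : ℝ | ∀ᶠ m in atTop, v m ≤ a} := by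
        apply le_csInf hne
        intro a ha
        have hw' : ∀ᶠ m in atTop, w m < ε := (tendsto_order.1 hw).2 _ hε
        have hmem : a + ε ∈ {a : ℝ | ∀ᶠ m in atTop, u m ≤ a} := by
          show ∀ᶠ m in atTop, u m ≤ a + ε
          filter_upwards [(ha : ∀ᶠ m in atTop, v m ≤ a), hw'] with m hm1 hm2
          linarith [h1 m]
        have := csInf_le (bddBelow_limsup_set hu) hmem
        linarith
      linarith
    · have hSv : {a : ℝ | ∀ᶠ m in atTop, v m ≤ a} = ∅ := Set.not_nonempty_iff_eq_empty.mp hne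
      have hSu : {a : ℝ | ∀ᶠ m in atTop, u m ≤ a} = ∅ := by
        by_contra hcon
        obtain ⟨a, ha⟩ := Set.nonempty_iff_ne_empty.mpr hcon
        apply hne
        refine ⟨a + 1, ?_⟩
        show ∀ᶠ m in atTop, v m ≤ a + 1
        have hw' : ∀ᶠ m in atTop, w m < 1 := (tendsto_order.1 hw).2 _ one_pos
        filter_upwards [(ha : ∀ᶠ m in atTop, u m ≤ a), hw'] with m hm1 hm2
        linarith [h2 m]
      rw [hSu, hSv]
  rw [Filter.limsup_eq, Filter.limsup_eq]
  exact le_antisymm (key u v hu h1 h2) (key v u hv h2 h1)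

lemma bnd_mul_le : ∀ (n m : ℕ), bnd n m * m ≤ 2 ^ n * m ^ n
  | 0, m => by
    change 0 * m ≤ 2 ^ 0 * m ^ 0
    simp
  | n + 1, m => by
    change (1 + m) ^ n * m ≤ 2 ^ (n + 1) * m ^ (n + 1)
    rcases Nat.eq_zero_or_pos m with rfl | hm
    · simp
    · have h1 : (1 + m) ^ n ≤ (2 * m) ^ n := Nat.pow_le_pow_left (by omega) n
      calc (1 + m) ^ n * m ≤ (2 * m) ^ n * m := Nat.mul_le_mul_right _ h1
        _ = 2 ^ n * m ^ (n + 1) := by rw [Nat.mul_pow, pow_succ]; ring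
        _ ≤ 2 ^ (n + 1) * m ^ (n + 1) :=
            Nat.mul_le_mul_right _ (Nat.pow_le_pow_right (by omega) (Nat.le_succ n))

lemma tendsto_bnd_div (K n : ℕ) :
    Tendsto (fun m : ℕ => (((K * bnd n m : ℕ) : ℝ)) * (n.factorial : ℝ) / (m : ℝ) ^ n)
      atTop (nhds 0) := by
  have hc := tendsto_const_div_atTop_nhds_zero_nat (((K * 2 ^ n * n.factorial : ℕ) : ℝ))
  refine tendsto_of_tendsto_of_tendsto_of_le_of_le' tendsto_const_nhds hc ?_ ?_
  · exact Filter.Eventually.of_forall (fun m => by positivity)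
  · rw [eventually_atTop]
    refine ⟨1, fun m hm => ?_⟩
    have hm0 : (0 : ℝ) < m := by exact_mod_cast hm
    rw [div_le_div_iff₀ (pow_pos hm0 n) hm0]
    have h := bnd_mul_le n m
    have h' : K * bnd n m * n.factorial * m ≤ K * 2 ^ n * n.factorial * m ^ n := by
      calc K * bnd n m * n.factorial * m = K * n.factorial * (bnd n m * m) := by ring
        _ ≤ K * n.factorial * (2 ^ n * m ^ n) := Nat.mul_le_mul_left _ h
        _ = K * 2 ^ n * n.factorial * m ^ n := by ring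
    exact_mod_cast h'

lemma tendsto_growth (C : ℝ) (n : ℕ) (σ : ℝ) :
    Tendsto (fun m : ℕ => C * (1 / (m : ℝ) + σ) ^ n) atTop (nhds (C * σ ^ n)) := by
  have h1 : Tendsto (fun m : ℕ => 1 / (m : ℝ)) atTop (nhds 0) :=
    tendsto_one_div_atTop_nhds_zero_nat
  have h2 : Tendsto (fun m : ℕ => 1 / (m : ℝ) + σ) atTop (nhds (0 + σ)) := h1.add_const σ
  rw [zero_add] at h2
  exact (h2.pow n).const_mul C

lemma seq_le (h C n σ m : ℕ) (hm : 1 ≤ m) (hh : h ≤ C * (1 + m * σ) ^ n) :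
    (h : ℝ) * (n.factorial : ℝ) / (m : ℝ) ^ n ≤
      ((C : ℝ) * (n.factorial : ℝ)) * (1 / (m : ℝ) + (σ : ℝ)) ^ n := by
  have hm0 : (0 : ℝ) < m := by exact_mod_cast hm
  have h1 : (h : ℝ) ≤ (C : ℝ) * (1 + (m : ℝ) * σ) ^ n := by exact_mod_cast hh
  have h2 : (1 / (m : ℝ) + σ) = (1 + (m : ℝ) * σ) / (m : ℝ) := by
    field_simp
  rw [h2, div_pow, div_le_iff₀ (pow_pos hm0 n),
    mul_assoc ((C : ℝ) * (n.factorial : ℝ)) _ ((m : ℝ) ^ n),
    div_mul_cancel₀ _ (ne_of_gt (pow_pos hm0 n))]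
  calc (h : ℝ) * (n.factorial : ℝ) ≤ ((C : ℝ) * (1 + (m : ℝ) * σ) ^ n) * (n.factorial : ℝ) :=
        mul_le_mul_of_nonneg_right h1 (Nat.cast_nonneg _)
    _ = (C : ℝ) * (n.factorial : ℝ) * (1 + (m : ℝ) * σ) ^ n := by ring

lemma sigma_le (r : ℕ) (a : Fin r → ℤ) :
    ((∑ j, (a j).toNat + ∑ j, (-(a j)).toNat : ℕ) : ℝ) ≤
      (r : ℝ) * ‖(fun j => ((a j : ℤ) : ℝ))‖ := by
  rw [← Finset.sum_add_distrib, Nat.cast_sum]
  calc ∑ j, (((a j).toNat + (-(a j)).toNat : ℕ) : ℝ)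
      ≤ ∑ _j : Fin r, ‖(fun j => ((a j : ℤ) : ℝ))‖ := by
        apply Finset.sum_le_sum
        intro j _
        have hnat : (a j).toNat + (-(a j)).toNat = (a j).natAbs := by omega
        rw [hnat, Nat.cast_natAbs, Int.cast_abs, ← Real.norm_eq_abs]
        exact norm_le_pi_norm (fun j => ((a j : ℤ) : ℝ)) j
    _ = (r : ℝ) * ‖(fun j => ((a j : ℤ) : ℝ))‖ := by
        rw [Finset.sum_const, Finset.card_univ, Fintype.card_fin, nsmul_eq_mul]

end analysis

variable (k : Type u) [Field k] {X : Scheme.{u}} [X.Over (Spec (CommRingCat.of k))]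
  [IsProper (X ↘ Spec (CommRingCat.of k))]

/-- equality of the asymptotic invariants from a bound of the difference. -/
lemma hhatF_eq_of_bounds (n i : ℕ) (F G L : X.Modules) (K : ℕ)
    (hb1 : ∀ m, Module.finrank k (Coh.HH X (CohB1.tensorMod F (CohB1.tensorPow L m)) i) ≤
      Module.finrank k (Coh.HH X (CohB1.tensorMod G (CohB1.tensorPow L m)) i) + K * bnd n m)
    (hb2 : ∀ m, Module.finrank k (Coh.HH X (CohB1.tensorMod G (CohB1.tensorPow L m)) i) ≤
      Module.finrank k (Coh.HH X (CohB1.tensorMod F (CohB1.tensorPow L m)) i) + K * bnd n m) :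
    W4c5asymptcohfn.hhatF k X n i F L = W4c5asymptcohfn.hhatF k X n i G L := by
  unfold W4c5asymptcohfn.hhatF
  refine limsup_eq_of_le_add
    (w := fun m : ℕ => (((K * bnd n m : ℕ) : ℝ)) * (n.factorial : ℝ) / (m : ℝ) ^ n)
    ?_ ?_ ?_ ?_ (tendsto_bnd_div K n)
  · intro m
    unfold W4c5asymptcohfn.cohSeq
    positivity
  · intro m
    unfold W4c5asymptcohfn.cohSeq
    positivity
  · intro m
    unfold W4c5asymptcohfn.cohSeq
    rw [← add_div, ← add_mul]
    refine div_le_div_of_nonneg_right ?_ (by positivity)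
    refine mul_le_mul_of_nonneg_right ?_ (by positivity)
    exact_mod_cast hb1 m
  · intro m
    unfold W4c5asymptcohfn.cohSeq
    rw [← add_div, ← add_mul]
    refine div_le_div_of_nonneg_right ?_ (by positivity)
    refine mul_le_mul_of_nonneg_right ?_ (by positivity)
    exact_mod_cast hb2 m

lemma isWord_tensorPow_singleton {L : X.Modules} (hL : PicF.IsInvertible L) (m : ℕ) :
    IsWord [L] m (CohB1.tensorPow L m) := by
  have hLs : ∀ P ∈ [L], PicF.IsInvertible P := by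
    intro P hP
    rw [List.mem_singleton] at hP
    rw [hP]; exact hL
  have h := IsWord.pow hLs (IsWord.single (List.mem_singleton.mpr rfl)) m
  rwa [Nat.mul_one] at h

/-- **S17628**: a subobject with small support does not change `ĥ^i`. -/
theorem hhatF_eq_of_small_sub (H : X.Modules) (hH : CohB1.IsAmple H) (n : ℕ)
    (S : ShortComplex X.Modules) (hS : S.ShortExact)
    (hA : Coh.IsCoh S.X₁) (hB : Coh.IsCoh S.X₂) (hC : Coh.IsCoh S.X₃)
    (hdim : topologicalKrullDim (CohB1.support S.X₁) < (n : WithBot ℕ∞))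
    (L : X.Modules) (hL : PicF.IsInvertible L) (i : ℕ) :
    W4c5asymptcohfn.hhatF k X n i S.X₂ L = W4c5asymptcohfn.hhatF k X n i S.X₃ L := by
  have hLs : ∀ P ∈ [L], PicF.IsInvertible P := by
    intro P hP
    rw [List.mem_singleton] at hP
    rw [hP]; exact hL
  obtain ⟨C₁, hC₁⟩ := word_growth k n X H hH S.X₁ hA hdim [L] hLs i
  obtain ⟨C₂, hC₂⟩ := word_growth k n X H hH S.X₁ hA hdim [L] hLs (i + 1)
  apply hhatF_eq_of_bounds k n i S.X₂ S.X₃ L (C₁ + C₂)
  · intro m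
    have hRi := isInvertible_tensorPow hL m
    have h1 := tensor_mid_le k (f := S.f) (g := S.g) (w := S.zero) hS hA hB hC _ hRi i
    have h2 := hC₁ m _ (isWord_tensorPow_singleton hL m)
    rw [Nat.add_mul]
    omega
  · intro m
    have hRi := isInvertible_tensorPow hL m
    have h1 := tensor_right_le k (f := S.f) (g := S.g) (w := S.zero) hS hA hB hC _ hRi i
    have h2 := hC₂ m _ (isWord_tensorPow_singleton hL m)
    rw [Nat.add_mul]
    omega

/-- **S17629**: a quotient with small support does not change `ĥ^i`. -/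
theorem hhatF_eq_of_small_quot (H : X.Modules) (hH : CohB1.IsAmple H) (n : ℕ)
    (S : ShortComplex X.Modules) (hS : S.ShortExact)
    (hA : Coh.IsCoh S.X₁) (hB : Coh.IsCoh S.X₂) (hC : Coh.IsCoh S.X₃)
    (hdim : topologicalKrullDim (CohB1.support S.X₃) < (n : WithBot ℕ∞))
    (L : X.Modules) (hL : PicF.IsInvertible L) (i : ℕ) :
    W4c5asymptcohfn.hhatF k X n i S.X₁ L = W4c5asymptcohfn.hhatF k X n i S.X₂ L := by
  have hLs : ∀ P ∈ [L], PicF.IsInvertible P := by
    intro P hP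
    rw [List.mem_singleton] at hP
    rw [hP]; exact hL
  obtain ⟨C₁, hC₁⟩ := word_growth k n X H hH S.X₃ hC hdim [L] hLs i
  rcases i with _ | i
  · apply hhatF_eq_of_bounds k n 0 S.X₁ S.X₂ L C₁
    · intro m
      have hRi := isInvertible_tensorPow hL m
      have h1 := tensor_left_zero_le k (f := S.f) (g := S.g) (w := S.zero) hS hB _ hRi
      omega
    · intro m
      have hRi := isInvertible_tensorPow hL m
      have h1 := tensor_mid_le k (f := S.f) (g := S.g) (w := S.zero) hS hA hB hC _ hRi 0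
      have h2 := hC₁ m _ (isWord_tensorPow_singleton hL m)
      omega
  · obtain ⟨C₂, hC₂⟩ := word_growth k n X H hH S.X₃ hC hdim [L] hLs i
    apply hhatF_eq_of_bounds k n (i + 1) S.X₁ S.X₂ L (C₁ + C₂)
    · intro m
      have hRi := isInvertible_tensorPow hL m
      have h1 := tensor_left_succ_le k (f := S.f) (g := S.g) (w := S.zero) hS hA hB hC _ hRi i
      have h2 := hC₂ m _ (isWord_tensorPow_singleton hL m)
      rw [Nat.add_mul]
      omega
    · intro m
      have hRi := isInvertible_tensorPow hL m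
      have h1 := tensor_mid_le k (f := S.f) (g := S.g) (w := S.zero) hS hA hB hC _ hRi (i + 1)
      have h2 := hC₁ m _ (isWord_tensorPow_singleton hL m)
      rw [Nat.add_mul]
      omega

lemma isWord_tensorList_map {r : ℕ} (Ls : List X.Modules)
    (hLs : ∀ P ∈ Ls, PicF.IsInvertible P) (L : Fin r → X.Modules) (hmem : ∀ j, L j ∈ Ls)
    (b : Fin r → ℕ) :
    ∀ l : List (Fin r), IsWord Ls ((l.map b).sum)
      (FGA.tensorList (l.map fun j => CohB1.tensorPow (L j) (b j)))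
  | [] => by
    simp only [List.map_nil, List.sum_nil]
    exact isWord_zero.mpr ⟨Iso.refl _⟩
  | j :: l => by
    have h1 := IsWord.pow hLs (IsWord.single (hmem j)) (b j)
    rw [Nat.mul_one] at h1
    have h2 := isWord_tensorList_map Ls hLs L hmem b l
    simp only [List.map_cons, List.sum_cons]
    exact IsWord.tensor hLs h2 h1

lemma isWord_multiTwist {r : ℕ} (Ls : List X.Modules)
    (hLs : ∀ P ∈ Ls, PicF.IsInvertible P) (L : Fin r → X.Modules) (hmem : ∀ j, L j ∈ Ls)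
    (b : Fin r → ℕ) : IsWord Ls (∑ j, b j) (FGA.multiTwist L b) := by
  rw [Fin.sum_univ_def]
  exact isWord_tensorList_map Ls hLs L hmem b (List.finRange r)

/-- growth of the cohomology of the tensor products of members of a finite list. -/
theorem growth_of_words (n : ℕ) (hn : topologicalKrullDim X ≤ ((n : ℕ) : WithBot ℕ∞))
    (H : X.Modules) (hH : CohB1.IsAmple H) (Ls : List X.Modules)
    (hLs : ∀ P ∈ Ls, PicF.IsInvertible P) (i : ℕ) :
    ∃ C : ℕ, ∀ (s : ℕ) (P : X.Modules), IsWord Ls s P →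
      Module.finrank k (Coh.HH X P i) ≤ C * (1 + s) ^ n := by
  haveI : IsNoetherian X := Curve2.isNoetherian_of_proper k X
  have hOc : Coh.IsCoh (unitMod X) := isCoh_of_isInvertible (isInvertible_unit X)
  have hdim : topologicalKrullDim (CohB1.support (unitMod X)) < ((n + 1 : ℕ) : WithBot ℕ∞) :=
    lt_succ_coe_of_le (le_trans Topology.IsInducing.subtypeVal.topologicalKrullDim_le hn)
  obtain ⟨C, hC⟩ := word_growth k (n + 1) X H hH (unitMod X) hOc hdim Ls hLs i
  refine ⟨C, fun s P hP => ?_⟩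
  rw [← Groth.Agent.LD.FBC.finrank_HH_congr k (unitorL' P) i]
  exact hC s P hP

/-- **S17634**: `ĥ^i(L^a) ≤ C ‖a‖^n`. -/
theorem hhat_ztwist_le (H : X.Modules) (hH : CohB1.IsAmple H) (n : ℕ)
    (hn : topologicalKrullDim X = n) (r : ℕ) (L M : Fin r → X.Modules)
    (hL : ∀ j, PicF.IsInvertible (L j)) (hM : ∀ j, ClSub.IsInverseOf (L j) (M j)) (i : ℕ) :
    ∃ C : ℝ, ∀ a : Fin r → ℤ,
      W4c5asymptcohfn.hhat k X n i (W4c5asymptcohfn.ztwist X L M a) ≤
        C * ‖(fun j => ((a j : ℤ) : ℝ))‖ ^ n := by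
  have hMi : ∀ j, PicF.IsInvertible (M j) := fun j => by
    obtain ⟨ε⟩ := hM j
    exact isInvertible_of_tensor_iso (hL j) ε
  have hLs : ∀ P ∈ List.ofFn L ++ List.ofFn M, PicF.IsInvertible P := by
    intro P hP
    rcases List.mem_append.mp hP with h | h
    · obtain ⟨j, rfl⟩ := List.mem_ofFn.mp h
      exact hL j
    · obtain ⟨j, rfl⟩ := List.mem_ofFn.mp h
      exact hMi j
  have hmemL : ∀ j, L j ∈ List.ofFn L ++ List.ofFn M := fun j =>
    List.mem_append_left _ (List.mem_ofFn.mpr ⟨j, rfl⟩)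
  have hmemM : ∀ j, M j ∈ List.ofFn L ++ List.ofFn M := fun j =>
    List.mem_append_right _ (List.mem_ofFn.mpr ⟨j, rfl⟩)
  obtain ⟨C, hC⟩ := growth_of_words k n (le_of_eq hn) H hH _ hLs i
  refine ⟨(C : ℝ) * (n.factorial : ℝ) * (r : ℝ) ^ n, fun a => ?_⟩
  obtain ⟨σ, hσ⟩ : ∃ σ : ℕ, σ = ∑ j, (a j).toNat + ∑ j, (-(a j)).toNat := ⟨_, rfl⟩
  have hword : IsWord (List.ofFn L ++ List.ofFn M) σ (W4c5asymptcohfn.ztwist X L M a) := by
    rw [hσ]
    exact IsWord.tensor hLs (isWord_multiTwist _ hLs M hmemM _)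
      (isWord_multiTwist _ hLs L hmemL _)
  have hbound : ∀ m : ℕ, Module.finrank k
      (Coh.HH X (CohB1.tensorPow (W4c5asymptcohfn.ztwist X L M a) m) i) ≤
      C * (1 + m * σ) ^ n := fun m => hC _ _ (IsWord.pow hLs hword m)
  have hσle : (σ : ℝ) ≤ (r : ℝ) * ‖(fun j => ((a j : ℤ) : ℝ))‖ := by
    rw [hσ]; exact sigma_le r a
  unfold W4c5asymptcohfn.hhat
  calc limsup (fun m : ℕ => (Module.finrank k
        (Coh.HH X (CohB1.tensorPow (W4c5asymptcohfn.ztwist X L M a) m) i) : ℝ) *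
        (n.factorial : ℝ) / (m : ℝ) ^ n) atTop
      ≤ ((C : ℝ) * (n.factorial : ℝ)) * (σ : ℝ) ^ n := by
        refine limsup_le_of_le_tendsto (fun m => by positivity) ?_
          (tendsto_growth ((C : ℝ) * (n.factorial : ℝ)) n σ)
        rw [eventually_atTop]
        exact ⟨1, fun m hm => seq_le _ C n σ m hm (hbound m)⟩
    _ ≤ ((C : ℝ) * (n.factorial : ℝ)) * ((r : ℝ) * ‖(fun j => ((a j : ℤ) : ℝ))‖) ^ n :=
        mul_le_mul_of_nonneg_left (pow_le_pow_left₀ (Nat.cast_nonneg σ) hσle n)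
          (by positivity)
    _ = (C : ℝ) * (n.factorial : ℝ) * (r : ℝ) ^ n * ‖(fun j => ((a j : ℤ) : ℝ))‖ ^ n := by
        rw [mul_pow]; ring

end Groth.Agent.H5.IntN
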