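import Mathlib
import Groth.Agent.Lib.Helper5.IntN.Gro2
import Groth.Agent.Lib.Lead.QC.TensorComm

/-!
# The twist lemma and Lipschitz-type estimates for the asymptotic cohomological functions
(S17632, S17633).
-/

set_option autoImplicit false
universe u
open CategoryTheory CategoryTheory.Limits AlgebraicGeometry TopologicalSpace Opposite Filter

namespace Groth.Agent.H5.IntN

open Groth.Agent.LD Groth.Agent.LD.QC Groth.Agent.H5.Curve4 Groth.Agent.H5.DegC Groth.Agent.H5.Snap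

section arith

lemma bnd_mono (n : ℕ) {s s' : ℕ} (h : s ≤ s') : bnd n s ≤ bnd n s' := by
  cases n with
  | zero => exact le_rfl
  | succ n =>
    change (1 + s) ^ n ≤ (1 + s') ^ n
    exact Nat.pow_le_pow_left (by omega) n

lemma bnd_scale : ∀ (n m σ : ℕ), 1 ≤ m → m * bnd n (m * σ) ≤ bnd n σ * m ^ n
  | 0, m, σ, _ => by
    change m * 0 ≤ 0 * m ^ 0
    simp
  | n + 1, m, σ, hm => by
    change m * (1 + m * σ) ^ n ≤ (1 + σ) ^ n * m ^ (n + 1)
    have h1 : 1 + m * σ ≤ m * (1 + σ) := by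
      rw [Nat.mul_add, Nat.mul_one]; omega
    calc m * (1 + m * σ) ^ n ≤ m * (m * (1 + σ)) ^ n :=
          Nat.mul_le_mul_left _ (Nat.pow_le_pow_left h1 n)
      _ = (1 + σ) ^ n * m ^ (n + 1) := by rw [Nat.mul_pow, pow_succ]; ring

lemma bnd_succ_le : ∀ (n s : ℕ), bnd n (s + 1) ≤ 2 ^ n * bnd n s
  | 0, s => by
    change 0 ≤ 2 ^ 0 * 0
    simp
  | n + 1, s => by
    change (1 + (s + 1)) ^ n ≤ 2 ^ (n + 1) * (1 + s) ^ n
    have h1 : 1 + (s + 1) ≤ 2 * (1 + s) := by omega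
    calc (1 + (s + 1)) ^ n ≤ (2 * (1 + s)) ^ n := Nat.pow_le_pow_left h1 n
      _ = 2 ^ n * (1 + s) ^ n := Nat.mul_pow _ _ _
      _ ≤ 2 ^ (n + 1) * (1 + s) ^ n :=
          Nat.mul_le_mul_right _ (Nat.pow_le_pow_right (by omega) (Nat.le_succ n))

lemma abs_limsup_sub_le {u v : ℕ → ℝ} {D : ℝ} (hu : ∀ m, 0 ≤ u m) (hv : ∀ m, 0 ≤ v m)
    (h1 : ∀ᶠ m in atTop, u m ≤ v m + D) (h2 : ∀ᶠ m in atTop, v m ≤ u m + D) :
    |limsup u atTop - limsup v atTop| ≤ D := by
  have key : ∀ (u v : ℕ → ℝ), (∀ m, 0 ≤ u m) → (∀ᶠ m in atTop, u m ≤ v m + D) →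
      (∀ᶠ m in atTop, v m ≤ u m + D) → 0 ≤ D →
      sInf {a : ℝ | ∀ᶠ m in atTop, u m ≤ a} ≤ sInf {a : ℝ | ∀ᶠ m in atTop, v m ≤ a} + D := by
    intro u v hu h1 h2 hD
    by_cases hne : {a : ℝ | ∀ᶠ m in atTop, v m ≤ a}.Nonempty
    · have h3 : sInf {a : ℝ | ∀ᶠ m in atTop, u m ≤ a} - D ≤
          sInf {a : ℝ | ∀ᶠ m in atTop, v m ≤ a} := by
        apply le_csInf hne
        intro a ha
        have hmem : a + D ∈ {a : ℝ | ∀ᶠ m in atTop, u m ≤ a} := by
          show ∀ᶠ m in atTop, u m ≤ a + D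
          filter_upwards [(ha : ∀ᶠ m in atTop, v m ≤ a), h1] with m hm1 hm2
          linarith
        have := csInf_le (bddBelow_limsup_set hu) hmem
        linarith
      linarith
    · have hSv : {a : ℝ | ∀ᶠ m in atTop, v m ≤ a} = ∅ := Set.not_nonempty_iff_eq_empty.mp hne
      have hSu : {a : ℝ | ∀ᶠ m in atTop, u m ≤ a} = ∅ := by
        by_contra hcon
        obtain ⟨a, ha⟩ := Set.nonempty_iff_ne_empty.mpr hcon
        apply hne
        refine ⟨a + D, ?_⟩
        show ∀ᶠ m in atTop, v m ≤ a + D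
        filter_upwards [(ha : ∀ᶠ m in atTop, u m ≤ a), h2] with m hm1 hm2
        linarith
      rw [hSu, hSv]
      exact le_add_of_nonneg_right hD
  have hD : 0 ≤ D := by
    obtain ⟨m, hm1, hm2⟩ := (h1.and h2).exists
    linarith
  rw [Filter.limsup_eq, Filter.limsup_eq, abs_le]
  constructor
  · have := key v u hv h2 h1 hD
    linarith
  · have := key u v hu h1 h2 hD
    linarith

lemma real_step (h1 h2 K n m : ℕ) (hm : 1 ≤ m) (h : h1 ≤ h2 + K * m ^ n) :
    (h1 : ℝ) * (n.factorial : ℝ) / (m : ℝ) ^ n ≤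
      (h2 : ℝ) * (n.factorial : ℝ) / (m : ℝ) ^ n + ((K * n.factorial : ℕ) : ℝ) := by
  have hm0 : (0 : ℝ) < (m : ℝ) ^ n := pow_pos (by exact_mod_cast hm) n
  have hne : (m : ℝ) ^ n ≠ 0 := hm0.ne'
  have hc : (h1 : ℝ) ≤ (h2 : ℝ) + (K : ℝ) * (m : ℝ) ^ n := by exact_mod_cast h
  have e : (h2 : ℝ) * (n.factorial : ℝ) / (m : ℝ) ^ n + ((K * n.factorial : ℕ) : ℝ) =
      ((h2 : ℝ) + (K : ℝ) * (m : ℝ) ^ n) * (n.factorial : ℝ) / (m : ℝ) ^ n := by
    push_cast
    rw [eq_div_iff hne, add_mul, div_mul_cancel₀ _ hne]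
    ring
  rw [e]
  exact div_le_div_of_nonneg_right (mul_le_mul_of_nonneg_right hc (Nat.cast_nonneg _)) hm0.le

lemma natAbs_sum_le (r : ℕ) (c : Fin r → ℤ) :
    ((∑ j, (c j).natAbs : ℕ) : ℝ) ≤ (r : ℝ) * ‖(fun j => ((c j : ℤ) : ℝ))‖ := by
  rw [Nat.cast_sum]
  calc ∑ j, (((c j).natAbs : ℕ) : ℝ)
      ≤ ∑ _j : Fin r, ‖(fun j => ((c j : ℤ) : ℝ))‖ := by
        apply Finset.sum_le_sum
        intro j _
        rw [Nat.cast_natAbs, Int.cast_abs, ← Real.norm_eq_abs]
        exact norm_le_pi_norm (fun j => ((c j : ℤ) : ℝ)) j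
    _ = (r : ℝ) * ‖(fun j => ((c j : ℤ) : ℝ))‖ := by
        rw [Finset.sum_const, Finset.card_univ, Fintype.card_fin, nsmul_eq_mul]

lemma one_le_norm_of_ne_zero {r : ℕ} (a : Fin r → ℤ) (j : Fin r) (h : a j ≠ 0) :
    (1 : ℝ) ≤ ‖(fun j => ((a j : ℤ) : ℝ))‖ := by
  have h1 : (1 : ℝ) ≤ |((a j : ℤ) : ℝ)| := by
    rw [← Int.cast_abs]
    exact_mod_cast Int.one_le_abs h
  rw [← Real.norm_eq_abs] at h1
  exact h1.trans (norm_le_pi_norm (fun j => ((a j : ℤ) : ℝ)) j)

end arith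

variable (k : Type u) [Field k] {X : Scheme.{u}} [X.Over (Spec (CommRingCat.of k))]
  [IsProper (X ↘ Spec (CommRingCat.of k))]

/-- **twist lemma**: tensoring a word with a fixed member of the list changes `h^i` by
`O((1+s)^{n-1})`. -/
theorem twist_lemma [IsIntegral X] (n : ℕ)
    (hn : topologicalKrullDim X ≤ ((n : ℕ) : WithBot ℕ∞))
    (H : X.Modules) (hH : CohB1.IsAmple H)
    (Ls : List X.Modules) (hLs : ∀ L ∈ Ls, PicF.IsInvertible L) (i : ℕ) :
    ∃ C : ℕ, ∀ N ∈ Ls, ∀ (s : ℕ) (P : X.Modules), IsWord Ls s P →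
      Module.finrank k (Coh.HH X (CohB1.tensorMod N P) i) ≤
        Module.finrank k (Coh.HH X P i) + C * bnd n s ∧
      Module.finrank k (Coh.HH X P i) ≤
        Module.finrank k (Coh.HH X (CohB1.tensorMod N P) i) + C * bnd n s := by
  classical
  haveI : IsNoetherian X := Curve2.isNoetherian_of_proper k X
  have hO : PicF.IsInvertible (unitMod X) := isInvertible_unit X
  haveI := qc_of_isInvertible _ hO
  have IH : ∀ (F : X.Modules), Coh.IsCoh F →
      topologicalKrullDim (CohB1.support F) < ((n : ℕ) : WithBot ℕ∞) → ∀ j : ℕ, ∃ C : ℕ,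
      ∀ (s : ℕ) (P : X.Modules), IsWord Ls s P →
        Module.finrank k (Coh.HH X (CohB1.tensorMod F P) j) ≤ C * bnd n s :=
    fun F hF hFd j => word_growth k n X H hH F hF hFd Ls hLs j
  obtain ⟨n₁, hn₁⟩ := exists_sections_list H hH Ls hLs
  obtain ⟨n₂, hn₂⟩ := exists_section_tensorPow_ne_zero H hH
  obtain ⟨B, hBdef⟩ : ∃ B : X.Modules, B = CohB1.tensorPow H (max n₁ n₂) := ⟨_, rfl⟩
  have hBi : PicF.IsInvertible B := by rw [hBdef]; exact isInvertible_tensorPow hH.1 _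
  obtain ⟨sB, hsB⟩ : ∃ t : unitMod X ⟶ B, t ≠ 0 := by
    rw [hBdef]; exact hn₂ _ (le_max_right _ _)
  have hsL : ∀ L ∈ Ls, ∃ t : unitMod X ⟶ CohB1.tensorMod L B, t ≠ 0 := by
    rw [hBdef]; exact hn₁ _ (le_max_left _ _)
  obtain ⟨T, hTi, ⟨ε⟩⟩ := Groth.Agent.H5.Glue.exists_inverse B hBi
  haveI := qc_of_isInvertible _ hBi
  haveI := qc_of_isInvertible _ hTi
  obtain ⟨CB, hCB⟩ := section_step k n hn Ls hLs i IH B T hBi hTi sB hsB
  obtain ⟨C₀, hC₀⟩ : ∃ C : ℕ, ∀ N ∈ Ls, ∀ (s : ℕ) (P : X.Modules), IsWord Ls s P →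
      Module.finrank k (Coh.HH X (CohB1.tensorMod N P) i) ≤
        Module.finrank k (Coh.HH X P i) + (CB + C) * bnd n s ∧
      Module.finrank k (Coh.HH X P i) ≤
        Module.finrank k (Coh.HH X (CohB1.tensorMod N P) i) + (CB + C) * bnd n s := by
    refine exists_uniform (fun (N : X.Modules) (C : ℕ) => ∀ (s : ℕ) (P : X.Modules),
      IsWord Ls s P →
      Module.finrank k (Coh.HH X (CohB1.tensorMod N P) i) ≤
        Module.finrank k (Coh.HH X P i) + (CB + C) * bnd n s ∧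
      Module.finrank k (Coh.HH X P i) ≤
        Module.finrank k (Coh.HH X (CohB1.tensorMod N P) i) + (CB + C) * bnd n s) ?_ Ls ?_
    · intro N C C' hCC' h s P hP
      have hmono : (CB + C) * bnd n s ≤ (CB + C') * bnd n s :=
        Nat.mul_le_mul_right _ (Nat.add_le_add_left hCC' _)
      obtain ⟨h1, h2⟩ := h s P hP
      exact ⟨h1.trans (Nat.add_le_add_left hmono _), h2.trans (Nat.add_le_add_left hmono _)⟩
    · intro N hN
      obtain ⟨t, ht⟩ := hsL N hN
      have hNi := hLs N hN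
      obtain ⟨C, hC⟩ := section_step k n hn Ls hLs i IH _ T
        (isInvertible_tensorMod hNi hBi) hTi t ht
      refine ⟨C, fun s P hP => ?_⟩
      have hPi := IsWord.isInvertible hLs hP
      haveI := qc_of_isInvertible _ hNi
      haveI := qc_of_isInvertible _ hPi
      haveI := qc_of_isInvertible _ (isInvertible_tensorMod hNi hBi)
      haveI := qc_of_isInvertible _ (isInvertible_tensorMod hTi hPi)
      have e0 : CohB1.tensorMod B (CohB1.tensorMod T P) ≅ P :=
        (tensorAssoc B T P).symm ≪≫ tensorIso' ε (Iso.refl P) ≪≫ unitorL' P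
      have e1 : CohB1.tensorMod (CohB1.tensorMod (unitMod X) (CohB1.tensorMod N B))
          (CohB1.tensorMod T P) ≅ CohB1.tensorMod N P :=
        tensorIso' (unitorL' (CohB1.tensorMod N B)) (Iso.refl _) ≪≫
          tensorAssoc N B (CohB1.tensorMod T P) ≪≫ tensorIso' (Iso.refl N) e0
      have e2 : CohB1.tensorMod (CohB1.tensorMod (unitMod X) B) (CohB1.tensorMod T P) ≅ P :=
        tensorIso' (unitorL' B) (Iso.refl _) ≪≫ e0
      obtain ⟨a1, a2⟩ := hC s P hP
      obtain ⟨b1, b2⟩ := hCB s P hP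
      rw [Groth.Agent.LD.FBC.finrank_HH_congr k e1 i] at a1 a2
      rw [Groth.Agent.LD.FBC.finrank_HH_congr k e2 i] at b1 b2
      rw [Nat.add_mul]
      constructor
      · omega
      · omega
  exact ⟨CB + C₀, hC₀⟩

/-- tensoring a word of length `s` with a word of length `t` changes `h^i` by
`O(t (1+s+t)^{n-1})`. -/
theorem word_estimate [IsIntegral X] (n : ℕ)
    (hn : topologicalKrullDim X ≤ ((n : ℕ) : WithBot ℕ∞))
    (H : X.Modules) (hH : CohB1.IsAmple H)
    (Ls : List X.Modules) (hLs : ∀ L ∈ Ls, PicF.IsInvertible L) (i : ℕ) :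
    ∃ C : ℕ, ∀ (t : ℕ) (W : X.Modules), IsWord Ls t W → ∀ (s : ℕ) (P : X.Modules),
      IsWord Ls s P →
      Module.finrank k (Coh.HH X (CohB1.tensorMod W P) i) ≤
        Module.finrank k (Coh.HH X P i) + C * (t * bnd n (s + t)) ∧
      Module.finrank k (Coh.HH X P i) ≤
        Module.finrank k (Coh.HH X (CohB1.tensorMod W P) i) + C * (t * bnd n (s + t)) := by
  obtain ⟨C, hC⟩ := twist_lemma k n hn H hH Ls hLs i
  refine ⟨C, ?_⟩
  intro t
  induction t with
  | zero =>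
    intro W hW s P hP
    obtain ⟨eW⟩ := isWord_zero.mp hW
    rw [Groth.Agent.LD.FBC.finrank_HH_congr k (tensorIso' eW (Iso.refl P) ≪≫ unitorL' P) i]
    exact ⟨Nat.le_add_right _ _, Nat.le_add_right _ _⟩
  | succ t ih =>
    intro W hW s P hP
    obtain ⟨N, hN, W', hW', ⟨eW⟩⟩ := isWord_succ.mp hW
    have hNi := hLs N hN
    have hW'i := IsWord.isInvertible hLs hW'
    have hPi := IsWord.isInvertible hLs hP
    haveI := qc_of_isInvertible _ hNi
    haveI := qc_of_isInvertible _ hW'i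
    haveI := qc_of_isInvertible _ hPi
    have hQ : IsWord Ls (t + s) (CohB1.tensorMod W' P) := IsWord.tensor hLs hP hW'
    obtain ⟨a1, a2⟩ := hC N hN (t + s) _ hQ
    obtain ⟨b1, b2⟩ := ih W' hW' s P hP
    rw [Groth.Agent.LD.FBC.finrank_HH_congr k
      (tensorIso' eW (Iso.refl P) ≪≫ tensorAssoc N W' P) i]
    have hA : C * bnd n (t + s) + C * (t * bnd n (s + t)) ≤
        C * ((t + 1) * bnd n (s + (t + 1))) := by
      have h1 := bnd_mono n (show t + s ≤ s + (t + 1) by omega)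
      have h2 := bnd_mono n (show s + t ≤ s + (t + 1) by omega)
      calc C * bnd n (t + s) + C * (t * bnd n (s + t))
          ≤ C * bnd n (s + (t + 1)) + C * (t * bnd n (s + (t + 1))) :=
            Nat.add_le_add (Nat.mul_le_mul_left _ h1)
              (Nat.mul_le_mul_left _ (Nat.mul_le_mul_left _ h2))
        _ = C * ((t + 1) * bnd n (s + (t + 1))) := by ring
    constructor
    · omega
    · omega

lemma hhat_congr (n i : ℕ) {P Q : X.Modules} (e : P ≅ Q) :
    W4c5asymptcohfn.hhat k X n i P = W4c5asymptcohfn.hhat k X n i Q := by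
  unfold W4c5asymptcohfn.hhat
  have h : (fun m : ℕ => (Module.finrank k (Coh.HH X (CohB1.tensorPow P m) i) : ℝ) *
      (n.factorial : ℝ) / (m : ℝ) ^ n) =
      (fun m : ℕ => (Module.finrank k (Coh.HH X (CohB1.tensorPow Q m) i) : ℝ) *
      (n.factorial : ℝ) / (m : ℝ) ^ n) := by
    funext m
    rw [Groth.Agent.LD.FBC.finrank_HH_congr k (tensorPowCongr e m) i]
  rw [h]

/-- the Lipschitz-type estimate for `ĥ^i`. -/
theorem abs_hhat_sub_le [IsIntegral X] (n : ℕ)
    (hn : topologicalKrullDim X ≤ ((n : ℕ) : WithBot ℕ∞))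
    (H : X.Modules) (hH : CohB1.IsAmple H)
    (Ls : List X.Modules) (hLs : ∀ L ∈ Ls, PicF.IsInvertible L) (i : ℕ) :
    ∃ C : ℕ, ∀ (t : ℕ) (W : X.Modules), IsWord Ls t W → ∀ (s : ℕ) (P : X.Modules),
      IsWord Ls s P →
      |W4c5asymptcohfn.hhat k X n i (CohB1.tensorMod W P) - W4c5asymptcohfn.hhat k X n i P| ≤
        ((C * (t * bnd n (s + t)) * n.factorial : ℕ) : ℝ) := by
  obtain ⟨C, hC⟩ := word_estimate k n hn H hH Ls hLs i
  refine ⟨C, fun t W hW s P hP => ?_⟩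
  have hWi := IsWord.isInvertible hLs hW
  have hPi := IsWord.isInvertible hLs hP
  haveI := qc_of_isInvertible _ hWi
  haveI := qc_of_isInvertible _ hPi
  have hterm : ∀ m : ℕ, 1 ≤ m →
      Module.finrank k (Coh.HH X (CohB1.tensorPow (CohB1.tensorMod W P) m) i) ≤
        Module.finrank k (Coh.HH X (CohB1.tensorPow P m) i) +
          C * (t * bnd n (s + t)) * m ^ n ∧
      Module.finrank k (Coh.HH X (CohB1.tensorPow P m) i) ≤
        Module.finrank k (Coh.HH X (CohB1.tensorPow (CohB1.tensorMod W P) m) i) +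
          C * (t * bnd n (s + t)) * m ^ n := by
    intro m hm
    have h := hC (m * t) _ (IsWord.pow hLs hW m) (m * s) _ (IsWord.pow hLs hP m)
    rw [Groth.Agent.LD.FBC.finrank_HH_congr k (tensorPowTensor W P m) i] at h
    have hsc := bnd_scale n m (s + t) hm
    have hE : C * (m * t * bnd n (m * s + m * t)) ≤ C * (t * bnd n (s + t)) * m ^ n := by
      rw [← Nat.mul_add]
      calc C * (m * t * bnd n (m * (s + t))) = C * (t * (m * bnd n (m * (s + t)))) := by ring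
        _ ≤ C * (t * (bnd n (s + t) * m ^ n)) :=
            Nat.mul_le_mul_left _ (Nat.mul_le_mul_left _ hsc)
        _ = C * (t * bnd n (s + t)) * m ^ n := by ring
    exact ⟨h.1.trans (Nat.add_le_add_left hE _), h.2.trans (Nat.add_le_add_left hE _)⟩
  unfold W4c5asymptcohfn.hhat
  apply abs_limsup_sub_le (fun m => by positivity) (fun m => by positivity)
  · rw [eventually_atTop]
    exact ⟨1, fun m hm => real_step _ _ _ n m hm (hterm m hm).1⟩
  · rw [eventually_atTop]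
    exact ⟨1, fun m hm => real_step _ _ _ n m hm (hterm m hm).2⟩

/-- **S17632**. -/
theorem tendsto_hhat_twist [IsIntegral X] (n : ℕ) (hn : topologicalKrullDim X = n)
    (L : X.Modules) (hL : PicF.IsInvertible L) (A A' : X.Modules) (hA : CohB1.IsAmple A)
    (hA' : ClSub.IsInverseOf A A') (i : ℕ) :
    Tendsto (fun p : ℕ =>
        (W4c5asymptcohfn.hhat k X n i (CohB1.tensorMod (CohB1.tensorPow L p) A') -
          W4c5asymptcohfn.hhat k X n i (CohB1.tensorPow L p)) / (p : ℝ) ^ n)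
      atTop (nhds 0) := by
  obtain ⟨ε⟩ := hA'
  have hA'i : PicF.IsInvertible A' := isInvertible_of_tensor_iso hA.1 ε
  have hLs : ∀ P ∈ [L, A'], PicF.IsInvertible P := by
    intro P hP
    rcases List.mem_cons.mp hP with h | h
    · rw [h]; exact hL
    · rw [List.mem_singleton.mp h]; exact hA'i
  obtain ⟨C, hC⟩ := abs_hhat_sub_le k n (le_of_eq hn) A hA [L, A'] hLs i
  have hwL : ∀ p : ℕ, IsWord [L, A'] p (CohB1.tensorPow L p) := fun p => by
    have h := IsWord.pow hLs (IsWord.single (List.mem_cons_self)) p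
    rwa [Nat.mul_one] at h
  have hwA : IsWord [L, A'] 1 A' :=
    IsWord.single (List.mem_cons_of_mem _ (List.mem_singleton.mpr rfl))
  refine squeeze_zero_norm (fun p => ?_) (tendsto_bnd_div (C * 2 ^ n) n)
  rw [Real.norm_eq_abs, abs_div, abs_of_nonneg (by positivity : (0 : ℝ) ≤ (p : ℝ) ^ n)]
  refine div_le_div_of_nonneg_right ?_ (by positivity)
  have h1 := hC 1 A' hwA p _ (hwL p)
  rw [hhat_congr k n i (tensorCommAll A' (CohB1.tensorPow L p))] at h1
  have h2 : C * (1 * bnd n (p + 1)) * n.factorial ≤ C * 2 ^ n * bnd n p * n.factorial := by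
    have h3 := bnd_succ_le n p
    calc C * (1 * bnd n (p + 1)) * n.factorial = C * bnd n (p + 1) * n.factorial := by ring
      _ ≤ C * (2 ^ n * bnd n p) * n.factorial :=
          Nat.mul_le_mul_right _ (Nat.mul_le_mul_left _ h3)
      _ = C * 2 ^ n * bnd n p * n.factorial := by ring
  have h4 : ((C * (1 * bnd n (p + 1)) * n.factorial : ℕ) : ℝ) ≤
      ((C * 2 ^ n * bnd n p : ℕ) : ℝ) * (n.factorial : ℝ) := by exact_mod_cast h2
  exact h1.trans h4

end Groth.Agent.H5.IntN
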