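import Mathlib
import Groth.Agent.Lib.Helper5.IntN.Gro3

/-!
# Homogeneity of the asymptotic cohomological functions (S17621).
-/

set_option autoImplicit false
universe u
open CategoryTheory CategoryTheory.Limits AlgebraicGeometry TopologicalSpace Opposite Filter

namespace Groth.Agent.H5.IntN

open Groth.Agent.LD Groth.Agent.LD.QC Groth.Agent.H5.Curve4 Groth.Agent.H5.DegC Groth.Agent.H5.Snap

section analysis

lemma bnd_add_le : ∀ (n s a : ℕ), a ≤ 1 + s → bnd n (s + a) ≤ 2 ^ n * bnd n s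
  | 0, s, a, _ => by
    change 0 ≤ 2 ^ 0 * 0
    simp
  | n + 1, s, a, h => by
    change (1 + (s + a)) ^ n ≤ 2 ^ (n + 1) * (1 + s) ^ n
    have h1 : 1 + (s + a) ≤ 2 * (1 + s) := by omega
    calc (1 + (s + a)) ^ n ≤ (2 * (1 + s)) ^ n := Nat.pow_le_pow_left h1 n
      _ = 2 ^ n * (1 + s) ^ n := Nat.mul_pow _ _ _
      _ ≤ 2 ^ (n + 1) * (1 + s) ^ n :=
          Nat.mul_le_mul_right _ (Nat.pow_le_pow_right (by omega) (Nat.le_succ n))

lemma limsup_scale {u y : ℕ → ℝ} {c : ℝ} (hc : 0 < c) (hu : ∀ m, 0 ≤ u m) (hy : ∀ m, 0 ≤ y m)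
    (T1 : ∀ b : ℝ, (∀ᶠ m in atTop, u m ≤ b) → ∀ᶠ m in atTop, y m ≤ c * b)
    (T2 : ∀ b : ℝ, (∀ᶠ m in atTop, y m ≤ b) → ∀ ε > 0, ∀ᶠ m in atTop, u m ≤ b / c + ε) :
    limsup y atTop = c * limsup u atTop := by
  rw [Filter.limsup_eq, Filter.limsup_eq]
  by_cases hne : {a : ℝ | ∀ᶠ m in atTop, u m ≤ a}.Nonempty
  · obtain ⟨b₀, hb₀⟩ := hne
    have hney : {a : ℝ | ∀ᶠ m in atTop, y m ≤ a}.Nonempty := ⟨c * b₀, T1 b₀ hb₀⟩
    apply le_antisymm
    · have h1 : sInf {a : ℝ | ∀ᶠ m in atTop, y m ≤ a} / c ≤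
          sInf {a : ℝ | ∀ᶠ m in atTop, u m ≤ a} := by
        apply le_csInf ⟨b₀, hb₀⟩
        intro b hb
        have := csInf_le (bddBelow_limsup_set hy) (T1 b hb)
        rw [div_le_iff₀ hc]
        linarith
      rw [div_le_iff₀ hc] at h1
      linarith
    · apply le_csInf hney
      intro b hb
      have h2 : sInf {a : ℝ | ∀ᶠ m in atTop, u m ≤ a} ≤ b / c := by
        apply le_of_forall_pos_le_add
        intro ε hε
        exact csInf_le (bddBelow_limsup_set hu) (T2 b hb ε hε)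
      rw [le_div_iff₀ hc] at h2
      linarith
  · have hSu : {a : ℝ | ∀ᶠ m in atTop, u m ≤ a} = ∅ := Set.not_nonempty_iff_eq_empty.mp hne
    have hSy : {a : ℝ | ∀ᶠ m in atTop, y m ≤ a} = ∅ := by
      by_contra hcon
      obtain ⟨b, hb⟩ := Set.nonempty_iff_ne_empty.mpr hcon
      exact hne ⟨b / c + 1, T2 b hb 1 one_pos⟩
    rw [hSu, hSy, Real.sInf_empty, mul_zero]

lemma seq_scale (x : ℕ → ℕ) (a n : ℕ) (ha : 1 ≤ a) (K : ℕ)
    (hstep : ∀ m ρ : ℕ, 1 ≤ m → ρ < a → x (a * m + ρ) ≤ x (a * m) + K * bnd n (a * m)) :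
    limsup (fun m : ℕ => (x (a * m) : ℝ) * (n.factorial : ℝ) / (m : ℝ) ^ n) atTop =
      (a : ℝ) ^ n * limsup (fun m : ℕ => (x m : ℝ) * (n.factorial : ℝ) / (m : ℝ) ^ n) atTop := by
  have ha0 : (0 : ℝ) < (a : ℝ) := by exact_mod_cast ha
  have ha0' : (a : ℝ) ≠ 0 := ha0.ne'
  have hc : (0 : ℝ) < (a : ℝ) ^ n := pow_pos ha0 n
  have hid : ∀ m : ℕ, 1 ≤ m → (x (a * m) : ℝ) * (n.factorial : ℝ) / (m : ℝ) ^ n =
      (a : ℝ) ^ n * ((x (a * m) : ℝ) * (n.factorial : ℝ) / ((a * m : ℕ) : ℝ) ^ n) := by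
    intro m hm
    have hm0 : (0 : ℝ) < (m : ℝ) := by exact_mod_cast hm
    have hm0' : (m : ℝ) ≠ 0 := hm0.ne'
    push_cast
    rw [mul_pow]
    field_simp
  apply limsup_scale hc (fun m => by positivity) (fun m => by positivity)
  · intro b hb
    obtain ⟨M, hM⟩ := eventually_atTop.mp hb
    rw [eventually_atTop]
    refine ⟨max M 1, fun m hm => ?_⟩
    have hm1 : 1 ≤ m := le_trans (le_max_right _ _) hm
    have hmM : M ≤ a * m :=
      le_trans (le_trans (le_max_left _ _) hm) (Nat.le_mul_of_pos_left m ha)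
    rw [hid m hm1]
    exact mul_le_mul_of_nonneg_left (hM (a * m) hmM) hc.le
  · intro b hb ε hε
    obtain ⟨My, hMy⟩ := eventually_atTop.mp hb
    have hf := tendsto_bnd_div K n
    have hf' : ∀ᶠ m in atTop,
        ((K * bnd n m : ℕ) : ℝ) * (n.factorial : ℝ) / (m : ℝ) ^ n < ε :=
      (tendsto_order.1 hf).2 _ hε
    obtain ⟨Mf, hMf⟩ := eventually_atTop.mp hf'
    rw [eventually_atTop]
    refine ⟨a * (max My (max Mf 1)), fun m' hm' => ?_⟩
    have hdiv : max My (max Mf 1) ≤ m' / a :=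
      (Nat.le_div_iff_mul_le ha).mpr (by rw [Nat.mul_comm]; exact hm')
    obtain ⟨m, hm⟩ : ∃ m, m = m' / a := ⟨_, rfl⟩
    obtain ⟨ρ, hρ⟩ : ∃ ρ, ρ = m' % a := ⟨_, rfl⟩
    have hρa : ρ < a := by rw [hρ]; exact Nat.mod_lt _ ha
    have hm'eq : m' = a * m + ρ := by rw [hm, hρ]; exact (Nat.div_add_mod m' a).symm
    rw [← hm] at hdiv
    have hm1 : 1 ≤ m := le_trans (le_trans (le_max_right _ _) (le_max_right _ _)) hdiv
    have hmy : My ≤ m := le_trans (le_max_left _ _) hdiv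
    have hmf : Mf ≤ a * m :=
      le_trans (le_trans (le_trans (le_max_left _ _) (le_max_right _ _)) hdiv)
        (Nat.le_mul_of_pos_left m ha)
    have h1 := hstep m ρ hm1 hρa
    have h2 := hMy m hmy
    have h3 := hMf (a * m) hmf
    rw [hid m hm1] at h2
    have ham0 : (0 : ℝ) < ((a * m : ℕ) : ℝ) ^ n :=
      pow_pos (by exact_mod_cast Nat.mul_pos ha hm1) n
    have hle : ((a * m : ℕ) : ℝ) ^ n ≤ (m' : ℝ) ^ n := by
      apply pow_le_pow_left₀ (Nat.cast_nonneg _)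
      exact_mod_cast (by omega : a * m ≤ m')
    have h4 : (x m' : ℝ) ≤ (x (a * m) : ℝ) + ((K * bnd n (a * m) : ℕ) : ℝ) := by
      rw [hm'eq]; exact_mod_cast h1
    have h5 : (x (a * m) : ℝ) * (n.factorial : ℝ) / ((a * m : ℕ) : ℝ) ^ n ≤
        b / (a : ℝ) ^ n := by
      rw [le_div_iff₀ hc]; linarith
    calc (x m' : ℝ) * (n.factorial : ℝ) / (m' : ℝ) ^ n
        ≤ (x m' : ℝ) * (n.factorial : ℝ) / ((a * m : ℕ) : ℝ) ^ n :=
          div_le_div_of_nonneg_left (by positivity) ham0 hle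
      _ ≤ ((x (a * m) : ℝ) + ((K * bnd n (a * m) : ℕ) : ℝ)) * (n.factorial : ℝ) /
            ((a * m : ℕ) : ℝ) ^ n :=
          div_le_div_of_nonneg_right
            (mul_le_mul_of_nonneg_right h4 (Nat.cast_nonneg _)) ham0.le
      _ = (x (a * m) : ℝ) * (n.factorial : ℝ) / ((a * m : ℕ) : ℝ) ^ n +
            ((K * bnd n (a * m) : ℕ) : ℝ) * (n.factorial : ℝ) / ((a * m : ℕ) : ℝ) ^ n := by
          rw [add_mul, add_div]
      _ ≤ b / (a : ℝ) ^ n + ε := by linarith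

end analysis

variable (k : Type u) [Field k] {X : Scheme.{u}} [X.Over (Spec (CommRingCat.of k))]
  [IsProper (X ↘ Spec (CommRingCat.of k))]

/-- **S17621**: `ĥ^i(L^a) = a^n ĥ^i(L)`. -/
theorem hhat_tensorPow [IsIntegral X] (H : X.Modules) (hH : CohB1.IsAmple H) (n : ℕ)
    (hn : topologicalKrullDim X = n) (L : X.Modules) (hL : PicF.IsInvertible L) (a : ℕ)
    (ha : 1 ≤ a) (i : ℕ) :
    W4c5asymptcohfn.hhat k X n i (CohB1.tensorPow L a) =
      (a : ℝ) ^ n * W4c5asymptcohfn.hhat k X n i L := by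
  have hLs : ∀ P ∈ [L], PicF.IsInvertible P := by
    intro P hP
    rw [List.mem_singleton] at hP
    rw [hP]; exact hL
  haveI := qc_of_isInvertible _ hL
  obtain ⟨C, hC⟩ := word_estimate k n (le_of_eq hn) H hH [L] hLs i
  obtain ⟨x, hx⟩ : ∃ x : ℕ → ℕ,
      x = fun m => Module.finrank k (Coh.HH X (CohB1.tensorPow L m) i) := ⟨_, rfl⟩
  have hxv : ∀ m, x m = Module.finrank k (Coh.HH X (CohB1.tensorPow L m) i) := fun m => by
    rw [hx]
  have hstep : ∀ m ρ : ℕ, 1 ≤ m → ρ < a →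
      x (a * m + ρ) ≤ x (a * m) + C * a * 2 ^ n * bnd n (a * m) := by
    intro m ρ hm hρ
    have h1 := (hC ρ _ (isWord_tensorPow_singleton hL ρ) (a * m) _
      (isWord_tensorPow_singleton hL (a * m))).1
    rw [Groth.Agent.LD.FBC.finrank_HH_congr k
      (powAddIso L ρ (a * m) ≪≫ castPow L (Nat.add_comm ρ (a * m))) i] at h1
    have h2 : ρ * bnd n (a * m + ρ) ≤ a * (2 ^ n * bnd n (a * m)) := by
      have h3 : bnd n (a * m + ρ) ≤ bnd n (a * m + a) := bnd_mono n (by omega)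
      have h4 : bnd n (a * m + a) ≤ 2 ^ n * bnd n (a * m) :=
        bnd_add_le n (a * m) a ((Nat.le_mul_of_pos_right a hm).trans (Nat.le_add_left _ _))
      exact Nat.mul_le_mul hρ.le (h3.trans h4)
    rw [hxv, hxv]
    calc Module.finrank k (Coh.HH X (CohB1.tensorPow L (a * m + ρ)) i)
        ≤ Module.finrank k (Coh.HH X (CohB1.tensorPow L (a * m)) i) +
          C * (ρ * bnd n (a * m + ρ)) := h1
      _ ≤ Module.finrank k (Coh.HH X (CohB1.tensorPow L (a * m)) i) +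
          C * (a * (2 ^ n * bnd n (a * m))) :=
          Nat.add_le_add_left (Nat.mul_le_mul_left _ h2) _
      _ = Module.finrank k (Coh.HH X (CohB1.tensorPow L (a * m)) i) +
          C * a * 2 ^ n * bnd n (a * m) := by ring
  unfold W4c5asymptcohfn.hhat
  have hy : (fun m : ℕ => (Module.finrank k
      (Coh.HH X (CohB1.tensorPow (CohB1.tensorPow L a) m) i) : ℝ) *
      (n.factorial : ℝ) / (m : ℝ) ^ n) =
      fun m : ℕ => (x (a * m) : ℝ) * (n.factorial : ℝ) / (m : ℝ) ^ n := by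
    funext m
    rw [hxv, Groth.Agent.LD.FBC.finrank_HH_congr k
      (powPowIso L a m ≪≫ castPow L (powIdx_eq a m)) i]
  have hu : (fun m : ℕ => (Module.finrank k (Coh.HH X (CohB1.tensorPow L m) i) : ℝ) *
      (n.factorial : ℝ) / (m : ℝ) ^ n) =
      fun m : ℕ => (x m : ℝ) * (n.factorial : ℝ) / (m : ℝ) ^ n := by
    funext m
    rw [hxv]
  rw [hy, hu]
  exact seq_scale x a n ha (C * a * 2 ^ n) hstep

end Groth.Agent.H5.IntN
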