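import Mathlib
import Groth.Agent.Lib.Helper5.IntN.Gro5

/-!
# Volumes of invertible modules: homogeneity, bigness, monotonicity in effective directions
(S19805, S19806, S19807), and Kodaira's lemma under frequent maximal growth.
-/

set_option autoImplicit false
universe u
open CategoryTheory CategoryTheory.Limits AlgebraicGeometry TopologicalSpace Opposite Filter
open scoped ENNReal

namespace Groth.Agent.H5.IntN

open Groth.Agent.LD Groth.Agent.LD.QC Groth.Agent.H5.Curve4 Groth.Agent.H5.DegC Groth.Agent.H5.Snap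
open Groth.Agent.H5.Deg Groth.Agent.H5.HP

section analysis

lemma toReal_seq (v : ℕ → ℕ) (d m : ℕ) :
    ((v m : ℝ≥0∞) / (m : ℝ≥0∞) ^ d).toReal = (v m : ℝ) / (m : ℝ) ^ d := by
  rw [ENNReal.toReal_div, ENNReal.toReal_pow, ENNReal.toReal_natCast, ENNReal.toReal_natCast]

/-- comparison of the `ℝ≥0∞`-valued and the real normalised upper limits of a sequence of
natural numbers of growth `O(m^d)`. -/
lemma real_limsup_eq (v : ℕ → ℕ) (d B : ℕ) (hB : ∀ m, 1 ≤ m → v m ≤ B * m ^ d) :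
    limsup (fun m : ℕ => (v m : ℝ≥0∞) / (m : ℝ≥0∞) ^ d) atTop ≠ ⊤ ∧
    limsup (fun m : ℕ => (v m : ℝ) * (d.factorial : ℝ) / (m : ℝ) ^ d) atTop =
      (d.factorial : ℝ) *
        (limsup (fun m : ℕ => (v m : ℝ≥0∞) / (m : ℝ≥0∞) ^ d) atTop).toReal := by
  have hev : ∀ᶠ m : ℕ in atTop, (v m : ℝ≥0∞) / (m : ℝ≥0∞) ^ d ≤ (B : ℝ≥0∞) := by
    filter_upwards [eventually_ge_atTop 1] with m hm
    apply ENNReal.div_le_of_le_mul
    exact_mod_cast hB m hm
  have hBtop : (B : ℝ≥0∞) ≠ ⊤ := ENNReal.natCast_ne_top B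
  refine ⟨ne_top_of_le_ne_top hBtop (Filter.limsup_le_of_le (h := hev)), ?_⟩
  rw [← ENNReal.limsup_toReal_eq hBtop hev]
  have h1 : (fun m : ℕ => ((v m : ℝ≥0∞) / (m : ℝ≥0∞) ^ d).toReal) =
      fun m : ℕ => (v m : ℝ) / (m : ℝ) ^ d := funext (toReal_seq v d)
  rw [h1]
  have hd0 : (0 : ℝ) < (d.factorial : ℝ) := by exact_mod_cast Nat.factorial_pos d
  apply limsup_scale hd0
  · intro m; positivity
  · intro m; positivity
  · intro b hb
    filter_upwards [hb] with m hm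
    calc (v m : ℝ) * (d.factorial : ℝ) / (m : ℝ) ^ d
        = (d.factorial : ℝ) * ((v m : ℝ) / (m : ℝ) ^ d) := by ring
      _ ≤ (d.factorial : ℝ) * b := mul_le_mul_of_nonneg_left hm hd0.le
  · intro b hb ε hε
    filter_upwards [hb] with m hm
    have h2 : (v m : ℝ) / (m : ℝ) ^ d =
        (v m : ℝ) * (d.factorial : ℝ) / (m : ℝ) ^ d / (d.factorial : ℝ) := by
      field_simp
    rw [h2]
    have h3 := div_le_div_of_nonneg_right hm hd0.le
    linarith

/-- positivity of the `ℝ≥0∞`-valued upper limit gives frequent maximal growth. -/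
lemma frequently_of_limsup_pos (h : ℕ → ℕ) (d : ℕ)
    (hpos : 0 < limsup (fun m : ℕ => (h m : ℝ≥0∞) / (m : ℝ≥0∞) ^ d) atTop) :
    ∃ a : ℕ, ∀ M : ℕ, ∃ μ, M ≤ μ ∧ μ ^ d ≤ a * h μ := by
  obtain ⟨c, hc0, hc⟩ := exists_between hpos
  have hctop : c ≠ ⊤ := ne_top_of_lt hc
  have hfreq := Filter.frequently_lt_of_lt_limsup (h := hc)
  obtain ⟨a, ha⟩ := ENNReal.exists_nat_gt (ENNReal.inv_ne_top.mpr hc0.ne')
  refine ⟨a, fun M => ?_⟩
  obtain ⟨μ, hμM, hμ⟩ := (Filter.frequently_atTop.mp hfreq) (max M 1)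
  refine ⟨μ, (le_max_left _ _).trans hμM, ?_⟩
  have hμ1 : 1 ≤ μ := (le_max_right _ _).trans hμM
  have hμ0 : μ ≠ 0 := by omega
  have hne0 : ((μ : ℝ≥0∞) ^ d) ≠ 0 := pow_ne_zero _ (by exact_mod_cast hμ0)
  have hnetop : ((μ : ℝ≥0∞) ^ d) ≠ ⊤ := ENNReal.pow_ne_top (ENNReal.natCast_ne_top μ)
  have h1 : c * (μ : ℝ≥0∞) ^ d < (h μ : ℝ≥0∞) :=
    (ENNReal.lt_div_iff_mul_lt (Or.inl hne0) (Or.inl hnetop)).mp hμ
  have h2 : (μ : ℝ≥0∞) ^ d ≤ (a : ℝ≥0∞) * (h μ : ℝ≥0∞) :=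
    calc (μ : ℝ≥0∞) ^ d = c⁻¹ * (c * (μ : ℝ≥0∞) ^ d) := by
          rw [← mul_assoc, ENNReal.inv_mul_cancel hc0.ne' hctop, one_mul]
      _ ≤ (a : ℝ≥0∞) * (h μ : ℝ≥0∞) := mul_le_mul' ha.le h1.le
  exact_mod_cast h2

/-- eventual maximal growth gives positivity of the `ℝ≥0∞`-valued lower limit. -/
lemma liminf_pos_of_growth (v : ℕ → ℕ) (d D m₁ : ℕ) (hD : 0 < D)
    (h : ∀ m, m₁ ≤ m → m ^ d ≤ D * v m) :
    0 < liminf (fun m : ℕ => (v m : ℝ≥0∞) / (m : ℝ≥0∞) ^ d) atTop := by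
  have hDtop : (D : ℝ≥0∞) ≠ ⊤ := ENNReal.natCast_ne_top D
  have hD0 : (D : ℝ≥0∞) ≠ 0 := by exact_mod_cast hD.ne'
  have hpos : 0 < (D : ℝ≥0∞)⁻¹ := ENNReal.inv_pos.mpr hDtop
  refine lt_of_lt_of_le hpos (Filter.le_liminf_of_le (h := ?_))
  filter_upwards [eventually_ge_atTop (max m₁ 1)] with m hm
  have hm1 : 1 ≤ m := (le_max_right _ _).trans hm
  have hm0 : m ≠ 0 := by omega
  have hne0 : ((m : ℝ≥0∞) ^ d) ≠ 0 := pow_ne_zero _ (by exact_mod_cast hm0)
  have hnetop : ((m : ℝ≥0∞) ^ d) ≠ ⊤ := ENNReal.pow_ne_top (ENNReal.natCast_ne_top m)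
  rw [ENNReal.le_div_iff_mul_le (Or.inl hne0) (Or.inl hnetop)]
  have h1 : ((m : ℝ≥0∞)) ^ d ≤ (D : ℝ≥0∞) * (v m : ℝ≥0∞) := by
    exact_mod_cast h m ((le_max_left _ _).trans hm)
  calc (D : ℝ≥0∞)⁻¹ * (m : ℝ≥0∞) ^ d ≤ (D : ℝ≥0∞)⁻¹ * ((D : ℝ≥0∞) * (v m : ℝ≥0∞)) :=
        mul_le_mul' le_rfl h1
    _ = (v m : ℝ≥0∞) := by rw [← mul_assoc, ENNReal.inv_mul_cancel hD0 hDtop, one_mul]

end analysis

variable (k : Type u) [Field k] {X : Scheme.{u}} [X.Over (Spec (CommRingCat.of k))]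
  [IsProper (X ↘ Spec (CommRingCat.of k))]

/-- **Kodaira's lemma**, core form: under maximal growth of sections of the powers of `L`, every
invertible module with a nonzero section embeds into some `L^{νμ}`. -/
theorem kodaira_core' [IsIntegral X] (n : ℕ)
    (hn : topologicalKrullDim X = ((n : ℕ) : WithBot ℕ∞))
    (H : X.Modules) (hH : CohB1.IsAmple H) (L : X.Modules) (hL : PicF.IsInvertible L)
    (ν a : ℕ)
    (hgrow : ∀ M : ℕ, ∃ μ : ℕ, M ≤ μ ∧
      μ ^ n ≤ a * Module.finrank k (Coh.HH X (CohB1.tensorPow L (ν * μ)) 0))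
    (P : X.Modules) (hP : PicF.IsInvertible P) (s : unitMod X ⟶ P) (hs : s ≠ 0) :
    ∃ (μ : ℕ) (φ : P ⟶ CohB1.tensorPow L (ν * μ)), 1 ≤ μ ∧ Mono φ := by
  classical
  haveI : IsNoetherian X := Curve2.isNoetherian_of_proper k X
  have hηs : genericPoint X ∈ CohB1.genLocus P s := Curve2.genericPoint_mem_genLocus hP s hs
  obtain ⟨A', hA'i, ⟨ε⟩⟩ := Groth.Agent.H5.Glue.exists_inverse P hP
  have hO : PicF.IsInvertible (unitMod X) := isInvertible_unit X
  have hOc : Coh.IsCoh (unitMod X) := isCoh_of_isInvertible hO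
  have hA'c : Coh.IsCoh A' := isCoh_of_isInvertible hA'i
  have hON : PicF.IsInvertible (CohB1.tensorMod (unitMod X) P) := isInvertible_tensorMod hO hP
  have hONc := isCoh_of_isInvertible hON
  have hL₁ : PicF.IsInvertible (CohB1.tensorPow L ν) := isInvertible_tensorPow hL ν
  haveI := qc_of_isInvertible _ hL
  haveI := qc_of_isInvertible _ hP
  haveI := qc_of_isInvertible _ hA'i
  haveI := qc_of_isInvertible _ hL₁
  -- multiplication by `s` is a monomorphism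
  have hτ : twistBy (unitMod X) s ≠ 0 := by
    intro h0
    have hW : CohB1.genLocus P s ≤ CohB1.genLocus P s := le_rfl
    have h1 := eq_zero_of_twistBy_eq_zero (unitMod X) s (CohB1.genLocus P s) hW
      (show Γ(unitMod X, CohB1.genLocus P s) from (1 : Γ(X, CohB1.genLocus P s)))
      (by rw [h0]; rfl)
    haveI : Nonempty (CohB1.genLocus P s) := ⟨⟨genericPoint X, hηs⟩⟩
    haveI : IsDomain Γ(X, CohB1.genLocus P s) := IsIntegral.component_integral _
    have h2 : (1 : Γ(X, CohB1.genLocus P s)) = 0 := h1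
    exact one_ne_zero h2
  haveI : Mono (twistBy (unitMod X) s) := Curve.mono_of_ne_zero hO hON _ hτ
  have hS := shortExact_coker (twistBy (unitMod X) s)
  have hQc : Coh.IsCoh (cokernel (twistBy (unitMod X) s)) := isCoh_cokernel _ hOc hONc
  have hsuppQ := support_cokernel_twistBy_subset (unitMod X) hOc.2 hP s
  have hQne : CohB1.support (cokernel (twistBy (unitMod X) s)) ≠ Set.univ := by
    intro heq
    have hmem : genericPoint X ∈ CohB1.support (cokernel (twistBy (unitMod X) s)) := by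
      rw [heq]; trivial
    exact (hsuppQ hmem).2 hηs
  have hS₁ := shortExact_map_tensorRightMod hS A' hA'i
  have hFc : Coh.IsCoh (CohB1.tensorMod (cokernel (twistBy (unitMod X) s)) A') :=
    isCoh_tensorMod' hQc hA'c
  have hFsupp : CohB1.support (CohB1.tensorMod (cokernel (twistBy (unitMod X) s)) A') ⊆
      CohB1.support (cokernel (twistBy (unitMod X) s)) :=
    support_tensorMod_subset _ hQc.2 hA'i
  -- the basic inequality
  have hineq : ∀ μ : ℕ, Module.finrank k (Coh.HH X (CohB1.tensorPow L (ν * μ)) 0) ≤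
      Module.finrank k (Coh.HH X (CohB1.tensorMod (CohB1.tensorMod (unitMod X) A')
        (CohB1.tensorPow (CohB1.tensorPow L ν) μ)) 0) +
      Module.finrank k (Coh.HH X ((tpFun 1 (fun _ : Fin 1 => CohB1.tensorPow L ν)
        (fun _ => μ)).obj (CohB1.tensorMod (cokernel (twistBy (unitMod X) s)) A')) 0) := by
    intro μ
    have hS₂ := shortExact_map_tpFun 1 (fun _ : Fin 1 => CohB1.tensorPow L ν) (fun _ => hL₁)
      (fun _ => μ) _ hS₁
    have h := Curve2.finrank_H0_le k X hS₂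
      (isCoh_tpFun 1 (fun _ : Fin 1 => CohB1.tensorPow L ν) (fun _ => hL₁) (fun _ => μ) _
        (isCoh_tensorMod' hONc hA'c))
      (isCoh_tpFun 1 (fun _ : Fin 1 => CohB1.tensorPow L ν) (fun _ => hL₁) (fun _ => μ) _ hFc)
    have e2 : CohB1.tensorMod (CohB1.tensorMod (CohB1.tensorMod (unitMod X) P) A')
        (CohB1.tensorPow (CohB1.tensorPow L ν) μ) ≅ CohB1.tensorPow L (ν * μ) :=
      tensorIso' (tensorIso' (unitorL' _) (Iso.refl A') ≪≫ ε) (Iso.refl _) ≪≫ unitorL' _ ≪≫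
        powPowIso L ν μ ≪≫ castPow L (powIdx_eq ν μ)
    rw [← Groth.Agent.LD.FBC.finrank_HH_congr k e2 0]
    exact h
  -- some twist has a section
  obtain ⟨μ, hμ, hne⟩ : ∃ μ : ℕ, 1 ≤ μ ∧
      Module.finrank k (Coh.HH X (CohB1.tensorMod (CohB1.tensorMod (unitMod X) A')
        (CohB1.tensorPow (CohB1.tensorPow L ν) μ)) 0) ≠ 0 := by
    by_contra hcon
    push Not at hcon
    have hb : ∀ μ : ℕ, 1 ≤ μ →
        μ ^ n ≤ a * Module.finrank k (Coh.HH X (CohB1.tensorPow L (ν * μ)) 0) →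
        μ ^ n ≤ a * Module.finrank k (Coh.HH X
        ((tpFun 1 (fun _ : Fin 1 => CohB1.tensorPow L ν) (fun _ => μ)).obj
          (CohB1.tensorMod (cokernel (twistBy (unitMod X) s)) A')) 0) := by
      intro μ hμ hg
      have h1 := hineq μ
      rw [hcon μ hμ, zero_add] at h1
      exact hg.trans (Nat.mul_le_mul_left a h1)
    rcases n with _ | e
    · have hlt := dim_lt_of_isClosed_ne_univ
        (CohB1.support (cokernel (twistBy (unitMod X) s))) (isClosed_support_of_isCoh hQc)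
        hQne 0 (le_of_eq hn)
      have hempty := eq_empty_of_dim_lt_zero _ hlt
      have hz : IsZero (CohB1.tensorMod (cokernel (twistBy (unitMod X) s)) A') := by
        apply isZero_of_support_eq_empty
        apply Set.subset_empty_iff.mp
        rw [← hempty]
        exact hFsupp
      obtain ⟨μ₁, hμ₁, hg₁⟩ := hgrow 1
      have h1 := hb μ₁ hμ₁ hg₁
      rw [finrank_H0_of_isZero k X ((tpFun 1 (fun _ : Fin 1 => CohB1.tensorPow L ν)
        (fun _ => μ₁)).map_isZero hz)] at h1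
      simp at h1
    · have hdimQ := dim_le_of_ne_univ (r := e) hn
        (CohB1.support (cokernel (twistBy (unitMod X) s))) (isClosed_support_of_isCoh hQc) hQne
      obtain ⟨C, hC⟩ := exists_h0_twist_le k e H hH (CohB1.tensorPow L ν) hL₁ _ hFc
        ((dim_mono hFsupp).trans hdimQ)
      obtain ⟨T, hT⟩ : ∃ T : ℕ, T = a * C * 2 ^ e := ⟨_, rfl⟩
      obtain ⟨μ₁, hμ₁, hg₁⟩ := hgrow (T + 1)
      have hμ₁' : 1 ≤ μ₁ := le_trans (Nat.le_add_left 1 T) hμ₁
      have h1 := hb μ₁ hμ₁' hg₁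
      have h2 := hC μ₁
      have h3 : (μ₁ + 1) ^ e ≤ 2 ^ e * μ₁ ^ e := by
        rw [← Nat.mul_pow]
        exact Nat.pow_le_pow_left (by omega) e
      have h6 : μ₁ ^ (e + 1) ≤ a * (C * (2 ^ e * μ₁ ^ e)) :=
        h1.trans (Nat.mul_le_mul_left a (h2.trans (Nat.mul_le_mul_left C h3)))
      have h4 : μ₁ ^ e * μ₁ ≤ μ₁ ^ e * T :=
        calc μ₁ ^ e * μ₁ = μ₁ ^ (e + 1) := (pow_succ μ₁ e).symm
          _ ≤ a * (C * (2 ^ e * μ₁ ^ e)) := h6
          _ = μ₁ ^ e * T := by rw [hT]; ring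
      have h5 := Nat.le_of_mul_le_mul_left h4 (pow_pos hμ₁' e)
      omega
  -- the section and the resulting monomorphism
  haveI := qc_of_isInvertible _ (isInvertible_tensorPow hL₁ μ)
  have hTi : PicF.IsInvertible (CohB1.tensorMod (CohB1.tensorMod (unitMod X) A')
      (CohB1.tensorPow (CohB1.tensorPow L ν) μ)) :=
    isInvertible_tensorMod (isInvertible_tensorMod hO hA'i) (isInvertible_tensorPow hL₁ μ)
  have hnt : Nontrivial (Coh.HH X (CohB1.tensorMod (CohB1.tensorMod (unitMod X) A')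
      (CohB1.tensorPow (CohB1.tensorPow L ν) μ)) 0) :=
    Module.nontrivial_of_finrank_pos (R := k) (Nat.pos_of_ne_zero hne)
  obtain ⟨σ, hσ⟩ := exists_ne_zero_of_nontrivial_HH _ hnt
  haveI : Mono σ := Curve.mono_of_ne_zero hO hTi σ hσ
  haveI := mono_tensorMap_of_isInvertible σ P hP
  have e3 : CohB1.tensorMod (CohB1.tensorMod (CohB1.tensorMod (unitMod X) A')
      (CohB1.tensorPow (CohB1.tensorPow L ν) μ)) P ≅ CohB1.tensorPow L (ν * μ) :=
    tensorCommAll _ _ ≪≫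
      tensorIso' (Iso.refl P) (tensorIso' (unitorL' A') (Iso.refl _)) ≪≫
      (tensorAssoc P A' (CohB1.tensorPow (CohB1.tensorPow L ν) μ)).symm ≪≫
      tensorIso' ε (Iso.refl _) ≪≫ unitorL' _ ≪≫
      powPowIso L ν μ ≪≫ castPow L (powIdx_eq ν μ)
  refine ⟨μ, (unitorL' P).inv ≫ KoszTw.tensorMap σ (𝟙 P) ≫ e3.hom, hμ, ?_⟩
  infer_instance


/-- under maximal growth of sections, every ample module embeds in a positive power of `L`. -/
theorem big_of_growth' [IsIntegral X] (n : ℕ)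
    (hn : topologicalKrullDim X = ((n : ℕ) : WithBot ℕ∞))
    (H : X.Modules) (hH : CohB1.IsAmple H) (L : X.Modules) (hL : PicF.IsInvertible L)
    (ν a : ℕ) (hν : 0 < ν)
    (hgrow : ∀ M : ℕ, ∃ μ : ℕ, M ≤ μ ∧
      μ ^ n ≤ a * Module.finrank k (Coh.HH X (CohB1.tensorPow L (ν * μ)) 0))
    (A : X.Modules) (hA : CohB1.IsAmple A) :
    ∃ (m : ℕ) (φ : A ⟶ CohB1.tensorPow L m), 0 < m ∧ Mono φ := by
  haveI : IsNoetherian X := Curve2.isNoetherian_of_proper k X
  obtain ⟨n₀, hn₀⟩ := exists_section_tensorPow_ne_zero A hA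
  obtain ⟨s₁, hs₁⟩ := hn₀ n₀ le_rfl
  obtain ⟨s₂, hs₂⟩ := hn₀ (n₀ + 1) (Nat.le_succ _)
  have hO : PicF.IsInvertible (unitMod X) := isInvertible_unit X
  have hP : PicF.IsInvertible (CohB1.tensorMod (CohB1.tensorPow A n₀) A) :=
    isInvertible_tensorMod (isInvertible_tensorPow hA.1 n₀) hA.1
  obtain ⟨μ, ψ, hμ, hψ⟩ := kodaira_core' k n hn H hH L hL ν a hgrow
    (CohB1.tensorMod (CohB1.tensorPow A n₀) A) hP s₂ hs₂
  haveI := hψ
  haveI : Mono s₁ := Curve.mono_of_ne_zero hO (isInvertible_tensorPow hA.1 n₀) s₁ hs₁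
  haveI := mono_tensorMap_of_isInvertible s₁ A hA.1
  refine ⟨ν * μ, (unitorL' A).inv ≫ KoszTw.tensorMap s₁ (𝟙 A) ≫ ψ, Nat.mul_pos hν hμ, ?_⟩
  infer_instance


/-- `h⁰(L^m) ≤ B m^d`. -/
lemma exists_h0_pow_le (H : X.Modules) (hH : CohB1.IsAmple H) (d : ℕ)
    (hd : topologicalKrullDim X = d) (L : X.Modules) (hL : PicF.IsInvertible L) :
    ∃ B : ℕ, ∀ m, 1 ≤ m → Module.finrank k (Coh.HH X (CohB1.tensorPow L m) 0) ≤ B * m ^ d := by
  have hLs : ∀ P ∈ [L], PicF.IsInvertible P := by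
    intro P hP
    rw [List.mem_singleton] at hP
    exact hP ▸ hL
  obtain ⟨C, hC⟩ := growth_of_words k d (le_of_eq hd) H hH [L] hLs 0
  refine ⟨C * 2 ^ d, fun m hm => ?_⟩
  have h1 := hC m _ (isWord_tensorPow_singleton hL m)
  have h2 : (1 + m) ^ d ≤ 2 ^ d * m ^ d := by
    rw [← Nat.mul_pow]
    exact Nat.pow_le_pow_left (by omega) d
  calc Module.finrank k (Coh.HH X (CohB1.tensorPow L m) 0) ≤ C * (1 + m) ^ d := h1
    _ ≤ C * (2 ^ d * m ^ d) := Nat.mul_le_mul_left C h2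
    _ = C * 2 ^ d * m ^ d := (Nat.mul_assoc _ _ _).symm

/-- **S19805**: the volume is homogeneous of degree `dim X`. -/
theorem vol_tensorPow [IsIntegral X] (H : X.Modules) (hH : CohB1.IsAmple H) (d : ℕ)
    (hd : topologicalKrullDim X = d) (L : X.Modules) (hL : PicF.IsInvertible L) (a : ℕ)
    (ha : 0 < a) :
    limsup (fun m : ℕ => (Module.finrank k
        (Coh.HH X (CohB1.tensorPow (CohB1.tensorPow L a) m) 0) : ℝ≥0∞) /
        (m : ℝ≥0∞) ^ d) atTop =
      (a : ℝ≥0∞) ^ d * limsup (fun m : ℕ => (Module.finrank k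
        (Coh.HH X (CohB1.tensorPow L m) 0) : ℝ≥0∞) / (m : ℝ≥0∞) ^ d) atTop := by
  obtain ⟨B₁, hB₁⟩ := exists_h0_pow_le k H hH d hd (CohB1.tensorPow L a)
    (isInvertible_tensorPow hL a)
  obtain ⟨B₂, hB₂⟩ := exists_h0_pow_le k H hH d hd L hL
  obtain ⟨ht1, he1⟩ := real_limsup_eq
    (fun m => Module.finrank k (Coh.HH X (CohB1.tensorPow (CohB1.tensorPow L a) m) 0)) d B₁ hB₁
  obtain ⟨ht2, he2⟩ := real_limsup_eq
    (fun m => Module.finrank k (Coh.HH X (CohB1.tensorPow L m) 0)) d B₂ hB₂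
  have hmain := hhat_tensorPow k H hH d hd L hL a ha 0
  unfold W4c5asymptcohfn.hhat at hmain
  beta_reduce at he1 he2 ht1 ht2
  rw [he1, he2] at hmain
  have hd0 : (d.factorial : ℝ) ≠ 0 := by positivity
  have h3 : (limsup (fun m : ℕ => (Module.finrank k
        (Coh.HH X (CohB1.tensorPow (CohB1.tensorPow L a) m) 0) : ℝ≥0∞) /
        (m : ℝ≥0∞) ^ d) atTop).toReal =
      (a : ℝ) ^ d * (limsup (fun m : ℕ => (Module.finrank k
        (Coh.HH X (CohB1.tensorPow L m) 0) : ℝ≥0∞) / (m : ℝ≥0∞) ^ d) atTop).toReal := by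
    apply mul_left_cancel₀ hd0
    rw [hmain]
    ring
  have h4 : ((a : ℝ≥0∞) ^ d * limsup (fun m : ℕ => (Module.finrank k
        (Coh.HH X (CohB1.tensorPow L m) 0) : ℝ≥0∞) / (m : ℝ≥0∞) ^ d) atTop).toReal =
      (a : ℝ) ^ d * (limsup (fun m : ℕ => (Module.finrank k
        (Coh.HH X (CohB1.tensorPow L m) 0) : ℝ≥0∞) / (m : ℝ≥0∞) ^ d) atTop).toReal := by
    rw [ENNReal.toReal_mul, ENNReal.toReal_pow, ENNReal.toReal_natCast]
  rw [← h4] at h3
  exact (ENNReal.toReal_eq_toReal_iff' ht1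
    (ENNReal.mul_ne_top (ENNReal.pow_ne_top (ENNReal.natCast_ne_top a)) ht2)).mp h3

/-- **S19806**: positivity of the lower and of the upper limit of `h⁰(L^m)/m^d` agree. -/
theorem liminf_pos_iff_limsup_pos [IsIntegral X] (H : X.Modules) (hH : CohB1.IsAmple H) (d : ℕ)
    (hd : topologicalKrullDim X = d) (L : X.Modules) (hL : PicF.IsInvertible L) :
    0 < liminf (fun m : ℕ => (Module.finrank k (Coh.HH X (CohB1.tensorPow L m) 0) : ℝ≥0∞) /
        (m : ℝ≥0∞) ^ d) atTop ↔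
      0 < limsup (fun m : ℕ => (Module.finrank k (Coh.HH X (CohB1.tensorPow L m) 0) : ℝ≥0∞) /
        (m : ℝ≥0∞) ^ d) atTop := by
  constructor
  · intro h
    exact lt_of_lt_of_le h Filter.liminf_le_limsup
  · intro hpos
    obtain ⟨a, hfreq⟩ := frequently_of_limsup_pos
      (fun m => Module.finrank k (Coh.HH X (CohB1.tensorPow L m) 0)) d hpos
    have hgrow : ∀ M : ℕ, ∃ μ : ℕ, M ≤ μ ∧
        μ ^ d ≤ a * Module.finrank k (Coh.HH X (CohB1.tensorPow L (1 * μ)) 0) := by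
      intro M
      obtain ⟨μ, h1, h2⟩ := hfreq M
      exact ⟨μ, h1, by rw [Nat.one_mul]; exact h2⟩
    obtain ⟨m₀, φ, hm₀, hφ⟩ := big_of_growth' k d hd H hH L hL 1 a one_pos hgrow H hH
    haveI := hφ
    obtain ⟨D, m₁, hD, hbound⟩ := growth_of_big k d hd H hH L hL m₀ hm₀ φ
    exact liminf_pos_of_growth
      (fun m => Module.finrank k (Coh.HH X (CohB1.tensorPow L m) 0)) d D m₁ hD hbound

/-- **S19807**: the volume increases in effective directions. -/
theorem vol_le_of_effective [IsIntegral X] (d : ℕ) (L : X.Modules) (hL : PicF.IsInvertible L)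
    (E : X.Modules) (hE : PicF.IsInvertible E) (s : unitMod X ⟶ E) (hs : s ≠ 0) :
    limsup (fun m : ℕ => (Module.finrank k (Coh.HH X (CohB1.tensorPow L m) 0) : ℝ≥0∞) /
        (m : ℝ≥0∞) ^ d) atTop ≤
      limsup (fun m : ℕ => (Module.finrank k
        (Coh.HH X (CohB1.tensorPow (CohB1.tensorMod L E) m) 0) : ℝ≥0∞) /
        (m : ℝ≥0∞) ^ d) atTop := by
  haveI : IsNoetherian X := Curve2.isNoetherian_of_proper k X
  haveI : Mono s := Curve.mono_of_ne_zero (isInvertible_unit X) hE s hs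
  haveI := mono_tensorMap_left_of_isFinLocFree s L
    (Curve.isFinLocFree_of_rank ((isInvertible_iff _).mp hL))
  have hLE : PicF.IsInvertible (CohB1.tensorMod L E) := isInvertible_tensorMod hL hE
  haveI : Mono ((SecTwist.unitorR L).inv ≫ KoszTw.tensorMap (𝟙 L) s) := mono_comp _ _
  refine Filter.limsup_le_limsup (Filter.Eventually.of_forall fun m => ?_)
  obtain ⟨ψ, hψ⟩ := exists_mono_tensorPow hL hLE
    ((SecTwist.unitorR L).inv ≫ KoszTw.tensorMap (𝟙 L) s) m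
  haveI := hψ
  have h := finrank_H0_le_of_mono k ψ (isCoh_of_isInvertible (isInvertible_tensorPow hLE m))
  exact ENNReal.div_le_div_right (by exact_mod_cast h) _

end Groth.Agent.H5.IntN
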