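import Mathlib
import Groth.Agent.Lib.Helper5.IntN.Vol1
import Groth.Agent.Lib.Helper5.GV.Main
import Groth.Agent.Lib.Lead.PN.AmpleSerreRel
import Groth.Agent.H4.NT5

/-!
# Vanishing above the dimension of the support, and the vanishing of the top asymptotic
cohomological function of a big invertible module (S17626).
-/

set_option autoImplicit false
universe u
open CategoryTheory CategoryTheory.Limits AlgebraicGeometry TopologicalSpace Opposite Filter

namespace Groth.Agent.H5.IntN

open Groth.Agent.LD Groth.Agent.LD.QC Groth.Agent.H5.Curve4 Groth.Agent.H5.DegC Groth.Agent.H5.Snap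
open Groth.Agent.H5.Deg Groth.Agent.H5.HP

section analysis

/-- positivity of the real normalised upper limit gives frequent maximal growth. -/
lemma frequently_of_real_limsup_pos (v : ℕ → ℕ) (n : ℕ)
    (hpos : 0 < limsup (fun m : ℕ => (v m : ℝ) * (n.factorial : ℝ) / (m : ℝ) ^ n) atTop) :
    ∃ a : ℕ, ∀ M : ℕ, ∃ μ, M ≤ μ ∧ μ ^ n ≤ a * v μ := by
  have hx0 : ∀ m : ℕ, 0 ≤ (v m : ℝ) * (n.factorial : ℝ) / (m : ℝ) ^ n := fun m => by positivity
  have hcob : IsCoboundedUnder (· ≤ ·) atTop
      (fun m : ℕ => (v m : ℝ) * (n.factorial : ℝ) / (m : ℝ) ^ n) :=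
    (isBoundedUnder_of_eventually_ge (Eventually.of_forall hx0)).isCoboundedUnder_le
  obtain ⟨c, hc0, hc⟩ := exists_between hpos
  have hfreq := Filter.frequently_lt_of_lt_limsup hcob hc
  obtain ⟨a, ha⟩ := exists_nat_ge ((n.factorial : ℝ) / c)
  refine ⟨a, fun M => ?_⟩
  obtain ⟨μ, hμM, hμ⟩ := (Filter.frequently_atTop.mp hfreq) (max M 1)
  refine ⟨μ, (le_max_left _ _).trans hμM, ?_⟩
  have hμ1 : 1 ≤ μ := (le_max_right _ _).trans hμM
  have hμr : (0 : ℝ) < (μ : ℝ) := by exact_mod_cast hμ1
  have hμpos : (0 : ℝ) < (μ : ℝ) ^ n := pow_pos hμr n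
  have h1 : c * (μ : ℝ) ^ n < (v μ : ℝ) * (n.factorial : ℝ) := (lt_div_iff₀ hμpos).mp hμ
  have h3 : (μ : ℝ) ^ n ≤ (n.factorial : ℝ) / c * (v μ : ℝ) := by
    rw [div_mul_eq_mul_div, le_div_iff₀ hc0]
    linarith
  have h2 : (μ : ℝ) ^ n ≤ (a : ℝ) * (v μ : ℝ) :=
    h3.trans (mul_le_mul_of_nonneg_right ha (Nat.cast_nonneg _))
  exact_mod_cast h2

end analysis

section torsion

variable {X : Scheme.{u}} [IsIntegral X]

/-- a module of finite type of generic rank zero is torsion. -/
lemma isTors_of_gdim_eq_zero {Q : X.Modules} (hQ : Q.IsFiniteType) (h0 : gdim Q = 0) :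
    IsTors Q := by
  have hfree : Module.Free (X.presheaf.stalk (genericPoint X))
      (Q.presheaf.stalk (genericPoint X)) := by
    letI : Field (X.presheaf.stalk (genericPoint X)) := inferInstanceAs (Field X.functionField)
    exact Module.Free.of_divisionRing _ _
  have hfin : Module.Finite (X.presheaf.stalk (genericPoint X))
      (Q.presheaf.stalk (genericPoint X)) :=
    Groth.Agent.H4.NT5.finite_stalk_of_isFiniteType _ hQ _
  have h1 : Module.finrank (X.presheaf.stalk (genericPoint X))
      (Q.presheaf.stalk (genericPoint X)) = 0 := h0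
  have h2 := (Module.finrank_zero_iff (R := X.presheaf.stalk (genericPoint X))
      (M := Q.presheaf.stalk (genericPoint X))).mp h1
  exact h2

/-- the cokernel of a monomorphism of invertible modules on an integral scheme is torsion. -/
lemma isTors_cokernel_of_invertible {M N : X.Modules} (hM : PicF.IsInvertible M)
    (hN : PicF.IsInvertible N) (ψ : M ⟶ N) [Mono ψ] : IsTors (cokernel ψ) := by
  have hMc : Coh.IsCoh M := isCoh_of_isInvertible hM
  have hNc : Coh.IsCoh N := isCoh_of_isInvertible hN
  have hQc : Coh.IsCoh (cokernel ψ) := isCoh_cokernel ψ hMc hNc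
  have hS := shortExact_coker ψ
  have h1 := gdim_add _ hS hMc hQc
  have hgM : gdim M = 1 := gdim_of_rank ((isInvertible_iff _).mp hM)
  have hgN : gdim N = 1 := gdim_of_rank ((isInvertible_iff _).mp hN)
  have h2 : gdim N = gdim M + gdim (cokernel ψ) := h1
  have h0 : gdim (cokernel ψ) = 0 := by omega
  exact isTors_of_gdim_eq_zero hQc.2 h0

end torsion

variable (k : Type u) [Field k] {X : Scheme.{u}} [X.Over (Spec (CommRingCat.of k))]
  [IsProper (X ↘ Spec (CommRingCat.of k))]

/-- **vanishing above the dimension of the support**: on a proper scheme over a field,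
`H^p(F) = 0` for a coherent module `F` and `p > dim Supp F`. -/
theorem finrank_HH_eq_zero_of_dim_lt (e : ℕ) (F : X.Modules) (hF : Coh.IsCoh F)
    (hsupp : topologicalKrullDim (CohB1.support F) < ((e : ℕ) : WithBot ℕ∞)) (p : ℕ)
    (hp : e ≤ p) : Module.finrank k (Coh.HH X F p) = 0 := by
  rcases e with _ | e
  · have hempty := eq_empty_of_dim_lt_zero _ hsupp
    exact finrank_HH_of_isZero k (isZero_of_support_eq_empty hempty) p
  rcases isEmpty_or_nonempty X with hem | hne
  · exact finrank_HH_of_isZero k (isZero_of_support_eq_empty (Set.eq_empty_of_isEmpty _)) p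
  haveI : IsNoetherian X := Curve2.isNoetherian_of_proper k X
  refine devissage_ideal X (fun F => topologicalKrullDim (CohB1.support F) <
      ((e + 1 : ℕ) : WithBot ℕ∞) → Module.finrank k (Coh.HH X F p) = 0) ?_ ?_ ?_ F hF hsupp
  · rintro M N ⟨ι⟩ h hs
    rw [← support_eq_of_iso ι] at hs
    rw [← Groth.Agent.LD.FBC.finrank_HH_congr k ι p]
    exact h hs
  · intro S hS h1 h2 h3 p1 p3 hs
    have hsupp2 := support_of_shortExact hS
    have q1 := p1 (lt_of_le_of_lt
      (dim_mono (by rw [hsupp2]; exact Set.subset_union_left)) hs)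
    have q3 := p3 (lt_of_le_of_lt
      (dim_mono (by rw [hsupp2]; exact Set.subset_union_right)) hs)
    have h := finrank_HH_mid_le k hS h1 h2 h3 p
    omega
  · intro C hC I ι hι hI hs
    haveI := hC
    haveI := hι
    haveI : I.IsQuasicoherent := hI
    letI : C.subscheme.Over (Spec (CommRingCat.of k)) := overOf k C.subschemeι
    haveI : IsProper (C.subscheme ↘ Spec (CommRingCat.of k)) :=
      inferInstanceAs (IsProper (C.subschemeι ≫ (X ↘ Spec (CommRingCat.of k))))
    haveI : C.subschemeι.IsOver (Spec (CommRingCat.of k)) := ⟨rfl⟩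
    haveI : IsNoetherian C.subscheme := Curve2.isNoetherian_of_proper k C.subscheme
    have hOCc : Coh.IsCoh (unitMod C.subscheme) :=
      Groth.Agent.LD.PF.isCoh_unitMod C.subscheme
    have hIc : Coh.IsCoh I := isCoh_of_mono ι hI hOCc
    change Module.finrank k (Coh.HH X ((Scheme.Modules.pushforward C.subschemeι).obj I) p) = 0
    refine (CL.HHpushEquiv C.subschemeι k I p).finrank_eq.symm.trans ?_
    by_cases ht : IsTors I
    · exact finrank_HH_of_isZero k (isZero_of_mono_unit_of_isTors I ι ht) p
    · have hcl : IsClosed (CohB1.support I) := QC.isClosed_support_of_isFiniteType I hIc.2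
      have huniv : CohB1.support I = Set.univ := by
        have hη : genericPoint C.subscheme ∈ CohB1.support I := ht
        have h1 : closure {genericPoint C.subscheme} ⊆ CohB1.support I :=
          hcl.closure_subset_iff.mpr (Set.singleton_subset_iff.mpr hη)
        rw [(genericPoint_spec C.subscheme).def] at h1
        exact Set.univ_subset_iff.mp h1
      have hdimC : topologicalKrullDim C.subscheme ≤ ((e : ℕ) : WithBot ℕ∞) := by
        apply le_of_lt_succ_coe
        refine lt_of_le_of_lt ?_ hs
        let g : C.subscheme → CohB1.support ((Coh.push C.subschemeι).obj I) := fun z =>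
          ⟨C.subschemeι z, mem_support_pushforward C.subschemeι I z (by rw [huniv]; trivial)⟩
        have hg : Topology.IsInducing g := by
          apply Topology.IsInducing.of_comp
            (Continuous.subtype_mk C.subschemeι.continuous _) continuous_subtype_val
          exact C.subschemeι.isClosedEmbedding.isInducing
        exact hg.topologicalKrullDim_le
      haveI := Groth.Agent.H5.GV.subsingleton_HH_of_isCoh e hdimC I hIc p (by omega)
      exact Module.finrank_zero_of_subsingleton

/-- **S17626**: the top asymptotic cohomological function of a big invertible module on an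
integral projective scheme of positive dimension vanishes. -/
theorem hhat_top_eq_zero_of_big [IsIntegral X] (H : X.Modules) (hH : CohB1.IsAmple H) (n : ℕ)
    (hn : topologicalKrullDim X = n) (hn1 : 1 ≤ n) (L : X.Modules) (hL : PicF.IsInvertible L)
    (hbig : 0 < W4c5asymptcohfn.hhat k X n 0 L) : W4c5asymptcohfn.hhat k X n n L = 0 := by
  classical
  haveI : IsNoetherian X := Curve2.isNoetherian_of_proper k X
  obtain ⟨a, hfreq⟩ := frequently_of_real_limsup_pos
    (fun m => Module.finrank k (Coh.HH X (CohB1.tensorPow L m) 0)) n hbig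
  have hgrow : ∀ M : ℕ, ∃ μ : ℕ, M ≤ μ ∧
      μ ^ n ≤ a * Module.finrank k (Coh.HH X (CohB1.tensorPow L (1 * μ)) 0) := by
    intro M
    obtain ⟨μ, h1, h2⟩ := hfreq M
    exact ⟨μ, h1, by rw [Nat.one_mul]; exact h2⟩
  obtain ⟨m₀, φ, hm₀, hφ⟩ := big_of_growth' k n hn H hH L hL 1 a one_pos hgrow H hH
  haveI := hφ
  have hsv : ∀ r : ℕ, ∃ q₀ : ℕ, ∀ q, q₀ ≤ q → ∀ p : ℕ, 0 < p → Subsingleton
      (Coh.HH X (CohB1.tensorMod (CohB1.tensorPow L r) (CohB1.tensorPow H q)) p) := fun r =>
    Groth.Agent.LD.PN.AmS.serre_vanishing_of_isAmple k (X ↘ Spec (CommRingCat.of k)) H hH.1 hH _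
      (isCoh_of_isInvertible (isInvertible_tensorPow hL r))
  choose q₀ hq₀ using hsv
  have hev : ∀ m : ℕ, m₀ * ((∑ r ∈ Finset.range m₀, q₀ r) + 1) ≤ m →
      Module.finrank k (Coh.HH X (CohB1.tensorPow L m) n) = 0 := by
    intro m hm
    obtain ⟨q, hq⟩ : ∃ q, q = m / m₀ := ⟨_, rfl⟩
    obtain ⟨r, hr⟩ : ∃ r, r = m % m₀ := ⟨_, rfl⟩
    have hrlt : r < m₀ := by rw [hr]; exact Nat.mod_lt _ hm₀
    have hdecomp : r + m₀ * q = m := by rw [hr, hq]; exact Nat.mod_add_div m m₀
    have hqge : (∑ r ∈ Finset.range m₀, q₀ r) + 1 ≤ q := by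
      rw [hq, Nat.le_div_iff_mul_le hm₀, Nat.mul_comm]
      exact hm
    have hqr : q₀ r ≤ q :=
      le_trans (Finset.single_le_sum (f := q₀) (fun _ _ => Nat.zero_le _)
        (Finset.mem_range.mpr hrlt)) (by omega)
    obtain ⟨ψ, hψ⟩ := exists_mono_twist_pow hH.1 hL m₀ φ r q m hdecomp
    haveI := hψ
    have hMi : PicF.IsInvertible
        (CohB1.tensorMod (CohB1.tensorPow L r) (CohB1.tensorPow H q)) :=
      isInvertible_tensorMod (isInvertible_tensorPow hL r) (isInvertible_tensorPow hH.1 q)
    have hNi : PicF.IsInvertible (CohB1.tensorPow L m) := isInvertible_tensorPow hL m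
    have hMc := isCoh_of_isInvertible hMi
    have hNc := isCoh_of_isInvertible hNi
    have hQc : Coh.IsCoh (cokernel ψ) := isCoh_cokernel ψ hMc hNc
    have hS := shortExact_coker ψ
    have hQt : IsTors (cokernel ψ) := isTors_cokernel_of_invertible hMi hNi ψ
    have hQne : CohB1.support (cokernel ψ) ≠ Set.univ := by
      intro hu
      have hmem : genericPoint X ∈ CohB1.support (cokernel ψ) := by rw [hu]; trivial
      exact hmem hQt
    have hQdim := dim_lt_of_isClosed_ne_univ _ (isClosed_support_of_isCoh hQc) hQne n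
      (le_of_eq hn)
    have h3 := finrank_HH_eq_zero_of_dim_lt k n (cokernel ψ) hQc hQdim n le_rfl
    haveI := hq₀ r q hqr n hn1
    have h1 : Module.finrank k (Coh.HH X
        (CohB1.tensorMod (CohB1.tensorPow L r) (CohB1.tensorPow H q)) n) = 0 :=
      Module.finrank_zero_of_subsingleton
    have h : Module.finrank k (Coh.HH X (CohB1.tensorPow L m) n) ≤
        Module.finrank k (Coh.HH X
          (CohB1.tensorMod (CohB1.tensorPow L r) (CohB1.tensorPow H q)) n) +
        Module.finrank k (Coh.HH X (cokernel ψ) n) :=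
      finrank_HH_mid_le k hS hMc hNc hQc n
    omega
  unfold W4c5asymptcohfn.hhat
  have hev' : (fun m : ℕ => (Module.finrank k (Coh.HH X (CohB1.tensorPow L m) n) : ℝ) *
      (n.factorial : ℝ) / (m : ℝ) ^ n) =ᶠ[atTop] fun _ => (0 : ℝ) := by
    filter_upwards [eventually_ge_atTop (m₀ * ((∑ r ∈ Finset.range m₀, q₀ r) + 1))] with m hm
    rw [hev m hm]
    simp
  rw [Filter.limsup_congr hev', Filter.limsup_const]

end Groth.Agent.H5.IntN
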