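import Mathlib
import Groth.Agent.Lib.Helper5.IntN.Vol2
import Groth.Agent.Lib.Helper5.DegC.FinDecomp
import Groth.Agent.Lib.Lead.QC.AmpleGG

/-!
# Asymptotic cohomological functions of coherent modules: invariance under generic isomorphisms,
and the value on free modules (helper5; towards S17627).
-/

set_option autoImplicit false
universe u
open CategoryTheory CategoryTheory.Limits AlgebraicGeometry TopologicalSpace Opposite Filter

namespace Groth.Agent.H5.IntN

open Groth.Agent.LD Groth.Agent.LD.QC Groth.Agent.H5.Curve4 Groth.Agent.H5.DegC Groth.Agent.H5.Snap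
open Groth.Agent.H5.Deg Groth.Agent.H5.HP

variable (k : Type u) [Field k] {X : Scheme.{u}} [X.Over (Spec (CommRingCat.of k))]
  [IsProper (X ↘ Spec (CommRingCat.of k))]

/-- the support of a coherent torsion module on an integral scheme of dimension `n` has dimension
`< n`. -/
lemma dim_support_lt_of_isTors [IsIntegral X] (n : ℕ) (hn : topologicalKrullDim X = n)
    {T : X.Modules} (hT : Coh.IsCoh T) (ht : IsTors T) :
    topologicalKrullDim (CohB1.support T) < (n : WithBot ℕ∞) := by
  have hne : CohB1.support T ≠ Set.univ := by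
    intro hu
    have hmem : genericPoint X ∈ CohB1.support T := by rw [hu]; trivial
    exact hmem ht
  exact dim_lt_of_isClosed_ne_univ _ (isClosed_support_of_isCoh hT) hne n (le_of_eq hn)

/-- torsion modules are stable under isomorphisms. -/
lemma isTors_of_iso' [IsIntegral X] {T T' : X.Modules} (e : T ≅ T') (hT' : Coh.IsCoh T')
    (h : IsTors T) : IsTors T' :=
  isTors_of_gdim_eq_zero hT'.2 (by rw [← gdim_iso e]; exact gdim_of_isTors h)

/-- a morphism of coherent modules with torsion kernel and cokernel does not change `ĥ^i`. -/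
theorem hhatF_eq_of_generic_iso [IsIntegral X] (H : X.Modules) (hH : CohB1.IsAmple H) (n : ℕ)
    (hn : topologicalKrullDim X = n) {A B : X.Modules} (hA : Coh.IsCoh A) (hB : Coh.IsCoh B)
    (φ : A ⟶ B) (hK : IsTors (kernel φ)) (hQ : IsTors (cokernel φ))
    (L : X.Modules) (hL : PicF.IsInvertible L) (i : ℕ) :
    W4c5asymptcohfn.hhatF k X n i A L = W4c5asymptcohfn.hhatF k X n i B L := by
  haveI : IsNoetherian X := Curve2.isNoetherian_of_proper k X
  have hKc : Coh.IsCoh (kernel φ) := isCoh_kernel φ hA hB
  have hQc : Coh.IsCoh (cokernel φ) := isCoh_cokernel φ hA hB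
  have hIc : Coh.IsCoh (cokernel (kernel.ι φ)) := isCoh_cokernel (kernel.ι φ) hKc hA
  -- first step
  have h1 := hhatF_eq_of_small_sub k H hH n _ (shortExact_coker (kernel.ι φ)) hKc hA hIc
    (dim_support_lt_of_isTors n hn hKc hK) L hL i
  -- second step
  let ψ : cokernel (kernel.ι φ) ⟶ B := Abelian.factorThruCoimage φ
  haveI : Mono ψ := inferInstanceAs (Mono (Abelian.factorThruCoimage φ))
  have hfac : cokernel.π (kernel.ι φ) ≫ ψ = φ := Abelian.coimage.fac φ
  have hQc' : Coh.IsCoh (cokernel ψ) := isCoh_cokernel ψ hIc hB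
  have e : cokernel φ ≅ cokernel ψ :=
    cokernelIsoOfEq hfac.symm ≪≫ cokernelEpiComp (cokernel.π (kernel.ι φ)) ψ
  have hQ' : IsTors (cokernel ψ) := isTors_of_iso' e hQc' hQ
  have h2 := hhatF_eq_of_small_quot k H hH n _ (shortExact_coker ψ) hIc hB hQc'
    (dim_support_lt_of_isTors n hn hQc' hQ') L hL i
  exact h1.trans h2

/-- the cohomology of `O^r ⊗ P`. -/
lemma finrank_HH_freeMod_tensor (r : ℕ) (P : X.Modules) (i : ℕ) :
    Module.finrank k (Coh.HH X (CohB1.tensorMod (FlatMod.freeMod X r) P) i) =
      r * Module.finrank k (Coh.HH X P i) :=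
  ((FinDecomp.tensor (FreeData.free X r) P).ofIso (tensorCommAll _ _) (Iso.refl _)).finrank_HH k i

/-- `ĥ^i` of a free module. -/
theorem hhatF_freeMod (n i r : ℕ) (L : X.Modules) :
    W4c5asymptcohfn.hhatF k X n i (FlatMod.freeMod X r) L =
      (r : ℝ) * W4c5asymptcohfn.hhat k X n i L := by
  unfold W4c5asymptcohfn.hhatF W4c5asymptcohfn.hhat
  have hseq : W4c5asymptcohfn.cohSeq k X n i (FlatMod.freeMod X r) L = fun m : ℕ =>
      (r : ℝ) * ((Module.finrank k (Coh.HH X (CohB1.tensorPow L m) i) : ℝ) *
        (n.factorial : ℝ) / (m : ℝ) ^ n) := by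
    funext m
    unfold W4c5asymptcohfn.cohSeq
    rw [finrank_HH_freeMod_tensor]
    push_cast
    ring
  rw [hseq]
  rcases Nat.eq_zero_or_pos r with hr | hr
  · subst hr
    simp only [Nat.cast_zero, zero_mul]
    exact limsup_const 0
  · have hc : (0 : ℝ) < (r : ℝ) := by exact_mod_cast hr
    refine limsup_scale hc (fun m => by positivity) (fun m => by positivity) ?_ ?_
    · intro b hb
      filter_upwards [hb] with m hm
      exact mul_le_mul_of_nonneg_left hm hc.le
    · intro b hb ε hε
      filter_upwards [hb] with m hm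
      have : (Module.finrank k (Coh.HH X (CohB1.tensorPow L m) i) : ℝ) *
          (n.factorial : ℝ) / (m : ℝ) ^ n ≤ b / r := by
        rw [le_div_iff₀ hc]
        linarith
      linarith

end Groth.Agent.H5.IntN
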