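import Mathlib
import Groth.Agent.Lib.Helper5.IntN.RankA
import Groth.Agent.Lib.Lead.CI.Colim

/-!
# `ĥ^i(F, L) = rank(F) · ĥ^i(L)` (helper5; S17627).
-/

set_option autoImplicit false
universe u
open CategoryTheory CategoryTheory.Limits AlgebraicGeometry TopologicalSpace Opposite Filter

namespace Groth.Agent.H5.IntN

open Groth.Agent.LD Groth.Agent.LD.QC Groth.Agent.H5.Curve4 Groth.Agent.H5.DegC Groth.Agent.H5.Snap
open Groth.Agent.H5.Deg Groth.Agent.H5.HP

section gdim

/-- the free module of rank `n` has rank `n`. -/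
theorem isFinLocFreeOfRank_freeMod' (X : Scheme.{u}) (n : ℕ) :
    FlatMod.IsFinLocFreeOfRank n (FlatMod.freeMod X n) :=
  fun _ => ⟨⊤, trivial, ⟨restrictFreeModIso (⊤ : X.Opens).ι n⟩⟩

/-- a finite spanning family of a finite dimensional vector space contains a basis. -/
lemma linalg {κ : Type*} [Field κ] {V : Type*} [AddCommGroup V] [Module κ V] {K : ℕ}
    (v : Fin K → V) (hspan : Submodule.span κ (Set.range v) = ⊤) :
    ∃ (r : ℕ) (σ : Fin r → Fin K), r = Module.finrank κ V ∧
      Submodule.span κ (Set.range (v ∘ σ)) = ⊤ := by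
  classical
  obtain ⟨ι, a, ha, hsp, hli⟩ := exists_linearIndependent' κ v
  haveI : Finite ι := Finite.of_injective a ha
  haveI : Fintype ι := Fintype.ofFinite ι
  have hb : ⊤ ≤ Submodule.span κ (Set.range (v ∘ a)) := by rw [hsp, hspan]
  let bas := Module.Basis.mk hli hb
  have hcard : Module.finrank κ V = Fintype.card ι := Module.finrank_eq_card_basis bas
  let e : Fin (Fintype.card ι) ≃ ι := (Fintype.equivFin ι).symm
  refine ⟨Fintype.card ι, fun l => a (e l), hcard.symm, ?_⟩
  rw [← hspan, ← hsp]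
  congr 1
  ext y
  constructor
  · rintro ⟨l, rfl⟩
    exact ⟨e l, rfl⟩
  · rintro ⟨c, rfl⟩
    exact ⟨e.symm c, by simp⟩

variable {X : Scheme.{u}} [IsIntegral X] [IsNoetherian X]

/-- additivity of generic ranks along a morphism. -/
lemma gdim_four {A B : X.Modules} (hA : Coh.IsCoh A) (hB : Coh.IsCoh B) (φ : A ⟶ B) :
    gdim A + gdim (cokernel φ) = gdim B + gdim (kernel φ) := by
  have hKc : Coh.IsCoh (kernel φ) := isCoh_kernel φ hA hB
  have hQc : Coh.IsCoh (cokernel φ) := isCoh_cokernel φ hA hB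
  have hIc : Coh.IsCoh (cokernel (kernel.ι φ)) := isCoh_cokernel (kernel.ι φ) hKc hA
  have h1 := gdim_add _ (shortExact_coker (kernel.ι φ)) hKc hIc
  let ψ : cokernel (kernel.ι φ) ⟶ B := Abelian.factorThruCoimage φ
  haveI : Mono ψ := inferInstanceAs (Mono (Abelian.factorThruCoimage φ))
  have hfac : cokernel.π (kernel.ι φ) ≫ ψ = φ := Abelian.coimage.fac φ
  have hQc' : Coh.IsCoh (cokernel ψ) := isCoh_cokernel ψ hIc hB
  have e : cokernel φ ≅ cokernel ψ :=
    cokernelIsoOfEq hfac.symm ≪≫ cokernelEpiComp (cokernel.π (kernel.ι φ)) ψ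
  have h2 := gdim_add _ (shortExact_coker ψ) hIc hQc'
  have h3 := gdim_iso e
  change gdim A = gdim (kernel φ) + gdim (cokernel (kernel.ι φ)) at h1
  change gdim B = gdim (cokernel (kernel.ι φ)) + gdim (cokernel ψ) at h2
  omega

/-- a morphism between coherent modules of the same generic rank with torsion cokernel has
torsion kernel. -/
lemma isTors_kernel_of_isTors_cokernel {A B : X.Modules} (hA : Coh.IsCoh A) (hB : Coh.IsCoh B)
    (φ : A ⟶ B) (hr : gdim A = gdim B) (hQ : IsTors (cokernel φ)) : IsTors (kernel φ) := by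
  have h := gdim_four hA hB φ
  rw [gdim_of_isTors hQ] at h
  exact isTors_of_gdim_eq_zero (isCoh_kernel φ hA hB).2 (by omega)

/-- multiplication by a nonzero section of an invertible module has torsion kernel and cokernel. -/
lemma isTors_twistBy {F B : X.Modules} (hF : Coh.IsCoh F) (hB : PicF.IsInvertible B)
    (s : unitMod X ⟶ B) (hs : s ≠ 0) :
    IsTors (kernel (twistBy F s)) ∧ IsTors (cokernel (twistBy F s)) := by
  have hηs : genericPoint X ∈ CohB1.genLocus B s := Curve2.genericPoint_mem_genLocus hB s hs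
  have hBc := isCoh_of_isInvertible hB
  have hFB : Coh.IsCoh (CohB1.tensorMod F B) := isCoh_tensorMod hF hBc
  have hQ : IsTors (cokernel (twistBy F s)) := by
    unfold IsTors
    by_contra h
    exact (support_cokernel_twistBy_subset F hF.2 hB s h).2 hηs
  refine ⟨isTors_kernel_of_isTors_cokernel hF hFB _ ?_ hQ, hQ⟩
  rw [gdim_iso (tensorCommAll F B), gdim_tensorMod 1 B ((isInvertible_iff B).mp hB) F hF, one_mul]

/-- an epimorphism from a free module onto a coherent module contains a generic isomorphism from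
a free module. -/
theorem exists_generic_iso_of_epi {G : X.Modules} (hG : Coh.IsCoh G) (K : ℕ)
    (p : FlatMod.freeMod X K ⟶ G) [Epi p] :
    ∃ (r : ℕ) (φ : FlatMod.freeMod X r ⟶ G), r = gdim G ∧ IsTors (kernel φ) ∧
      IsTors (cokernel φ) := by
  classical
  let η := genericPoint X
  let Φ := DerSch.stalkFunctor X η
  let D := FreeData.free X K
  haveI : Epi (Φ.map p) := inferInstance
  have hsurj : Function.Surjective (Φ.map p).hom := (ModuleCat.epi_iff_surjective _).mp inferInstance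
  have hU : Module.finrank (X.presheaf.stalk η) (Φ.obj (unitMod X)) = 1 := gdim_unit
  have hfreeU : Module.Free (X.presheaf.stalk η) (Φ.obj (unitMod X)) := by
    letI : Field (X.presheaf.stalk η) := inferInstanceAs (Field X.functionField)
    exact Module.Free.of_divisionRing _ _
  obtain ⟨u₀, -, hgen⟩ := finrank_eq_one_iff'.mp hU
  let v : Fin K → Φ.obj G := fun j => (Φ.map (D.ι j ≫ p)).hom u₀
  have hspan : Submodule.span (X.presheaf.stalk η) (Set.range v) = ⊤ := by
    rw [eq_top_iff]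
    intro y _
    obtain ⟨w, rfl⟩ := hsurj y
    have h1 : ∑ j, Φ.map (D.π j) ≫ Φ.map (D.ι j) = 𝟙 _ := by
      have : ∀ j, Φ.map (D.π j) ≫ Φ.map (D.ι j) = Φ.map (D.π j ≫ D.ι j) := fun j =>
        (Φ.map_comp _ _).symm
      rw [Finset.sum_congr rfl (fun j _ => this j), ← Φ.map_sum, D.total, Φ.map_id]
    have hw : w = ∑ j, (Φ.map (D.ι j)).hom ((Φ.map (D.π j)).hom w) := by
      have h2 := congrArg (fun f => f.hom w) h1
      simp only [ModuleCat.hom_sum, ModuleCat.hom_comp, ModuleCat.hom_id, LinearMap.sum_apply,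
        LinearMap.comp_apply, LinearMap.id_apply] at h2
      exact h2.symm
    rw [hw, map_sum]
    refine Submodule.sum_mem _ (fun j _ => ?_)
    obtain ⟨c, hc⟩ := hgen ((Φ.map (D.π j)).hom w)
    rw [← hc, map_smul, map_smul]
    refine Submodule.smul_mem _ _ (Submodule.subset_span ⟨j, ?_⟩)
    change (Φ.map (D.ι j ≫ p)).hom u₀ = _
    rw [Φ.map_comp]
    rfl
  obtain ⟨r, σ, hcard, hsp⟩ : ∃ (r : ℕ) (σ : Fin r → Fin K),
      r = Module.finrank (X.presheaf.stalk η) (Φ.obj G) ∧
      Submodule.span (X.presheaf.stalk η) (Set.range (v ∘ σ)) = ⊤ := by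
    letI : Field (X.presheaf.stalk η) := inferInstanceAs (Field X.functionField)
    exact linalg v hspan
  let q : FlatMod.freeMod X (r) ⟶ FlatMod.freeMod X K :=
    Sigma.desc (fun l => D.ι (σ l))
  let φ : FlatMod.freeMod X (r) ⟶ G := q ≫ p
  have hιφ : ∀ l, Sigma.ι (fun _ : Fin (r) => Coh.structureModule X) l ≫ φ =
      D.ι (σ l) ≫ p := by
    intro l
    change Sigma.ι _ l ≫ q ≫ p = _
    rw [← Category.assoc]
    congr 1
    exact Sigma.ι_desc _ _
  have hφsurj : Function.Surjective (Φ.map φ).hom := by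
    rw [← LinearMap.range_eq_top, eq_top_iff, ← hsp, Submodule.span_le]
    rintro _ ⟨c, rfl⟩
    refine ⟨(Φ.map (Sigma.ι (fun _ : Fin r => Coh.structureModule X) c)).hom u₀, ?_⟩
    change (Φ.map (Sigma.ι _ c) ≫ Φ.map φ).hom u₀ = v (σ c)
    rw [← Φ.map_comp, hιφ]
  have hQ : IsTors (cokernel φ) := by
    haveI : Epi (Φ.map (cokernel.π φ)) := inferInstance
    have hs2 : Function.Surjective (Φ.map (cokernel.π φ)).hom :=
      (ModuleCat.epi_iff_surjective _).mp inferInstance
    have hsub : Subsingleton (Φ.obj (cokernel φ)) := by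
      refine ⟨fun z z' => ?_⟩
      have hz : ∀ z : Φ.obj (cokernel φ), z = 0 := by
        intro z
        obtain ⟨y, rfl⟩ := hs2 z
        obtain ⟨x, rfl⟩ := hφsurj y
        change (Φ.map φ ≫ Φ.map (cokernel.π φ)).hom x = 0
        rw [← Φ.map_comp, cokernel.condition, Φ.map_zero]
        rfl
      rw [hz z, hz z']
    exact hsub
  have hFc : Coh.IsCoh (FlatMod.freeMod X (r)) :=
    Curve.isCoh_of_rank (isFinLocFreeOfRank_freeMod' X _)
  refine ⟨r, φ, hcard, ?_, hQ⟩
  refine isTors_kernel_of_isTors_cokernel hFc hG φ ?_ hQ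
  rw [gdim_of_rank (isFinLocFreeOfRank_freeMod' X _), hcard]
  rfl

end gdim

variable (k : Type u) [Field k] {X : Scheme.{u}} [X.Over (Spec (CommRingCat.of k))]
  [IsProper (X ↘ Spec (CommRingCat.of k))]

/-- **S17627**: `ĥ^i(F, L) = rank(F) · ĥ^i(L)`. -/
theorem hhatF_eq_rank_mul_hhat [IsIntegral X] (H : X.Modules) (hH : CohB1.IsAmple H) (n : ℕ)
    (hn : topologicalKrullDim X = n) (F : X.Modules) (hF : Coh.IsCoh F)
    (L : X.Modules) (hL : PicF.IsInvertible L) (i : ℕ) :
    W4c5asymptcohfn.hhatF k X n i F L = (gdim F : ℝ) * W4c5asymptcohfn.hhat k X n i L := by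
  haveI : IsNoetherian X := Curve2.isNoetherian_of_proper k X
  haveI := hF.1
  obtain ⟨n₀, h₀⟩ := exists_epi_free_of_isAmple H hH F hF.2
  obtain ⟨n₁, h₁⟩ := exists_section_tensorPow_ne_zero H hH
  obtain ⟨K, q, hq⟩ := h₀ (max n₀ n₁) (le_max_left _ _)
  obtain ⟨t, ht⟩ := h₁ (max n₀ n₁) (le_max_right _ _)
  haveI := hq
  have hBi : PicF.IsInvertible (CohB1.tensorPow H (max n₀ n₁)) := isInvertible_tensorPow hH.1 _
  have hBc := isCoh_of_isInvertible hBi
  have hGc : Coh.IsCoh (CohB1.tensorMod F (CohB1.tensorPow H (max n₀ n₁))) :=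
    isCoh_tensorMod hF hBc
  obtain ⟨hK1, hQ1⟩ := isTors_twistBy hF hBi t ht
  have hD := hhatF_eq_of_generic_iso k H hH n hn hF hGc (twistBy F t) hK1 hQ1 L hL i
  obtain ⟨r, φ, hr, hK2, hQ2⟩ := exists_generic_iso_of_epi hGc K q
  have hFr : Coh.IsCoh (FlatMod.freeMod X r) :=
    Curve.isCoh_of_rank (isFinLocFreeOfRank_freeMod' X _)
  have hGI := hhatF_eq_of_generic_iso k H hH n hn hFr hGc φ hK2 hQ2 L hL i
  have hrF : r = gdim F := by
    rw [hr, gdim_iso (tensorCommAll F _), gdim_tensorMod 1 _ ((isInvertible_iff _).mp hBi) F hF,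
      one_mul]
  rw [hD, ← hGI, hhatF_freeMod, hrF]

end Groth.Agent.H5.IntN
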