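import Mathlib
import Groth.Agent.Lib.Helper5.IntN.RankB
import Groth.Agent.Lib.Helper5.GG.FinGen
import Groth.Agent.Lib.Lead.FF.GGDescent

/-!
# Growth of the higher cohomology of the powers of a globally generated invertible module
(helper5; S19203): `h^i(X, L^n) = O(n^{dim X - 1})` for `i ≥ 1`.
-/

set_option autoImplicit false
universe u
open CategoryTheory CategoryTheory.Limits AlgebraicGeometry TopologicalSpace Opposite Filter

namespace Groth.Agent.H5.IntN

open Groth.Agent.LD Groth.Agent.LD.QC Groth.Agent.H5.Curve4 Groth.Agent.H5.DegC Groth.Agent.H5.Snap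
open Groth.Agent.H5.Deg Groth.Agent.H5.HP

section sections

variable {X : Scheme.{u}}

/-- a globally generated invertible module on a nonempty Noetherian scheme has a nonzero
section. -/
lemma exists_section_ne_zero_of_gg [IsNoetherian X] [Nonempty X] {M : X.Modules}
    (hM : PicF.IsInvertible M) (hgg : Curv2.IsGloballyGenerated M) :
    ∃ t : unitMod X ⟶ M, t ≠ 0 := by
  haveI := qc_of_isInvertible _ hM
  obtain ⟨K, p, hp⟩ := Groth.Agent.H5.GG.exists_epi_freeMod_of_isGloballyGenerated M
    (isCoh_of_isInvertible hM).2 hgg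
  by_contra hcon
  push Not at hcon
  have hp0 : p = 0 := by
    refine Sigma.hom_ext _ _ (fun j => ?_)
    rw [hcon (Sigma.ι (fun _ : Fin K => Coh.structureModule X) j ≫ p), comp_zero]
  haveI := hp
  exact not_isZero_of_isInvertible hM (IsZero.of_epi_eq_zero p hp0)

end sections

variable (k : Type u) [Field k]

/-- the step on an integral scheme. -/
theorem gg_growth_integral {Z : Scheme.{u}} [Z.Over (Spec (CommRingCat.of k))]
    [IsProper (Z ↘ Spec (CommRingCat.of k))] [IsIntegral Z] (e : ℕ)
    (he : topologicalKrullDim Z ≤ ((e + 1 : ℕ) : WithBot ℕ∞))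
    (M : Z.Modules) (hM : PicF.IsInvertible M) (hgg : Curv2.IsGloballyGenerated M)
    (i : ℕ)
    (IH : ∀ (F : Z.Modules), Coh.IsCoh F →
      topologicalKrullDim (CohB1.support F) < ((e + 1 : ℕ) : WithBot ℕ∞) → ∃ C : ℕ,
      ∀ (s : ℕ) (P : Z.Modules), IsWord [M] s P →
        Module.finrank k (Coh.HH Z (CohB1.tensorMod F P) i) ≤ C * bnd e s)
    (I : Z.Modules) (ι : I ⟶ unitMod Z) [Mono ι] (hI : I.IsQuasicoherent) :
    ∃ C : ℕ, ∀ (s : ℕ) (P : Z.Modules), IsWord [M] s P →
      Module.finrank k (Coh.HH Z (CohB1.tensorMod I P) i) ≤ C * bnd (e + 1) s := by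
  haveI : IsNoetherian Z := Curve2.isNoetherian_of_proper k Z
  haveI : I.IsQuasicoherent := hI
  have hOc : Coh.IsCoh (unitMod Z) := Groth.Agent.LD.PF.isCoh_unitMod Z
  have hIc : Coh.IsCoh I := isCoh_of_mono ι hI hOc
  have hMc := isCoh_of_isInvertible hM
  have hMs : ∀ P ∈ [M], PicF.IsInvertible P := by
    intro P hP
    rw [List.mem_singleton] at hP
    rw [hP]; exact hM
  obtain ⟨t, ht⟩ := exists_section_ne_zero_of_gg hM hgg
  obtain ⟨hK, hQt⟩ := isTors_twistBy hIc hM t ht
  have hKz : IsZero (kernel (twistBy I t)) :=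
    isZero_of_mono_unit_of_isTors _ (kernel.ι (twistBy I t) ≫ ι) hK
  haveI : Mono (twistBy I t) := Preadditive.mono_of_isZero_kernel _ hKz
  have hIMc : Coh.IsCoh (CohB1.tensorMod I M) := isCoh_tensorMod hIc hMc
  have hQc : Coh.IsCoh (cokernel (twistBy I t)) := isCoh_cokernel _ hIc hIMc
  have hQdim : topologicalKrullDim (CohB1.support (cokernel (twistBy I t))) <
      ((e + 1 : ℕ) : WithBot ℕ∞) := by
    apply dim_lt_of_isClosed_ne_univ _ (isClosed_support_of_isCoh hQc) ?_ (e + 1) he
    intro hu
    have : genericPoint Z ∈ CohB1.support (cokernel (twistBy I t)) := by rw [hu]; trivial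
    exact this hQt
  obtain ⟨C₂, hC₂⟩ := IH _ hQc hQdim
  have hS := shortExact_coker (twistBy I t)
  obtain ⟨a₀, ha₀⟩ : ∃ a₀ : ℕ,
      a₀ = Module.finrank k (Coh.HH Z (CohB1.tensorMod I (unitMod Z)) i) := ⟨_, rfl⟩
  refine ⟨a₀ + C₂, fun s => ?_⟩
  induction s with
  | zero =>
    intro P hP
    obtain ⟨e0⟩ := isWord_zero.mp hP
    rw [Groth.Agent.LD.FBC.finrank_HH_congr k (tensorIso' (Iso.refl I) e0) i, ← ha₀,
      bnd_succ_zero, Nat.mul_one]
    exact Nat.le_add_right _ _
  | succ s ih =>
    intro P hP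
    obtain ⟨M', hM', P', hP', ⟨eP⟩⟩ := isWord_succ.mp hP
    rw [List.mem_singleton] at hM'
    subst hM'
    have hP'i := IsWord.isInvertible hMs hP'
    haveI := qc_of_isInvertible _ hP'i
    haveI := qc_of_isInvertible _ (hMs M' (by simp))
    have h1 := tensor_mid_le k hS hIc hIMc hQc P' hP'i i
    have h2 := ih P' hP'
    have h3 := hC₂ s P' hP'
    have e1 : CohB1.tensorMod I P ≅ CohB1.tensorMod (CohB1.tensorMod I M') P' :=
      tensorIso' (Iso.refl I) eP ≪≫ (tensorAssoc I M' P').symm
    rw [Groth.Agent.LD.FBC.finrank_HH_congr k e1 i]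
    have h4 := bnd_succ_add e s
    calc Module.finrank k (Coh.HH Z (CohB1.tensorMod (CohB1.tensorMod I M') P') i) ≤ _ := h1
      _ ≤ (a₀ + C₂) * bnd (e + 1) s + C₂ * bnd e s := Nat.add_le_add h2 h3
      _ ≤ (a₀ + C₂) * bnd (e + 1) s + (a₀ + C₂) * bnd e s :=
          Nat.add_le_add_left (Nat.mul_le_mul_right _ (Nat.le_add_left _ _)) _
      _ = (a₀ + C₂) * (bnd (e + 1) s + bnd e s) := (Nat.mul_add _ _ _).symm
      _ ≤ (a₀ + C₂) * bnd (e + 1) (s + 1) := Nat.mul_le_mul_left _ h4

/-- **growth of higher cohomology for a globally generated invertible module**: if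
`dim Supp F ≤ e` then `h^i(F ⊗ L^s) ≤ C (1+s)^{e-1}` for `i ≥ 1` (and `= 0` if `e = 0`). -/
theorem gg_growth (e : ℕ) : ∀ (X : Scheme.{u}) [X.Over (Spec (CommRingCat.of k))]
    [IsProper (X ↘ Spec (CommRingCat.of k))] (L : X.Modules), PicF.IsInvertible L →
    Curv2.IsGloballyGenerated L → ∀ (F : X.Modules), Coh.IsCoh F →
    topologicalKrullDim (CohB1.support F) < ((e + 1 : ℕ) : WithBot ℕ∞) →
    ∀ i : ℕ, 1 ≤ i → ∃ C : ℕ,
      ∀ (s : ℕ) (P : X.Modules), IsWord [L] s P →
        Module.finrank k (Coh.HH X (CohB1.tensorMod F P) i) ≤ C * bnd e s := by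
  induction e with
  | zero =>
    intro X _ _ L hL hgg F hF hsupp i hi
    have hLs : ∀ P ∈ [L], PicF.IsInvertible P := by
      intro P hP
      rw [List.mem_singleton] at hP
      rw [hP]; exact hL
    refine ⟨0, fun s P hP => ?_⟩
    have hPi := IsWord.isInvertible hLs hP
    have hFP : Coh.IsCoh (CohB1.tensorMod F P) := isCoh_tensorMod' hF (isCoh_of_isInvertible hPi)
    have hPc := isCoh_of_isInvertible hPi
    haveI := hF.1
    haveI := hPc.1
    have hsub : CohB1.support (CohB1.tensorMod F P) ⊆ CohB1.support F := fun x hx =>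
      ((Groth.Agent.H2.SuppTensor.support_tensorMod F P hF.2 hPc.2 x).mp hx).1
    have hs' : topologicalKrullDim (CohB1.support (CohB1.tensorMod F P)) <
        ((1 : ℕ) : WithBot ℕ∞) :=
      lt_of_le_of_lt (dim_mono hsub) hsupp
    rw [finrank_HH_eq_zero_of_dim_lt k 1 _ hFP hs' i hi]
    exact Nat.zero_le _
  | succ e ih =>
    intro X _ _ L hL hgg F hF hsupp i hi
    have hLs : ∀ P ∈ [L], PicF.IsInvertible P := by
      intro P hP
      rw [List.mem_singleton] at hP
      rw [hP]; exact hL
    rcases isEmpty_or_nonempty X with hem | hne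
    · refine ⟨0, fun s P hP => ?_⟩
      have hz : IsZero F := isZero_of_support_eq_empty (Set.eq_empty_of_isEmpty _)
      have hz' : IsZero (CohB1.tensorMod F P) := (DCoh.tensorRightMod P).map_isZero hz
      rw [finrank_HH_of_isZero k hz' i]
      exact Nat.zero_le _
    haveI : IsNoetherian X := Curve2.isNoetherian_of_proper k X
    refine devissage_ideal X (fun F => topologicalKrullDim (CohB1.support F) <
        ((e + 1 + 1 : ℕ) : WithBot ℕ∞) → ∃ C : ℕ, ∀ (s : ℕ) (P : X.Modules), IsWord [L] s P →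
        Module.finrank k (Coh.HH X (CohB1.tensorMod F P) i) ≤ C * bnd (e + 1) s)
      ?_ ?_ ?_ F hF hsupp
    · rintro M N ⟨ι⟩ h hs
      rw [← support_eq_of_iso ι] at hs
      obtain ⟨C, hC⟩ := h hs
      refine ⟨C, fun s P hP => ?_⟩
      rw [← Groth.Agent.LD.FBC.finrank_HH_congr k (tensorIso' ι (Iso.refl P)) i]
      exact hC s P hP
    · intro S hS h1 h2 h3 p1 p3 hs
      have hsupp2 := support_of_shortExact hS
      obtain ⟨C₁, hC₁⟩ := p1 (lt_of_le_of_lt
        (dim_mono (by rw [hsupp2]; exact Set.subset_union_left)) hs)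
      obtain ⟨C₃, hC₃⟩ := p3 (lt_of_le_of_lt
        (dim_mono (by rw [hsupp2]; exact Set.subset_union_right)) hs)
      refine ⟨C₁ + C₃, fun s P hP => ?_⟩
      have hPi := IsWord.isInvertible hLs hP
      have h := tensor_mid_le k (f := S.f) (g := S.g) (w := S.zero) hS h1 h2 h3 P hPi i
      calc Module.finrank k (Coh.HH X (CohB1.tensorMod S.X₂ P) i) ≤ _ := h
        _ ≤ C₁ * bnd (e + 1) s + C₃ * bnd (e + 1) s := Nat.add_le_add (hC₁ s P hP) (hC₃ s P hP)
        _ = (C₁ + C₃) * bnd (e + 1) s := (Nat.add_mul _ _ _).symm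
    · intro C hC I ι hι hI hs
      haveI := hC
      haveI := hι
      haveI : I.IsQuasicoherent := hI
      letI : C.subscheme.Over (Spec (CommRingCat.of k)) := overOf k C.subschemeι
      haveI : IsProper (C.subscheme ↘ Spec (CommRingCat.of k)) :=
        inferInstanceAs (IsProper (C.subschemeι ≫ (X ↘ Spec (CommRingCat.of k))))
      haveI : C.subschemeι.IsOver (Spec (CommRingCat.of k)) := ⟨rfl⟩
      haveI : IsNoetherian C.subscheme := Curve2.isNoetherian_of_proper k C.subscheme
      have hOCc : Coh.IsCoh (unitMod C.subscheme) :=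
        Groth.Agent.LD.PF.isCoh_unitMod C.subscheme
      have hIc : Coh.IsCoh I := isCoh_of_mono ι hI hOCc
      have hLZ : PicF.IsInvertible ((Scheme.Modules.pullback C.subschemeι).obj L) :=
        isInvertible_pullback C.subschemeι hL
      have hggZ : Curv2.IsGloballyGenerated ((Scheme.Modules.pullback C.subschemeι).obj L) :=
        Groth.Agent.LD.FF.isGloballyGenerated_pullback C.subschemeι L hgg
      change ∃ C₀ : ℕ, ∀ (s : ℕ) (P : X.Modules), IsWord [L] s P →
        Module.finrank k (Coh.HH X (CohB1.tensorMod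
          ((Scheme.Modules.pushforward C.subschemeι).obj I) P) i) ≤ C₀ * bnd (e + 1) s
      have hkey : ∀ (P : X.Modules), PicF.IsInvertible P → ∀ j : ℕ,
          Module.finrank k (Coh.HH X (CohB1.tensorMod
            ((Scheme.Modules.pushforward C.subschemeι).obj I) P) j) =
          Module.finrank k (Coh.HH C.subscheme
            (CohB1.tensorMod I ((Scheme.Modules.pullback C.subschemeι).obj P)) j) := by
        intro P hPi j
        have hP' : FlatMod.IsFinLocFree P :=
          Curve.isFinLocFree_of_rank ((isInvertible_iff _).mp hPi)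
        have e1 : CohB1.tensorMod ((Scheme.Modules.pushforward C.subschemeι).obj I) P ≅
            (Scheme.Modules.pushforward C.subschemeι).obj
              (CohB1.tensorMod I ((Scheme.Modules.pullback C.subschemeι).obj P)) :=
          tensorCommAll _ _ ≪≫
            @asIso _ _ _ _ (projHomL C.subschemeι I P) (isIso_projHomL C.subschemeι I P hP') ≪≫
            (Scheme.Modules.pushforward C.subschemeι).mapIso (tensorCommAll _ _)
        exact (Groth.Agent.LD.FBC.finrank_HH_congr k e1 j).trans
          (CL.HHpushEquiv C.subschemeι k _ j).finrank_eq.symm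
      by_cases ht : IsTors I
      · refine ⟨0, fun s P hP => ?_⟩
        have hz' : IsZero (CohB1.tensorMod I ((Scheme.Modules.pullback C.subschemeι).obj P)) :=
          (DCoh.tensorRightMod _).map_isZero (isZero_of_mono_unit_of_isTors I ι ht)
        rw [hkey P (IsWord.isInvertible hLs hP) i, finrank_HH_of_isZero k hz' i]
        exact Nat.zero_le _
      · have hcl : IsClosed (CohB1.support I) := QC.isClosed_support_of_isFiniteType I hIc.2
        have huniv : CohB1.support I = Set.univ := by
          have hη : genericPoint C.subscheme ∈ CohB1.support I := ht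
          have h1 : closure {genericPoint C.subscheme} ⊆ CohB1.support I :=
            hcl.closure_subset_iff.mpr (Set.singleton_subset_iff.mpr hη)
          rw [(genericPoint_spec C.subscheme).def] at h1
          exact Set.univ_subset_iff.mp h1
        have hdimC : topologicalKrullDim C.subscheme ≤ ((e + 1 : ℕ) : WithBot ℕ∞) := by
          apply le_of_lt_succ_coe
          refine lt_of_le_of_lt ?_ hs
          let g : C.subscheme → CohB1.support ((Coh.push C.subschemeι).obj I) := fun z =>
            ⟨C.subschemeι z, mem_support_pushforward C.subschemeι I z (by rw [huniv]; trivial)⟩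
          have hg : Topology.IsInducing g := by
            apply Topology.IsInducing.of_comp
              (Continuous.subtype_mk C.subschemeι.continuous _) continuous_subtype_val
            exact C.subschemeι.isClosedEmbedding.isInducing
          exact hg.topologicalKrullDim_le
        have IHZ : ∀ (F : C.subscheme.Modules), Coh.IsCoh F →
            topologicalKrullDim (CohB1.support F) < ((e + 1 : ℕ) : WithBot ℕ∞) →
            ∃ C₀ : ℕ, ∀ (s : ℕ) (P : C.subscheme.Modules),
            IsWord [(Scheme.Modules.pullback C.subschemeι).obj L] s P →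
            Module.finrank k (Coh.HH C.subscheme (CohB1.tensorMod F P) i) ≤ C₀ * bnd e s :=
          fun F hF hFd => ih C.subscheme _ hLZ hggZ F hF hFd i hi
        obtain ⟨C₁, hC₁⟩ := gg_growth_integral k e hdimC _ hLZ hggZ i IHZ I ι hI
        refine ⟨C₁, fun s P hP => ?_⟩
        have hPi := IsWord.isInvertible hLs hP
        have hPZ := IsWord.pullback C.subschemeι hLs hP
        rw [hkey P hPi i]
        exact hC₁ s _ hPZ

/-- **S19203**. -/
theorem finrank_HH_tensorPow_le_of_gg (X : Scheme.{u}) [X.Over (Spec (CommRingCat.of k))]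
    [IsProper (X ↘ Spec (CommRingCat.of k))] (r : ℕ) (hdim : topologicalKrullDim X = r)
    (L : X.Modules) (hL : PicF.IsInvertible L) (hgen : Curv2.IsGloballyGenerated L)
    (i : ℕ) (hi : 1 ≤ i) :
    ∃ C : ℝ, ∀ n : ℕ, 1 ≤ n →
      (Module.finrank k (Coh.HH X (CohB1.tensorPow L n) i) : ℝ) ≤ C * (n : ℝ) ^ (r - 1) := by
  haveI : IsNoetherian X := Curve2.isNoetherian_of_proper k X
  have hOc : Coh.IsCoh (unitMod X) := Groth.Agent.LD.PF.isCoh_unitMod X
  have hd : topologicalKrullDim (CohB1.support (unitMod X)) ≤ ((r : ℕ) : WithBot ℕ∞) :=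
    le_trans Topology.IsInducing.subtypeVal.topologicalKrullDim_le (le_of_eq hdim)
  have hcongr : ∀ n : ℕ, Module.finrank k (Coh.HH X (CohB1.tensorPow L n) i) =
      Module.finrank k (Coh.HH X (CohB1.tensorMod (unitMod X) (CohB1.tensorPow L n)) i) :=
    fun n => (Groth.Agent.LD.FBC.finrank_HH_congr k (unitorL' (CohB1.tensorPow L n)) i).symm
  rcases r with _ | e
  · obtain ⟨C, hC⟩ := gg_growth k 0 X L hL hgen (unitMod X) hOc (lt_succ_coe_of_le hd) i hi
    refine ⟨0, fun n hn => ?_⟩
    have h := hC n _ (isWord_tensorPow_singleton hL n)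
    rw [← hcongr] at h
    have h0 : Module.finrank k (Coh.HH X (CohB1.tensorPow L n) i) = 0 := by
      change _ ≤ C * 0 at h
      omega
    rw [h0]
    simp
  · obtain ⟨C, hC⟩ := gg_growth k (e + 1) X L hL hgen (unitMod X) hOc (lt_succ_coe_of_le hd) i hi
    refine ⟨(C : ℝ) * 2 ^ e, fun n hn => ?_⟩
    have h := hC n _ (isWord_tensorPow_singleton hL n)
    rw [← hcongr] at h
    change _ ≤ C * (1 + n) ^ e at h
    have h1 : (1 + n) ^ e ≤ (2 * n) ^ e := Nat.pow_le_pow_left (by omega) e
    have h2 : Module.finrank k (Coh.HH X (CohB1.tensorPow L n) i) ≤ C * ((2 * n) ^ e) :=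
      h.trans (Nat.mul_le_mul_left _ h1)
    have h3 : (Module.finrank k (Coh.HH X (CohB1.tensorPow L n) i) : ℝ) ≤
        ((C * ((2 * n) ^ e) : ℕ) : ℝ) := by exact_mod_cast h2
    rw [Nat.add_sub_cancel]
    calc (Module.finrank k (Coh.HH X (CohB1.tensorPow L n) i) : ℝ) ≤ _ := h3
      _ = (C : ℝ) * 2 ^ e * (n : ℝ) ^ e := by push_cast; ring

end Groth.Agent.H5.IntN
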