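import Mathlib
import Groth.Agent.Lib.Helper5.IntN.GGrowth

/-!
# Growth of the spaces of sections of the twists of a coherent module on a proper scheme
(helper5; S17277): `h^0(X, F ⊗ L^s) = O(s^{dim Supp F})` for every invertible `L`.
-/

set_option autoImplicit false
universe u
open CategoryTheory CategoryTheory.Limits AlgebraicGeometry TopologicalSpace Opposite Filter

namespace Groth.Agent.H5.IntN

open Groth.Agent.LD Groth.Agent.LD.QC Groth.Agent.H5.Curve4 Groth.Agent.H5.DegC Groth.Agent.H5.Snap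
open Groth.Agent.H5.Deg Groth.Agent.H5.HP

section words

variable {X : Scheme.{u}}

/-- words in a single invertible module are its tensor powers. -/
lemma IsWord.iso_tensorPow {L : X.Modules} :
    ∀ {s : ℕ} {P : X.Modules}, IsWord [L] s P → Nonempty (P ≅ CohB1.tensorPow L s) := by
  intro s
  induction s with
  | zero =>
    intro P hP
    exact isWord_zero.mp hP
  | succ s ih =>
    intro P hP
    obtain ⟨L', hL', P', hP', ⟨e⟩⟩ := isWord_succ.mp hP
    rw [List.mem_singleton] at hL'
    subst hL'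
    obtain ⟨e'⟩ := ih hP'
    exact ⟨e ≪≫ tensorIso' (Iso.refl L') e' ≪≫ tensorCommAll _ _⟩

end words

variable (k : Type u) [Field k]

/-- a nonzero `H⁰` gives a nonzero section. -/
lemma exists_section_ne_zero_of_finrank_pos {X : Scheme.{u}} [X.Over (Spec (CommRingCat.of k))]
    (G : X.Modules) (h : Module.finrank k (Coh.HH X G 0) ≠ 0) : ∃ σ : unitMod X ⟶ G, σ ≠ 0 := by
  have hnt : Nontrivial (Coh.HH X G 0) := by
    by_contra hs
    rw [not_nontrivial_iff_subsingleton] at hs
    exact h Module.finrank_zero_of_subsingleton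
  obtain ⟨x, hx⟩ := exists_ne (0 : Coh.HH X G 0)
  refine ⟨homOfSection G (CL.HH0Equiv G x), fun h0 => hx ?_⟩
  apply (CL.HH0Equiv G).injective
  rw [map_zero, ← sectionOfHom_homOfSection G (CL.HH0Equiv G x), h0]
  exact sectionOfHom_zero _

/-- the step on an integral scheme. -/
theorem h0_growth_integral {Z : Scheme.{u}} [Z.Over (Spec (CommRingCat.of k))]
    [IsProper (Z ↘ Spec (CommRingCat.of k))] [IsIntegral Z] (e : ℕ)
    (he : topologicalKrullDim Z ≤ ((e : ℕ) : WithBot ℕ∞))
    (M : Z.Modules) (hM : PicF.IsInvertible M)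
    (IH : ∀ (F : Z.Modules), Coh.IsCoh F →
      topologicalKrullDim (CohB1.support F) < ((e : ℕ) : WithBot ℕ∞) → ∃ C : ℕ,
      ∀ (s : ℕ) (P : Z.Modules), IsWord [M] s P →
        Module.finrank k (Coh.HH Z (CohB1.tensorMod F P) 0) ≤ C * bnd e s) :
    ∃ C : ℕ, ∀ (s : ℕ) (P : Z.Modules), IsWord [M] s P →
      Module.finrank k (Coh.HH Z (CohB1.tensorMod (unitMod Z) P) 0) ≤ C * bnd (e + 1) s := by
  classical
  haveI : IsNoetherian Z := Curve2.isNoetherian_of_proper k Z
  haveI := qc_of_isInvertible _ hM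
  have hOc : Coh.IsCoh (unitMod Z) := Groth.Agent.LD.PF.isCoh_unitMod Z
  haveI := hOc.1
  have hMs : ∀ P ∈ [M], PicF.IsInvertible P := by
    intro P hP
    rw [List.mem_singleton] at hP
    rw [hP]; exact hM
  obtain ⟨a, ha⟩ : ∃ a : ℕ → ℕ, ∀ s, a s =
      Module.finrank k (Coh.HH Z (CohB1.tensorMod (unitMod Z) (CohB1.tensorPow M s)) 0) :=
    ⟨_, fun _ => rfl⟩
  have hbpos : ∀ s, 1 ≤ bnd (e + 1) s := fun s => Nat.one_le_pow _ _ (by omega)
  -- reduction to the function `a`
  suffices hsuff : ∃ C : ℕ, ∀ s, a s ≤ C * bnd (e + 1) s by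
    obtain ⟨C, hC⟩ := hsuff
    refine ⟨C, fun s P hP => ?_⟩
    obtain ⟨eP⟩ := IsWord.iso_tensorPow hP
    rw [Groth.Agent.LD.FBC.finrank_HH_congr k (tensorIso' (Iso.refl (unitMod Z)) eP) 0, ← ha]
    exact hC s
  by_cases hsec : ∀ s, 1 ≤ s → a s = 0
  · refine ⟨a 0, fun s => ?_⟩
    rcases Nat.eq_zero_or_pos s with h0 | hpos
    · subst h0
      rw [bnd_succ_zero, Nat.mul_one]
    · rw [hsec s hpos]
      exact Nat.zero_le _
  · push Not at hsec
    obtain ⟨m₀, hm₀, ham₀⟩ := hsec
    rw [ha] at ham₀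
    obtain ⟨σ₀, hσ₀⟩ := exists_section_ne_zero_of_finrank_pos k _ ham₀
    have hBi : PicF.IsInvertible (CohB1.tensorPow M m₀) := isInvertible_tensorPow hM m₀
    obtain ⟨t, ht⟩ : ∃ t : unitMod Z ⟶ CohB1.tensorPow M m₀, t ≠ 0 := by
      refine ⟨σ₀ ≫ (unitorL' (CohB1.tensorPow M m₀)).hom, fun h => hσ₀ ?_⟩
      rw [← cancel_mono (unitorL' (CohB1.tensorPow M m₀)).hom, h, zero_comp]
    obtain ⟨hmono, hQc, hQne⟩ := twistBy_data hBi t ht
    haveI := hmono
    have hQdim : topologicalKrullDim (CohB1.support (cokernel (twistBy (unitMod Z) t))) <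
        ((e : ℕ) : WithBot ℕ∞) :=
      dim_lt_of_isClosed_ne_univ _ (isClosed_support_of_isCoh hQc) hQne e he
    obtain ⟨C₂, hC₂⟩ := IH _ hQc hQdim
    have hS := shortExact_coker (twistBy (unitMod Z) t)
    have hOB : Coh.IsCoh (CohB1.tensorMod (unitMod Z) (CohB1.tensorPow M m₀)) :=
      isCoh_tensorMod hOc (isCoh_of_isInvertible hBi)
    have hstep : ∀ j, a (m₀ + j) ≤ a j + C₂ * bnd e j := by
      intro j
      have hPj : PicF.IsInvertible (CohB1.tensorPow M j) := isInvertible_tensorPow hM j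
      haveI := qc_of_isInvertible _ hPj
      haveI := qc_of_isInvertible _ hBi
      have h1 := tensor_mid_le k hS hOc hOB hQc (CohB1.tensorPow M j) hPj 0
      have h3 := hC₂ j _ (isWord_tensorPow_singleton hM j)
      have e1 : CohB1.tensorMod (CohB1.tensorMod (unitMod Z) (CohB1.tensorPow M m₀))
          (CohB1.tensorPow M j) ≅ CohB1.tensorMod (unitMod Z) (CohB1.tensorPow M (m₀ + j)) :=
        tensorAssoc _ _ _ ≪≫ tensorIso' (Iso.refl _) (powAddIso M m₀ j)
      rw [Groth.Agent.LD.FBC.finrank_HH_congr k e1 0, ← ha, ← ha] at h1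
      omega
    obtain ⟨A₀, hA₀⟩ : ∃ A₀ : ℕ, ∀ s, s < m₀ → a s ≤ A₀ :=
      ⟨∑ s ∈ Finset.range m₀, a s, fun s hs =>
        Finset.single_le_sum (f := a) (fun _ _ => Nat.zero_le _) (Finset.mem_range.mpr hs)⟩
    refine ⟨A₀ + C₂, fun s => ?_⟩
    induction s using Nat.strong_induction_on with
    | _ s ih =>
      by_cases hs : s < m₀
      · calc a s ≤ A₀ := hA₀ s hs
          _ ≤ (A₀ + C₂) * 1 := by omega
          _ ≤ (A₀ + C₂) * bnd (e + 1) s := Nat.mul_le_mul_left _ (hbpos s)
      · obtain ⟨j, rfl⟩ : ∃ j, s = m₀ + j := ⟨s - m₀, by omega⟩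
        have h1 := hstep j
        have h2 := ih j (by omega)
        have h4 := bnd_succ_add e j
        have h5 : bnd (e + 1) (j + 1) ≤ bnd (e + 1) (m₀ + j) := bnd_mono (e + 1) (by omega)
        calc a (m₀ + j) ≤ a j + C₂ * bnd e j := h1
          _ ≤ (A₀ + C₂) * bnd (e + 1) j + (A₀ + C₂) * bnd e j :=
              Nat.add_le_add h2 (Nat.mul_le_mul_right _ (Nat.le_add_left _ _))
          _ = (A₀ + C₂) * (bnd (e + 1) j + bnd e j) := (Nat.mul_add _ _ _).symm
          _ ≤ (A₀ + C₂) * bnd (e + 1) (m₀ + j) := Nat.mul_le_mul_left _ (h4.trans h5)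

/-- **growth of sections**: if `dim Supp F < e` then `h^0(F ⊗ L^s) ≤ C (1+s)^{e-1}`, for every
invertible module `L` on a proper scheme over a field. -/
theorem h0_growth (e : ℕ) : ∀ (X : Scheme.{u}) [X.Over (Spec (CommRingCat.of k))]
    [IsProper (X ↘ Spec (CommRingCat.of k))] (L : X.Modules), PicF.IsInvertible L →
    ∀ (F : X.Modules), Coh.IsCoh F →
    topologicalKrullDim (CohB1.support F) < ((e : ℕ) : WithBot ℕ∞) →
    ∃ C : ℕ, ∀ (s : ℕ) (P : X.Modules), IsWord [L] s P →
        Module.finrank k (Coh.HH X (CohB1.tensorMod F P) 0) ≤ C * bnd e s := by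
  induction e with
  | zero =>
    intro X _ _ L hL F hF hsupp
    have hempty := eq_empty_of_dim_lt_zero _ hsupp
    have hz : IsZero F := isZero_of_support_eq_empty hempty
    refine ⟨0, fun s P hP => ?_⟩
    have hz' : IsZero (CohB1.tensorMod F P) := (DCoh.tensorRightMod P).map_isZero hz
    rw [finrank_HH_of_isZero k hz' 0]
    exact Nat.zero_le _
  | succ e ih =>
    intro X _ _ L hL F hF hsupp
    have hLs : ∀ P ∈ [L], PicF.IsInvertible P := by
      intro P hP
      rw [List.mem_singleton] at hP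
      rw [hP]; exact hL
    rcases isEmpty_or_nonempty X with hem | hne
    · refine ⟨0, fun s P hP => ?_⟩
      have hz : IsZero F := isZero_of_support_eq_empty (Set.eq_empty_of_isEmpty _)
      have hz' : IsZero (CohB1.tensorMod F P) := (DCoh.tensorRightMod P).map_isZero hz
      rw [finrank_HH_of_isZero k hz' 0]
      exact Nat.zero_le _
    haveI : IsNoetherian X := Curve2.isNoetherian_of_proper k X
    refine devissage_ideal X (fun F => topologicalKrullDim (CohB1.support F) <
        ((e + 1 : ℕ) : WithBot ℕ∞) → ∃ C : ℕ, ∀ (s : ℕ) (P : X.Modules), IsWord [L] s P →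
        Module.finrank k (Coh.HH X (CohB1.tensorMod F P) 0) ≤ C * bnd (e + 1) s)
      ?_ ?_ ?_ F hF hsupp
    · rintro M N ⟨ι⟩ h hs
      rw [← support_eq_of_iso ι] at hs
      obtain ⟨C, hC⟩ := h hs
      refine ⟨C, fun s P hP => ?_⟩
      rw [← Groth.Agent.LD.FBC.finrank_HH_congr k (tensorIso' ι (Iso.refl P)) 0]
      exact hC s P hP
    · intro S hS h1 h2 h3 p1 p3 hs
      have hsupp2 := support_of_shortExact hS
      obtain ⟨C₁, hC₁⟩ := p1 (lt_of_le_of_lt
        (dim_mono (by rw [hsupp2]; exact Set.subset_union_left)) hs)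
      obtain ⟨C₃, hC₃⟩ := p3 (lt_of_le_of_lt
        (dim_mono (by rw [hsupp2]; exact Set.subset_union_right)) hs)
      refine ⟨C₁ + C₃, fun s P hP => ?_⟩
      have hPi := IsWord.isInvertible hLs hP
      have h := tensor_mid_le k (f := S.f) (g := S.g) (w := S.zero) hS h1 h2 h3 P hPi 0
      calc Module.finrank k (Coh.HH X (CohB1.tensorMod S.X₂ P) 0) ≤ _ := h
        _ ≤ C₁ * bnd (e + 1) s + C₃ * bnd (e + 1) s := Nat.add_le_add (hC₁ s P hP) (hC₃ s P hP)
        _ = (C₁ + C₃) * bnd (e + 1) s := (Nat.add_mul _ _ _).symm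
    · intro C hC I ι hι hI hs
      haveI := hC
      haveI := hι
      haveI : I.IsQuasicoherent := hI
      letI : C.subscheme.Over (Spec (CommRingCat.of k)) := overOf k C.subschemeι
      haveI : IsProper (C.subscheme ↘ Spec (CommRingCat.of k)) :=
        inferInstanceAs (IsProper (C.subschemeι ≫ (X ↘ Spec (CommRingCat.of k))))
      haveI : C.subschemeι.IsOver (Spec (CommRingCat.of k)) := ⟨rfl⟩
      haveI : IsNoetherian C.subscheme := Curve2.isNoetherian_of_proper k C.subscheme
      have hOCc : Coh.IsCoh (unitMod C.subscheme) :=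
        Groth.Agent.LD.PF.isCoh_unitMod C.subscheme
      have hIc : Coh.IsCoh I := isCoh_of_mono ι hI hOCc
      have hLZ : PicF.IsInvertible ((Scheme.Modules.pullback C.subschemeι).obj L) :=
        isInvertible_pullback C.subschemeι hL
      change ∃ C₀ : ℕ, ∀ (s : ℕ) (P : X.Modules), IsWord [L] s P →
        Module.finrank k (Coh.HH X (CohB1.tensorMod
          ((Scheme.Modules.pushforward C.subschemeι).obj I) P) 0) ≤ C₀ * bnd (e + 1) s
      have hkey : ∀ (P : X.Modules), PicF.IsInvertible P → ∀ j : ℕ,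
          Module.finrank k (Coh.HH X (CohB1.tensorMod
            ((Scheme.Modules.pushforward C.subschemeι).obj I) P) j) =
          Module.finrank k (Coh.HH C.subscheme
            (CohB1.tensorMod I ((Scheme.Modules.pullback C.subschemeι).obj P)) j) := by
        intro P hPi j
        have hP' : FlatMod.IsFinLocFree P :=
          Curve.isFinLocFree_of_rank ((isInvertible_iff _).mp hPi)
        have e1 : CohB1.tensorMod ((Scheme.Modules.pushforward C.subschemeι).obj I) P ≅
            (Scheme.Modules.pushforward C.subschemeι).obj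
              (CohB1.tensorMod I ((Scheme.Modules.pullback C.subschemeι).obj P)) :=
          tensorCommAll _ _ ≪≫
            @asIso _ _ _ _ (projHomL C.subschemeι I P) (isIso_projHomL C.subschemeι I P hP') ≪≫
            (Scheme.Modules.pushforward C.subschemeι).mapIso (tensorCommAll _ _)
        exact (Groth.Agent.LD.FBC.finrank_HH_congr k e1 j).trans
          (CL.HHpushEquiv C.subschemeι k _ j).finrank_eq.symm
      by_cases ht : IsTors I
      · refine ⟨0, fun s P hP => ?_⟩
        have hz' : IsZero (CohB1.tensorMod I ((Scheme.Modules.pullback C.subschemeι).obj P)) :=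
          (DCoh.tensorRightMod _).map_isZero (isZero_of_mono_unit_of_isTors I ι ht)
        rw [hkey P (IsWord.isInvertible hLs hP) 0, finrank_HH_of_isZero k hz' 0]
        exact Nat.zero_le _
      · have hcl : IsClosed (CohB1.support I) := QC.isClosed_support_of_isFiniteType I hIc.2
        have huniv : CohB1.support I = Set.univ := by
          have hη : genericPoint C.subscheme ∈ CohB1.support I := ht
          have h1 : closure {genericPoint C.subscheme} ⊆ CohB1.support I :=
            hcl.closure_subset_iff.mpr (Set.singleton_subset_iff.mpr hη)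
          rw [(genericPoint_spec C.subscheme).def] at h1
          exact Set.univ_subset_iff.mp h1
        have hdimC : topologicalKrullDim C.subscheme ≤ ((e : ℕ) : WithBot ℕ∞) := by
          apply le_of_lt_succ_coe
          refine lt_of_le_of_lt ?_ hs
          let g : C.subscheme → CohB1.support ((Coh.push C.subschemeι).obj I) := fun z =>
            ⟨C.subschemeι z, mem_support_pushforward C.subschemeι I z (by rw [huniv]; trivial)⟩
          have hg : Topology.IsInducing g := by
            apply Topology.IsInducing.of_comp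
              (Continuous.subtype_mk C.subschemeι.continuous _) continuous_subtype_val
            exact C.subschemeι.isClosedEmbedding.isInducing
          exact hg.topologicalKrullDim_le
        have IHZ : ∀ (F : C.subscheme.Modules), Coh.IsCoh F →
            topologicalKrullDim (CohB1.support F) < ((e : ℕ) : WithBot ℕ∞) →
            ∃ C₀ : ℕ, ∀ (s : ℕ) (P : C.subscheme.Modules),
            IsWord [(Scheme.Modules.pullback C.subschemeι).obj L] s P →
            Module.finrank k (Coh.HH C.subscheme (CohB1.tensorMod F P) 0) ≤ C₀ * bnd e s :=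
          fun F hF hFd => ih C.subscheme _ hLZ F hF hFd
        obtain ⟨C₁, hC₁⟩ := h0_growth_integral k e hdimC _ hLZ IHZ
        have hSι := Groth.Agent.H5.HP.shortExact_coker ι
        refine ⟨C₁, fun s P hP => ?_⟩
        have hPi := IsWord.isInvertible hLs hP
        have hPZ := IsWord.pullback C.subschemeι hLs hP
        have hPZi : PicF.IsInvertible ((Scheme.Modules.pullback C.subschemeι).obj P) :=
          isInvertible_pullback C.subschemeι hPi
        rw [hkey P hPi 0]
        exact (tensor_left_zero_le k hSι hOCc _ hPZi).trans (hC₁ s _ hPZ)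

/-- **S17277**: a big invertible module has sections vanishing on a given closed subscheme of
smaller dimension. -/
theorem exists_section_idealMod_of_big (X : Scheme.{u}) [X.Over (Spec (CommRingCat.of k))]
    [IsProper (X ↘ Spec (CommRingCat.of k))] (d : ℕ) (L : X.Modules)
    (hL : PicF.IsInvertible L)
    (hbig : ∃ c : ℝ, 0 < c ∧ ∀ᶠ n : ℕ in Filter.atTop,
      c * (n : ℝ) ^ d < (Module.finrank k (Coh.HH X (CohB1.tensorPow L n) 0) : ℝ))
    (Z : X.IdealSheafData) (hZ : topologicalKrullDim (Z.support : Set X) < d) :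
    ∃ m : ℕ, 0 < m ∧
      Nontrivial (Coh.HH X (CohB1.tensorMod (ClSub.idealMod Z) (CohB1.tensorPow L m)) 0) := by
  haveI : IsNoetherian X := Curve2.isNoetherian_of_proper k X
  obtain ⟨c, hc, hev⟩ := hbig
  have hOc : Coh.IsCoh (unitMod X) := Groth.Agent.LD.PF.isCoh_unitMod X
  have hQc : Coh.IsCoh (ClSub.quotMod Z) := isCoh_quotMod Z
  have hIc : Coh.IsCoh (ClSub.idealMod Z) :=
    isCoh_kernel (ClSub.toSubscheme Z) hOc hQc
  have hQdim : topologicalKrullDim (CohB1.support (ClSub.quotMod Z)) < ((d : ℕ) : WithBot ℕ∞) := by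
    rw [support_quotMod]; exact hZ
  obtain ⟨C, hC⟩ := h0_growth k d X L hL _ hQc hQdim
  have hS := Groth.Agent.H5.DegC.shortExact_idealMod Z
  -- the comparison for every `m`
  have hcmp : ∀ m : ℕ, Module.finrank k (Coh.HH X (CohB1.tensorPow L m) 0) ≤
      Module.finrank k (Coh.HH X (CohB1.tensorMod (ClSub.idealMod Z) (CohB1.tensorPow L m)) 0) +
        C * bnd d m := by
    intro m
    have hPi := isInvertible_tensorPow hL m
    have h1 := tensor_mid_le k hS hIc hOc hQc (CohB1.tensorPow L m) hPi 0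
    have h2 := hC m _ (isWord_tensorPow_singleton hL m)
    rw [Groth.Agent.LD.FBC.finrank_HH_congr k (unitorL' (CohB1.tensorPow L m)) 0] at h1
    exact h1.trans (Nat.add_le_add_left h2 _)
  -- a large `m`
  have hlarge : ∀ᶠ m : ℕ in Filter.atTop, ((C * bnd d m : ℕ) : ℝ) ≤ c * (m : ℝ) ^ d := by
    rcases d with _ | e
    · filter_upwards with m
      change ((C * 0 : ℕ) : ℝ) ≤ _
      simp only [Nat.mul_zero, Nat.cast_zero, pow_zero, mul_one]
      exact hc.le
    · obtain ⟨N, hN⟩ := exists_nat_gt ((C : ℝ) * 2 ^ e / c)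
      filter_upwards [eventually_ge_atTop (max N 1)] with m hm
      have hm1 : 1 ≤ m := le_trans (le_max_right _ _) hm
      have hmN : (N : ℝ) ≤ (m : ℝ) := by exact_mod_cast le_trans (le_max_left _ _) hm
      change ((C * (1 + m) ^ e : ℕ) : ℝ) ≤ _
      have h1 : (1 + m) ^ e ≤ (2 * m) ^ e := Nat.pow_le_pow_left (by omega) e
      have h2 : ((C * (1 + m) ^ e : ℕ) : ℝ) ≤ (C : ℝ) * 2 ^ e * (m : ℝ) ^ e := by
        have : C * (1 + m) ^ e ≤ C * (2 * m) ^ e := Nat.mul_le_mul_left _ h1
        calc ((C * (1 + m) ^ e : ℕ) : ℝ) ≤ ((C * (2 * m) ^ e : ℕ) : ℝ) := by exact_mod_cast this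
          _ = (C : ℝ) * 2 ^ e * (m : ℝ) ^ e := by push_cast; ring
      have h3 : (C : ℝ) * 2 ^ e ≤ c * (m : ℝ) := by
        have : (C : ℝ) * 2 ^ e / c < (m : ℝ) := lt_of_lt_of_le hN hmN
        rw [div_lt_iff₀ hc] at this
        linarith
      calc ((C * (1 + m) ^ e : ℕ) : ℝ) ≤ (C : ℝ) * 2 ^ e * (m : ℝ) ^ e := h2
        _ ≤ c * (m : ℝ) * (m : ℝ) ^ e := mul_le_mul_of_nonneg_right h3 (by positivity)
        _ = c * (m : ℝ) ^ (e + 1) := by ring
  obtain ⟨m, ⟨hm2, hm3⟩, hm1⟩ := ((hev.and hlarge).and (eventually_ge_atTop 1)).exists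
  refine ⟨m, hm1, ?_⟩
  have h4 : (Module.finrank k (Coh.HH X (CohB1.tensorPow L m) 0) : ℝ) ≤
      ((Module.finrank k (Coh.HH X (CohB1.tensorMod (ClSub.idealMod Z)
        (CohB1.tensorPow L m)) 0) + C * bnd d m : ℕ) : ℝ) := by exact_mod_cast hcmp m
  have hpos : 0 < Module.finrank k (Coh.HH X (CohB1.tensorMod (ClSub.idealMod Z)
      (CohB1.tensorPow L m)) 0) := by
    by_contra h0
    have h0' : Module.finrank k (Coh.HH X (CohB1.tensorMod (ClSub.idealMod Z)
        (CohB1.tensorPow L m)) 0) = 0 := by omega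
    rw [h0', Nat.zero_add] at h4
    linarith
  exact Module.nontrivial_of_finrank_pos hpos

end Groth.Agent.H5.IntN
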