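import Mathlib
import Groth.Agent.Lib.Helper5.IntN.RankB
import Groth.Agent.Lib.Helper5.IntN.H0Growth

/-!
# `h^0(F ⊗ L^m) = rank(F) · h^0(L^m) + O(m^{d-1})` (helper5; S17375, S17285)
-/

set_option autoImplicit false
universe u
open CategoryTheory CategoryTheory.Limits AlgebraicGeometry TopologicalSpace Opposite Filter

namespace Groth.Agent.H5.IntN

open Groth.Agent.LD Groth.Agent.LD.QC Groth.Agent.H5.Curve4 Groth.Agent.H5.DegC Groth.Agent.H5.Snap
open Groth.Agent.H5.Deg Groth.Agent.H5.HP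

variable (k : Type u) [Field k] {X : Scheme.{u}} [X.Over (Spec (CommRingCat.of k))]
  [IsProper (X ↘ Spec (CommRingCat.of k))]

/-- `h^0(F ⊗ L^m)` and `h^0(G ⊗ L^m)` differ by `O(m^{n-1})`. -/
def Close (n : ℕ) (F G L : X.Modules) : Prop :=
  ∃ K : ℕ, ∀ m : ℕ,
    Module.finrank k (Coh.HH X (CohB1.tensorMod F (CohB1.tensorPow L m)) 0) ≤
      Module.finrank k (Coh.HH X (CohB1.tensorMod G (CohB1.tensorPow L m)) 0) + K * bnd n m ∧
    Module.finrank k (Coh.HH X (CohB1.tensorMod G (CohB1.tensorPow L m)) 0) ≤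
      Module.finrank k (Coh.HH X (CohB1.tensorMod F (CohB1.tensorPow L m)) 0) + K * bnd n m

variable {k}

lemma Close.symm {n : ℕ} {F G L : X.Modules} (h : Close k n F G L) : Close k n G F L := by
  obtain ⟨K, hK⟩ := h
  exact ⟨K, fun m => ⟨(hK m).2, (hK m).1⟩⟩

lemma Close.trans {n : ℕ} {F G G' L : X.Modules} (h : Close k n F G L) (h' : Close k n G G' L) :
    Close k n F G' L := by
  obtain ⟨K, hK⟩ := h
  obtain ⟨K', hK'⟩ := h'
  refine ⟨K + K', fun m => ?_⟩
  obtain ⟨h1, h2⟩ := hK m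
  obtain ⟨h3, h4⟩ := hK' m
  rw [Nat.add_mul]
  constructor <;> omega

variable (k)

/-- a quotient with small support changes `h^0` of the twists by `O(m^{n-1})` (no ample module
needed). -/
theorem close_of_small_quot (n : ℕ)
    (S : ShortComplex X.Modules) (hS : S.ShortExact)
    (hA : Coh.IsCoh S.X₁) (hB : Coh.IsCoh S.X₂) (hC : Coh.IsCoh S.X₃)
    (hdim : topologicalKrullDim (CohB1.support S.X₃) < (n : WithBot ℕ∞))
    (L : X.Modules) (hL : PicF.IsInvertible L) : Close k n S.X₁ S.X₂ L := by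
  obtain ⟨C₁, hC₁⟩ := h0_growth k n X L hL S.X₃ hC hdim
  refine ⟨C₁, fun m => ?_⟩
  have hRi := isInvertible_tensorPow hL m
  have h1 := tensor_left_zero_le k (f := S.f) (g := S.g) (w := S.zero) hS hB _ hRi
  have h2 := tensor_mid_le k (f := S.f) (g := S.g) (w := S.zero) hS hA hB hC _ hRi 0
  have h3 := hC₁ m _ (isWord_tensorPow_singleton hL m)
  constructor <;> omega

/-- a subobject with small support changes `h^0` of the twists by `O(m^{n-1})`. -/
theorem close_of_small_sub (H : X.Modules) (hH : CohB1.IsAmple H) (n : ℕ)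
    (S : ShortComplex X.Modules) (hS : S.ShortExact)
    (hA : Coh.IsCoh S.X₁) (hB : Coh.IsCoh S.X₂) (hC : Coh.IsCoh S.X₃)
    (hdim : topologicalKrullDim (CohB1.support S.X₁) < (n : WithBot ℕ∞))
    (L : X.Modules) (hL : PicF.IsInvertible L) : Close k n S.X₂ S.X₃ L := by
  have hLs : ∀ P ∈ [L], PicF.IsInvertible P := by
    intro P hP
    rw [List.mem_singleton] at hP
    rw [hP]; exact hL
  obtain ⟨C₁, hC₁⟩ := word_growth k n X H hH S.X₁ hA hdim [L] hLs 0
  obtain ⟨C₂, hC₂⟩ := word_growth k n X H hH S.X₁ hA hdim [L] hLs (0 + 1)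
  refine ⟨C₁ + C₂, fun m => ?_⟩
  have hRi := isInvertible_tensorPow hL m
  have h1 := tensor_mid_le k (f := S.f) (g := S.g) (w := S.zero) hS hA hB hC _ hRi 0
  have h2 := hC₁ m _ (isWord_tensorPow_singleton hL m)
  have h3 := tensor_right_le k (f := S.f) (g := S.g) (w := S.zero) hS hA hB hC _ hRi 0
  have h4 := hC₂ m _ (isWord_tensorPow_singleton hL m)
  rw [Nat.add_mul]
  constructor <;> omega

/-- a morphism of coherent modules with torsion kernel and cokernel changes `h^0` of the twists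
by `O(m^{n-1})`. -/
theorem close_of_generic_iso [IsIntegral X] (H : X.Modules) (hH : CohB1.IsAmple H) (n : ℕ)
    (hn : topologicalKrullDim X = n) {A B : X.Modules} (hA : Coh.IsCoh A) (hB : Coh.IsCoh B)
    (φ : A ⟶ B) (hK : IsTors (kernel φ)) (hQ : IsTors (cokernel φ))
    (L : X.Modules) (hL : PicF.IsInvertible L) : Close k n A B L := by
  haveI : IsNoetherian X := Curve2.isNoetherian_of_proper k X
  have hKc : Coh.IsCoh (kernel φ) := isCoh_kernel φ hA hB
  have hQc : Coh.IsCoh (cokernel φ) := isCoh_cokernel φ hA hB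
  have hIc : Coh.IsCoh (cokernel (kernel.ι φ)) := isCoh_cokernel (kernel.ι φ) hKc hA
  have h1 := close_of_small_sub k H hH n _ (shortExact_coker (kernel.ι φ)) hKc hA hIc
    (dim_support_lt_of_isTors n hn hKc hK) L hL
  let ψ : cokernel (kernel.ι φ) ⟶ B := Abelian.factorThruCoimage φ
  haveI : Mono ψ := inferInstanceAs (Mono (Abelian.factorThruCoimage φ))
  have hfac : cokernel.π (kernel.ι φ) ≫ ψ = φ := Abelian.coimage.fac φ
  have hQc' : Coh.IsCoh (cokernel ψ) := isCoh_cokernel ψ hIc hB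
  have e : cokernel φ ≅ cokernel ψ :=
    cokernelIsoOfEq hfac.symm ≪≫ cokernelEpiComp (cokernel.π (kernel.ι φ)) ψ
  have hQ' : IsTors (cokernel ψ) := isTors_of_iso' e hQc' hQ
  have h2 := close_of_small_quot k n _ (shortExact_coker ψ) hIc hB hQc'
    (dim_support_lt_of_isTors n hn hQc' hQ') L hL
  exact h1.trans h2

/-- `h^0(F ⊗ L^m)` and `h^0(O^r ⊗ L^m)`, `r` the generic rank of `F`, differ by `O(m^{n-1})`. -/
theorem close_rank [IsIntegral X] (H : X.Modules) (hH : CohB1.IsAmple H) (n : ℕ)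
    (hn : topologicalKrullDim X = n) (F : X.Modules) (hF : Coh.IsCoh F)
    (L : X.Modules) (hL : PicF.IsInvertible L) :
    Close k n F (FlatMod.freeMod X (gdim F)) L := by
  haveI : IsNoetherian X := Curve2.isNoetherian_of_proper k X
  haveI := hF.1
  obtain ⟨n₀, h₀⟩ := exists_epi_free_of_isAmple H hH F hF.2
  obtain ⟨n₁, h₁⟩ := exists_section_tensorPow_ne_zero H hH
  obtain ⟨K, q, hq⟩ := h₀ (max n₀ n₁) (le_max_left _ _)
  obtain ⟨t, ht⟩ := h₁ (max n₀ n₁) (le_max_right _ _)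
  haveI := hq
  have hBi : PicF.IsInvertible (CohB1.tensorPow H (max n₀ n₁)) := isInvertible_tensorPow hH.1 _
  have hBc := isCoh_of_isInvertible hBi
  have hGc : Coh.IsCoh (CohB1.tensorMod F (CohB1.tensorPow H (max n₀ n₁))) :=
    isCoh_tensorMod hF hBc
  obtain ⟨hK1, hQ1⟩ := isTors_twistBy hF hBi t ht
  have hD := close_of_generic_iso k H hH n hn hF hGc (twistBy F t) hK1 hQ1 L hL
  obtain ⟨r, φ, hr, hK2, hQ2⟩ := exists_generic_iso_of_epi hGc K q
  have hFr : Coh.IsCoh (FlatMod.freeMod X r) :=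
    Curve.isCoh_of_rank (isFinLocFreeOfRank_freeMod' X _)
  have hGI := close_of_generic_iso k H hH n hn hFr hGc φ hK2 hQ2 L hL
  have hrF : r = gdim F := by
    rw [hr, gdim_iso (tensorCommAll F _), gdim_tensorMod 1 _ ((isInvertible_iff _).mp hBi) F hF,
      one_mul]
  rw [← hrF]
  exact hD.trans hGI.symm

/-- **the rank formula with an error term**: `|h^0(F ⊗ L^m) - rank(F) h^0(L^m)| ≤ K (1+m)^{n-1}`. -/
theorem h0_rank_bound [IsIntegral X] (H : X.Modules) (hH : CohB1.IsAmple H) (n : ℕ)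
    (hn : topologicalKrullDim X = n) (F : X.Modules) (hF : Coh.IsCoh F)
    (L : X.Modules) (hL : PicF.IsInvertible L) :
    ∃ K : ℕ, ∀ m : ℕ,
      Module.finrank k (Coh.HH X (CohB1.tensorMod F (CohB1.tensorPow L m)) 0) ≤
        gdim F * Module.finrank k (Coh.HH X (CohB1.tensorPow L m) 0) + K * bnd n m ∧
      gdim F * Module.finrank k (Coh.HH X (CohB1.tensorPow L m) 0) ≤
        Module.finrank k (Coh.HH X (CohB1.tensorMod F (CohB1.tensorPow L m)) 0) + K * bnd n m := by
  obtain ⟨K, hK⟩ := close_rank k H hH n hn F hF L hL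
  refine ⟨K, fun m => ?_⟩
  have h := hK m
  rw [finrank_HH_freeMod_tensor] at h
  exact h

end Groth.Agent.H5.IntN
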