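import Mathlib
import Groth.Agent.Lib.Helper5.IntN.Num4
import Groth.Agent.Lib.Helper5.IntN.Surf2
import Groth.Agent.Lib.Helper5.IntN.Klei1

/-!
# Inverting the entries of the intersection symbol (helper5; towards S11370)
-/

set_option autoImplicit false
universe u
open CategoryTheory CategoryTheory.Limits AlgebraicGeometry TopologicalSpace

namespace Groth.Agent.H5.IntN

open Groth.Agent.LD Groth.Agent.LD.QC Groth.Agent.H5.Curve4 Groth.Agent.H5.DegC Groth.Agent.H5.Snap
open Groth.Agent.H5.Deg Groth.Agent.H5.HP

variable (k : Type u) [Field k] {X : Scheme.{u}} [X.Over (Spec (CommRingCat.of k))]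
  [IsProper (X ↘ Spec (CommRingCat.of k))]

/-- replacing one entry by its inverse changes the sign. -/
theorem intNum_update_inv (d : ℕ) (hd : topologicalKrullDim X ≤ d)
    {r : ℕ} (M : Fin (r + 1) → X.Modules)
    (hM : ∀ i, PicF.IsInvertible (M i)) (i₀ : Fin (r + 1)) (A' : X.Modules)
    (e : Nonempty (CohB1.tensorMod (M i₀) A' ≅ Coh.structureModule X))
    (F : X.Modules) (hF : Coh.IsCoh F)
    (hdim : topologicalKrullDim (CohB1.support F) ≤ ((r + 1 : ℕ) : WithBot ℕ∞)) :
    FGA.intNum k X d (Function.update M i₀ A') F = - FGA.intNum k X d M F := by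
  haveI := Curve.isLocallyNoetherian k X
  have hMc : ∀ i, Coh.IsCoh (M i) := fun i => isCoh_of_isInvertible (hM i)
  have hA' : PicF.IsInvertible A' := QC.isInvertible_of_tensor_iso (hM i₀) e.some
  have hAc : Coh.IsCoh A' := isCoh_of_isInvertible hA'
  have hUc : ∀ i, Coh.IsCoh (Function.update M i₀ A' i) := by
    intro i
    by_cases hi : i = i₀
    · subst hi; rw [Function.update_self]; exact hAc
    · rw [Function.update_of_ne hi]; exact hMc i
  obtain ⟨σ, hσ⟩ : ∃ σ : Equiv.Perm (Fin (r + 1)), σ = Equiv.swap 0 i₀ := ⟨_, rfl⟩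
  have hσ0 : σ 0 = i₀ := by rw [hσ, Equiv.swap_apply_left]
  rw [← intNum_perm k d (Function.update M i₀ A') hUc σ F, ← intNum_perm k d M hMc σ F]
  obtain ⟨T, hT⟩ : ∃ T : Fin r → X.Modules, T = Fin.tail (M ∘ σ) := ⟨_, rfl⟩
  have h1 : M ∘ σ = Fin.cons (M i₀) T := by
    rw [hT, ← hσ0]
    exact (Fin.cons_self_tail (M ∘ σ)).symm
  have h2 : Function.update M i₀ A' ∘ σ = Fin.cons A' T := by
    funext j
    refine Fin.cases ?_ (fun j' => ?_) j
    · rw [Fin.cons_zero, Function.comp_apply, hσ0, Function.update_self]
    · rw [Fin.cons_succ, Function.comp_apply, Function.update_of_ne, hT]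
      · rfl
      · rw [← hσ0]
        exact fun h => (Fin.succ_ne_zero j') (σ.injective h)
  have hTi : ∀ j, PicF.IsInvertible (T j) := fun j => by rw [hT]; exact hM _
  rw [h1, h2]
  exact intNum_cons_inv k d hd T hTi (M i₀) A' (hM i₀) e F hF (by exact_mod_cast hdim)

/-- inverting the entries in the slots of `s` multiplies the symbol by `(-1)^{|s|}`. -/
theorem intNum_fam_inv (d : ℕ) (hd : topologicalKrullDim X ≤ d) {r : ℕ} (A A' : X.Modules)
    (hA : PicF.IsInvertible A) (e : Nonempty (CohB1.tensorMod A A' ≅ Coh.structureModule X))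
    (F : X.Modules) (hF : Coh.IsCoh F)
    (hdim : topologicalKrullDim (CohB1.support F) ≤ ((r : ℕ) : WithBot ℕ∞))
    (s : Finset (Fin r)) :
    FGA.intNum k X d (fam A' A s) F =
      (-1 : ℤ) ^ s.card * FGA.intNum k X d (fun _ : Fin r => A) F := by
  classical
  have hA' : PicF.IsInvertible A' := QC.isInvertible_of_tensor_iso hA e.some
  induction s using Finset.induction_on with
  | empty =>
    have : (fam A' A (∅ : Finset (Fin r))) = fun _ => A := by
      funext j
      unfold fam
      rw [if_neg (Finset.notMem_empty j)]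
    rw [this, Finset.card_empty, pow_zero, one_mul]
  | insert i s hi ih =>
    cases r with
    | zero => exact i.elim0
    | succ r =>
      have hfam : fam A' A (insert i s) = Function.update (fam A' A s) i A' := by
        funext j
        unfold fam
        by_cases hj : j = i
        · subst hj
          rw [Function.update_self, if_pos (Finset.mem_insert_self _ _)]
        · rw [Function.update_of_ne hj]
          by_cases hjs : j ∈ s
          · rw [if_pos (Finset.mem_insert_of_mem hjs), if_pos hjs]
          · rw [if_neg (fun h => (Finset.mem_insert.mp h).elim hj hjs), if_neg hjs]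
      have hi' : fam A' A s i = A := by
        unfold fam
        rw [if_neg hi]
      rw [hfam, intNum_update_inv k d hd (fam A' A s) (fun j => fam_prop _ hA' hA s j) i A'
        (by rw [hi']; exact e) F hF hdim, ih, Finset.card_insert_of_notMem hi, pow_succ]
      ring

/-- inverting all the entries of a constant family. -/
theorem intNum_const_inv (d : ℕ) (hd : topologicalKrullDim X ≤ d) (r : ℕ) (A A' : X.Modules)
    (hA : PicF.IsInvertible A) (e : Nonempty (CohB1.tensorMod A A' ≅ Coh.structureModule X))
    (F : X.Modules) (hF : Coh.IsCoh F)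
    (hdim : topologicalKrullDim (CohB1.support F) ≤ ((r : ℕ) : WithBot ℕ∞)) :
    FGA.intNum k X d (fun _ : Fin r => A') F =
      (-1 : ℤ) ^ r * FGA.intNum k X d (fun _ : Fin r => A) F := by
  have h := intNum_fam_inv k d hd A A' hA e F hF hdim (Finset.univ : Finset (Fin r))
  have hfam : fam A' A (Finset.univ : Finset (Fin r)) = fun _ => A' := by
    funext j
    unfold fam
    rw [if_pos (Finset.mem_univ j)]
  rw [hfam, Finset.card_univ, Fintype.card_fin] at h
  exact h

end Groth.Agent.H5.IntN
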