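import Mathlib
import Groth.Agent.Lib.Helper5.IntN.Gro3

/-!
# The Lipschitz-type estimate for `ĥ^i` on the classes spanned by finitely many invertible
modules (S17633).
-/

set_option autoImplicit false
universe u
open CategoryTheory CategoryTheory.Limits AlgebraicGeometry TopologicalSpace Opposite Filter

namespace Groth.Agent.H5.IntN

open Groth.Agent.LD Groth.Agent.LD.QC Groth.Agent.H5.Curve4 Groth.Agent.H5.DegC Groth.Agent.H5.Snap

section lists

variable {X : Scheme.{u}}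

lemma nonempty_tensorList_add {r : ℕ} (Ls : List X.Modules)
    (hLs : ∀ P ∈ Ls, PicF.IsInvertible P) (L : Fin r → X.Modules) (hmem : ∀ j, L j ∈ Ls)
    (x y : Fin r → ℕ) :
    ∀ l : List (Fin r),
      Nonempty (FGA.tensorList (l.map fun j => CohB1.tensorPow (L j) (x j + y j)) ≅
        CohB1.tensorMod (FGA.tensorList (l.map fun j => CohB1.tensorPow (L j) (x j)))
          (FGA.tensorList (l.map fun j => CohB1.tensorPow (L j) (y j))))
  | [] => by
    simp only [List.map_nil]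
    exact ⟨(unitorL' (unitMod X)).symm⟩
  | j :: l => by
    obtain ⟨e⟩ := nonempty_tensorList_add Ls hLs L hmem x y l
    have hx := IsWord.isInvertible hLs (isWord_tensorList_map Ls hLs L hmem x l)
    have hy := IsWord.isInvertible hLs (isWord_tensorList_map Ls hLs L hmem y l)
    have hLj := hLs _ (hmem j)
    haveI := qc_of_isInvertible _ hLj
    haveI := qc_of_isInvertible _ (isInvertible_tensorPow hLj (x j))
    haveI := qc_of_isInvertible _ (isInvertible_tensorPow hLj (y j))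
    haveI := qc_of_isInvertible _ hx
    haveI := qc_of_isInvertible _ hy
    simp only [List.map_cons]
    exact ⟨tensorIso' (powAddIso (L j) (x j) (y j)).symm e ≪≫ tensorMiddleFour _ _ _ _⟩

lemma nonempty_multiTwist_add {r : ℕ} (Ls : List X.Modules)
    (hLs : ∀ P ∈ Ls, PicF.IsInvertible P) (L : Fin r → X.Modules) (hmem : ∀ j, L j ∈ Ls)
    (x y : Fin r → ℕ) :
    Nonempty (FGA.multiTwist L (fun j => x j + y j) ≅
      CohB1.tensorMod (FGA.multiTwist L x) (FGA.multiTwist L y)) :=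
  nonempty_tensorList_add Ls hLs L hmem x y (List.finRange r)

lemma nonempty_ztwist_decomp {r : ℕ} (Ls : List X.Modules)
    (hLs : ∀ P ∈ Ls, PicF.IsInvertible P) (L M : Fin r → X.Modules) (hmemL : ∀ j, L j ∈ Ls)
    (hmemM : ∀ j, M j ∈ Ls) (dP cP dN cN : Fin r → ℕ) :
    Nonempty (CohB1.tensorMod (FGA.multiTwist L (fun j => dP j + cP j))
        (FGA.multiTwist M (fun j => dN j + cN j)) ≅
      CohB1.tensorMod (CohB1.tensorMod (FGA.multiTwist L dP) (FGA.multiTwist M dN))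
        (CohB1.tensorMod (FGA.multiTwist L cP) (FGA.multiTwist M cN))) := by
  obtain ⟨e1⟩ := nonempty_multiTwist_add Ls hLs L hmemL dP cP
  obtain ⟨e2⟩ := nonempty_multiTwist_add Ls hLs M hmemM dN cN
  haveI := qc_of_isInvertible _ (IsWord.isInvertible hLs (isWord_multiTwist Ls hLs L hmemL dP))
  haveI := qc_of_isInvertible _ (IsWord.isInvertible hLs (isWord_multiTwist Ls hLs L hmemL cP))
  haveI := qc_of_isInvertible _ (IsWord.isInvertible hLs (isWord_multiTwist Ls hLs M hmemM dN))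
  haveI := qc_of_isInvertible _ (IsWord.isInvertible hLs (isWord_multiTwist Ls hLs M hmemM cN))
  exact ⟨tensorIso' e1 e2 ≪≫ tensorMiddleFour _ _ _ _⟩

/-- splitting off a common part from `L^a`. -/
lemma ztwist_split {r : ℕ} (Ls : List X.Modules)
    (hLs : ∀ P ∈ Ls, PicF.IsInvertible P) (L M : Fin r → X.Modules) (hmemL : ∀ j, L j ∈ Ls)
    (hmemM : ∀ j, M j ∈ Ls) (a : Fin r → ℤ) (cP cN : Fin r → ℕ)
    (h1 : ∀ j, cP j ≤ (a j).toNat) (h2 : ∀ j, cN j ≤ (-(a j)).toNat) :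
    ∃ (t : ℕ) (W : X.Modules), IsWord Ls t W ∧
      Nonempty (W4c5asymptcohfn.ztwist X L M a ≅ CohB1.tensorMod W
        (CohB1.tensorMod (FGA.multiTwist L cP) (FGA.multiTwist M cN))) ∧
      t + (∑ j, cP j + ∑ j, cN j) = ∑ j, (a j).toNat + ∑ j, (-(a j)).toNat := by
  refine ⟨∑ j, ((a j).toNat - cP j) + ∑ j, ((-(a j)).toNat - cN j),
    CohB1.tensorMod (FGA.multiTwist L (fun j => (a j).toNat - cP j))
      (FGA.multiTwist M (fun j => (-(a j)).toNat - cN j)), ?_, ?_, ?_⟩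
  · exact IsWord.tensor hLs (isWord_multiTwist Ls hLs M hmemM _)
      (isWord_multiTwist Ls hLs L hmemL _)
  · have hfa : (fun j => (a j).toNat) = fun j => ((a j).toNat - cP j) + cP j :=
      funext fun j => by have := h1 j; omega
    have hfa' : (fun j => (-(a j)).toNat) = fun j => ((-(a j)).toNat - cN j) + cN j :=
      funext fun j => by have := h2 j; omega
    unfold W4c5asymptcohfn.ztwist
    rw [hfa, hfa']
    exact nonempty_ztwist_decomp Ls hLs L M hmemL hmemM _ _ _ _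
  · have e1 : ∑ j, (a j).toNat = ∑ j, ((a j).toNat - cP j) + ∑ j, cP j := by
      rw [← Finset.sum_add_distrib]
      exact Finset.sum_congr rfl (fun j _ => by have := h1 j; omega)
    have e2 : ∑ j, (-(a j)).toNat = ∑ j, ((-(a j)).toNat - cN j) + ∑ j, cN j := by
      rw [← Finset.sum_add_distrib]
      exact Finset.sum_congr rfl (fun j _ => by have := h2 j; omega)
    omega

end lists

variable (k : Type u) [Field k] {X : Scheme.{u}} [X.Over (Spec (CommRingCat.of k))]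
  [IsProper (X ↘ Spec (CommRingCat.of k))]

/-- the basic comparison of `ĥ^i(L^a)` and `ĥ^i(L^b)`. -/
theorem abs_hhat_ztwist_sub_le [IsIntegral X] (H : X.Modules) (hH : CohB1.IsAmple H) (n : ℕ)
    (hn : topologicalKrullDim X = n) (r : ℕ) (L M : Fin r → X.Modules)
    (hL : ∀ j, PicF.IsInvertible (L j)) (hM : ∀ j, ClSub.IsInverseOf (L j) (M j)) (i : ℕ) :
    ∃ C : ℕ, ∀ a b : Fin r → ℤ, ∃ ta tb : ℕ,
      ta + tb = ∑ j, (a j - b j).natAbs ∧
      |W4c5asymptcohfn.hhat k X n i (W4c5asymptcohfn.ztwist X L M a) -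
          W4c5asymptcohfn.hhat k X n i (W4c5asymptcohfn.ztwist X L M b)| ≤
        ((C * (ta * bnd n (∑ j, (a j).toNat + ∑ j, (-(a j)).toNat)) * n.factorial : ℕ) : ℝ) +
        ((C * (tb * bnd n (∑ j, (b j).toNat + ∑ j, (-(b j)).toNat)) * n.factorial : ℕ) : ℝ) := by
  have hMi : ∀ j, PicF.IsInvertible (M j) := fun j => by
    obtain ⟨ε⟩ := hM j
    exact isInvertible_of_tensor_iso (hL j) ε
  have hLs : ∀ P ∈ List.ofFn L ++ List.ofFn M, PicF.IsInvertible P := by
    intro P hP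
    rcases List.mem_append.mp hP with h | h
    · obtain ⟨j, rfl⟩ := List.mem_ofFn.mp h
      exact hL j
    · obtain ⟨j, rfl⟩ := List.mem_ofFn.mp h
      exact hMi j
  have hmemL : ∀ j, L j ∈ List.ofFn L ++ List.ofFn M := fun j =>
    List.mem_append_left _ (List.mem_ofFn.mpr ⟨j, rfl⟩)
  have hmemM : ∀ j, M j ∈ List.ofFn L ++ List.ofFn M := fun j =>
    List.mem_append_right _ (List.mem_ofFn.mpr ⟨j, rfl⟩)
  obtain ⟨C, hC⟩ := abs_hhat_sub_le k n (le_of_eq hn) H hH _ hLs i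
  refine ⟨C, fun a b => ?_⟩
  obtain ⟨ta, Wa, hWa, ⟨ea⟩, hta⟩ := ztwist_split _ hLs L M hmemL hmemM a
    (fun j => min (a j).toNat (b j).toNat) (fun j => min (-(a j)).toNat (-(b j)).toNat)
    (fun j => Nat.min_le_left _ _) (fun j => Nat.min_le_left _ _)
  obtain ⟨tb, Wb, hWb, ⟨eb⟩, htb⟩ := ztwist_split _ hLs L M hmemL hmemM b
    (fun j => min (a j).toNat (b j).toNat) (fun j => min (-(a j)).toNat (-(b j)).toNat)
    (fun j => Nat.min_le_right _ _) (fun j => Nat.min_le_right _ _)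
  have hP₀ : IsWord (List.ofFn L ++ List.ofFn M)
      (∑ j, min (a j).toNat (b j).toNat + ∑ j, min (-(a j)).toNat (-(b j)).toNat)
      (CohB1.tensorMod (FGA.multiTwist L (fun j => min (a j).toNat (b j).toNat))
        (FGA.multiTwist M (fun j => min (-(a j)).toNat (-(b j)).toNat))) :=
    IsWord.tensor hLs (isWord_multiTwist _ hLs M hmemM _) (isWord_multiTwist _ hLs L hmemL _)
  refine ⟨ta, tb, ?_, ?_⟩
  · have hsum : ∑ j, ((a j).toNat + (-(a j)).toNat + ((b j).toNat + (-(b j)).toNat)) =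
        ∑ j, ((min (a j).toNat (b j).toNat + min (-(a j)).toNat (-(b j)).toNat) +
          (min (a j).toNat (b j).toNat + min (-(a j)).toNat (-(b j)).toNat) +
          (a j - b j).natAbs) := Finset.sum_congr rfl (fun j _ => by omega)
    simp only [Finset.sum_add_distrib] at hsum
    omega
  · have h1 := hC ta Wa hWa _ _ hP₀
    have h2 := hC tb Wb hWb _ _ hP₀
    rw [← hhat_congr k n i ea] at h1
    rw [← hhat_congr k n i eb, abs_sub_comm] at h2
    have h3 := abs_sub_le (W4c5asymptcohfn.hhat k X n i (W4c5asymptcohfn.ztwist X L M a))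
      (W4c5asymptcohfn.hhat k X n i
        (CohB1.tensorMod (FGA.multiTwist L (fun j => min (a j).toNat (b j).toNat))
          (FGA.multiTwist M (fun j => min (-(a j)).toNat (-(b j)).toNat))))
      (W4c5asymptcohfn.hhat k X n i (W4c5asymptcohfn.ztwist X L M b))
    have e1 : ∑ j, min (a j).toNat (b j).toNat + ∑ j, min (-(a j)).toNat (-(b j)).toNat + ta =
        ∑ j, (a j).toNat + ∑ j, (-(a j)).toNat := by omega
    have e2 : ∑ j, min (a j).toNat (b j).toNat + ∑ j, min (-(a j)).toNat (-(b j)).toNat + tb =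
        ∑ j, (b j).toNat + ∑ j, (-(b j)).toNat := by omega
    rw [e1] at h1
    rw [e2] at h2
    linarith

/-- **S17633**. -/
theorem hhat_ztwist_lipschitz [IsIntegral X] (H : X.Modules) (hH : CohB1.IsAmple H) (n : ℕ)
    (hn : topologicalKrullDim X = n) (r : ℕ) (L M : Fin r → X.Modules)
    (hL : ∀ j, PicF.IsInvertible (L j)) (hM : ∀ j, ClSub.IsInverseOf (L j) (M j)) (i : ℕ) :
    ∃ C : ℝ, ∀ a b : Fin r → ℤ,
      |W4c5asymptcohfn.hhat k X n i (W4c5asymptcohfn.ztwist X L M a) -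
          W4c5asymptcohfn.hhat k X n i (W4c5asymptcohfn.ztwist X L M b)| ≤
        C * (Finset.Icc 1 n).sum (fun q =>
          (max ‖(fun j => ((a j : ℤ) : ℝ))‖ ‖(fun j => ((b j : ℤ) : ℝ))‖) ^ (n - q) *
            ‖(fun j => ((a j - b j : ℤ) : ℝ))‖ ^ q) := by
  obtain ⟨C₀, hC₀⟩ := abs_hhat_ztwist_sub_le k H hH n hn r L M hL hM i
  rcases n with _ | n'
  · refine ⟨0, fun a b => ?_⟩
    obtain ⟨ta, tb, -, h⟩ := hC₀ a b
    have hz : ∀ σ t : ℕ, ((C₀ * (t * bnd 0 σ) * (0 : ℕ).factorial : ℕ) : ℝ) = 0 := by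
      intro σ t
      have : bnd 0 σ = 0 := rfl
      rw [this]; simp
    rw [hz, hz, add_zero] at h
    rw [zero_mul]
    exact h
  · refine ⟨(C₀ : ℝ) * ((n' + 1).factorial : ℝ) * (r : ℝ) * (1 + (r : ℝ)) ^ n', fun a b => ?_⟩
    have hsum_nonneg : ∀ q ∈ Finset.Icc 1 (n' + 1), (0 : ℝ) ≤
        (max ‖(fun j => ((a j : ℤ) : ℝ))‖ ‖(fun j => ((b j : ℤ) : ℝ))‖) ^ (n' + 1 - q) *
          ‖(fun j => ((a j - b j : ℤ) : ℝ))‖ ^ q := fun q _ => by positivity
    by_cases hab : a = b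
    · subst hab
      rw [sub_self, abs_zero]
      exact mul_nonneg (by positivity) (Finset.sum_nonneg hsum_nonneg)
    · obtain ⟨ta, tb, htab, h⟩ := hC₀ a b
      -- notation
      obtain ⟨μ, hμ⟩ : ∃ μ : ℝ, μ = max ‖(fun j => ((a j : ℤ) : ℝ))‖
        ‖(fun j => ((b j : ℤ) : ℝ))‖ := ⟨_, rfl⟩
      obtain ⟨δ, hδ⟩ : ∃ δ : ℝ, δ = ‖(fun j => ((a j - b j : ℤ) : ℝ))‖ := ⟨_, rfl⟩
      have hδ0 : 0 ≤ δ := by rw [hδ]; exact norm_nonneg _
      have hμ1 : 1 ≤ μ := by
        obtain ⟨j, hj⟩ := Function.ne_iff.mp hab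
        rw [hμ]
        by_cases ha0 : a j = 0
        · have hb0 : b j ≠ 0 := fun h0 => hj (by rw [ha0, h0])
          exact le_max_of_le_right (one_le_norm_of_ne_zero b j hb0)
        · exact le_max_of_le_left (one_le_norm_of_ne_zero a j ha0)
      have hσa : ((∑ j, (a j).toNat + ∑ j, (-(a j)).toNat : ℕ) : ℝ) ≤ (r : ℝ) * μ :=
        (sigma_le r a).trans (mul_le_mul_of_nonneg_left (by rw [hμ]; exact le_max_left _ _)
          (Nat.cast_nonneg r))
      have hσb : ((∑ j, (b j).toNat + ∑ j, (-(b j)).toNat : ℕ) : ℝ) ≤ (r : ℝ) * μ :=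
        (sigma_le r b).trans (mul_le_mul_of_nonneg_left (by rw [hμ]; exact le_max_right _ _)
          (Nat.cast_nonneg r))
      have htr : ((ta + tb : ℕ) : ℝ) ≤ (r : ℝ) * δ := by
        rw [htab, hδ]
        exact natAbs_sum_le r (fun j => a j - b j)
      -- the bound of each term
      have hterm : ∀ (t σ : ℕ), (σ : ℝ) ≤ (r : ℝ) * μ →
          ((C₀ * (t * bnd (n' + 1) σ) * (n' + 1).factorial : ℕ) : ℝ) ≤
            (C₀ : ℝ) * ((n' + 1).factorial : ℝ) * (t : ℝ) * ((1 + (r : ℝ)) * μ) ^ n' := by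
        intro t σ hσ
        have hb : bnd (n' + 1) σ = (1 + σ) ^ n' := rfl
        rw [hb]
        push_cast
        have h1 : (1 + (σ : ℝ)) ^ n' ≤ ((1 + (r : ℝ)) * μ) ^ n' := by
          apply pow_le_pow_left₀ (by positivity)
          nlinarith
        have h2 : (0 : ℝ) ≤ (C₀ : ℝ) * ((n' + 1).factorial : ℝ) * (t : ℝ) := by positivity
        calc (C₀ : ℝ) * ((t : ℝ) * (1 + (σ : ℝ)) ^ n') * ((n' + 1).factorial : ℝ)
            = (C₀ : ℝ) * ((n' + 1).factorial : ℝ) * (t : ℝ) * (1 + (σ : ℝ)) ^ n' := by ring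
          _ ≤ (C₀ : ℝ) * ((n' + 1).factorial : ℝ) * (t : ℝ) * ((1 + (r : ℝ)) * μ) ^ n' :=
              mul_le_mul_of_nonneg_left h1 h2
      have hA := hterm ta _ hσa
      have hB := hterm tb _ hσb
      have hq1 : μ ^ n' * δ ≤ (Finset.Icc 1 (n' + 1)).sum (fun q =>
          (max ‖(fun j => ((a j : ℤ) : ℝ))‖ ‖(fun j => ((b j : ℤ) : ℝ))‖) ^ (n' + 1 - q) *
            ‖(fun j => ((a j - b j : ℤ) : ℝ))‖ ^ q) := by
        have h1 := Finset.single_le_sum hsum_nonneg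
          (Finset.mem_Icc.mpr ⟨le_rfl, Nat.le_add_left 1 n'⟩)
        rw [Nat.add_sub_cancel, pow_one] at h1
        rw [hμ, hδ]
        exact h1
      have hμ0 : 0 ≤ μ := le_trans zero_le_one hμ1
      have hfin : (C₀ : ℝ) * ((n' + 1).factorial : ℝ) * ((ta : ℝ) + (tb : ℝ)) *
          ((1 + (r : ℝ)) * μ) ^ n' ≤
          (C₀ : ℝ) * ((n' + 1).factorial : ℝ) * (r : ℝ) * (1 + (r : ℝ)) ^ n' *
            (μ ^ n' * δ) := by
        have h5 : ((ta : ℝ) + (tb : ℝ)) ≤ (r : ℝ) * δ := by exact_mod_cast htr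
        have h6 : (0 : ℝ) ≤ (C₀ : ℝ) * ((n' + 1).factorial : ℝ) * ((1 + (r : ℝ)) * μ) ^ n' := by
          positivity
        calc (C₀ : ℝ) * ((n' + 1).factorial : ℝ) * ((ta : ℝ) + (tb : ℝ)) *
              ((1 + (r : ℝ)) * μ) ^ n'
            = (C₀ : ℝ) * ((n' + 1).factorial : ℝ) * ((1 + (r : ℝ)) * μ) ^ n' *
                ((ta : ℝ) + (tb : ℝ)) := by ring
          _ ≤ (C₀ : ℝ) * ((n' + 1).factorial : ℝ) * ((1 + (r : ℝ)) * μ) ^ n' *
                ((r : ℝ) * δ) := mul_le_mul_of_nonneg_left h5 h6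
          _ = (C₀ : ℝ) * ((n' + 1).factorial : ℝ) * (r : ℝ) * (1 + (r : ℝ)) ^ n' *
                (μ ^ n' * δ) := by rw [mul_pow]; ring
      have hC'0 : (0 : ℝ) ≤ (C₀ : ℝ) * ((n' + 1).factorial : ℝ) * (r : ℝ) *
          (1 + (r : ℝ)) ^ n' := by positivity
      calc |W4c5asymptcohfn.hhat k X (n' + 1) i (W4c5asymptcohfn.ztwist X L M a) -
            W4c5asymptcohfn.hhat k X (n' + 1) i (W4c5asymptcohfn.ztwist X L M b)|
          ≤ _ := h
        _ ≤ (C₀ : ℝ) * ((n' + 1).factorial : ℝ) * (ta : ℝ) * ((1 + (r : ℝ)) * μ) ^ n' +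
            (C₀ : ℝ) * ((n' + 1).factorial : ℝ) * (tb : ℝ) * ((1 + (r : ℝ)) * μ) ^ n' :=
            add_le_add hA hB
        _ = (C₀ : ℝ) * ((n' + 1).factorial : ℝ) * ((ta : ℝ) + (tb : ℝ)) *
            ((1 + (r : ℝ)) * μ) ^ n' := by ring
        _ ≤ _ := hfin
        _ ≤ _ := mul_le_mul_of_nonneg_left hq1 hC'0

end Groth.Agent.H5.IntN
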