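import Mathlib
import Groth.Agent.Lib.Helper5.IntN.Kod4
import Groth.Agent.Lib.Lead.Curve.InvMono
import Groth.Agent.Lib.Lead.QC.InvInverse

/-!
# Bigness via sections of `A⁻¹ ⊗ L^m` (S17278)
-/

set_option autoImplicit false
universe u
open CategoryTheory CategoryTheory.Limits AlgebraicGeometry TopologicalSpace Opposite

namespace Groth.Agent.H5.IntN

open Groth.Agent.LD Groth.Agent.LD.QC Groth.Agent.H5.Curve4 Groth.Agent.H5.DegC Groth.Agent.H5.Snap
open Groth.Agent.H5.Deg Groth.Agent.H5.HP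


/-- embeddings of ample modules into powers of `L` versus sections of `A⁻¹ ⊗ L^m`. -/
theorem embeds_iff_sections {X : Scheme.{u}} [IsIntegral X] (L : X.Modules) (hL : PicF.IsInvertible L) :
    (∀ A : X.Modules, CohB1.IsAmple A →
        ∃ (m : ℕ) (φ : A ⟶ CohB1.tensorPow L m), 0 < m ∧ Mono φ) ↔
      ∀ (A A' : X.Modules), CohB1.IsAmple A → ClSub.IsInverseOf A' A →
        ∃ m : ℕ, 0 < m ∧ Nontrivial (Coh.HH X (CohB1.tensorMod A' (CohB1.tensorPow L m)) 0) := by
  have hO : PicF.IsInvertible (unitMod X) := isInvertible_unit X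
  constructor
  · intro h A A' hA ⟨ε⟩
    obtain ⟨m, φ, hm, hφ⟩ := h A hA
    haveI := hφ
    have hA'i : PicF.IsInvertible A' :=
      isInvertible_of_tensor_iso hA.1 ((tensorCommGen A A') ≪≫ ε)
    haveI := mono_tensorMap_of_isInvertible φ A' hA'i
    let σ : unitMod X ⟶ CohB1.tensorMod A' (CohB1.tensorPow L m) :=
      ((tensorCommGen A A') ≪≫ ε).inv ≫ KoszTw.tensorMap φ (𝟙 A') ≫
        (tensorCommGen (CohB1.tensorPow L m) A').hom
    haveI : Mono σ := mono_comp _ _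
    refine ⟨m, hm, nontrivial_HH_of_ne_zero σ (fun h0 => ?_)⟩
    exact not_isZero_of_isInvertible hO (IsZero.of_mono_eq_zero σ h0)
  · intro h A hA
    obtain ⟨A', hA'i, ⟨ε⟩⟩ := Groth.Agent.H5.Glue.exists_inverse A hA.1
    obtain ⟨m, hm, hnt⟩ := h A A' hA ⟨(tensorCommGen A' A) ≪≫ ε⟩
    obtain ⟨σ, hσ⟩ := exists_ne_zero_of_nontrivial_HH _ hnt
    have hLm : PicF.IsInvertible (CohB1.tensorPow L m) := isInvertible_tensorPow hL m
    have hT : PicF.IsInvertible (CohB1.tensorMod A' (CohB1.tensorPow L m)) :=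
      isInvertible_tensorMod hA'i hLm
    haveI : Mono σ := Curve.mono_of_ne_zero hO hT σ hσ
    haveI := mono_tensorMap_of_isInvertible σ A hA.1
    haveI := qc_of_isInvertible _ hA.1
    haveI := qc_of_isInvertible _ hA'i
    haveI := qc_of_isInvertible _ hLm
    let e : CohB1.tensorMod (CohB1.tensorMod A' (CohB1.tensorPow L m)) A ≅
        CohB1.tensorPow L m :=
      tensorCommGen _ _ ≪≫ (tensorAssoc A A' (CohB1.tensorPow L m)).symm ≪≫
        tensorIso' ε (Iso.refl _) ≪≫ unitorL' _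
    refine ⟨m, (unitorL' A).inv ≫ KoszTw.tensorMap σ (𝟙 A) ≫ e.hom, hm, ?_⟩
    infer_instance

variable (k : Type u) [Field k] {X : Scheme.{u}} [X.Over (Spec (CommRingCat.of k))]
  [IsProper (X ↘ Spec (CommRingCat.of k))]

/-- **S17278** -/
theorem main_S17278 [IsIntegral X] (A₀ : X.Modules) (hA₀ : CohB1.IsAmple A₀)
    (d : ℕ) (hdim : topologicalKrullDim X = d) (L : X.Modules) (hL : PicF.IsInvertible L) :
    (∃ c : ℝ, 0 < c ∧ ∀ᶠ n : ℕ in Filter.atTop,
        c * (n : ℝ) ^ d < (Module.finrank k (Coh.HH X (CohB1.tensorPow L n) 0) : ℝ)) ↔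
      ∀ (A A' : X.Modules), CohB1.IsAmple A → ClSub.IsInverseOf A' A →
        ∃ m : ℕ, 0 < m ∧ Nontrivial (Coh.HH X (CohB1.tensorMod A' (CohB1.tensorPow L m)) 0) := by
  rw [← embeds_iff_sections L hL, big_iff_growth k A₀ hA₀ d hdim L hL]
  constructor
  · rintro ⟨c, hc, h⟩
    obtain ⟨m₁, hm₁⟩ := Filter.eventually_atTop.mp h
    exact ⟨c, hc, m₁, fun m hm => (hm₁ m hm).le⟩
  · rintro ⟨C, hC, m₁, h⟩
    refine ⟨C / 2, half_pos hC, Filter.eventually_atTop.mpr ⟨max m₁ 1, fun m hm => ?_⟩⟩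
    have h1 := h m (le_trans (le_max_left _ _) hm)
    have hm1 : 1 ≤ m := le_trans (le_max_right _ _) hm
    have hpos : (0 : ℝ) < (m : ℝ) ^ d := by
      apply pow_pos
      exact_mod_cast hm1
    have h2 : C / 2 * (m : ℝ) ^ d < C * (m : ℝ) ^ d := by
      apply mul_lt_mul_of_pos_right _ hpos
      linarith
    exact lt_of_lt_of_le h2 h1

end Groth.Agent.H5.IntN
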