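import Mathlib
import Groth.Agent.Lib.Helper5.IntN.Nak3

set_option autoImplicit false
universe u
open CategoryTheory CategoryTheory.Limits AlgebraicGeometry TopologicalSpace

namespace Groth.Agent.H5.IntN

open Groth.Agent.LD Groth.Agent.LD.QC Groth.Agent.H5.VAmple Groth.Agent.H5.Segre

/-- adding a section keeps a family generating. -/
lemma generatedBy_cons {X : Scheme.{u}} (L : X.Modules) {m : ℕ} (a : ProjUP.Γm L)
    (s : Fin m → ProjUP.Γm L) (hs : ProjUP.GeneratedBy L s) :
    ProjUP.GeneratedBy L (Fin.cons a s : Fin (m + 1) → ProjUP.Γm L) := by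
  intro x
  rw [eq_top_iff, ← hs x]
  apply Submodule.span_mono
  rintro _ ⟨i, rfl⟩
  exact ⟨i.succ, by simp only [Fin.cons_succ]⟩

/-- **local version**: if no integral curve lies in `X_{s_j}`, then `X_{s_j}` is affine (the
morphism to projective space is finite over the chart `D₊(T_j)`). -/
theorem isAffineOpen_genLocus_of_no_curve (k : Type u) [Field k] (X : Scheme.{u})
    [X.Over (Spec (CommRingCat.of k))] [IsProper (X ↘ Spec (CommRingCat.of k))]
    (L : X.Modules) (hL : PicF.IsInvertible L) {n : ℕ} (s : Fin (n + 1) → ProjUP.Γm L)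
    (hs : ProjUP.GeneratedBy L s) (j : Fin (n + 1))
    (hC : ∀ C : X.IdealSheafData, IsIntegral C.subscheme →
      topologicalKrullDim (C.support : Set X) = 1 →
      ¬ ((C.support : Set X) ⊆ CohB1.genLocus L (QC.homOfSection L (s j)))) :
    IsAffineOpen (CohB1.genLocus L (QC.homOfSection L (s j))) := by
  set q := X ↘ Spec (CommRingCat.of k) with hq
  set φ := toPn q L hL s hs with hφ
  let P := CohB1.ProjSpaceOver n (Spec (CommRingCat.of k))
  let pr : P ⟶ Proj (CohB1.polyGrading n (ULift.{u} ℤ)) :=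
    pullback.fst (CohB1.ProjSpace.toSpec n (ULift.{u} ℤ))
      (specULiftZIsTerminal.from (Spec (CommRingCat.of k)))
  haveI : IsProper (CohB1.ProjSpaceOver.toBase n (Spec (CommRingCat.of k))) :=
    Groth.Agent.H5.AG.isProper_toBase n _
  haveI : IsProper (φ ≫ CohB1.ProjSpaceOver.toBase n (Spec (CommRingCat.of k))) := by
    rw [hφ, toPn_toBase]; infer_instance
  haveI : IsProper φ := IsProper.of_comp φ (CohB1.ProjSpaceOver.toBase n (Spec (CommRingCat.of k)))
  haveI : IsLocallyNoetherian X := LocallyOfFiniteType.isLocallyNoetherian q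
  haveI : CompactSpace X := QuasiCompact.compactSpace_of_compactSpace q
  haveI : IsNoetherian X := {}
  haveI : JacobsonSpace P :=
    LocallyOfFiniteType.jacobsonSpace (CohB1.ProjSpaceOver.toBase n (Spec (CommRingCat.of k)))
  -- the affine chart
  set V : P.Opens := pr ⁻¹ᵁ Dp n (ULift.{u} ℤ) j with hV
  haveI : IsAffineHom pr :=
    MorphismProperty.pullback_fst (P := @IsAffineHom) _ _ inferInstance
  have hVaff : IsAffineOpen V := (isAffineOpen_Dp n (ULift.{u} ℤ) j).preimage pr
  have hpre : φ ⁻¹ᵁ V = CohB1.genLocus L (QC.homOfSection L (s j)) := by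
    rw [← Xs_eq, ← toPnZ_preimage L hL s hs j, ← toPn_fst q L hL s hs]
    exact (Scheme.Hom.comp_preimage φ pr _).symm
  haveI : IsAffine V.toScheme := hVaff
  haveI : CompactSpace V.toScheme := inferInstance
  haveI : IsFinite (φ ∣_ V) := by
    apply isFinite_of_finite_fibres_closedPoints (φ ∣_ V)
    intro y hy
    by_contra hinf
    -- `y.1` is a closed point of `P`
    have hycl : IsClosed ({y.1} : Set P) := by
      apply isClosed_singleton_of_isLocallyClosed_singleton
      have h1 : ({y.1} : Set P) = V.ι '' {y} := by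
        rw [Set.image_singleton]; rfl
      rw [h1]
      exact hy.isLocallyClosed.image V.ι.isOpenEmbedding.isInducing
        V.ι.isOpenEmbedding.isOpen_range.isLocallyClosed
    have hinf' : (φ ⁻¹' {y.1}).Infinite := by
      intro hfin
      apply hinf
      have hinj : Function.Injective (fun x : (φ ⁻¹ᵁ V).toScheme => (φ ⁻¹ᵁ V).ι x) :=
        (φ ⁻¹ᵁ V).ι.isOpenEmbedding.injective
      refine Set.Finite.of_injOn (f := fun x : (φ ⁻¹ᵁ V).toScheme => (φ ⁻¹ᵁ V).ι x)
        (t := φ ⁻¹' {y.1}) ?_ hinj.injOn hfin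
      intro x hx
      have hx' : (φ ∣_ V) x = y := hx
      show φ ((φ ⁻¹ᵁ V).ι x) = y.1
      have h2 : ((φ ∣_ V) ≫ V.ι) x = ((φ ⁻¹ᵁ V).ι ≫ φ) x := by rw [morphismRestrict_ι]
      rw [Scheme.Hom.comp_apply, Scheme.Hom.comp_apply, hx'] at h2
      exact h2.symm
    obtain ⟨C, hCcl, hCirr, hCZ, hCdim⟩ :=
      exists_irreducible_dim_one (φ ⁻¹' {y.1}) (hycl.preimage φ.continuous) hinf'
    refine hC (Scheme.IdealSheafData.vanishingIdeal ⟨C, hCcl⟩)
      (QC.isIntegral_redSub _ hCirr)
      (by rw [Scheme.IdealSheafData.coe_support_vanishingIdeal]; exact hCdim) ?_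
    rw [Scheme.IdealSheafData.coe_support_vanishingIdeal, ← hpre]
    intro x hx
    have hxy : φ x = y.1 := hCZ hx
    show φ x ∈ V
    rw [hxy]
    exact y.2
  haveI : IsAffine (φ ⁻¹ᵁ V).toScheme := isAffine_of_isAffineHom (φ ∣_ V)
  rw [← hpre]
  exact ‹IsAffine (φ ⁻¹ᵁ V).toScheme›


/-- **S11372**: for a globally generated invertible module, `X_s` is affine as soon as it contains
no integral curve. -/
theorem isAffineOpen_genLocus_of_gg (k : Type u) [Field k] (X : Scheme.{u})
    [X.Over (Spec (CommRingCat.of k))] [IsProper (X ↘ Spec (CommRingCat.of k))]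
    (L : X.Modules) (hL : PicF.IsInvertible L) (hgen : Curv2.IsGloballyGenerated L)
    (s : Coh.structureModule X ⟶ L)
    (hcurves : ∀ C : X.IdealSheafData, IsIntegral C.subscheme →
      topologicalKrullDim (C.support : Set X) = 1 →
        ¬ ((C.support : Set X) ⊆ (CohB1.genLocus L s : Set X))) :
    IsAffineOpen (CohB1.genLocus L s) := by
  haveI : CompactSpace X := QuasiCompact.compactSpace_of_compactSpace (X ↘ Spec (CommRingCat.of k))
  obtain ⟨n, t, ht⟩ := exists_generatedBy_of_isGloballyGenerated L hL hgen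
  have ht' := generatedBy_cons L (sectionOfHom s) t ht
  have h0 : homOfSection L ((Fin.cons (sectionOfHom s) t : Fin (n + 1 + 1) → ProjUP.Γm L) 0) = s := by
    rw [Fin.cons_zero]; exact homOfSection_sectionOfHom s
  have := isAffineOpen_genLocus_of_no_curve k X L hL _ ht' 0 (by rw [h0]; exact hcurves)
  rwa [h0] at this

end Groth.Agent.H5.IntN
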