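import Mathlib
import Groth.Agent.Lib.Helper5.IntN.Gro5
import Groth.Agent.Lib.Helper5.IntN.Klei6
import Groth.Agent.Lib.Helper5.IntN.ARR
import Groth.Agent.Lib.Lead.PN.AmpleSerreRel

/-!
# Nef and big: `L` nef is big iff `(L^n) > 0` (helper5; S17588)

* `hhat_eq_zero_of_isAmple`: `ĥ^i(A) = 0` for `A` ample, `i ≥ 1` (Serre vanishing);
* `hhat_eq_zero_of_nef`: `ĥ^i(L) = 0` for `L` nef, `i ≥ 1` (continuity + homogeneity of `ĥ^i`,
  nef + ample is ample);
* `tendsto_eulerCharLE_tensorPow`: `χ(L^m)/m^d → (L^d)/d!`;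
* `tendsto_h0_tensorPow_of_nef`: `h^0(L^m)/m^n → (L^n)/n!` for nef `L`;
* `nef_big_iff`.
-/

set_option autoImplicit false
universe u
open CategoryTheory CategoryTheory.Limits AlgebraicGeometry TopologicalSpace Opposite Filter

namespace Groth.Agent.H5.IntN

open Groth.Agent.LD Groth.Agent.LD.QC Groth.Agent.H5.Curve4 Groth.Agent.H5.DegC Groth.Agent.H5.Snap

variable (k : Type u) [Field k] {X : Scheme.{u}} [X.Over (Spec (CommRingCat.of k))]
  [IsProper (X ↘ Spec (CommRingCat.of k))]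

/-- `ĥ^i` of an ample module vanishes for `i ≥ 1`. -/
theorem hhat_eq_zero_of_isAmple (n : ℕ) (A : X.Modules) (hA : CohB1.IsAmple A) (i : ℕ)
    (hi : 0 < i) : W4c5asymptcohfn.hhat k X n i A = 0 := by
  have hOc : Coh.IsCoh (unitMod X) := isCoh_of_isInvertible (isInvertible_unit X)
  obtain ⟨n₀, hn₀⟩ := Groth.Agent.LD.PN.AmS.serre_vanishing_of_isAmple k
    (X ↘ Spec (CommRingCat.of k)) A hA.1 hA (unitMod X) hOc
  unfold W4c5asymptcohfn.hhat
  have hev : (fun m : ℕ => (Module.finrank k (Coh.HH X (CohB1.tensorPow A m) i) : ℝ) *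
      (n.factorial : ℝ) / (m : ℝ) ^ n) =ᶠ[atTop] fun _ => (0 : ℝ) := by
    rw [EventuallyEq, eventually_atTop]
    refine ⟨n₀, fun m hm => ?_⟩
    haveI : Subsingleton (Coh.HH X (CohB1.tensorPow A m) i) :=
      Groth.Agent.LD.PN.subsingleton_HH_of_iso (unitorL' (CohB1.tensorPow A m)) i
        (hn₀ m hm i hi)
    rw [Module.finrank_zero_of_subsingleton]
    simp
  rw [Filter.limsup_congr hev]
  exact Filter.limsup_const 0

/-- `ĥ^i` of a nef module vanishes for `i ≥ 1`. -/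
theorem hhat_eq_zero_of_nef [IsIntegral X] (H : X.Modules) (hH : CohB1.IsAmple H) (n : ℕ)
    (hn : topologicalKrullDim X = n) (L : X.Modules) (hL : PicF.IsInvertible L)
    (hnef : NefMod k X L) (i : ℕ) (hi : 0 < i) :
    W4c5asymptcohfn.hhat k X n i L = 0 := by
  have hLs : ∀ P ∈ [L, H], PicF.IsInvertible P := by
    intro P hP
    rcases List.mem_cons.mp hP with h | h
    · rw [h]; exact hL
    · rw [List.mem_singleton.mp h]; exact hH.1
  haveI := qc_of_isInvertible _ hL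
  haveI := qc_of_isInvertible _ hH.1
  obtain ⟨C, hC⟩ := abs_hhat_sub_le k n (le_of_eq hn) H hH [L, H] hLs i
  have hwL : ∀ p : ℕ, IsWord [L, H] p (CohB1.tensorPow L p) := fun p => by
    have h := IsWord.pow hLs (IsWord.single (List.mem_cons_self)) p
    rwa [Nat.mul_one] at h
  have hwH : IsWord [L, H] 1 H :=
    IsWord.single (List.mem_cons_of_mem _ (List.mem_singleton.mpr rfl))
  have hbound : ∀ p : ℕ, 1 ≤ p → |W4c5asymptcohfn.hhat k X n i L| ≤
      ((C * 2 ^ n * bnd n p : ℕ) : ℝ) * (n.factorial : ℝ) / (p : ℝ) ^ n := by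
    intro p hp
    have h1 := hC 1 H hwH p _ (hwL p)
    have hamp : CohB1.IsAmple (CohB1.tensorMod H (CohB1.tensorPow L p)) := by
      have h0 := isAmple_tensorPows_of_nef k H L hH hL hnef p 1 one_pos
      haveI := qc_of_isInvertible _ (isInvertible_tensorPow hL p)
      exact isAmple_of_iso (tensorIso' (Iso.refl _) (unitorL' H) ≪≫ tensorCommAll _ _) h0
    rw [hhat_eq_zero_of_isAmple k n _ hamp i hi, hhat_tensorPow k H hH n hn L hL p hp i,
      zero_sub, abs_neg, abs_mul, abs_of_nonneg (by positivity : (0 : ℝ) ≤ (p : ℝ) ^ n)] at h1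
    have hp0 : (0 : ℝ) < (p : ℝ) ^ n := by
      have : (0 : ℝ) < p := by exact_mod_cast hp
      positivity
    rw [le_div_iff₀ hp0, mul_comm]
    refine h1.trans ?_
    have h2 : C * (1 * bnd n (p + 1)) * n.factorial ≤ C * 2 ^ n * bnd n p * n.factorial := by
      have h3 := bnd_succ_le n p
      calc C * (1 * bnd n (p + 1)) * n.factorial = C * bnd n (p + 1) * n.factorial := by ring
        _ ≤ C * (2 ^ n * bnd n p) * n.factorial :=
            Nat.mul_le_mul_right _ (Nat.mul_le_mul_left _ h3)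
        _ = C * 2 ^ n * bnd n p * n.factorial := by ring
    exact_mod_cast h2
  have hlim := tendsto_bnd_div (C * 2 ^ n) n
  have h0 : |W4c5asymptcohfn.hhat k X n i L| ≤ 0 := by
    refine ge_of_tendsto hlim ?_
    rw [eventually_atTop]
    exact ⟨1, fun p hp => hbound p hp⟩
  exact abs_eq_zero.mp (le_antisymm h0 (abs_nonneg _))

/-- a nonnegative bounded real sequence with upper limit `0` tends to `0`. -/
lemma tendsto_zero_of_limsup_eq_zero {u : ℕ → ℝ} (hu : ∀ m, 0 ≤ u m) {B : ℝ}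
    (hB : ∀ᶠ m in atTop, u m ≤ B) (h0 : limsup u atTop = 0) : Tendsto u atTop (nhds 0) := by
  have hb : IsBoundedUnder (· ≤ ·) atTop u := isBoundedUnder_of_eventually_le hB
  have hb' : IsBoundedUnder (· ≥ ·) atTop u :=
    isBoundedUnder_of_eventually_ge (Filter.Eventually.of_forall hu)
  refine tendsto_of_le_liminf_of_limsup_le ?_ (le_of_eq h0) hb hb'
  exact le_liminf_of_le hb.isCoboundedUnder_ge (Filter.Eventually.of_forall hu)

/-- for a nef module the normalised higher cohomology of the powers tends to `0`. -/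
theorem tendsto_hi_tensorPow_of_nef [IsIntegral X] (H : X.Modules) (hH : CohB1.IsAmple H) (n : ℕ)
    (hn : topologicalKrullDim X = n) (L : X.Modules) (hL : PicF.IsInvertible L)
    (hnef : NefMod k X L) (i : ℕ) (hi : 0 < i) :
    Tendsto (fun m : ℕ => (Module.finrank k (Coh.HH X (CohB1.tensorPow L m) i) : ℝ) /
      (m : ℝ) ^ n) atTop (nhds 0) := by
  have h0 := hhat_eq_zero_of_nef k H hH n hn L hL hnef i hi
  unfold W4c5asymptcohfn.hhat at h0
  have hLs : ∀ P ∈ [L], PicF.IsInvertible P := by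
    intro P hP
    rw [List.mem_singleton] at hP
    rw [hP]; exact hL
  obtain ⟨C, hC⟩ := growth_of_words k n (le_of_eq hn) H hH [L] hLs i
  have ht := tendsto_zero_of_limsup_eq_zero
    (u := fun m : ℕ => (Module.finrank k (Coh.HH X (CohB1.tensorPow L m) i) : ℝ) *
      (n.factorial : ℝ) / (m : ℝ) ^ n) (fun m => by positivity)
    (B := (C : ℝ) * 2 ^ n * (n.factorial : ℝ)) ?_ h0
  · have h2 := ht.div_const (n.factorial : ℝ)
    rw [zero_div] at h2
    refine h2.congr (fun m => ?_)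
    have hf : (n.factorial : ℝ) ≠ 0 := Nat.cast_ne_zero.mpr (Nat.factorial_ne_zero n)
    field_simp
  · rw [eventually_atTop]
    refine ⟨1, fun m hm => ?_⟩
    have hm0 : (0 : ℝ) < (m : ℝ) ^ n := by
      have : (0 : ℝ) < m := by exact_mod_cast hm
      positivity
    rw [div_le_iff₀ hm0]
    have h1 := hC m _ (isWord_tensorPow_singleton hL m)
    have h2 : Module.finrank k (Coh.HH X (CohB1.tensorPow L m) i) ≤ C * 2 ^ n * m ^ n := by
      refine h1.trans ?_
      calc C * (1 + m) ^ n ≤ C * (2 * m) ^ n :=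
            Nat.mul_le_mul_left _ (Nat.pow_le_pow_left (by omega) n)
        _ = C * 2 ^ n * m ^ n := by rw [Nat.mul_pow]; ring
    have h3 : (Module.finrank k (Coh.HH X (CohB1.tensorPow L m) i) : ℝ) ≤
        (C : ℝ) * 2 ^ n * (m : ℝ) ^ n := by exact_mod_cast h2
    calc (Module.finrank k (Coh.HH X (CohB1.tensorPow L m) i) : ℝ) * (n.factorial : ℝ)
        ≤ ((C : ℝ) * 2 ^ n * (m : ℝ) ^ n) * (n.factorial : ℝ) :=
          mul_le_mul_of_nonneg_right h3 (by positivity)
      _ = (C : ℝ) * 2 ^ n * (n.factorial : ℝ) * (m : ℝ) ^ n := by ring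

/-- asymptotic Riemann–Roch for the Euler characteristic of the powers of an invertible module. -/
theorem tendsto_eulerCharLE_tensorPow (d : ℕ) (hd : topologicalKrullDim X ≤ d) (L L' : X.Modules)
    (hL : PicF.IsInvertible L)
    (hLL' : Nonempty (CohB1.tensorMod L L' ≅ Coh.structureModule X)) :
    Tendsto (fun m : ℕ => ((FGA.eulerCharLE k X (CohB1.tensorPow L m) d : ℤ) : ℝ) / (m : ℝ) ^ d)
      atTop (nhds (((FGA.intNum k X d (fun _ : Fin d => L') (Coh.structureModule X) : ℤ) : ℝ) /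
        (d.factorial : ℝ))) := by
  have hL'i : PicF.IsInvertible L' :=
    isInvertible_of_tensor_iso hL hLL'.some
  haveI : L.IsQuasicoherent := qc_of_isInvertible L hL
  haveI : L'.IsQuasicoherent := qc_of_isInvertible L' hL'i
  have hpowi : ∀ m, PicF.IsInvertible (CohB1.tensorPow L m) :=
    fun m => isInvertible_tensorPow hL m
  have hpowc : ∀ m, Coh.IsCoh (CohB1.tensorPow L m) := fun m => isCoh_of_isInvertible (hpowi m)
  obtain ⟨f, hf⟩ : ∃ f : ℕ → ℤ, f = fun m => FGA.eulerCharLE k X (CohB1.tensorPow L m) d :=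
    ⟨_, rfl⟩
  have hG : ∀ m, Nonempty (CohB1.tensorMod L' (CohB1.tensorPow L (m + 1)) ≅
      CohB1.tensorPow L m) := by
    intro m
    exact ⟨tensorCommAll L' (CohB1.tensorPow L (m + 1)) ≪≫
      tensorAssoc (CohB1.tensorPow L m) L L' ≪≫
      tensorIso' (Iso.refl _) hLL'.some ≪≫ SecTwist.unitorR _⟩
  have key := intNum_const_eq_fwdDiff k d L' hL'i (fun m => CohB1.tensorPow L m) hpowc hG
  rw [← hf] at key
  have hg : ∀ j, (fwdDiff (1 : ℕ))^[j] f 0 =
      FGA.intNum k X d (fun _ : Fin j => L') (CohB1.tensorPow L (0 + j)) :=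
    fun j => (key j 0).symm
  have hvan : ∀ j, d < j → (fwdDiff (1 : ℕ))^[j] f 0 = 0 := by
    intro j hj
    rw [hg j]
    apply intNum_eq_zero k d hd _ (fun _ => hL'i) _ (hpowc _)
    refine lt_of_le_of_lt
      ((Topology.IsEmbedding.subtypeVal.isInducing.topologicalKrullDim_le).trans hd) ?_
    exact_mod_cast hj
  have htop : (fwdDiff (1 : ℕ))^[d] f 0 =
      FGA.intNum k X d (fun _ : Fin d => L') (Coh.structureModule X) := by
    rw [hg d, intNum_invertible_eq k d hd le_rfl _ (fun _ => hL'i) _ (hpowi _)]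
  have hfm : ∀ m, ((FGA.eulerCharLE k X (CohB1.tensorPow L m) d : ℤ) : ℝ) = ((f m : ℤ) : ℝ) := by
    intro m; rw [hf]
  simp only [hfm]
  rw [← htop]
  rcases d with _ | d'
  · -- dimension zero: the function is constant
    have hconst : ∀ m, f m = f 0 := by
      intro m
      have h := eq_sum_choose_mul f 0 hvan m
      have hq : ((f m : ℤ) : ℚ) = ((f 0 : ℤ) : ℚ) := by
        rw [h]; simp
      exact_mod_cast hq
    refine tendsto_const_nhds.congr (fun m => ?_)
    rw [hconst m]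
    simp
  · obtain ⟨C₁, hC₁0, hC₁⟩ := exists_bound_of_fwdDiff_eq_zero f (d' + 1) hvan
    obtain ⟨I, hI⟩ : ∃ I : ℤ, I = (fwdDiff (1 : ℕ))^[d' + 1] f 0 := ⟨_, rfl⟩
    rw [← hI] at hC₁ ⊢
    have hc := tendsto_const_div_atTop_nhds_zero_nat (((C₁ : ℚ) : ℝ) * 2 ^ d')
    rw [tendsto_iff_dist_tendsto_zero]
    refine squeeze_zero' (Filter.Eventually.of_forall (fun m => dist_nonneg)) ?_ hc
    rw [eventually_atTop]
    refine ⟨1, fun m hm => ?_⟩
    have hm0 : (0 : ℝ) < m := by exact_mod_cast hm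
    have hmp : (0 : ℝ) < (m : ℝ) ^ (d' + 1) := by positivity
    have hb := hC₁ m
    have hbR : |((f m : ℤ) : ℝ) - ((I : ℤ) : ℝ) / ((d' + 1).factorial : ℝ) * (m : ℝ) ^ (d' + 1)| ≤
        ((C₁ : ℚ) : ℝ) * ((m : ℝ) + 1) ^ (d' + 1 - 1) := by
      have := hb
      exact_mod_cast (Rat.cast_le (K := ℝ)).mpr this
    rw [Real.dist_eq]
    have e1 : ((f m : ℤ) : ℝ) / (m : ℝ) ^ (d' + 1) - ((I : ℤ) : ℝ) / ((d' + 1).factorial : ℝ) =
        (((f m : ℤ) : ℝ) - ((I : ℤ) : ℝ) / ((d' + 1).factorial : ℝ) * (m : ℝ) ^ (d' + 1)) /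
          (m : ℝ) ^ (d' + 1) := by
      field_simp
    rw [e1, abs_div, abs_of_pos hmp, div_le_div_iff₀ hmp hm0]
    have hC₁R : (0 : ℝ) ≤ ((C₁ : ℚ) : ℝ) := by exact_mod_cast hC₁0
    have h2 : ((m : ℝ) + 1) ^ (d' + 1 - 1) ≤ 2 ^ d' * (m : ℝ) ^ d' := by
      rw [Nat.add_sub_cancel, ← mul_pow]
      apply pow_le_pow_left₀ (by positivity)
      have : (1 : ℝ) ≤ m := by exact_mod_cast hm
      linarith
    calc |((f m : ℤ) : ℝ) - ((I : ℤ) : ℝ) / ((d' + 1).factorial : ℝ) * (m : ℝ) ^ (d' + 1)| * (m : ℝ)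
        ≤ (((C₁ : ℚ) : ℝ) * (2 ^ d' * (m : ℝ) ^ d')) * (m : ℝ) :=
          mul_le_mul_of_nonneg_right (hbR.trans (mul_le_mul_of_nonneg_left h2 hC₁R)) hm0.le
      _ = ((C₁ : ℚ) : ℝ) * 2 ^ d' * (m : ℝ) ^ (d' + 1) := by ring

/-- `h^0(L^m)/m^n → (L^n)/n!` for a nef invertible module `L`. -/
theorem tendsto_h0_tensorPow_of_nef [IsIntegral X] (H : X.Modules) (hH : CohB1.IsAmple H) (n : ℕ)
    (hn : topologicalKrullDim X = n) (L L' : X.Modules) (hL : PicF.IsInvertible L)
    (hLL' : Nonempty (CohB1.tensorMod L L' ≅ Coh.structureModule X)) (hnef : NefMod k X L) :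
    Tendsto (fun m : ℕ => (Module.finrank k (Coh.HH X (CohB1.tensorPow L m) 0) : ℝ) / (m : ℝ) ^ n)
      atTop (nhds (((FGA.intNum k X n (fun _ : Fin n => L') (Coh.structureModule X) : ℤ) : ℝ) /
        (n.factorial : ℝ))) := by
  have hχ := tendsto_eulerCharLE_tensorPow k n (le_of_eq hn) L L' hL hLL'
  have hdiff : Tendsto (fun m : ℕ =>
      ((Module.finrank k (Coh.HH X (CohB1.tensorPow L m) 0) : ℝ) -
        ((FGA.eulerCharLE k X (CohB1.tensorPow L m) n : ℤ) : ℝ)) / (m : ℝ) ^ n)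
      atTop (nhds 0) := by
    have hS : Tendsto (fun m : ℕ => ∑ i ∈ Finset.range n,
        (Module.finrank k (Coh.HH X (CohB1.tensorPow L m) (i + 1)) : ℝ) / (m : ℝ) ^ n)
        atTop (nhds 0) := by
      have h := tendsto_finset_sum (Finset.range n) (fun i _ =>
        tendsto_hi_tensorPow_of_nef k H hH n hn L hL hnef (i + 1) (Nat.succ_pos i))
      simpa using h
    refine squeeze_zero_norm (fun m => ?_) hS
    rw [Real.norm_eq_abs, abs_div, abs_of_nonneg (by positivity : (0 : ℝ) ≤ (m : ℝ) ^ n),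
      ← Finset.sum_div]
    refine div_le_div_of_nonneg_right ?_ (by positivity)
    unfold FGA.eulerCharLE
    rw [Finset.sum_range_succ']
    push_cast
    simp only [pow_zero, one_mul]
    rw [sub_add_cancel_right, abs_neg]
    refine (Finset.abs_sum_le_sum_abs _ _).trans (Finset.sum_le_sum fun i _ => ?_)
    rw [abs_mul, abs_pow, abs_neg, abs_one, one_pow, one_mul, abs_of_nonneg (Nat.cast_nonneg _)]
  have h := hdiff.add hχ
  rw [zero_add] at h
  refine h.congr (fun m => ?_)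
  ring

/-- **S17588**: a nef invertible module on an integral projective scheme of dimension `n` is big
iff `(L^n) > 0`. -/
theorem nef_big_iff [IsIntegral X] (H : X.Modules) (hH : CohB1.IsAmple H) (n : ℕ)
    (hn : topologicalKrullDim X = n) (L Linv : X.Modules) (hL : PicF.IsInvertible L)
    (hLinv : ClSub.IsInverseOf Linv L) (hnef : NefMod k X L) :
    (∃ C : ℝ, 0 < C ∧ ∃ m₁ : ℕ, ∀ m : ℕ, m₁ ≤ m →
        C * (m : ℝ) ^ n ≤ (Module.finrank k (Coh.HH X (CohB1.tensorPow L m) 0) : ℝ)) ↔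
      0 < FGA.intNum k X n (fun _ : Fin n => Linv) (Coh.structureModule X) := by
  obtain ⟨ε⟩ := hLinv
  have ht := tendsto_h0_tensorPow_of_nef k H hH n hn L Linv hL ⟨tensorCommAll L Linv ≪≫ ε⟩ hnef
  have hfac : (0 : ℝ) < (n.factorial : ℝ) := by positivity
  constructor
  · rintro ⟨C, hC, m₁, hm⟩
    have hge : C ≤ ((FGA.intNum k X n (fun _ : Fin n => Linv) (Coh.structureModule X) : ℤ) : ℝ) /
        (n.factorial : ℝ) := by
      refine ge_of_tendsto ht ?_
      rw [eventually_atTop]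
      refine ⟨max m₁ 1, fun m hm' => ?_⟩
      have hm0 : (0 : ℝ) < (m : ℝ) ^ n := by
        have : (0 : ℝ) < m := by exact_mod_cast (le_of_max_le_right hm')
        positivity
      rw [le_div_iff₀ hm0]
      exact hm m (le_of_max_le_left hm')
    have h1 := lt_of_lt_of_le hC hge
    have h2 := (div_pos_iff_of_pos_right hfac).mp h1
    exact_mod_cast h2
  · intro hI
    have hIR : (0 : ℝ) <
        ((FGA.intNum k X n (fun _ : Fin n => Linv) (Coh.structureModule X) : ℤ) : ℝ) /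
          (n.factorial : ℝ) := div_pos (by exact_mod_cast hI) hfac
    refine ⟨_, half_pos hIR, ?_⟩
    have hev := ht.eventually (lt_mem_nhds (half_lt_self hIR))
    rw [eventually_atTop] at hev
    obtain ⟨m₀, hm₀⟩ := hev
    refine ⟨max m₀ 1, fun m hm => ?_⟩
    have hm0 : (0 : ℝ) < (m : ℝ) ^ n := by
      have : (0 : ℝ) < m := by exact_mod_cast (le_of_max_le_right hm)
      positivity
    have h1 := hm₀ m (le_of_max_le_left hm)
    rw [lt_div_iff₀ hm0] at h1
    exact h1.le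

end Groth.Agent.H5.IntN
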