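import Mathlib
import Groth.Agent.Lib.Helper5.IntN.Num8
import Groth.Agent.Lib.Helper5.Curve4.VB2
import Groth.Agent.Lib.Helper5.Lim.ModuleLocFreeRank
import Groth.Agent.Lib.Lead.Curve.InvMono

set_option autoImplicit false
universe u
open CategoryTheory CategoryTheory.Limits AlgebraicGeometry TopologicalSpace Opposite

namespace Groth.Agent.H5.IntN

open Groth.Agent.LD Groth.Agent.LD.QC Groth.Agent.H5.Curve4 Groth.Agent.H5.DegC Groth.Agent.H5.Snap
open Groth.Agent.H5.Deg Groth.Agent.H5.HP Groth.Agent.LD.Curve Groth.Agent.H5.Lim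

variable (k : Type u) [Field k]

/-- **S17280**: an extension of curve-test nef modules is curve-test nef. -/
theorem curveTest_of_shortExact (X : Scheme.{u}) [X.Over (Spec (CommRingCat.of k))]
    (S : ShortComplex X.Modules) (hS : S.ShortExact) (h₁ : FlatMod.IsFinLocFree S.X₁)
    (hnef₁ : ∀ (C : Scheme.{u}) [C.Over (Spec (CommRingCat.of k))]
      [IsProper (C ↘ (Spec (CommRingCat.of k)))] [IsIntegral C],
      topologicalKrullDim C = 1 → (∀ x : C, IsRegularLocalRing (C.presheaf.stalk x)) →
      ∀ (f : C ⟶ X), f ≫ (X ↘ (Spec (CommRingCat.of k))) = C ↘ (Spec (CommRingCat.of k)) →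
      ∀ (M : C.Modules), PicF.IsInvertible M →
      ∀ (q : (Scheme.Modules.pullback f).obj S.X₁ ⟶ M), Epi q → 0 ≤ Curv2.deg k C M 1)
    (hnef₃ : ∀ (C : Scheme.{u}) [C.Over (Spec (CommRingCat.of k))]
      [IsProper (C ↘ (Spec (CommRingCat.of k)))] [IsIntegral C],
      topologicalKrullDim C = 1 → (∀ x : C, IsRegularLocalRing (C.presheaf.stalk x)) →
      ∀ (f : C ⟶ X), f ≫ (X ↘ (Spec (CommRingCat.of k))) = C ↘ (Spec (CommRingCat.of k)) →
      ∀ (M : C.Modules), PicF.IsInvertible M →
      ∀ (q : (Scheme.Modules.pullback f).obj S.X₃ ⟶ M), Epi q → 0 ≤ Curv2.deg k C M 1)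
    (C : Scheme.{u}) [C.Over (Spec (CommRingCat.of k))] [IsProper (C ↘ (Spec (CommRingCat.of k)))]
    [IsIntegral C] (hC : topologicalKrullDim C = 1)
    (hreg : ∀ x : C, IsRegularLocalRing (C.presheaf.stalk x))
    (f : C ⟶ X) (hf : f ≫ (X ↘ (Spec (CommRingCat.of k))) = C ↘ (Spec (CommRingCat.of k)))
    (M : C.Modules) (hM : PicF.IsInvertible M)
    (q : (Scheme.Modules.pullback f).obj S.X₂ ⟶ M) (hq : Epi q) : 0 ≤ Curv2.deg k C M 1 := by
  haveI := Curve.isLocallyNoetherian k C
  haveI : (Scheme.Modules.pullback f).PreservesEpimorphisms :=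
    Functor.preservesEpimorphisms_of_adjunction (Scheme.Modules.pullbackPushforwardAdjunction f)
  haveI : PreservesColimitsOfSize.{0, 0} (Scheme.Modules.pullback f) :=
    (Scheme.Modules.pullbackPushforwardAdjunction f).leftAdjoint_preservesColimits
  haveI := hS.epi_g
  have hex : (S.map (Scheme.Modules.pullback f)).Exact :=
    hS.exact.map_of_epi_of_preservesCokernel (Scheme.Modules.pullback f) hS.epi_g inferInstance
  haveI : Epi (S.map (Scheme.Modules.pullback f)).g :=
    (Scheme.Modules.pullback f).map_epi S.g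
  by_cases hc : (Scheme.Modules.pullback f).map S.f ≫ q = 0
  · have hcok := hex.gIsCokernel
    let qb : (Scheme.Modules.pullback f).obj S.X₃ ⟶ M :=
      hcok.desc (CokernelCofork.ofπ q hc)
    have hqb : (Scheme.Modules.pullback f).map S.g ≫ qb = q :=
      hcok.fac (CokernelCofork.ofπ q hc) WalkingParallelPair.one
    haveI : Epi qb := epi_of_epi_fac hqb
    exact hnef₃ C hC hreg f hf M hM qb inferInstance
  · have hE₁ : Coh.IsCoh ((Scheme.Modules.pullback f).obj S.X₁) :=
      isCoh_of_isFinLocFree (isFinLocFree_pullback f S.X₁ h₁)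
    have hMc := isCoh_of_isInvertible hM
    have hKc : Coh.IsCoh (kernel ((Scheme.Modules.pullback f).map S.f ≫ q)) :=
      isCoh_kernel _ hE₁ hMc
    have hNc : Coh.IsCoh (Abelian.coimage ((Scheme.Modules.pullback f).map S.f ≫ q)) :=
      isCoh_cokernel (kernel.ι ((Scheme.Modules.pullback f).map S.f ≫ q)) hKc hE₁
    have hM1 := (isInvertible_iff M).mp hM
    have hMf : FlatMod.IsFinLocFree M := isFinLocFree_of_isFinLocFreeOfRank hM1
    have hNf := isFinLocFree_of_mono_of_regular hreg hC.le
      (Abelian.factorThruCoimage ((Scheme.Modules.pullback f).map S.f ≫ q)) hNc hMf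
    obtain ⟨r, hr⟩ := exists_rank hNf
    have hr1 : r = 1 := by
      have h0 : r ≠ 0 := by
        rintro rfl
        have hz := isZero_of_rank_zero hr
        apply hc
        rw [← Abelian.coimage.fac ((Scheme.Modules.pullback f).map S.f ≫ q),
          hz.eq_of_tgt (Abelian.coimage.π _) 0, zero_comp]
      have hle : r ≤ 1 := by
        obtain ⟨fN, finN, rkN⟩ := Groth.Agent.H4.LFP1.stalk_of_isFinLocFreeOfRank r _ hr
          (genericPoint C)
        obtain ⟨fM, finM, rkM⟩ := Groth.Agent.H4.LFP1.stalk_of_isFinLocFreeOfRank 1 M hM1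
          (genericPoint C)
        let Φ := DerSch.stalkFunctor C (genericPoint C)
        haveI : Mono (Φ.map (Abelian.factorThruCoimage ((Scheme.Modules.pullback f).map S.f ≫ q))) :=
          Φ.map_mono _
        have hinj : Function.Injective
            (Φ.map (Abelian.factorThruCoimage ((Scheme.Modules.pullback f).map S.f ≫ q))).hom :=
          (ModuleCat.mono_iff_injective _).mp inferInstance
        haveI : Module.Finite ↑(C.presheaf.stalk (genericPoint ↥C)) ↑(Φ.obj M) := finM
        have := LinearMap.finrank_le_finrank_of_injective hinj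
        rw [← rkN, ← rkM]
        exact this
      omega
    subst hr1
    have hNi : PicF.IsInvertible (Abelian.coimage ((Scheme.Modules.pullback f).map S.f ≫ q)) :=
      (isInvertible_iff _).mpr hr
    have h1 := hnef₁ C hC hreg f hf _ hNi
      (Abelian.coimage.π ((Scheme.Modules.pullback f).map S.f ≫ q)) inferInstance
    have hi0 : Abelian.factorThruCoimage ((Scheme.Modules.pullback f).map S.f ≫ q) ≠ 0 := by
      intro h
      apply hc
      rw [← Abelian.coimage.fac ((Scheme.Modules.pullback f).map S.f ≫ q), h, comp_zero]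
    have h2 := (deg_le_of_ne_zero k C hC.le hNi hM _ hi0).1
    linarith

end Groth.Agent.H5.IntN
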