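import Mathlib
import Groth.Agent.Lib.Helper5.IntN.Gro2
import Groth.Agent.Lib.Lead.QC.AmpleGG
import Groth.Agent.Lib.Lead.QC.AmpleIso

/-!
# Relative growth of cohomology, part 1 (helper5; towards S17624)

Abstract versions of the section step and of the integral step of `word_growth`, a topological
dimension-drop lemma, and pulled back sections not vanishing at a given point.
-/

set_option autoImplicit false
universe u
open CategoryTheory CategoryTheory.Limits AlgebraicGeometry TopologicalSpace Opposite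

namespace Groth.Agent.H5.IntN

open Groth.Agent.LD Groth.Agent.LD.QC Groth.Agent.H5.Curve4 Groth.Agent.H5.DegC Groth.Agent.H5.Snap
open Groth.Agent.H5.Deg Groth.Agent.H5.HP

section topo

/-- dimension drop for subsets of the closure of a point avoiding an open neighbourhood of the
point. -/
lemma dim_lt_of_subset_closure_singleton {T : Type*} [TopologicalSpace T] (w : T) (A Zc : Set T)
    (hZc : IsClosed Zc) (hw : w ∉ Zc) (hA : A ⊆ closure {w} ∩ Zc) (d : ℕ)
    (hd : topologicalKrullDim ↥(closure ({w} : Set T)) ≤ d) : topologicalKrullDim ↥A < d := by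
  haveI : IrreducibleSpace ↥(closure ({w} : Set T)) :=
    Subtype.irreducibleSpace isIrreducible_singleton.closure
  let Z : Set ↥(closure ({w} : Set T)) := {t | (t : T) ∈ Zc}
  have hZ : IsClosed Z := hZc.preimage continuous_subtype_val
  have hne : Z ≠ Set.univ := by
    intro h
    have : (⟨w, subset_closure rfl⟩ : ↥(closure ({w} : Set T))) ∈ Z := by rw [h]; trivial
    exact hw this
  have h1 := dim_lt_of_isClosed_ne_univ Z hZ hne d hd
  refine lt_of_le_of_lt ?_ h1
  let φ : ↥A → ↥Z := fun a => ⟨⟨a.1, (hA a.2).1⟩, (hA a.2).2⟩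
  have hφ : Topology.IsInducing φ := by
    apply Topology.IsInducing.of_comp (f := φ)
      (g := fun z : ↥Z => ((z : ↥(closure ({w} : Set T))) : T))
    · exact Continuous.subtype_mk (Continuous.subtype_mk continuous_subtype_val _) _
    · exact continuous_subtype_val.comp continuous_subtype_val
    · exact Topology.IsInducing.subtypeVal
  exact hφ.topologicalKrullDim_le

lemma exists_uniform_ge {α : Type*} (p : α → ℕ → Prop) :
    ∀ l : List α, (∀ a ∈ l, ∃ n₀ : ℕ, ∀ n, n₀ ≤ n → p a n) →
      ∃ n₀ : ℕ, ∀ n, n₀ ≤ n → ∀ a ∈ l, p a n := by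
  intro l
  induction l with
  | nil => intro _; exact ⟨0, fun n _ a ha => by simp at ha⟩
  | cons a l ih =>
    intro h
    obtain ⟨n₁, h₁⟩ := ih (fun b hb => h b (List.mem_cons_of_mem _ hb))
    obtain ⟨n₂, h₂⟩ := h a (by simp)
    refine ⟨max n₁ n₂, fun n hn b hb => ?_⟩
    rcases List.mem_cons.mp hb with hba | hb'
    · rw [hba]; exact h₂ n (le_trans (le_max_right _ _) hn)
    · exact h₁ n (le_trans (le_max_left _ _) hn) b hb'

end topo

section sections

variable {X : Scheme.{u}}

/-- composing a section with an isomorphism does not change its generating locus. -/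
theorem genLocus_comp_iso' {L M : X.Modules} (s : unitMod X ⟶ L) (φ : L ≅ M) :
    CohB1.genLocus M (s ≫ φ.hom) = CohB1.genLocus L s := by
  unfold CohB1.genLocus
  congr 1
  ext U
  simp only [Set.mem_setOf_eq, Functor.map_comp]
  constructor
  · intro h
    exact IsIso.of_isIso_comp_right _ ((Scheme.Modules.restrictFunctor U.ι).map φ.hom)
  · intro h
    infer_instance

/-- twists of an invertible module by large powers of an ample module have sections not vanishing
at any given point. -/
lemma exists_section_mem_genLocus_twist [QuasiSeparatedSpace X] (H : X.Modules)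
    (hH : CohB1.IsAmple H) (L : X.Modules) (hL : PicF.IsInvertible L) :
    ∃ n₀ : ℕ, ∀ n, n₀ ≤ n → ∀ x : X,
      ∃ t : unitMod X ⟶ CohB1.tensorMod L (CohB1.tensorPow H n), x ∈ CohB1.genLocus _ t := by
  haveI := qc_of_isInvertible L hL
  obtain ⟨n₀, hn₀⟩ := exists_epi_free_of_isAmple H hH L (isCoh_of_isInvertible hL).2
  refine ⟨n₀, fun n hn x => ?_⟩
  obtain ⟨K, p, hp⟩ := hn₀ n hn
  obtain ⟨j, hj⟩ := exists_mem_genLocus_of_epi _
    (isInvertible_tensorMod hL (isInvertible_tensorPow hH.1 n)) p hp x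
  exact ⟨_, hj⟩

variable {C : Scheme.{u}} (g : C ⟶ X)

/-- pulled back sections of twists not vanishing over a given point. -/
lemma exists_pullback_section [QuasiSeparatedSpace X] (H : X.Modules) (hH : CohB1.IsAmple H)
    (w : X) (L' : C.Modules)
    (hL' : ∃ L : X.Modules, PicF.IsInvertible L ∧
      Nonempty (L' ≅ (Scheme.Modules.pullback g).obj L)) :
    ∃ n₀ : ℕ, ∀ n, n₀ ≤ n →
      ∃ (t' : unitMod C ⟶ CohB1.tensorMod L'
          ((Scheme.Modules.pullback g).obj (CohB1.tensorPow H n))) (U : X.Opens),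
        w ∈ U ∧ CohB1.genLocus _ t' = g ⁻¹ᵁ U := by
  obtain ⟨L, hL, ⟨φ⟩⟩ := hL'
  obtain ⟨n₀, hn₀⟩ := exists_section_mem_genLocus_twist H hH L hL
  refine ⟨n₀, fun n hn => ?_⟩
  obtain ⟨t, ht⟩ := hn₀ n hn w
  have hHn := isInvertible_tensorPow hH.1 n
  refine ⟨pbHom g t ≫ (pbTensorIso g L (CohB1.tensorPow H n) hL hHn ≪≫
    tensorIso' φ.symm (Iso.refl _)).hom, CohB1.genLocus _ t, ht, ?_⟩
  rw [genLocus_comp_iso', genLocus_pbHom g (isInvertible_tensorMod hL hHn)]

/-- pulled back sections of powers of an ample module not vanishing over a given point. -/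
lemma exists_pullback_section_pow [QuasiSeparatedSpace X] (H : X.Modules) (hH : CohB1.IsAmple H)
    (w : X) :
    ∃ n₀ : ℕ, ∀ n, n₀ ≤ n →
      ∃ (t' : unitMod C ⟶ (Scheme.Modules.pullback g).obj (CohB1.tensorPow H n)) (U : X.Opens),
        w ∈ U ∧ CohB1.genLocus _ t' = g ⁻¹ᵁ U := by
  obtain ⟨n₀, hn₀⟩ := exists_section_mem_genLocus_twist H hH (unitMod X) (isInvertible_unit X)
  refine ⟨n₀, fun n hn => ?_⟩
  obtain ⟨t, ht⟩ := hn₀ n hn w
  have hHn := isInvertible_tensorPow hH.1 n
  haveI := qc_of_isInvertible _ hHn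
  refine ⟨pbHom g (t ≫ (unitorL' (CohB1.tensorPow H n)).hom), CohB1.genLocus _ t, ht, ?_⟩
  rw [genLocus_pbHom g hHn, genLocus_comp_iso']

end sections

variable (k : Type u) [Field k] {X : Scheme.{u}} [X.Over (Spec (CommRingCat.of k))]
  [IsProper (X ↘ Spec (CommRingCat.of k))]

/-- the basic step (abstract form): comparison of the cohomology of `(O ⊗ N) ⊗ (T ⊗ P)` and
`O ⊗ (T ⊗ P)` for a nonzero section of `N`, up to the cohomology of the twisted cokernel. -/
theorem section_step' [IsIntegral X] (b : ℕ → ℕ)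
    (Ls : List X.Modules) (hLs : ∀ L ∈ Ls, PicF.IsInvertible L) (i : ℕ)
    (N T : X.Modules) (hN : PicF.IsInvertible N) (hT : PicF.IsInvertible T)
    (σ : unitMod X ⟶ N) (hσ : σ ≠ 0)
    (IH : ∀ j : ℕ, ∃ C : ℕ, ∀ (s : ℕ) (P : X.Modules), IsWord Ls s P →
        Module.finrank k (Coh.HH X (CohB1.tensorMod
          (CohB1.tensorMod (cokernel (twistBy (unitMod X) σ)) T) P) j) ≤ C * b s) :
    ∃ C : ℕ, ∀ (s : ℕ) (P : X.Modules), IsWord Ls s P →
      Module.finrank k (Coh.HH X (CohB1.tensorMod (CohB1.tensorMod (unitMod X) N)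
          (CohB1.tensorMod T P)) i) ≤
        Module.finrank k (Coh.HH X (CohB1.tensorMod (unitMod X) (CohB1.tensorMod T P)) i) +
          C * b s ∧
      Module.finrank k (Coh.HH X (CohB1.tensorMod (unitMod X) (CohB1.tensorMod T P)) i) ≤
        Module.finrank k (Coh.HH X (CohB1.tensorMod (CohB1.tensorMod (unitMod X) N)
          (CohB1.tensorMod T P)) i) + C * b s := by
  haveI : IsNoetherian X := Curve2.isNoetherian_of_proper k X
  obtain ⟨hmono, hQc, hQne⟩ := twistBy_data hN σ hσ
  haveI := hmono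
  have hO : PicF.IsInvertible (unitMod X) := isInvertible_unit X
  have hOc : Coh.IsCoh (unitMod X) := isCoh_of_isInvertible hO
  have hON : PicF.IsInvertible (CohB1.tensorMod (unitMod X) N) := isInvertible_tensorMod hO hN
  have hONc := isCoh_of_isInvertible hON
  have hTc := isCoh_of_isInvertible hT
  have hS := shortExact_coker (twistBy (unitMod X) σ)
  haveI := hQc.1
  haveI := qc_of_isInvertible _ hT
  have hkey : ∀ (P : X.Modules), PicF.IsInvertible P → ∀ j : ℕ,
      Module.finrank k (Coh.HH X (CohB1.tensorMod (cokernel (twistBy (unitMod X) σ))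
        (CohB1.tensorMod T P)) j) =
      Module.finrank k (Coh.HH X (CohB1.tensorMod
        (CohB1.tensorMod (cokernel (twistBy (unitMod X) σ)) T) P) j) := by
    intro P hPi j
    haveI := qc_of_isInvertible _ hPi
    exact Groth.Agent.LD.FBC.finrank_HH_congr k
      (tensorAssoc (cokernel (twistBy (unitMod X) σ)) T P).symm j
  obtain ⟨C₁, hC₁⟩ := IH i
  rcases i with _ | i
  · refine ⟨C₁, fun s P hP => ?_⟩
    have hPi := IsWord.isInvertible hLs hP
    have hRi : PicF.IsInvertible (CohB1.tensorMod T P) := isInvertible_tensorMod hT hPi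
    have hmid := tensor_mid_le k hS hOc hONc hQc _ hRi 0
    have hleft := tensor_left_zero_le k hS hONc _ hRi
    have hQ := hC₁ s P hP
    rw [← hkey P hPi 0] at hQ
    constructor
    · omega
    · omega
  · obtain ⟨C₂, hC₂⟩ := IH i
    refine ⟨C₁ + C₂, fun s P hP => ?_⟩
    have hPi := IsWord.isInvertible hLs hP
    have hRi : PicF.IsInvertible (CohB1.tensorMod T P) := isInvertible_tensorMod hT hPi
    have hmid := tensor_mid_le k hS hOc hONc hQc _ hRi (i + 1)
    have hleft := tensor_left_succ_le k hS hOc hONc hQc _ hRi i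
    have hQ1 := hC₁ s P hP
    rw [← hkey P hPi (i + 1)] at hQ1
    have hQ2 := hC₂ s P hP
    rw [← hkey P hPi i] at hQ2
    rw [Nat.add_mul C₁ C₂]
    constructor
    · omega
    · omega

/-- the growth bound for the structure sheaf of an integral scheme (abstract form), given
sections of `B` and of the `L ⊗ B` and the bounds for their twisted cokernels. -/
theorem word_growth_integral' [IsIntegral X] (e : ℕ)
    (Ls : List X.Modules) (hLs : ∀ L ∈ Ls, PicF.IsInvertible L) (i : ℕ)
    (B T : X.Modules) (hBi : PicF.IsInvertible B) (hTi : PicF.IsInvertible T)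
    (ε : CohB1.tensorMod B T ≅ unitMod X)
    (hsB : ∃ t : unitMod X ⟶ B, t ≠ 0 ∧
      ∀ j : ℕ, ∃ C : ℕ, ∀ (s : ℕ) (P : X.Modules), IsWord Ls s P →
        Module.finrank k (Coh.HH X (CohB1.tensorMod
          (CohB1.tensorMod (cokernel (twistBy (unitMod X) t)) T) P) j) ≤ C * bnd e s)
    (hsL : ∀ L ∈ Ls, ∃ t : unitMod X ⟶ CohB1.tensorMod L B, t ≠ 0 ∧
      ∀ j : ℕ, ∃ C : ℕ, ∀ (s : ℕ) (P : X.Modules), IsWord Ls s P →
        Module.finrank k (Coh.HH X (CohB1.tensorMod
          (CohB1.tensorMod (cokernel (twistBy (unitMod X) t)) T) P) j) ≤ C * bnd e s) :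
    ∃ C : ℕ, ∀ (s : ℕ) (P : X.Modules), IsWord Ls s P →
      Module.finrank k (Coh.HH X (CohB1.tensorMod (unitMod X) P) i) ≤ C * bnd (e + 1) s := by
  classical
  haveI : IsNoetherian X := Curve2.isNoetherian_of_proper k X
  have hO : PicF.IsInvertible (unitMod X) := isInvertible_unit X
  haveI := qc_of_isInvertible _ hO
  obtain ⟨sB, hsB0, hsBIH⟩ := hsB
  haveI := qc_of_isInvertible _ hBi
  haveI := qc_of_isInvertible _ hTi
  obtain ⟨CB, hCB⟩ := section_step' k (bnd e) Ls hLs i B T hBi hTi sB hsB0 hsBIH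
  obtain ⟨CL, hCL⟩ : ∃ C : ℕ, ∀ L ∈ Ls, ∀ (s : ℕ) (P : X.Modules), IsWord Ls s P →
      Module.finrank k (Coh.HH X (CohB1.tensorMod
        (CohB1.tensorMod (unitMod X) (CohB1.tensorMod L B)) (CohB1.tensorMod T P)) i) ≤
      Module.finrank k (Coh.HH X (CohB1.tensorMod (unitMod X) (CohB1.tensorMod T P)) i) +
        C * bnd e s := by
    refine exists_uniform (fun (L : X.Modules) (C : ℕ) => ∀ (s : ℕ) (P : X.Modules),
      IsWord Ls s P →
      Module.finrank k (Coh.HH X (CohB1.tensorMod
        (CohB1.tensorMod (unitMod X) (CohB1.tensorMod L B)) (CohB1.tensorMod T P)) i) ≤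
      Module.finrank k (Coh.HH X (CohB1.tensorMod (unitMod X) (CohB1.tensorMod T P)) i) +
        C * bnd e s) ?_ Ls ?_
    · intro L C C' hCC' h s P hP
      exact (h s P hP).trans (Nat.add_le_add_left (Nat.mul_le_mul_right _ hCC') _)
    · intro L hL
      obtain ⟨t, ht, htIH⟩ := hsL L hL
      obtain ⟨C, hC⟩ := section_step' k (bnd e) Ls hLs i _ T
        (isInvertible_tensorMod (hLs L hL) hBi) hTi t ht htIH
      exact ⟨C, fun s P hP => (hC s P hP).1⟩
  obtain ⟨g0, hg0⟩ : ∃ g0 : ℕ, g0 = Module.finrank k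
      (Coh.HH X (CohB1.tensorMod (unitMod X) (unitMod X)) i) := ⟨_, rfl⟩
  refine ⟨g0 + (CB + CL), ?_⟩
  intro s
  induction s with
  | zero =>
    intro P hP
    obtain ⟨eP⟩ := isWord_zero.mp hP
    rw [Groth.Agent.LD.FBC.finrank_HH_congr k (tensorIso' (Iso.refl (unitMod X)) eP) i, ← hg0,
      bnd_succ_zero, Nat.mul_one]
    exact Nat.le_add_right _ _
  | succ s ih =>
    intro P hP
    obtain ⟨L, hL, P', hP', ⟨eP⟩⟩ := isWord_succ.mp hP
    have hLi := hLs L hL
    have hP'i := IsWord.isInvertible hLs hP'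
    haveI := qc_of_isInvertible _ hLi
    haveI := qc_of_isInvertible _ hP'i
    haveI := qc_of_isInvertible _ (isInvertible_tensorMod hLi hBi)
    haveI := qc_of_isInvertible _ (isInvertible_tensorMod hTi hP'i)
    have e1 : CohB1.tensorMod (CohB1.tensorMod (unitMod X) (CohB1.tensorMod L B))
        (CohB1.tensorMod T P') ≅ CohB1.tensorMod (unitMod X) P :=
      tensorAssoc (unitMod X) (CohB1.tensorMod L B) (CohB1.tensorMod T P') ≪≫
        tensorIso' (Iso.refl (unitMod X))
          (tensorAssoc L B (CohB1.tensorMod T P') ≪≫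
            tensorIso' (Iso.refl L) ((tensorAssoc B T P').symm ≪≫
              tensorIso' ε (Iso.refl P') ≪≫ unitorL' P') ≪≫ eP.symm)
    have e2 : CohB1.tensorMod (CohB1.tensorMod (unitMod X) B) (CohB1.tensorMod T P') ≅
        CohB1.tensorMod (unitMod X) P' :=
      tensorIso' (unitorL' B) (Iso.refl _) ≪≫ (tensorAssoc B T P').symm ≪≫
        tensorIso' ε (Iso.refl P')
    have h1 := hCL L hL s P' hP'
    have h2 := (hCB s P' hP').2
    rw [Groth.Agent.LD.FBC.finrank_HH_congr k e1 i] at h1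
    rw [Groth.Agent.LD.FBC.finrank_HH_congr k e2 i] at h2
    have h3 := ih P' hP'
    have h4 := bnd_succ_add e s
    calc Module.finrank k (Coh.HH X (CohB1.tensorMod (unitMod X) P) i)
        ≤ Module.finrank k (Coh.HH X (CohB1.tensorMod (unitMod X) P') i) + CB * bnd e s +
          CL * bnd e s := by omega
      _ ≤ (g0 + (CB + CL)) * bnd (e + 1) s + (CB + CL) * bnd e s := by
          rw [Nat.add_mul CB CL]; omega
      _ ≤ (g0 + (CB + CL)) * bnd (e + 1) s + (g0 + (CB + CL)) * bnd e s :=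
          Nat.add_le_add_left (Nat.mul_le_mul_right _ (Nat.le_add_left _ _)) _
      _ = (g0 + (CB + CL)) * (bnd (e + 1) s + bnd e s) := (Nat.mul_add _ _ _).symm
      _ ≤ (g0 + (CB + CL)) * bnd (e + 1) (s + 1) := Nat.mul_le_mul_left _ h4

end Groth.Agent.H5.IntN
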