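import Mathlib
import Groth.Agent.Lib.Helper5.IntN.RelGro1

/-!
# Relative growth of cohomology, part 2 (helper5; S17624)

For a morphism `f : Y ⟶ X` from a proper `k`-scheme to a scheme carrying an ample module, a coherent
module `G` on `Y` whose support has image of dimension `< e`, and a list `Ls` of pullbacks of
invertible modules of `X`: `h^i(Y, G ⊗ P) ≤ C (1 + s)^{e-1}` for all words `P` of size `s` in `Ls`.
-/

set_option autoImplicit false
universe u
open CategoryTheory CategoryTheory.Limits AlgebraicGeometry TopologicalSpace Opposite Filter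

namespace Groth.Agent.H5.IntN

open Groth.Agent.LD Groth.Agent.LD.QC Groth.Agent.H5.Curve4 Groth.Agent.H5.DegC Groth.Agent.H5.Snap
open Groth.Agent.H5.Deg Groth.Agent.H5.HP

variable (k : Type u) [Field k] {X : Scheme.{u}} [QuasiSeparatedSpace X]

/-- the integral step of the relative growth theorem. -/
theorem rel_growth_integral (H : X.Modules) (hH : CohB1.IsAmple H)
    {C : Scheme.{u}} [C.Over (Spec (CommRingCat.of k))] [IsProper (C ↘ Spec (CommRingCat.of k))]
    [IsIntegral C] (g : C ⟶ X) (d e : ℕ)
    (hd : topologicalKrullDim C ≤ ((d : ℕ) : WithBot ℕ∞))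
    (he : topologicalKrullDim ↥(closure (Set.range g)) < ((e : ℕ) : WithBot ℕ∞))
    (Ls : List C.Modules)
    (hLs : ∀ L' ∈ Ls, ∃ L : X.Modules, PicF.IsInvertible L ∧
      Nonempty (L' ≅ (Scheme.Modules.pullback g).obj L)) (i : ℕ)
    (IH : ∀ F : C.Modules, Coh.IsCoh F →
      topologicalKrullDim (CohB1.support F) < ((d : ℕ) : WithBot ℕ∞) → ∀ e' : ℕ,
      topologicalKrullDim ↥(closure (g '' CohB1.support F)) < ((e' : ℕ) : WithBot ℕ∞) →
      ∀ j : ℕ, ∃ K : ℕ, ∀ (s : ℕ) (P : C.Modules), IsWord Ls s P →
        Module.finrank k (Coh.HH C (CohB1.tensorMod F P) j) ≤ K * bnd e' s) :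
    ∃ K : ℕ, ∀ (s : ℕ) (P : C.Modules), IsWord Ls s P →
      Module.finrank k (Coh.HH C (CohB1.tensorMod (unitMod C) P) i) ≤ K * bnd e s := by
  haveI : IsNoetherian C := Curve2.isNoetherian_of_proper k C
  have hLsi : ∀ L' ∈ Ls, PicF.IsInvertible L' := by
    intro L' hL'
    obtain ⟨L, hL, ⟨φ⟩⟩ := hLs L' hL'
    exact isInvertible_of_iso φ.symm (isInvertible_pullback g hL)
  -- the generic point of the image
  obtain ⟨w, hw⟩ : ∃ w : X, w = g (genericPoint C) := ⟨_, rfl⟩
  have hrange : Set.range g ⊆ closure {w} := by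
    rintro _ ⟨c, rfl⟩
    have hc : c ∈ closure ({genericPoint C} : Set C) := by
      rw [(genericPoint_spec C).def]; trivial
    have := image_closure_subset_closure_image g.continuous ⟨c, hc, rfl⟩
    rwa [Set.image_singleton, ← hw] at this
  have hwcl : closure ({w} : Set X) ⊆ closure (Set.range g) :=
    closure_mono (Set.singleton_subset_iff.mpr ⟨genericPoint C, hw.symm⟩)
  rcases e with _ | e'
  · exfalso
    have h1 := eq_empty_of_dim_lt_zero _ he
    have : w ∈ closure (Set.range g) := hwcl (subset_closure rfl)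
    rw [h1] at this
    exact this
  have hdimw : topologicalKrullDim ↥(closure ({w} : Set X)) ≤ ((e' : ℕ) : WithBot ℕ∞) :=
    (dim_mono hwcl).trans (le_of_lt_succ_coe he)
  -- sections
  obtain ⟨n₁, hn₁⟩ := exists_uniform_ge
    (fun (L' : C.Modules) (n : ℕ) => ∃ (t' : unitMod C ⟶ CohB1.tensorMod L'
          ((Scheme.Modules.pullback g).obj (CohB1.tensorPow H n))) (U : X.Opens),
        w ∈ U ∧ CohB1.genLocus _ t' = g ⁻¹ᵁ U) Ls
    (fun L' hL' => exists_pullback_section g H hH w L' (hLs L' hL'))
  obtain ⟨n₂, hn₂⟩ := exists_pullback_section_pow (C := C) g H hH w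
  obtain ⟨B, hBdef⟩ : ∃ B : C.Modules,
      B = (Scheme.Modules.pullback g).obj (CohB1.tensorPow H (max n₁ n₂)) := ⟨_, rfl⟩
  have hBi : PicF.IsInvertible B := by
    rw [hBdef]; exact isInvertible_pullback g (isInvertible_tensorPow hH.1 _)
  obtain ⟨T, hTi, ⟨ε⟩⟩ := Groth.Agent.H5.Glue.exists_inverse B hBi
  -- the key: data attached to a section
  have key : ∀ (N' : C.Modules), PicF.IsInvertible N' → ∀ (τ : unitMod C ⟶ N') (U : X.Opens),
      w ∈ U → CohB1.genLocus _ τ = g ⁻¹ᵁ U → τ ≠ 0 ∧
      ∀ j : ℕ, ∃ K : ℕ, ∀ (s : ℕ) (P : C.Modules), IsWord Ls s P →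
        Module.finrank k (Coh.HH C (CohB1.tensorMod
          (CohB1.tensorMod (cokernel (twistBy (unitMod C) τ)) T) P) j) ≤ K * bnd e' s := by
    intro N' hN' τ U hwU hgen
    have hη : genericPoint C ∈ CohB1.genLocus _ τ := by
      rw [hgen]
      show g (genericPoint C) ∈ U
      rw [← hw]; exact hwU
    have hτ : τ ≠ 0 := Curve2.ne_zero_of_mem_genLocus C τ _ hη
    refine ⟨hτ, ?_⟩
    obtain ⟨hmono, hQc, hQne⟩ := twistBy_data hN' τ hτ
    have hTc := isCoh_of_isInvertible hTi
    have hFc : Coh.IsCoh (CohB1.tensorMod (cokernel (twistBy (unitMod C) τ)) T) :=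
      isCoh_tensorMod' hQc hTc
    have hsub : CohB1.support (CohB1.tensorMod (cokernel (twistBy (unitMod C) τ)) T) ⊆
        CohB1.support (cokernel (twistBy (unitMod C) τ)) := support_tensorMod_subset _ hQc.2 hTi
    have hFd : topologicalKrullDim (CohB1.support
        (CohB1.tensorMod (cokernel (twistBy (unitMod C) τ)) T)) < ((d : ℕ) : WithBot ℕ∞) :=
      lt_of_le_of_lt (dim_mono hsub)
        (dim_lt_of_isClosed_ne_univ _ (isClosed_support_of_isCoh hQc) hQne d hd)
    have hOc : Coh.IsCoh (unitMod C) := isCoh_of_isInvertible (isInvertible_unit C)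
    have hsuppQ := support_cokernel_twistBy_subset (unitMod C) hOc.2 hN' τ
    have hFe : topologicalKrullDim ↥(closure (g '' CohB1.support
        (CohB1.tensorMod (cokernel (twistBy (unitMod C) τ)) T))) < ((e' : ℕ) : WithBot ℕ∞) := by
      apply dim_lt_of_subset_closure_singleton w _ ((U : Set X)ᶜ) U.2.isClosed_compl
        (fun h => h hwU) ?_ e' hdimw
      apply closure_minimal ?_ (isClosed_closure.inter U.2.isClosed_compl)
      rintro _ ⟨y, hy, rfl⟩
      refine ⟨hrange ⟨y, rfl⟩, fun hyU => ?_⟩
      have h1 := (hsuppQ (hsub hy)).2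
      apply h1
      rw [hgen]
      exact hyU
    intro j
    exact IH _ hFc hFd e' hFe j
  -- apply the abstract integral step
  subst hBdef
  refine word_growth_integral' k e' Ls hLsi i _ T hBi hTi ε ?_ ?_
  · obtain ⟨t', U, hwU, hgen⟩ := hn₂ (max n₁ n₂) (le_max_right _ _)
    obtain ⟨h1, h2⟩ := key _ hBi t' U hwU hgen
    exact ⟨t', h1, h2⟩
  · intro L hL
    obtain ⟨t', U, hwU, hgen⟩ := hn₁ (max n₁ n₂) (le_max_left _ _) L hL
    obtain ⟨h1, h2⟩ := key _ (isInvertible_tensorMod (hLsi L hL) hBi) t' U hwU hgen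
    exact ⟨t', h1, h2⟩

/-- **relative growth of cohomology**: for `f : Y ⟶ X` with `Y` proper over `k` and `X` carrying
an ample module, `G` coherent on `Y` with `dim closure (f (Supp G)) < e`, and a list `Ls` of
pullbacks of invertible modules of `X`, `h^i(Y, G ⊗ P) ≤ C (1 + s)^{e - 1}` for all words `P` of
size `s` in `Ls`. -/
theorem rel_growth (H : X.Modules) (hH : CohB1.IsAmple H) (d : ℕ) :
    ∀ (Y : Scheme.{u}) [Y.Over (Spec (CommRingCat.of k))]
    [IsProper (Y ↘ Spec (CommRingCat.of k))] (f : Y ⟶ X) (G : Y.Modules), Coh.IsCoh G →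
    topologicalKrullDim (CohB1.support G) < ((d : ℕ) : WithBot ℕ∞) → ∀ e : ℕ,
    topologicalKrullDim ↥(closure (f '' CohB1.support G)) < ((e : ℕ) : WithBot ℕ∞) →
    ∀ (Ls : List Y.Modules), (∀ L' ∈ Ls, ∃ L : X.Modules, PicF.IsInvertible L ∧
      Nonempty (L' ≅ (Scheme.Modules.pullback f).obj L)) → ∀ i : ℕ, ∃ C : ℕ,
      ∀ (s : ℕ) (P : Y.Modules), IsWord Ls s P →
        Module.finrank k (Coh.HH Y (CohB1.tensorMod G P) i) ≤ C * bnd e s := by
  induction d with
  | zero =>
    intro Y _ _ f G hG hsupp e he Ls hLs i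
    have hempty := eq_empty_of_dim_lt_zero _ hsupp
    have hz : IsZero G := isZero_of_support_eq_empty hempty
    refine ⟨0, fun s P hP => ?_⟩
    have hz' : IsZero (CohB1.tensorMod G P) := (DCoh.tensorRightMod P).map_isZero hz
    rw [finrank_HH_of_isZero k hz' i]
    exact Nat.zero_le _
  | succ d ih =>
    intro Y _ _ f G hG hsupp e he Ls hLs i
    rcases isEmpty_or_nonempty Y with hem | hne
    · refine ⟨0, fun s P hP => ?_⟩
      have hz : IsZero G := isZero_of_support_eq_empty (Set.eq_empty_of_isEmpty _)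
      have hz' : IsZero (CohB1.tensorMod G P) := (DCoh.tensorRightMod P).map_isZero hz
      rw [finrank_HH_of_isZero k hz' i]
      exact Nat.zero_le _
    haveI : IsNoetherian Y := Curve2.isNoetherian_of_proper k Y
    have hLsi : ∀ L' ∈ Ls, PicF.IsInvertible L' := by
      intro L' hL'
      obtain ⟨L, hL, ⟨φ⟩⟩ := hLs L' hL'
      exact isInvertible_of_iso φ.symm (isInvertible_pullback f hL)
    refine devissage_ideal Y (fun G => topologicalKrullDim (CohB1.support G) <
        ((d + 1 : ℕ) : WithBot ℕ∞) →
        topologicalKrullDim ↥(closure (f '' CohB1.support G)) < ((e : ℕ) : WithBot ℕ∞) →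
        ∃ C : ℕ, ∀ (s : ℕ) (P : Y.Modules), IsWord Ls s P →
        Module.finrank k (Coh.HH Y (CohB1.tensorMod G P) i) ≤ C * bnd e s)
      ?_ ?_ ?_ G hG hsupp he
    · rintro M N ⟨ι⟩ h hs he'
      rw [← support_eq_of_iso ι] at hs he'
      obtain ⟨C, hC⟩ := h hs he'
      refine ⟨C, fun s P hP => ?_⟩
      rw [← Groth.Agent.LD.FBC.finrank_HH_congr k (tensorIso' ι (Iso.refl P)) i]
      exact hC s P hP
    · intro S hS h1 h2 h3 p1 p3 hs he'
      have hsupp2 := support_of_shortExact hS
      have hsub1 : CohB1.support S.X₁ ⊆ CohB1.support S.X₂ := by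
        rw [hsupp2]; exact Set.subset_union_left
      have hsub3 : CohB1.support S.X₃ ⊆ CohB1.support S.X₂ := by
        rw [hsupp2]; exact Set.subset_union_right
      obtain ⟨C₁, hC₁⟩ := p1 (lt_of_le_of_lt (dim_mono hsub1) hs)
        (lt_of_le_of_lt (dim_mono (closure_mono (Set.image_mono hsub1))) he')
      obtain ⟨C₃, hC₃⟩ := p3 (lt_of_le_of_lt (dim_mono hsub3) hs)
        (lt_of_le_of_lt (dim_mono (closure_mono (Set.image_mono hsub3))) he')
      refine ⟨C₁ + C₃, fun s P hP => ?_⟩
      have hPi := IsWord.isInvertible hLsi hP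
      have h := tensor_mid_le k (f := S.f) (g := S.g) (w := S.zero) hS h1 h2 h3 P hPi i
      calc Module.finrank k (Coh.HH Y (CohB1.tensorMod S.X₂ P) i) ≤ _ := h
        _ ≤ C₁ * bnd e s + C₃ * bnd e s := Nat.add_le_add (hC₁ s P hP) (hC₃ s P hP)
        _ = (C₁ + C₃) * bnd e s := (Nat.add_mul _ _ _).symm
    · intro C hC I ι hι hI hs he'
      haveI := hC
      haveI := hι
      haveI : I.IsQuasicoherent := hI
      letI : C.subscheme.Over (Spec (CommRingCat.of k)) := overOf k C.subschemeι
      haveI : IsProper (C.subscheme ↘ Spec (CommRingCat.of k)) :=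
        inferInstanceAs (IsProper (C.subschemeι ≫ (Y ↘ Spec (CommRingCat.of k))))
      haveI : C.subschemeι.IsOver (Spec (CommRingCat.of k)) := ⟨rfl⟩
      haveI : IsNoetherian C.subscheme := Curve2.isNoetherian_of_proper k C.subscheme
      have hOCc : Coh.IsCoh (unitMod C.subscheme) :=
        Groth.Agent.LD.PF.isCoh_unitMod C.subscheme
      have hIc : Coh.IsCoh I := isCoh_of_mono ι hI hOCc
      have hLs'i : ∀ L ∈ Ls.map (Scheme.Modules.pullback C.subschemeι).obj,
          PicF.IsInvertible L := by
        intro L hL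
        obtain ⟨L₀, hL₀, rfl⟩ := List.mem_map.mp hL
        exact isInvertible_pullback C.subschemeι (hLsi L₀ hL₀)
      have hLs' : ∀ L'' ∈ Ls.map (Scheme.Modules.pullback C.subschemeι).obj,
          ∃ L : X.Modules, PicF.IsInvertible L ∧
            Nonempty (L'' ≅ (Scheme.Modules.pullback (C.subschemeι ≫ f)).obj L) := by
        intro L'' hL''
        obtain ⟨L', hL', rfl⟩ := List.mem_map.mp hL''
        obtain ⟨L, hL, ⟨φ⟩⟩ := hLs L' hL'
        exact ⟨L, hL, ⟨(Scheme.Modules.pullback C.subschemeι).mapIso φ ≪≫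
          (Scheme.Modules.pullbackComp C.subschemeι f).app L⟩⟩
      change ∃ C₀ : ℕ, ∀ (s : ℕ) (P : Y.Modules), IsWord Ls s P →
        Module.finrank k (Coh.HH Y (CohB1.tensorMod
          ((Scheme.Modules.pushforward C.subschemeι).obj I) P) i) ≤ C₀ * bnd e s
      have hkey : ∀ (P : Y.Modules), PicF.IsInvertible P → ∀ j : ℕ,
          Module.finrank k (Coh.HH Y (CohB1.tensorMod
            ((Scheme.Modules.pushforward C.subschemeι).obj I) P) j) =
          Module.finrank k (Coh.HH C.subscheme
            (CohB1.tensorMod I ((Scheme.Modules.pullback C.subschemeι).obj P)) j) := by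
        intro P hPi j
        have hP' : FlatMod.IsFinLocFree P :=
          Curve.isFinLocFree_of_rank ((isInvertible_iff _).mp hPi)
        have e1 : CohB1.tensorMod ((Scheme.Modules.pushforward C.subschemeι).obj I) P ≅
            (Scheme.Modules.pushforward C.subschemeι).obj
              (CohB1.tensorMod I ((Scheme.Modules.pullback C.subschemeι).obj P)) :=
          tensorCommAll _ _ ≪≫
            @asIso _ _ _ _ (projHomL C.subschemeι I P) (isIso_projHomL C.subschemeι I P hP') ≪≫
            (Scheme.Modules.pushforward C.subschemeι).mapIso (tensorCommAll _ _)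
        exact (Groth.Agent.LD.FBC.finrank_HH_congr k e1 j).trans
          (CL.HHpushEquiv C.subschemeι k _ j).finrank_eq.symm
      by_cases ht : IsTors I
      · refine ⟨0, fun s P hP => ?_⟩
        have hz' : IsZero (CohB1.tensorMod I ((Scheme.Modules.pullback C.subschemeι).obj P)) :=
          (DCoh.tensorRightMod _).map_isZero (isZero_of_mono_unit_of_isTors I ι ht)
        rw [hkey P (IsWord.isInvertible hLsi hP) i, finrank_HH_of_isZero k hz' i]
        exact Nat.zero_le _
      · have hcl : IsClosed (CohB1.support I) := QC.isClosed_support_of_isFiniteType I hIc.2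
        have huniv : CohB1.support I = Set.univ := by
          have hη : genericPoint C.subscheme ∈ CohB1.support I := ht
          have h1 : closure {genericPoint C.subscheme} ⊆ CohB1.support I :=
            hcl.closure_subset_iff.mpr (Set.singleton_subset_iff.mpr hη)
          rw [(genericPoint_spec C.subscheme).def] at h1
          exact Set.univ_subset_iff.mp h1
        have hmem : ∀ z : C.subscheme,
            C.subschemeι z ∈ CohB1.support ((Coh.push C.subschemeι).obj I) :=
          fun z => mem_support_pushforward C.subschemeι I z (by rw [huniv]; trivial)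
        have hdimC : topologicalKrullDim C.subscheme ≤ ((d : ℕ) : WithBot ℕ∞) := by
          apply le_of_lt_succ_coe
          refine lt_of_le_of_lt ?_ hs
          let g : C.subscheme → CohB1.support ((Coh.push C.subschemeι).obj I) := fun z =>
            ⟨C.subschemeι z, hmem z⟩
          have hg : Topology.IsInducing g := by
            apply Topology.IsInducing.of_comp
              (Continuous.subtype_mk C.subschemeι.continuous _) continuous_subtype_val
            exact C.subschemeι.isClosedEmbedding.isInducing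
          exact hg.topologicalKrullDim_le
        have hrg : closure (Set.range (C.subschemeι ≫ f)) ⊆
            closure (f '' CohB1.support ((Coh.push C.subschemeι).obj I)) := by
          apply closure_mono
          rintro _ ⟨z, rfl⟩
          exact ⟨C.subschemeι z, hmem z, rfl⟩
        have heC : topologicalKrullDim ↥(closure (Set.range (C.subschemeι ≫ f))) <
            ((e : ℕ) : WithBot ℕ∞) := lt_of_le_of_lt (dim_mono hrg) he'
        have IHC : ∀ F : C.subscheme.Modules, Coh.IsCoh F →
            topologicalKrullDim (CohB1.support F) < ((d : ℕ) : WithBot ℕ∞) → ∀ e' : ℕ,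
            topologicalKrullDim ↥(closure ((C.subschemeι ≫ f) '' CohB1.support F)) <
              ((e' : ℕ) : WithBot ℕ∞) →
            ∀ j : ℕ, ∃ K : ℕ, ∀ (s : ℕ) (P : C.subscheme.Modules),
            IsWord (Ls.map (Scheme.Modules.pullback C.subschemeι).obj) s P →
            Module.finrank k (Coh.HH C.subscheme (CohB1.tensorMod F P) j) ≤ K * bnd e' s :=
          fun F hF hFd e' hFe j => ih C.subscheme (C.subschemeι ≫ f) F hF hFd e' hFe _ hLs' j
        obtain ⟨C₁, hC₁⟩ := rel_growth_integral k H hH (C.subschemeι ≫ f) d e hdimC heC _ hLs' i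
          IHC
        have hSι := Groth.Agent.H5.HP.shortExact_coker ι
        have hQc : Coh.IsCoh (cokernel ι) := isCoh_cokernel ι hIc hOCc
        have hQt : IsTors (cokernel ι) := isTors_cokernel_of_not_isTors I ι hIc ht
        have hQdim : topologicalKrullDim (CohB1.support (cokernel ι)) <
            ((d : ℕ) : WithBot ℕ∞) := by
          apply dim_lt_of_isClosed_ne_univ _ (isClosed_support_of_isCoh hQc) ?_ d hdimC
          intro hu
          have : genericPoint C.subscheme ∈ CohB1.support (cokernel ι) := by rw [hu]; trivial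
          exact this hQt
        have hQe : topologicalKrullDim ↥(closure ((C.subschemeι ≫ f) ''
            CohB1.support (cokernel ι))) < ((e : ℕ) : WithBot ℕ∞) :=
          lt_of_le_of_lt (dim_mono (closure_mono (Set.image_subset_range _ _))) heC
        obtain ⟨C₂, hC₂⟩ : ∃ C₂ : ℕ, ∀ (s : ℕ) (P : C.subscheme.Modules),
            IsWord (Ls.map (Scheme.Modules.pullback C.subschemeι).obj) s P →
            Module.finrank k (Coh.HH C.subscheme (CohB1.tensorMod I P) i) ≤
              Module.finrank k (Coh.HH C.subscheme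
                (CohB1.tensorMod (unitMod C.subscheme) P) i) + C₂ * bnd e s := by
          rcases i with _ | i
          · refine ⟨0, fun s P hP => ?_⟩
            have hPi := IsWord.isInvertible hLs'i hP
            have h := tensor_left_zero_le k hSι hOCc P hPi
            exact h.trans (Nat.le_add_right _ _)
          · obtain ⟨C₂, hC₂⟩ := IHC _ hQc hQdim e hQe i
            refine ⟨C₂, fun s P hP => ?_⟩
            have hPi := IsWord.isInvertible hLs'i hP
            have h := tensor_left_succ_le k hSι hIc hOCc hQc P hPi i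
            have h' := hC₂ s P hP
            calc Module.finrank k (Coh.HH C.subscheme (CohB1.tensorMod I P) (i + 1)) ≤ _ := h
              _ ≤ C₂ * bnd e s + Module.finrank k (Coh.HH C.subscheme
                  (CohB1.tensorMod (unitMod C.subscheme) P) (i + 1)) :=
                  Nat.add_le_add_right h' _
              _ = _ := Nat.add_comm _ _
        refine ⟨C₁ + C₂, fun s P hP => ?_⟩
        have hPi := IsWord.isInvertible hLsi hP
        have hPZ := IsWord.pullback C.subschemeι hLsi hP
        rw [hkey P hPi i]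
        have h1 := hC₂ s _ hPZ
        have h2 := hC₁ s _ hPZ
        calc Module.finrank k (Coh.HH C.subscheme
              (CohB1.tensorMod I ((Scheme.Modules.pullback C.subschemeι).obj P)) i) ≤ _ := h1
          _ ≤ C₁ * bnd e s + C₂ * bnd e s := Nat.add_le_add_right h2 _
          _ = (C₁ + C₂) * bnd e s := (Nat.add_mul _ _ _).symm

/-- **S17624**: the asymptotic cohomological functions of a pullback from a scheme of smaller
dimension vanish. -/
theorem hhat_pullback_eq_zero (X Y : Scheme.{u}) [X.Over (Spec (CommRingCat.of k))]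
    [Y.Over (Spec (CommRingCat.of k))] [IsProper (X ↘ Spec (CommRingCat.of k))]
    [IsProper (Y ↘ Spec (CommRingCat.of k))] (hXproj : ∃ A : X.Modules, CohB1.IsAmple A)
    (n e : ℕ) (hn : topologicalKrullDim X = n) (he : topologicalKrullDim Y = e) (hne : n < e)
    (f : Y ⟶ X) (L : X.Modules) (hL : PicF.IsInvertible L) (i : ℕ) :
    W4c5asymptcohfn.hhat k Y e i ((Scheme.Modules.pullback f).obj L) = 0 := by
  obtain ⟨A, hA⟩ := hXproj
  haveI : IsNoetherian X := Curve2.isNoetherian_of_proper k X
  haveI : IsNoetherian Y := Curve2.isNoetherian_of_proper k Y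
  have hLY := isInvertible_pullback f hL
  have hOc : Coh.IsCoh (unitMod Y) := Groth.Agent.LD.PF.isCoh_unitMod Y
  have hd : topologicalKrullDim (CohB1.support (unitMod Y)) < ((e + 1 : ℕ) : WithBot ℕ∞) := by
    refine lt_of_le_of_lt (Topology.IsInducing.subtypeVal.topologicalKrullDim_le) ?_
    rw [he]; exact_mod_cast Nat.lt_succ_self e
  have he' : topologicalKrullDim ↥(closure (f '' CohB1.support (unitMod Y))) <
      ((e : ℕ) : WithBot ℕ∞) := by
    refine lt_of_le_of_lt (Topology.IsInducing.subtypeVal.topologicalKrullDim_le) ?_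
    rw [hn]; exact_mod_cast hne
  have hLs : ∀ L' ∈ [(Scheme.Modules.pullback f).obj L], ∃ L₀ : X.Modules,
      PicF.IsInvertible L₀ ∧ Nonempty (L' ≅ (Scheme.Modules.pullback f).obj L₀) := by
    intro L' hL'
    rw [List.mem_singleton] at hL'
    exact ⟨L, hL, ⟨eqToIso hL'⟩⟩
  obtain ⟨C, hC⟩ := rel_growth k A hA (e + 1) Y f (unitMod Y) hOc hd e he' _ hLs i
  unfold W4c5asymptcohfn.hhat
  have hb : ∀ m : ℕ, Module.finrank k
      (Coh.HH Y (CohB1.tensorPow ((Scheme.Modules.pullback f).obj L) m) i) ≤ C * bnd e m := by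
    intro m
    have hPi := isInvertible_tensorPow hLY m
    haveI := qc_of_isInvertible _ hPi
    have h := hC m _ (isWord_tensorPow_singleton hLY m)
    rwa [Groth.Agent.LD.FBC.finrank_HH_congr k (unitorL' _) i] at h
  have h0 : limsup (fun _ : ℕ => (0 : ℝ)) atTop = 0 := Filter.limsup_const 0
  rw [← h0]
  apply limsup_eq_of_le_add
    (w := fun m : ℕ => (((C * bnd e m : ℕ) : ℝ)) * (e.factorial : ℝ) / (m : ℝ) ^ e)
  · intro m; positivity
  · intro m; exact le_rfl
  · intro m
    rw [zero_add]
    apply div_le_div_of_nonneg_right _ (by positivity)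
    apply mul_le_mul_of_nonneg_right _ (by positivity)
    exact_mod_cast hb m
  · intro m
    positivity
  · exact tendsto_bnd_div C e

end Groth.Agent.H5.IntN
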