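import Mathlib
import Groth.Agent.Lib.Helper5.IntN.Surf1
import Groth.Agent.Lib.Helper5.IntN.Klei6
import Groth.Agent.Lib.Helper5.IntN.InvAll
import Groth.Agent.Lib.Helper5.IntN.BC4
import Groth.Agent.Lib.Helper5.AG.ProjProper
import Groth.Agent.Lib.Lead.Misc3.AmpleTw

/-!
# Effective against nef on a surface (helper5; S16558)

* `intNum_nonneg_of_section_of_nef`: on an integral proper surface, `(L · H) ≥ 0` when `L` has a
  nonzero section and `H` is nef;
* `nefMod_pullback_twist`: the pullback of `O(1)` along a morphism to projective space is nef.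
-/

set_option autoImplicit false
universe u
open CategoryTheory CategoryTheory.Limits AlgebraicGeometry TopologicalSpace Opposite

namespace Groth.Agent.H5.IntN

open Groth.Agent.LD Groth.Agent.LD.QC Groth.Agent.H5.Curve4 Groth.Agent.H5.DegC Groth.Agent.H5.Snap
open Groth.Agent.H5.Deg Groth.Agent.H5.HP

variable (k : Type u) [Field k] {X : Scheme.{u}} [X.Over (Spec (CommRingCat.of k))]
  [IsProper (X ↘ Spec (CommRingCat.of k))]

/-- on an integral proper surface, `(L · H) ≥ 0` if `L` has a nonzero section and `H` is nef. -/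
theorem intNum_nonneg_of_section_of_nef [IsIntegral X] (hdim : topologicalKrullDim X = 2)
    (L H : X.Modules) (hL : PicF.IsInvertible L) (hH : PicF.IsInvertible H)
    (hnef : NefMod k X H) (hsec : Nontrivial (Coh.HH X L 0)) :
    0 ≤ FGA.intNum k X 2 ![L, H] (Coh.structureModule X) := by
  haveI : IsNoetherian X := Curve2.isNoetherian_of_proper k X
  obtain ⟨L', hL', eL⟩ := Groth.Agent.H5.Glue.exists_inverse L hL
  obtain ⟨H', hH', eH⟩ := Groth.Agent.H5.Glue.exists_inverse H hH
  obtain ⟨σ, hσ⟩ := exists_ne_zero_of_nontrivial_HH L hsec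
  have hd : topologicalKrullDim X ≤ ((2 : ℕ) : WithBot ℕ∞) := le_of_eq hdim
  have hdimr : topologicalKrullDim X ≤ ((1 + 1 : ℕ) : WithBot ℕ∞) := le_of_eq hdim
  have hOc : Coh.IsCoh (unitMod X) := isCoh_of_isInvertible (isInvertible_unit X)
  have hdimO : topologicalKrullDim (CohB1.support (unitMod X)) ≤ ((1 + 1 : ℕ) : WithBot ℕ∞) :=
    (Topology.IsEmbedding.subtypeVal.isInducing.topologicalKrullDim_le).trans hdimr
  -- the section of `L^1`
  obtain ⟨e₁⟩ : Nonempty (CohB1.tensorPow L 1 ≅ L) := ⟨unitorL' L⟩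
  obtain ⟨σ₁, hσ₁def⟩ : ∃ σ₁ : unitMod X ⟶ CohB1.tensorPow L 1, σ₁ = σ ≫ e₁.inv :=
    ⟨_, rfl⟩
  have hσ₁ : σ₁ ≠ 0 := by
    intro h0
    apply hσ
    have : σ = σ₁ ≫ e₁.hom := by
      rw [hσ₁def, Category.assoc, Iso.inv_hom_id, Category.comp_id]
    rw [this, h0, zero_comp]
  obtain ⟨hQc, hsupp, h1⟩ := intNum_cons_eq_cokernel k 2 hd hdimr ![H']
    (fun i => by rw [Subsingleton.elim i 0]; exact hH') L L' hL eL 1 σ₁ hσ₁
  have hησ : genericPoint X ∈ CohB1.genLocus _ σ₁ :=
    Curve2.genericPoint_mem_genLocus (isInvertible_tensorPow hL 1) σ₁ hσ₁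
  have hle : topologicalKrullDim (CohB1.support (cokernel (twistBy (unitMod X) σ₁))) ≤
      ((1 : ℕ) : WithBot ℕ∞) := by
    apply dim_le_of_ne_univ (r := 1) hdim _ (isClosed_support_of_isCoh hQc)
    intro heq
    have : genericPoint X ∈ CohB1.support (cokernel (twistBy (unitMod X) σ₁)) := by
      rw [heq]; trivial
    rw [hsupp] at this
    exact this hησ
  have hnn := NefMod.intNum_nonneg k hH hnef eH.some 2 hd _ hQc (by exact_mod_cast hle)
  have hfun : (fun _ : Fin 1 => H') = ![H'] := by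
    funext i
    rw [Subsingleton.elim i 0]
    rfl
  rw [hfun, ← h1, Nat.cast_one, one_mul] at hnn
  -- invert both slots
  have hM : ∀ i, PicF.IsInvertible ((![L, H] : Fin (1 + 1) → X.Modules) i) := by
    intro i
    fin_cases i
    · exact hL
    · exact hH
  have hM2 : ∀ i, PicF.IsInvertible ((![L', H] : Fin (1 + 1) → X.Modules) i) := by
    intro i
    fin_cases i
    · exact hL'
    · exact hH
  have e1 := intNum_update_inv k 2 hd (![L, H] : Fin (1 + 1) → X.Modules) hM 0 L' eL
    (unitMod X) hOc hdimO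
  have hu1 : Function.update (![L, H] : Fin (1 + 1) → X.Modules) 0 L' = ![L', H] := by
    funext i
    fin_cases i <;> simp
  rw [hu1] at e1
  have e2 := intNum_update_inv k 2 hd (![L', H] : Fin (1 + 1) → X.Modules) hM2 1 H' eH
    (unitMod X) hOc hdimO
  have hu2 : Function.update (![L', H] : Fin (1 + 1) → X.Modules) 1 H' = ![L', H'] := by
    funext i
    fin_cases i <;> simp
  rw [hu2, e1, neg_neg] at e2
  have hcons : (Fin.cons L' ![H'] : Fin (1 + 1) → X.Modules) = ![L', H'] := rfl
  rw [hcons, e2] at hnn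
  exact hnn

/-- the pullback of `O(1)` along a morphism from a proper scheme to projective space is nef. -/
theorem nefMod_pullback_twist (n : ℕ) (σ : X ⟶ CohB1.ProjSpace n k)
    (hσ : σ ≫ CohB1.ProjSpace.toSpec n k = X ↘ Spec (CommRingCat.of k)) :
    NefMod k X ((Scheme.Modules.pullback σ).obj (Twist.twistProjSpace n k 1)) := by
  haveI : IsProper (CohB1.ProjSpace.toSpec n k) := Groth.Agent.H5.AG.isProper_toSpec n k
  letI : (CohB1.ProjSpace n k).Over (Spec (CommRingCat.of k)) := ⟨CohB1.ProjSpace.toSpec n k⟩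
  haveI : IsProper ((CohB1.ProjSpace n k) ↘ Spec (CommRingCat.of k)) :=
    ‹IsProper (CohB1.ProjSpace.toSpec n k)›
  have hA : CohB1.IsAmple (Twist.twistProjSpace n k 1) :=
    Groth.Agent.LD.AmpleTw.isAmple_twist_of_pos (n := n) (R := k) 1 one_pos
  have hnefP : NefP k (CohB1.ProjSpace.toSpec n k) (Twist.twistProjSpace n k 1) := by
    change NefP k ((CohB1.ProjSpace n k) ↘ Spec (CommRingCat.of k)) _
    rw [nefP_iff_forall_ideal k _ hA.1]
    intro C hCint hCdim
    exact (euler_tensor_sub_pos_of_isAmple k _ hA _ (isCoh_quotMod C)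
      (by rw [support_quotMod, hCdim])).le
  have h2 := NefP.pullback k (CohB1.ProjSpace.toSpec n k) (X ↘ Spec (CommRingCat.of k)) σ hσ
    _ hA.1 hnefP
  exact nefMod_of_curveDeg k _ (isInvertible_pullback σ hA.1) h2

end Groth.Agent.H5.IntN
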